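import Mathlib
import Cfsg.Prelude.Def_Classical
import Cfsg.Agent.S0243
import Cfsg.Agent.S0280
import Cfsg.Agent.LieClassical.FieldTransfer
import Cfsg.Agent.LieClassical.SympCount
import Cfsg.Agent.LieClassical.SympCenter
import Cfsg.Agent.ClassicalGeometry.SLTwoFour

/-!
# Explicit facts about the simple groups with three prime divisors
-/

set_option autoImplicit false

namespace Cfsg.Agent.SmallSimple.PSLFacts

open Cfsg Subgroup Matrix

/-! ### Orders -/

theorem card_alt_five : Nat.card (alternatingGroup (Fin 5)) = 60 := by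
  have h := nat_card_alternatingGroup (α := Fin 5)
  rw [h, Nat.card_eq_fintype_card, Fintype.card_fin]
  rfl

theorem card_alt_six : Nat.card (alternatingGroup (Fin 6)) = 360 := by
  have h := nat_card_alternatingGroup (α := Fin 6)
  rw [h, Nat.card_eq_fintype_card, Fintype.card_fin]
  rfl

section card

variable {F : Type*} [Field F] [Fintype F]

theorem card_psl_two_seven (hF : Fintype.card F = 7) :
    Nat.card (Matrix.ProjectiveSpecialLinearGroup (Fin 2) F) = 168 := by
  have h1 := Cfsg.Agent.S0243.result hF 2 le_rfl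
  rw [Fin.prod_univ_two] at h1
  norm_num at h1
  omega

theorem card_psl_two_eight (hF : Fintype.card F = 8) :
    Nat.card (Matrix.ProjectiveSpecialLinearGroup (Fin 2) F) = 504 := by
  have h1 := Cfsg.Agent.S0243.result hF 2 le_rfl
  rw [Fin.prod_univ_two] at h1
  norm_num at h1
  omega

theorem card_psl_two_seventeen (hF : Fintype.card F = 17) :
    Nat.card (Matrix.ProjectiveSpecialLinearGroup (Fin 2) F) = 2448 := by
  have h1 := Cfsg.Agent.S0243.result hF 2 le_rfl
  rw [Fin.prod_univ_two] at h1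
  norm_num at h1
  omega

theorem card_psl_three_three (hF : Fintype.card F = 3) :
    Nat.card (Matrix.ProjectiveSpecialLinearGroup (Fin 3) F) = 5616 := by
  have h1 := Cfsg.Agent.S0243.result hF 3 (by norm_num)
  rw [Fin.prod_univ_three] at h1
  norm_num at h1
  omega

theorem card_psu_three_three (hF : Fintype.card F = 9) : Nat.card (Cfsg.PSU 3 F 3) = 6048 := by
  have h := Cfsg.Agent.S0280.result (F := F) (q := 3) hF 3 (by norm_num)
  norm_num [Finset.prod_range_succ, Nat.even_iff] at h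
  omega

theorem card_psp_two_three (hF : Fintype.card F = 3) : Nat.card (Cfsg.PSp 2 F) = 25920 := by
  have h1 := Cfsg.Agent.LieClassical.SympCount.card_symplecticGroup (F := F) 2
  have h2 := Cfsg.Agent.LieClassical.SympCenter.card_center (F := F) (m := 2) (by norm_num)
  have h3 := Subgroup.card_eq_card_quotient_mul_card_subgroup
    (Subgroup.center (Matrix.symplecticGroup (Fin 2) F))
  change _ = Nat.card (Cfsg.PSp 2 F) * _ at h3
  rw [h1, h2, hF] at h3
  norm_num [Finset.prod_range_succ] at h3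
  omega

end card

/-! ### `PSL₂(17)` -/

/-- The elements of `SL₂(17)`. -/
def X : SpecialLinearGroup (Fin 2) (ZMod 17) := ⟨!![1, 1; 0, 1], by decide⟩
def W : SpecialLinearGroup (Fin 2) (ZMod 17) := ⟨!![3, 0; 0, 6], by decide⟩
def J : SpecialLinearGroup (Fin 2) (ZMod 17) := ⟨!![0, 1; 16, 0], by decide⟩
def Y : SpecialLinearGroup (Fin 2) (ZMod 17) := ⟨!![6, 11; 10, 10], by decide⟩
def R : SpecialLinearGroup (Fin 2) (ZMod 17) := ⟨!![0, 1; 16, 3], by decide⟩

theorem W_X : W * X = X ^ 9 * W := by decide +kernel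
theorem J_W : J * W = W⁻¹ * J := by decide +kernel
theorem Y_W : Y * W ^ 4 = J * Y := by decide +kernel
theorem Y_J : Y * J = (J * W ^ 4) * Y := by decide +kernel
theorem W_eight : W ^ 8 = -1 := by decide +kernel
theorem R_nine : R ^ 9 = -1 := by decide +kernel
theorem X_pow : X ^ 17 = 1 := by decide +kernel
theorem Y_pow : Y ^ 3 = 1 := by decide +kernel
theorem J_sq : J ^ 2 = -1 := by decide +kernel


theorem mk_neg_one : (QuotientGroup.mk (-1 : SpecialLinearGroup (Fin 2) (ZMod 17)) :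
    ProjectiveSpecialLinearGroup (Fin 2) (ZMod 17)) = 1 := by
  rw [QuotientGroup.eq_one_iff, Subgroup.mem_center_iff]
  intro g
  rw [mul_neg, neg_mul, one_mul, mul_one]

theorem mk_ne_one {A B : SpecialLinearGroup (Fin 2) (ZMod 17)} (h : B * A ≠ A * B) :
    (QuotientGroup.mk A : ProjectiveSpecialLinearGroup (Fin 2) (ZMod 17)) ≠ 1 := by
  rw [Ne, QuotientGroup.eq_one_iff, Subgroup.mem_center_iff]
  exact fun h' => h (h' B)

theorem exists_seventeen : ∃ x w r y j : ProjectiveSpecialLinearGroup (Fin 2) (ZMod 17),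
    orderOf x = 17 ∧ orderOf w = 8 ∧ w * x * w⁻¹ = x ^ 9 ∧ orderOf r = 9 ∧ orderOf y = 3 ∧
      orderOf j = 2 ∧ j * w ^ 4 = w ^ 4 * j ∧ y * w ^ 4 * y⁻¹ = j ∧ y * j * y⁻¹ = j * w ^ 4 ∧
      j * w * j⁻¹ = w⁻¹ := by
  have hfact : Fact (Nat.Prime 17) := ⟨by norm_num⟩
  have hfact2 : Fact (Nat.Prime 2) := ⟨by norm_num⟩
  have hfact3 : Fact (Nat.Prime 3) := ⟨by norm_num⟩
  let π : SpecialLinearGroup (Fin 2) (ZMod 17) →* ProjectiveSpecialLinearGroup (Fin 2) (ZMod 17) :=
    QuotientGroup.mk' _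
  have hπ : π (-1) = 1 := mk_neg_one
  have hne : ∀ A B : SpecialLinearGroup (Fin 2) (ZMod 17), B * A ≠ A * B → π A ≠ 1 :=
    fun A B h => mk_ne_one h
  have hx : orderOf (π X) = 17 := orderOf_eq_prime (by rw [← map_pow, X_pow, map_one])
    (hne X J (by decide +kernel))
  have hw : orderOf (π W) = 8 := by
    have h := orderOf_eq_prime_pow (x := π W) (p := 2) (n := 2)
      (by rw [← map_pow]; exact hne _ J (by decide +kernel))
      (by rw [← map_pow]; rw [show 2 ^ (2 + 1) = 8 by norm_num, W_eight, hπ])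
    rw [h]; norm_num
  have hr : orderOf (π R) = 9 := by
    have h := orderOf_eq_prime_pow (x := π R) (p := 3) (n := 1)
      (by rw [← map_pow]; exact hne _ J (by decide +kernel))
      (by rw [← map_pow]; rw [show 3 ^ (1 + 1) = 9 by norm_num, R_nine, hπ])
    rw [h]; norm_num
  have hy : orderOf (π Y) = 3 := orderOf_eq_prime (by rw [← map_pow, Y_pow, map_one])
    (hne Y J (by decide +kernel))
  have hj : orderOf (π J) = 2 := orderOf_eq_prime (by rw [← map_pow, J_sq, hπ])
    (hne J W (by decide +kernel))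
  have h1 : π W * π X = π X ^ 9 * π W := by rw [← map_pow, ← map_mul, ← map_mul, W_X]
  have h2 : π J * π W = (π W)⁻¹ * π J := by rw [← map_inv, ← map_mul, ← map_mul, J_W]
  have h3 : π Y * π W ^ 4 = π J * π Y := by rw [← map_pow, ← map_mul, ← map_mul, Y_W]
  have h4 : π Y * π J = (π J * π W ^ 4) * π Y := by
    rw [← map_pow, ← map_mul, ← map_mul, ← map_mul, Y_J]
  have h5 : π J * π W ^ 4 = π W ^ 4 * π J := by
    rw [← map_pow, ← map_mul, ← map_mul]
    have : J * W ^ 4 = -1 * (W ^ 4 * J) := by decide +kernel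
    rw [this, map_mul, hπ, one_mul]
  refine ⟨π X, π W, π R, π Y, π J, hx, hw, ?_, hr, hy, hj, h5, ?_, ?_, ?_⟩
  · rw [h1, mul_inv_cancel_right]
  · rw [h3, mul_inv_cancel_right]
  · rw [h4, mul_inv_cancel_right]
  · rw [h2, mul_inv_cancel_right]

section transfer

variable {F : Type*} [Field F] [Fintype F]

/-- `PSL₂(17)`: the order and a Borel subgroup, an element of order 9, a dihedral Sylow
2-subgroup and an `A₄`. -/
theorem psl_two_seventeen (hF : Fintype.card F = 17) :
    Nat.card (ProjectiveSpecialLinearGroup (Fin 2) F) = 2448 ∧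
    ∃ x w r y j : ProjectiveSpecialLinearGroup (Fin 2) F,
      orderOf x = 17 ∧ orderOf w = 8 ∧ w * x * w⁻¹ = x ^ 9 ∧ orderOf r = 9 ∧ orderOf y = 3 ∧
      orderOf j = 2 ∧ j * w ^ 4 = w ^ 4 * j ∧ y * w ^ 4 * y⁻¹ = j ∧ y * j * y⁻¹ = j * w ^ 4 ∧
      j * w * j⁻¹ = w⁻¹ := by
  refine ⟨card_psl_two_seventeen hF, ?_⟩
  have hfact : Fact (Nat.Prime 17) := ⟨by norm_num⟩
  obtain ⟨x, w, r, y, j, h1, h2, h3, h4, h5, h6, h7, h8, h9, h10⟩ := exists_seventeen
  let e : ProjectiveSpecialLinearGroup (Fin 2) (ZMod 17) ≃* ProjectiveSpecialLinearGroup (Fin 2) F :=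
    LieClassical.FieldTransfer.pslCongr (ZMod.ringEquivOfPrime F (by norm_num) hF)
  refine ⟨e x, e w, e r, e y, e j, ?_, ?_, ?_, ?_, ?_, ?_, ?_, ?_, ?_, ?_⟩
  · rw [e.orderOf_eq, h1]
  · rw [e.orderOf_eq, h2]
  · rw [← map_pow, ← h3, map_mul, map_mul, map_inv]
  · rw [e.orderOf_eq, h4]
  · rw [e.orderOf_eq, h5]
  · rw [e.orderOf_eq, h6]
  · rw [← map_pow, ← map_mul, ← map_mul, h7]
  · rw [← h8, map_mul, map_mul, map_inv, map_pow]
  · have := congrArg e h9
    simpa only [map_mul, map_inv, map_pow] using this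
  · have := congrArg e h10
    simpa only [map_mul, map_inv, map_pow] using this

/-- All involutions of `PSL₂(17)` are conjugate. -/
theorem isConj_seventeen (hF : Fintype.card F = 17)
    (x y : ProjectiveSpecialLinearGroup (Fin 2) F) (hx : orderOf x = 2) (hy : orderOf y = 2) :
    IsConj x y :=
  ClassicalGeometry.SLTwoFour.psl_isConj (by rw [hF]; decide) x y hx hy

end transfer

/-! ### `PSL₃(3)` -/

/-- Two commuting transvections. -/
def U3 : SpecialLinearGroup (Fin 3) (ZMod 3) := ⟨!![1, 1, 0; 0, 1, 0; 0, 0, 1], by decide +kernel⟩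
def V3 : SpecialLinearGroup (Fin 3) (ZMod 3) := ⟨!![1, 0, 1; 0, 1, 0; 0, 0, 1], by decide +kernel⟩

theorem center_three {A : SpecialLinearGroup (Fin 3) (ZMod 3)}
    (hA : A ∈ center (SpecialLinearGroup (Fin 3) (ZMod 3))) : A = 1 := by
  rw [Matrix.SpecialLinearGroup.mem_center_iff] at hA
  obtain ⟨r, hr, hrA⟩ := hA
  have hr1 : r = 1 := by
    rw [Fintype.card_fin] at hr
    have key : ∀ r : ZMod 3, r ^ 3 = 1 → r = 1 := by decide
    exact key r hr
  apply Subtype.ext
  rw [← hrA, hr1]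
  simp

/-- `PSL₃(3)`: the order and a noncyclic abelian subgroup of order 9. -/
theorem psl_three_three {F : Type*} [Field F] [Fintype F] (hF : Fintype.card F = 3) :
    Nat.card (ProjectiveSpecialLinearGroup (Fin 3) F) = 5616 ∧
    ∃ u v : ProjectiveSpecialLinearGroup (Fin 3) F, orderOf u = 3 ∧ orderOf v = 3 ∧
      u * v = v * u ∧ v ∉ zpowers u := by
  refine ⟨card_psl_three_three hF, ?_⟩
  have hfact : Fact (Nat.Prime 3) := ⟨by norm_num⟩
  have h1 : (QuotientGroup.mk U3 : ProjectiveSpecialLinearGroup (Fin 3) (ZMod 3)) ≠ 1 := by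
    rw [Ne, QuotientGroup.eq_one_iff]
    intro h
    exact absurd (center_three h) (by decide +kernel)
  have h2 : (QuotientGroup.mk V3 : ProjectiveSpecialLinearGroup (Fin 3) (ZMod 3)) ≠ 1 := by
    rw [Ne, QuotientGroup.eq_one_iff]
    intro h
    exact absurd (center_three h) (by decide +kernel)
  have hu : orderOf (QuotientGroup.mk U3 : ProjectiveSpecialLinearGroup (Fin 3) (ZMod 3)) = 3 :=
    orderOf_eq_prime (by
      rw [← QuotientGroup.mk_pow, show U3 ^ 3 = 1 by decide +kernel, QuotientGroup.mk_one]) h1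
  have hv : orderOf (QuotientGroup.mk V3 : ProjectiveSpecialLinearGroup (Fin 3) (ZMod 3)) = 3 :=
    orderOf_eq_prime (by
      rw [← QuotientGroup.mk_pow, show V3 ^ 3 = 1 by decide +kernel, QuotientGroup.mk_one]) h2
  have hc : (QuotientGroup.mk U3 : ProjectiveSpecialLinearGroup (Fin 3) (ZMod 3)) *
      QuotientGroup.mk V3 = QuotientGroup.mk V3 * QuotientGroup.mk U3 := by
    rw [← QuotientGroup.mk_mul, ← QuotientGroup.mk_mul, show U3 * V3 = V3 * U3 by decide +kernel]
  have hz : (QuotientGroup.mk V3 : ProjectiveSpecialLinearGroup (Fin 3) (ZMod 3)) ∉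
      zpowers (QuotientGroup.mk U3 : ProjectiveSpecialLinearGroup (Fin 3) (ZMod 3)) := by
    intro h
    rw [← mem_powers_iff_mem_zpowers, Submonoid.mem_powers_iff] at h
    obtain ⟨n, hn⟩ := h
    rw [← pow_mod_orderOf, hu] at hn
    have hlt : n % 3 < 3 := Nat.mod_lt _ (by norm_num)
    generalize n % 3 = m at hn hlt
    rw [← QuotientGroup.mk_pow, QuotientGroup.eq] at hn
    have h3 := center_three hn
    interval_cases m
    · exact absurd h3 (by decide +kernel)
    · exact absurd h3 (by decide +kernel)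
    · exact absurd h3 (by decide +kernel)
  let e : ProjectiveSpecialLinearGroup (Fin 3) (ZMod 3) ≃* ProjectiveSpecialLinearGroup (Fin 3) F :=
    LieClassical.FieldTransfer.pslCongr (ZMod.ringEquivOfPrime F (by norm_num) hF)
  refine ⟨e (QuotientGroup.mk U3), e (QuotientGroup.mk V3), ?_, ?_, ?_, ?_⟩
  · rw [e.orderOf_eq, hu]
  · rw [e.orderOf_eq, hv]
  · rw [← map_mul, ← map_mul, hc]
  · intro h
    apply hz
    obtain ⟨n, hn⟩ := h
    refine ⟨n, ?_⟩
    apply e.injective
    beta_reduce at hn ⊢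
    rw [map_zpow, hn]

end Cfsg.Agent.SmallSimple.PSLFacts
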