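import Mathlib
import Cfsg.Prelude.Def_CaseTheorems
import Cfsg.Agent.MinSimple.Basic
import Cfsg.Agent.SignalizersComponents.OddWeights
import Cfsg.Agent.SignalizersComponents.NoOffender
import Cfsg.Agent.Lib.ProductSet
import Cfsg.Agent.Lib.Cores

/-!
# A 2-local subgroup whose module is far from failure of factorisation

`M` is a subgroup (a maximal 2-local in the applications), `Q` a normal 2-subgroup of `M`, `V ≤ Z(Q)`
elementary abelian and normal in `M` with `C_M(V) = Q`, `N_G(J(Q)) ≤ M`, and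
`|V / C_V(A)| > 2 |A Q / Q|` for all `A ≤ M` with `1 ≠ A Q / Q` elementary abelian.  The centralisers of the
nontrivial subgroups of `V` are solvable of characteristic 2.  Then

* `Data.le_o2_centralizer`: `V ≤ O₂(C_G(U))` for all `1 ≠ U ≤ V`;
* `Data.commute_of_odd`: every subgroup `E ≤ V` of order `> 2` centralises all subgroups of odd order
  normalised by `E`.
-/

set_option autoImplicit false

namespace Cfsg.Agent.SmallSimple.S1000.NonFF

open Subgroup Cfsg Cfsg.Agent.ZN Cfsg.Agent.MinSimple.VModule Cfsg.Agent.MinSimple.Basic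
open Cfsg.Agent.PLocal.ThompsonJ

variable {G : Type*} [Group G]

/-- The hypotheses on `M`, `Q`, `V`. -/
structure Data (M Q V : Subgroup G) : Prop where
  two : IsPGroup 2 Q
  QM : Q ≤ M
  MQ : M ≤ normalizer (Q : Set G)
  VQ : V ≤ Q
  sq : ∀ v ∈ V, v * v = 1
  MV : M ≤ normalizer (V : Set G)
  QV : Q ≤ centralizer (V : Set G)
  max : normalizer (jj Q : Set G) ≤ M
  nf : ∀ A : Subgroup G, A ≤ M → ¬ A ≤ Q → (∀ a ∈ A, a * a ∈ Q) →
    2 * ((A ⊓ Q).relIndex A * Nat.card ↥(V ⊓ centralizer (A : Set G))) < Nat.card V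
  sol : ∀ U : Subgroup G, U ≤ V → U ≠ ⊥ → Group.IsSolvable (centralizer (U : Set G))
  char2 : ∀ U : Subgroup G, U ≤ V → U ≠ ⊥ →
    centralizer (U : Set G) ⊓ centralizer (o2 (centralizer (U : Set G)) : Set G) ≤
      o2 (centralizer (U : Set G))

theorem card_mul_card_le [Finite G] {H K L : Subgroup G} (hH : H ≤ L) (hK : K ≤ L) :
    Nat.card H * Nat.card K ≤ Nat.card L * Nat.card (H ⊓ K : Subgroup G) := by
  rw [← Lib.ProductSet.card_mul_card_inf H K]
  refine Nat.mul_le_mul_right _ ?_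
  refine Nat.card_mono (Set.toFinite _) ?_
  rintro _ ⟨h, hh, k, hk, rfl⟩
  exact L.mul_mem (hH hh) (hK hk)

theorem card_eq_relIndex_mul {H K : Subgroup G} (h : H ≤ K) :
    Nat.card K = H.relIndex K * Nat.card H := by
  rw [mul_comm, Lib.HallHigman.card_mul_relIndex' h]

theorem comm_of_sq {V : Subgroup G} (h : ∀ v ∈ V, v * v = 1) {a b : G} (ha : a ∈ V) (hb : b ∈ V) :
    a * b = b * a := by
  have h1 := h _ (V.mul_mem ha hb)
  have h2 := h a ha
  have h3 := h b hb
  have h1' := inv_eq_of_mul_eq_one_right h1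
  have h2' := inv_eq_of_mul_eq_one_right h2
  have h3' := inv_eq_of_mul_eq_one_right h3
  rw [← h1', mul_inv_rev, h2', h3']

theorem exists_mul_of_mem_sup {H K : Subgroup G} (hc : ∀ x ∈ H, ∀ y ∈ K, x * y = y * x) {x : G}
    (hx : x ∈ H ⊔ K) : ∃ h ∈ H, ∃ k ∈ K, x = h * k := by
  rw [sup_eq_closure] at hx
  induction hx using closure_induction with
  | mem x hx =>
    rcases hx with hx | hx
    · exact ⟨x, hx, 1, K.one_mem, by group⟩
    · exact ⟨1, H.one_mem, x, hx, by group⟩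
  | one => exact ⟨1, H.one_mem, 1, K.one_mem, by group⟩
  | mul x y _ _ hx hy =>
    obtain ⟨h, hh, k, hk, rfl⟩ := hx
    obtain ⟨h', hh', k', hk', rfl⟩ := hy
    refine ⟨h * h', H.mul_mem hh hh', k * k', K.mul_mem hk hk', ?_⟩
    calc h * k * (h' * k') = h * (k * h') * k' := by group
      _ = h * (h' * k) * k' := by rw [hc h' hh' k hk]
      _ = h * h' * (k * k') := by group
  | inv x _ hx =>
    obtain ⟨h, hh, k, hk, rfl⟩ := hx
    refine ⟨h⁻¹, H.inv_mem hh, k⁻¹, K.inv_mem hk, ?_⟩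
    rw [hc h hh k hk]
    group

/-- An elementary abelian 2-subgroup `V` of a solvable group `Y` not contained in `O₂(Y)`: there is an
element `d ≠ 1` of odd order inverted by some `v ∈ V` and centralised, modulo `O₂(Y)`, by a hyperplane
`V₁` of `V` with `v ∉ V₁`. -/
theorem exists_inverted [Finite G] {Y V : Subgroup G} (hY : Group.IsSolvable Y) (hVY : V ≤ Y)
    (hsq : ∀ v ∈ V, v * v = 1) (hV : ¬ V ≤ o2 Y) :
    ∃ V₁ ≤ V, ∃ v ∈ V, ∃ d ∈ Y, v ∉ V₁ ∧ (∀ w ∈ V, w ∈ V₁ ∨ v * w ∈ V₁) ∧ Odd (orderOf d) ∧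
      d ≠ 1 ∧ v * d * v⁻¹ = d⁻¹ ∧ ∀ u ∈ V₁, u⁻¹ * (d⁻¹ * u * d) ∈ o2 Y := by
  have hp2 : Fact (Nat.Prime 2) := ⟨Nat.prime_two⟩
  have hNn : (pCore 2 Y).Normal := Lib.Cores.pCore_normal 2
  set N := pCore 2 Y with hN
  set π := QuotientGroup.mk' N with hπ
  have hπs : Function.Surjective π := QuotientGroup.mk'_surjective N
  have hQsol : Group.IsSolvable (Y ⧸ N) := Group.isSolvable_of_surjective hπs
  have hcore : pCore 2 (Y ⧸ N) = ⊥ := Lib.Cores.pCore_quotient_pCore 2
  have hself := SignalizersComponents.NoOffender.centralizer_pPrimeCore_le hQsol hcore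
  set L := pPrimeCore 2 (Y ⧸ N) with hL
  have hLn : L.Normal := Lib.HallHigman.pPrimeCore_normal 2
  have hLodd : Odd (Nat.card L) := by
    have := Lib.HallHigman.pPrimeCore_coprime (G := Y ⧸ N) 2
    exact Nat.coprime_two_right.mp this
  set W := (V.subgroupOf Y).map π with hW
  have hWsq : ∀ a ∈ W, a * a = 1 := by
    rintro _ ⟨a, ha, rfl⟩
    rw [← map_mul, show a * a = 1 from Subtype.ext (hsq a ha), map_one]
  have hgen := SignalizersComponents.OddWeights.closure_weights L W hLodd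
    (fun a ha b hb => comm_of_sq hWsq ha hb) hWsq (fun a _ x hx => hLn.conj_mem x hx a)
  have hker : ∀ x : Y, π x = 1 → (x : G) ∈ o2 Y := fun x hx =>
    ⟨x, (QuotientGroup.eq_one_iff x).mp hx, rfl⟩
  -- some weight element is not centralised
  obtain ⟨l, hl, a, haW, hal⟩ : ∃ l ∈ SignalizersComponents.OddWeights.weights L (W : Set (Y ⧸ N)),
      ∃ a ∈ W, a * l * a⁻¹ ≠ l := by
    by_contra hno
    push Not at hno
    apply hV
    have h1 : L ≤ centralizer (W : Set (Y ⧸ N)) := by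
      rw [← hgen, closure_le]
      intro l hl
      rw [SetLike.mem_coe, mem_centralizer_iff]
      intro a ha
      have := hno l hl a ha
      calc a * l = (a * l * a⁻¹) * a := by group
        _ = l * a := by rw [this]
    have h2 : W ≤ L := (le_centralizer_iff.mp h1).trans hself
    intro v hv
    have h3 : π ⟨v, hVY hv⟩ ∈ W := ⟨⟨v, hVY hv⟩, hv, rfl⟩
    have h4 : orderOf (π ⟨v, hVY hv⟩) ∣ 2 := orderOf_dvd_of_pow_eq_one (by
      rw [pow_two]; exact hWsq _ h3)
    have h5 : orderOf (π ⟨v, hVY hv⟩) ∣ Nat.card L := by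
      have := orderOf_dvd_natCard (⟨_, h2 h3⟩ : L)
      rwa [orderOf_mk] at this
    have h6 : orderOf (π ⟨v, hVY hv⟩) = 1 :=
      Nat.eq_one_of_dvd_coprimes (Nat.coprime_two_left.mpr hLodd) h4 h5
    exact hker _ (orderOf_eq_one_iff.mp h6)
  have hal' : a * l * a⁻¹ = l⁻¹ := (hl.2 a haW).resolve_left hal
  obtain ⟨v', hv'V, hv'⟩ := haW
  obtain ⟨g, hg⟩ := hπs l
  have hlodd : Odd (orderOf l) := by
    have h1 : orderOf l ∣ Nat.card L := by
      have := orderOf_dvd_natCard (⟨l, hl.1⟩ : L)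
      rwa [orderOf_mk] at this
    exact Odd.of_dvd_nat hLodd h1
  have hl1 : l ≠ 1 := by
    rintro rfl
    apply hal
    group
  set v : G := (v' : G) with hv
  have hvV : v ∈ V := hv'V
  have hvv : v' * v' = 1 := Subtype.ext (hsq v hvV)
  have hvinv : v'⁻¹ = v' := inv_eq_of_mul_eq_one_right hvv
  set c : Y := v' * (g * v' * g⁻¹) with hc
  have hcv : v' * c * v'⁻¹ = c⁻¹ := by
    have e : c⁻¹ = g * v'⁻¹ * g⁻¹ * v'⁻¹ := by rw [hc]; group
    rw [e, hvinv, hc]
    calc v' * (v' * (g * v' * g⁻¹)) * v' = (v' * v') * (g * v' * g⁻¹ * v') := by group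
      _ = g * v' * g⁻¹ * v' := by rw [hvv, one_mul]
  have hπc : π c = l⁻¹ * l⁻¹ := by
    rw [hc, map_mul, map_mul, map_mul, map_inv, hg, hv']
    have hai : a⁻¹ = a := by rw [← hv', ← map_inv, hvinv]
    calc a * (l * a * l⁻¹) = (a * l * a⁻¹) * l⁻¹ := by rw [hai]; group
      _ = l⁻¹ * l⁻¹ := by rw [hal']
  obtain ⟨k, m, hm, hkm⟩ := Nat.exists_eq_two_pow_mul_odd (orderOf_pos c).ne'
  set d : Y := c ^ (2 ^ k) with hd
  have hdord : orderOf d = m := by
    rw [hd, orderOf_pow' _ (pow_ne_zero _ two_ne_zero), hkm, Nat.gcd_eq_right (Dvd.intro _ rfl),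
      Nat.mul_div_cancel_left _ (by positivity)]
  have hπd : π d = (l⁻¹) ^ (2 ^ (k + 1)) := by
    rw [hd, map_pow, hπc, ← pow_two, ← pow_mul, ← pow_succ']
  refine ⟨((centralizer ({l} : Set (Y ⧸ N))).comap π ⊓ V.subgroupOf Y).map Y.subtype, ?_,
    v, hvV, (d : G), d.2, ?_, ?_, ?_, ?_, ?_, ?_⟩
  · rintro _ ⟨x, hx, rfl⟩
    exact hx.2
  · rintro ⟨x, hx, hxv⟩
    have hxv' : x = v' := Subtype.ext hxv
    have h1 := hx.1
    rw [hxv'] at h1
    apply hal
    have h2 : π v' ∈ centralizer ({l} : Set (Y ⧸ N)) := h1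
    rw [hv', mem_centralizer_singleton_iff] at h2
    rw [h2]
    group
  · intro w hw
    rcases hl.2 (π ⟨w, hVY hw⟩) ⟨⟨w, hVY hw⟩, hw, rfl⟩ with h1 | h1
    · left
      refine ⟨⟨w, hVY hw⟩, ⟨?_, hw⟩, rfl⟩
      show π ⟨w, hVY hw⟩ ∈ centralizer ({l} : Set (Y ⧸ N))
      rw [mem_centralizer_singleton_iff]
      calc π ⟨w, hVY hw⟩ * l = (π ⟨w, hVY hw⟩ * l * (π ⟨w, hVY hw⟩)⁻¹) * π ⟨w, hVY hw⟩ := by group
        _ = l * π ⟨w, hVY hw⟩ := by rw [h1]
    · right
      refine ⟨v' * ⟨w, hVY hw⟩, ⟨?_, V.mul_mem hvV hw⟩, rfl⟩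
      show π (v' * ⟨w, hVY hw⟩) ∈ centralizer ({l} : Set (Y ⧸ N))
      rw [mem_centralizer_singleton_iff, map_mul, hv']
      set b := π ⟨w, hVY hw⟩ with hb
      calc a * b * l = a * (b * l * b⁻¹) * b := by group
        _ = a * l⁻¹ * b := by rw [h1]
        _ = (a * l * a⁻¹)⁻¹ * a * b := by group
        _ = l * (a * b) := by rw [hal', inv_inv, mul_assoc]
  · rw [orderOf_coe, hdord]
    exact hm
  · intro hd1
    have h1 : d = 1 := Subtype.ext hd1
    rw [h1, map_one] at hπd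
    have h2 : orderOf l⁻¹ ∣ 2 ^ (k + 1) := orderOf_dvd_of_pow_eq_one hπd.symm
    rw [orderOf_inv] at h2
    have h3 : orderOf l = 1 :=
      Nat.eq_one_of_dvd_coprimes (Nat.Coprime.pow_left _ (Nat.coprime_two_left.mpr hlodd)) h2 dvd_rfl
    exact hl1 (orderOf_eq_one_iff.mp h3)
  · have h1 : v' * d * v'⁻¹ = d⁻¹ := by
      rw [hd, ← conj_pow, hcv, inv_pow]
    exact congrArg Subtype.val h1
  · rintro _ ⟨u, ⟨hu, huV⟩, rfl⟩
    have h2 : π u ∈ centralizer ({l} : Set (Y ⧸ N)) := hu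
    rw [mem_centralizer_singleton_iff] at h2
    have h3 : Commute (π u) l := h2
    have h4 : Commute (π u) (π d) := by
      rw [hπd]
      exact (h3.inv_right).pow_right _
    have h5 := hker (u⁻¹ * (d⁻¹ * u * d)) (by
      rw [map_mul, map_mul, map_mul, map_inv, map_inv]
      rw [mul_assoc (π d)⁻¹, h4.eq]
      group)
    exact h5

namespace Data

variable {M Q V : Subgroup G}

theorem comm (h : Data M Q V) {a b : G} (ha : a ∈ V) (hb : b ∈ V) : a * b = b * a :=
  comm_of_sq h.sq ha hb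

theorem VM (h : Data M Q V) : V ≤ M := h.VQ.trans h.QM

theorem V_le_centralizer (h : Data M Q V) {U : Subgroup G} (hU : U ≤ V) :
    V ≤ centralizer (U : Set G) := by
  intro v hv
  rw [mem_centralizer_iff]
  exact fun u hu => h.comm (hU hu) hv

/-- (1) `J(T) = J(Q)` for all 2-groups `Q ≤ T ≤ M`. -/
theorem jj_eq [Finite G] (h : Data M Q V) {T : Subgroup G} (hQT : Q ≤ T)
    (hTM : T ≤ M) : jj T = jj Q := by
  refine (jj_eq_of_le ?_ hQT).symm
  have h1 : thompsonSubgroup 2 T ≤ Q.subgroupOf T := by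
    refine thompsonSubgroup_le fun A hA => ?_
    set A' := A.map T.subtype with hA'
    have hA'T : A' ≤ T := map_subtype_le A
    have hcardA : Nat.card A' = Nat.card A :=
      Nat.card_congr (A.equivMapOfInjective T.subtype T.subtype_injective).toEquiv.symm
    have hel : IsElementaryAbelian 2 A' := isElementaryAbelian_map hA.1 _
    have hAQ : A' ≤ Q := by
      by_contra hnot
      have h2 := h.nf A' (hA'T.trans hTM) hnot (fun a ha => by
        have := isElementaryAbelian_pow hel ha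
        rw [pow_two] at this
        rw [this]
        exact Q.one_mem)
      -- the elementary abelian group `V (A ∩ Q)`
      set B := V ⊔ (A' ⊓ Q) with hB
      have hcom : ∀ x ∈ V, ∀ y ∈ A' ⊓ Q, x * y = y * x := fun x hx y hy =>
        mem_centralizer_iff.mp (h.QV hy.2) x hx
      have hBsq : ∀ x ∈ B, x * x = 1 := by
        intro x hx
        obtain ⟨v, hv, y, hy, rfl⟩ := exists_mul_of_mem_sup hcom hx
        have h3 : y * y = 1 := by
          have := isElementaryAbelian_pow hel hy.1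
          rwa [pow_two] at this
        calc v * y * (v * y) = v * (y * v) * y := by group
          _ = v * (v * y) * y := by rw [hcom v hv y hy]
          _ = (v * v) * (y * y) := by group
          _ = 1 := by rw [h.sq v hv, h3, one_mul]
      have hBT : B ≤ T := sup_le (h.VQ.trans hQT) (inf_le_left.trans hA'T)
      have hBel : IsElementaryAbelian 2 (B.subgroupOf T) := by
        rw [isElementaryAbelian_iff]
        constructor
        · intro a ha b hb
          exact Subtype.ext (comm_of_sq hBsq ha hb)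
        · intro a ha
          rw [pow_two]
          exact Subtype.ext (hBsq a ha)
      have h4 : Nat.card B ≤ Nat.card A' := by
        rw [hcardA, ← Nat.card_congr (subgroupOfEquivOfLe hBT).toEquiv]
        exact hA.2 _ hBel
      have h5 := card_mul_card_le (L := B) (H := V) (K := A' ⊓ Q) le_sup_left le_sup_right
      have h6 : Nat.card (V ⊓ (A' ⊓ Q) : Subgroup G) ≤
          Nat.card ↥(V ⊓ centralizer (A' : Set G)) := by
        refine card_le_of_le ?_
        refine le_inf inf_le_left ?_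
        rintro x ⟨-, hx, -⟩
        rw [mem_centralizer_iff]
        exact fun y hy => isElementaryAbelian_comm hel hy hx
      have h7 := card_eq_relIndex_mul (inf_le_left : A' ⊓ Q ≤ A')
      have hpos : 0 < Nat.card (A' ⊓ Q : Subgroup G) := Nat.card_pos
      have h8 : Nat.card V * Nat.card (A' ⊓ Q : Subgroup G) ≤
          ((A' ⊓ Q).relIndex A' * Nat.card ↥(V ⊓ centralizer (A' : Set G))) *
            Nat.card (A' ⊓ Q : Subgroup G) := by
        calc _ ≤ Nat.card B * Nat.card (V ⊓ (A' ⊓ Q) : Subgroup G) := h5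
          _ ≤ Nat.card A' * Nat.card ↥(V ⊓ centralizer (A' : Set G)) := Nat.mul_le_mul h4 h6
          _ = _ := by rw [h7]; ring
      have h9 := Nat.le_of_mul_le_mul_right h8 hpos
      omega
    intro a ha
    exact hAQ ⟨a, ha, rfl⟩
  rintro _ ⟨x, hx, rfl⟩
  exact h1 hx

/-- (2) -/
theorem exists_sylow [Finite G] (h : Data M Q V) {U : Subgroup G} (hUV : U ≤ V) :
    ∃ T : Subgroup G, IsPGroup 2 T ∧ Q ≤ T ∧ T ≤ M ∧ T ≤ centralizer (U : Set G) ∧
      o2 (centralizer (U : Set G)) ≤ T := by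
  have hp2 : Fact (Nat.Prime 2) := ⟨Nat.prime_two⟩
  set Y := centralizer (U : Set G) with hY
  let S : Set (Subgroup G) := {T | IsPGroup 2 T ∧ Q ≤ T ∧ T ≤ M ∧ T ≤ Y}
  obtain ⟨T, ⟨hT2, hQT, hTM, hTY⟩, hmax⟩ := (Set.toFinite S).exists_maximal
    ⟨Q, h.two, le_rfl, h.QM, h.QV.trans (centralizer_le hUV)⟩
  refine ⟨T, hT2, hQT, hTM, hTY, ?_⟩
  set T' := T ⊔ o2 Y with hT'
  have hT'2 : IsPGroup 2 T' := IsPGroup.to_sup_of_normal_right' hT2 (o2_isPGroup Y)
    (hTY.trans (le_normalizer_o2 Y))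
  have hT'Y : T' ≤ Y := sup_le hTY (o2_le Y)
  by_contra hnot
  have hlt : T < T' := lt_of_le_of_ne le_sup_left fun he => hnot (he ▸ le_sup_right)
  -- the normaliser of `T` in `T'`
  have hlt' : T.subgroupOf T' < ⊤ := by
    refine lt_of_le_of_ne le_top fun he => hlt.not_ge ?_
    rwa [subgroupOf_eq_top] at he
  have hnil : Group.IsNilpotent T' := hT'2.isNilpotent
  have hnc := Group.normalizerCondition_of_isNilpotent (G := T') _ hlt'
  obtain ⟨x, hxN, hxT⟩ := Set.exists_of_ssubset hnc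
  have hxN' : (x : G) ∈ normalizer (T : Set G) := by
    rw [mem_normalizer_iff]
    intro y
    constructor
    · intro hy
      have := (mem_normalizer_iff.mp hxN ⟨y, hlt.le hy⟩).mp hy
      exact this
    · intro hy
      have hy' : y ∈ T' := by
        have h1 := T'.mul_mem (T'.mul_mem (T'.inv_mem x.2) (hlt.le hy)) x.2
        have e : (x : G)⁻¹ * (x * y * (x : G)⁻¹) * x = y := by group
        rwa [e] at h1
      exact (mem_normalizer_iff.mp hxN ⟨y, hy'⟩).mpr hy
  have hxM : (x : G) ∈ M := by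
    refine h.max ?_
    rw [← h.jj_eq hQT hTM]
    exact normalizer_le_normalizer_jj T hxN'
  have hle : T ⊔ zpowers (x : G) ∈ S := by
    refine ⟨hT'2.to_le (sup_le hlt.le (by rw [zpowers_le]; exact x.2)), hQT.trans le_sup_left,
      sup_le hTM (by rw [zpowers_le]; exact hxM),
      sup_le hTY (by rw [zpowers_le]; exact hT'Y x.2)⟩
  have h3 := hmax hle le_sup_left
  exact hxT (h3 (mem_sup_right (mem_zpowers (x : G))))

/-- The main step: `V ≤ O₂(C_G(U))` for `1 ≠ U ≤ V`. -/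
theorem le_o2_centralizer [Finite G] (h : Data M Q V) {U : Subgroup G} (hUV : U ≤ V)
    (hU : U ≠ ⊥) : V ≤ o2 (centralizer (U : Set G)) := by
  have hp2 : Fact (Nat.Prime 2) := ⟨Nat.prime_two⟩
  set Y := centralizer (U : Set G) with hY
  by_contra hnot
  have hVY : V ≤ Y := h.V_le_centralizer hUV
  obtain ⟨V₁, hV₁, v, hvV, d, hdY, hvV₁, hhyp, hdodd, hd1, hvd, hcen⟩ :=
    exists_inverted (h.sol U hUV hU) hVY h.sq hnot
  obtain ⟨T, hT2, hQT, hTM, hTY, hoT⟩ := h.exists_sylow hUV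
  -- a power of `d * d` is `d`
  have hdd : d ∈ zpowers (d * d) := by
    obtain ⟨m, hm⟩ := hdodd
    refine ⟨(m + 1 : ℕ), ?_⟩
    show (d * d) ^ ((m + 1 : ℕ) : ℤ) = d
    rw [zpow_natCast, ← pow_two, ← pow_mul, show 2 * (m + 1) = (2 * m + 1) + 1 by ring, ← hm,
      pow_succ, pow_orderOf_eq_one, one_mul]
  have hvv := h.sq v hvV
  have hvinv : v⁻¹ = v := inv_eq_of_mul_eq_one_right hvv
  have hd2 : v * (d⁻¹ * v * d) = d * d := by
    calc v * (d⁻¹ * v * d) = (v * d * v⁻¹)⁻¹ * d := by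
          rw [hvinv]
          have : (v * d * v)⁻¹ = v * d⁻¹ * v := by
            rw [mul_inv_rev, mul_inv_rev, hvinv]; group
          rw [this]; group
      _ = d * d := by rw [hvd, inv_inv]
  have hcard : Nat.card V ≤ 2 * Nat.card V₁ := by
    have h1 : (V : Set G) ⊆ (V₁ : Set G) ∪ (fun x => v * x) '' (V₁ : Set G) := by
      intro w hw
      rcases hhyp w hw with h2 | h2
      · exact Or.inl h2
      · refine Or.inr ⟨v * w, h2, ?_⟩
        show v * (v * w) = w
        rw [← mul_assoc, hvv, one_mul]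
    have h2 := Set.ncard_le_ncard h1 (Set.toFinite _)
    have h3 := Set.ncard_union_le (V₁ : Set G) ((fun x => v * x) '' (V₁ : Set G))
    have h4 := Set.ncard_image_le (f := fun x => v * x) (Set.toFinite (V₁ : Set G))
    have h5 : (V : Set G).ncard = Nat.card V := rfl
    have h6 : (V₁ : Set G).ncard = Nat.card V₁ := rfl
    omega
  -- the conjugate of `V₁`
  set A := V₁.map (MulAut.conj d⁻¹).toMonoidHom with hA
  have hAel : ∀ w ∈ A, ∃ u ∈ V₁, w = d⁻¹ * u * d := by
    rintro _ ⟨u, hu, rfl⟩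
    exact ⟨u, hu, by simp⟩
  have hmemA : ∀ u ∈ V₁, d⁻¹ * u * d ∈ A := fun u hu => ⟨u, hu, by simp⟩
  have hAM : A ≤ M := by
    intro w hw
    obtain ⟨u, hu, rfl⟩ := hAel w hw
    have h1 := hTM (hoT (hcen u hu))
    have h2 := M.mul_mem (h.VM (hV₁ hu)) h1
    have e : u * (u⁻¹ * (d⁻¹ * u * d)) = d⁻¹ * u * d := by group
    rwa [e] at h2
  have hAsq : ∀ w ∈ A, w * w = 1 := by
    intro w hw
    obtain ⟨u, hu, rfl⟩ := hAel w hw
    calc d⁻¹ * u * d * (d⁻¹ * u * d) = d⁻¹ * (u * u) * d := by group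
      _ = 1 := by rw [h.sq u (hV₁ hu)]; group
  -- (ii)
  have key : ∀ u ∈ V₁, d⁻¹ * u * d ∈ Q → u * d = d * u := by
    intro u hu huQ
    set w := d⁻¹ * u * d with hw
    have h1 : v * w = w * v := mem_centralizer_iff.mp (h.QV huQ) v hvV
    have h2 : (d⁻¹ * v * d) * w = w * (d⁻¹ * v * d) := by
      calc (d⁻¹ * v * d) * w = d⁻¹ * (v * u) * d := by rw [hw]; group
        _ = d⁻¹ * (u * v) * d := by rw [h.comm hvV (hV₁ hu)]
        _ = w * (d⁻¹ * v * d) := by rw [hw]; group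
    have h3 : Commute w (d * d) := by
      show w * (d * d) = d * d * w
      rw [← hd2]
      calc w * (v * (d⁻¹ * v * d)) = (w * v) * (d⁻¹ * v * d) := by group
        _ = (v * w) * (d⁻¹ * v * d) := by rw [h1]
        _ = v * (w * (d⁻¹ * v * d)) := by group
        _ = v * ((d⁻¹ * v * d) * w) := by rw [h2]
        _ = v * (d⁻¹ * v * d) * w := by group
    have h4 : Commute w d := by
      obtain ⟨k, hk⟩ := hdd
      have h5 : (d * d) ^ k = d := hk
      rw [← h5]
      exact h3.zpow_right k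
    have h6 : w = u := by
      have h7 : d * w * d⁻¹ = w := by rw [← h4.eq]; group
      rw [hw] at h7 ⊢
      have h8 : d * (d⁻¹ * u * d) * d⁻¹ = u := by group
      rw [h8] at h7
      exact h7.symm
    rw [← h6]
    exact h4.eq
  have hAQ : A ≤ Q := by
    by_contra hAQ
    have h1 := h.nf A hAM hAQ (fun a ha => by rw [hAsq a ha]; exact Q.one_mem)
    have h2 : A ⊓ Q ≤ V ⊓ centralizer (A : Set G) := by
      rintro w ⟨hwA, hwQ⟩
      refine ⟨?_, ?_⟩
      · obtain ⟨u, hu, rfl⟩ := hAel w hwA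
        have h3 := key u hu hwQ
        have e : d⁻¹ * u * d = u := by rw [mul_assoc, h3]; group
        rw [e]
        exact hV₁ hu
      · exact mem_centralizer_iff.mpr fun y hy => comm_of_sq hAsq hy hwA
    have h3 := card_eq_relIndex_mul (inf_le_left : A ⊓ Q ≤ A)
    have h4 : Nat.card A = Nat.card V₁ := card_map_of_injective (MulAut.conj d⁻¹).injective
    have h5 : Nat.card (A ⊓ Q : Subgroup G) ≤ Nat.card ↥(V ⊓ centralizer (A : Set G)) :=
      card_le_of_le h2
    have h6 : Nat.card A ≤ (A ⊓ Q).relIndex A * Nat.card ↥(V ⊓ centralizer (A : Set G)) := by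
      rw [h3]
      exact Nat.mul_le_mul_left _ h5
    omega
  have hdV₁ : ∀ u ∈ V₁, u * d = d * u := fun u hu => key u hu (hAQ (hmemA u hu))
  have hV₁ne : V₁ ≠ ⊥ := by
    intro hbot
    -- `V = {1, v}`
    have h1 : ∀ w ∈ V, w = 1 ∨ w = v := by
      intro w hw
      rcases hhyp w hw with h1 | h1
      · rw [hbot, mem_bot] at h1
        exact Or.inl h1
      · rw [hbot, mem_bot] at h1
        right
        rw [← inv_eq_of_mul_eq_one_right h1, hvinv]
    obtain ⟨⟨u, hu⟩, hu1⟩ := U.ne_bot_iff_exists_ne_one.mp hU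
    have h2 : u = v := (h1 u (hUV hu)).resolve_left fun h => hu1 (Subtype.ext h)
    have h3 : v * d = d * v := by
      rw [← h2]
      exact mem_centralizer_iff.mp hdY u hu
    have h4 : d * d = 1 := by
      have h5 : v * d * v⁻¹ = d := by rw [h3]; group
      rw [h5] at hvd
      calc d * d = d * d⁻¹ := by rw [← hvd]
        _ = 1 := mul_inv_cancel d
    obtain ⟨k, hk⟩ := hdd
    apply hd1
    have h5 : (d * d) ^ k = d := hk
    rw [← h5, h4, one_zpow]
  set Y₁ := centralizer (V₁ : Set G) with hY₁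
  have hdY₁ : d ∈ Y₁ := mem_centralizer_iff.mpr hdV₁
  obtain ⟨T₁, hT₁2, hQT₁, hT₁M, hT₁Y, hoT₁⟩ := h.exists_sylow hV₁
  have hT₁Q : T₁ ≤ Q := by
    intro x hx
    by_contra hxQ
    -- a power `y` of `x` with `y ∉ Q`, `y * y ∈ Q`
    have hex : ∃ n : ℕ, x ^ (2 ^ n) ∈ Q := by
      obtain ⟨n, hn⟩ := IsPGroup.iff_orderOf.mp hT₁2 ⟨x, hx⟩
      rw [orderOf_mk] at hn
      exact ⟨n, by rw [← hn, pow_orderOf_eq_one]; exact Q.one_mem⟩
    classical
    set n := Nat.find hex with hn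
    have hn1 : x ^ (2 ^ n) ∈ Q := Nat.find_spec hex
    have hn0 : n ≠ 0 := by
      intro h0
      rw [h0, pow_zero, pow_one] at hn1
      exact hxQ hn1
    obtain ⟨k, hk⟩ := Nat.exists_eq_succ_of_ne_zero hn0
    have hyQ : x ^ (2 ^ k) ∉ Q := Nat.find_min hex (by rw [← hn, hk]; exact Nat.lt_succ_self k)
    set y := x ^ (2 ^ k) with hy
    have hyy : y ^ 2 ∈ Q := by
      rw [hy, ← pow_mul, ← pow_succ, ← Nat.succ_eq_add_one, ← hk]
      exact hn1
    have hyT : y ∈ T₁ := T₁.pow_mem hx _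
    have h1 := h.nf (zpowers y) (by rw [zpowers_le]; exact hT₁M hyT)
      (fun hle => hyQ (hle (mem_zpowers y))) (by
        rintro _ ⟨j, rfl⟩
        show y ^ j * y ^ j ∈ Q
        rw [← zpow_add, ← two_mul, zpow_mul]
        exact Q.zpow_mem (by exact_mod_cast hyy) j)
    have h2 : (zpowers y ⊓ Q).relIndex (zpowers y) ≠ 1 := by
      rw [Ne, relIndex_eq_one]
      exact fun hle => hyQ (hle (mem_zpowers y)).2
    have h3 : (zpowers y ⊓ Q).relIndex (zpowers y) ≠ 0 := by
      intro h0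
      have h6 := card_eq_relIndex_mul (inf_le_left : zpowers y ⊓ Q ≤ zpowers y)
      rw [h0, zero_mul] at h6
      exact Nat.card_pos.ne' h6
    have h4 : Nat.card V₁ ≤ Nat.card ↥(V ⊓ centralizer (zpowers y : Set G)) := by
      refine card_le_of_le (le_inf hV₁ ?_)
      have h5 : zpowers y ≤ centralizer (V₁ : Set G) := by
        rw [zpowers_le]
        exact hT₁Y hyT
      exact le_centralizer_iff.mp h5
    have h5 : 2 * Nat.card V₁ ≤ (zpowers y ⊓ Q).relIndex (zpowers y) *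
        Nat.card ↥(V ⊓ centralizer (zpowers y : Set G)) :=
      Nat.mul_le_mul (by omega) h4
    omega
  have hVo : V ≤ o2 Y₁ := by
    intro w hw
    refine h.char2 V₁ hV₁ hV₁ne ⟨h.V_le_centralizer hV₁ hw, ?_⟩
    exact mem_centralizer_iff.mpr fun y hy =>
      (mem_centralizer_iff.mp (h.QV (hT₁Q (hoT₁ hy))) w hw).symm
  have h1 : d⁻¹ * v * d ∈ o2 Y₁ := by
    have h2 := (mem_normalizer_iff.mp (le_normalizer_o2 Y₁ (Y₁.inv_mem hdY₁)) v).mp (hVo hvV)
    simpa using h2
  have h2 : d * d ∈ o2 Y₁ := by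
    rw [← hd2]
    exact (o2 Y₁).mul_mem (hVo hvV) h1
  have h3 : d ∈ o2 Y₁ := by
    have : zpowers (d * d) ≤ o2 Y₁ := by rwa [zpowers_le]
    exact this hdd
  obtain ⟨n, hn⟩ := IsPGroup.iff_orderOf.mp (o2_isPGroup Y₁) ⟨d, h3⟩
  rw [orderOf_mk] at hn
  rw [hn] at hdodd
  have hn0 : n = 0 := by
    by_contra hne
    rw [Nat.odd_pow_iff hne] at hdodd
    exact absurd hdodd (by decide)
  rw [hn0, pow_zero] at hn
  exact hd1 (orderOf_eq_one_iff.mp hn)

/-- Every subgroup `E ≤ V` of order `> 2` centralises all subgroups `R` of odd order normalised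
by `E`. -/
theorem commute_of_odd [Finite G] (h : Data M Q V) {E R : Subgroup G} (hE : E ≤ V)
    (hE2 : 2 < Nat.card E) (hR : Odd (Nat.card R)) (hER : E ≤ normalizer (R : Set G)) :
    E ≤ centralizer (R : Set G) := by
  have hp2 : Fact (Nat.Prime 2) := ⟨Nat.prime_two⟩
  have hEsq : ∀ e ∈ E, e * e = 1 := fun e he => h.sq e (hE he)
  have hgen := SignalizersComponents.OddWeights.closure_weights R E hR
    (fun a ha b hb => comm_of_sq hEsq ha hb) hEsq
    (fun a ha x hx => (mem_normalizer_iff.mp (hER ha) x).mp hx)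
  rw [le_centralizer_iff, ← hgen, closure_le]
  intro r hr
  rw [SetLike.mem_coe, mem_centralizer_iff]
  -- some `e ≠ 1` in `E` centralises `r`
  obtain ⟨e, heE, he1, her⟩ : ∃ e ∈ E, e ≠ 1 ∧ e * r * e⁻¹ = r := by
    obtain ⟨a, ha, ha1⟩ : ∃ a ∈ E, a ≠ 1 := by
      by_contra hno
      push Not at hno
      have h1 : E = ⊥ := (eq_bot_iff_forall E).mpr hno
      rw [h1, card_bot] at hE2
      omega
    rcases hr.2 a ha with h1 | h1
    · exact ⟨a, ha, ha1, h1⟩
    obtain ⟨b, hb, hb1, hba⟩ : ∃ b ∈ E, b ≠ 1 ∧ b ≠ a := by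
      by_contra hno
      push Not at hno
      have h2 : (E : Set G) ⊆ {1, a} := by
        intro x hx
        by_cases hx1 : x = 1
        · exact Or.inl hx1
        · exact Or.inr (hno x hx hx1)
      have h3 := Set.ncard_le_ncard h2 (Set.toFinite _)
      have h4 : (E : Set G).ncard = Nat.card E := rfl
      have h5 := Set.ncard_insert_le (1 : G) {a}
      rw [Set.ncard_singleton] at h5
      omega
    rcases hr.2 b hb with h2 | h2
    · exact ⟨b, hb, hb1, h2⟩
    refine ⟨a * b, E.mul_mem ha hb, ?_, ?_⟩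
    · intro hab
      apply hba
      rw [← inv_eq_of_mul_eq_one_right hab, inv_eq_of_mul_eq_one_right (hEsq a ha)]
    · calc a * b * r * (a * b)⁻¹ = a * (b * r * b⁻¹) * a⁻¹ := by group
        _ = (a * r * a⁻¹)⁻¹ := by rw [h2]; group
        _ = r := by rw [h1, inv_inv]
  have hle : zpowers e ≤ V := by rw [zpowers_le]; exact hE heE
  have hne : zpowers e ≠ ⊥ := by rwa [Ne, zpowers_eq_bot]
  have hVo := h.le_o2_centralizer hle hne
  set Y := centralizer (zpowers e : Set G) with hY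
  have hrY : r ∈ Y := by
    rw [hY, mem_centralizer_iff]
    rintro _ ⟨k, rfl⟩
    have h1 : Commute e r := by
      show e * r = r * e
      calc e * r = (e * r * e⁻¹) * e := by group
        _ = r * e := by rw [her]
    exact (h1.zpow_left k).eq
  intro f hf
  have h1 : f * (r * f⁻¹ * r⁻¹) ∈ o2 Y := (o2 Y).mul_mem (hVo (hE hf))
    ((mem_normalizer_iff.mp (le_normalizer_o2 Y hrY) f⁻¹).mp ((o2 Y).inv_mem (hVo (hE hf))))
  have h2 : (f * r * f⁻¹) * r⁻¹ ∈ R :=
    R.mul_mem ((mem_normalizer_iff.mp (hER hf) r).mp hr.1) (R.inv_mem hr.1)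
  have e1 : f * (r * f⁻¹ * r⁻¹) = (f * r * f⁻¹) * r⁻¹ := by group
  rw [e1] at h1
  have h3 : (f * r * f⁻¹) * r⁻¹ = 1 := by
    obtain ⟨n, hn⟩ := IsPGroup.iff_orderOf.mp (o2_isPGroup Y) ⟨_, h1⟩
    rw [orderOf_mk] at hn
    have h4 : orderOf ((f * r * f⁻¹) * r⁻¹) ∣ Nat.card R := by
      have := orderOf_dvd_natCard (⟨_, h2⟩ : R)
      rwa [orderOf_mk] at this
    have h5 : orderOf ((f * r * f⁻¹) * r⁻¹) ∣ 2 ^ n := by rw [hn]
    exact orderOf_eq_one_iff.mp (Nat.eq_one_of_dvd_coprimes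
      (Nat.Coprime.pow_left _ (Nat.coprime_two_left.mpr hR)) h5 h4)
  calc f * r = ((f * r * f⁻¹) * r⁻¹) * (r * f) := by group
    _ = r * f := by rw [h3, one_mul]

/-- `|C_V(y)| ≤ 2` for all `y` whose centraliser has a normal subgroup `R` of odd order with
`C_V(y) ∩ C(R) = 1` (e.g. `y` a 3-element in a group of characteristic 3 type). -/
theorem card_inf_centralizer_le [Finite G] (h : Data M Q V) {Y R : Subgroup G}
    (hR : Odd (Nat.card R)) (hYR : Y ≤ normalizer (R : Set G))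
    (hC : V ⊓ Y ⊓ centralizer (R : Set G) = ⊥) : Nat.card ↥(V ⊓ Y) ≤ 2 := by
  by_contra hlt
  have h1 := h.commute_of_odd (E := V ⊓ Y) inf_le_left (by omega) hR (inf_le_right.trans hYR)
  rw [inf_eq_left.mpr h1] at hC
  rw [hC, card_bot] at hlt
  omega

end Data

end Cfsg.Agent.SmallSimple.S1000.NonFF
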