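import Mathlib
import Cfsg.Agent.Lib.HallHigman

/-!
# Elementary facts on a group acting on an elementary abelian 2-group

`φ : X →* MulAut V` with `v * v = 1` for all `v : V`; `fe φ g = C_V(g)`; `D φ g v = (φ g v) v` is the
"commutator map" with kernel `C_V(g)`.
-/

set_option autoImplicit false

namespace Cfsg.Agent.SmallSimple.S1000.TwoModule

open Subgroup

variable {X V : Type*} [Group X] [CommGroup V] (φ : X →* MulAut V)

/-- The fixed points of `g`. -/
def fe (g : X) : Subgroup V where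
  carrier := {v | φ g v = v}
  one_mem' := map_one _
  mul_mem' := by
    intro a b ha hb
    show φ g (a * b) = a * b
    rw [map_mul, ha, hb]
  inv_mem' := by
    intro a ha
    show φ g a⁻¹ = a⁻¹
    rw [map_inv, ha]

theorem mem_fe {g : X} {v : V} : v ∈ fe φ g ↔ φ g v = v := Iff.rfl

/-- The commutator map `v ↦ (φ g v) v`. -/
def D (g : X) : V →* V := (φ g).toMonoidHom * MonoidHom.id V

theorem D_apply (g : X) (v : V) : D φ g v = φ g v * v := rfl

theorem fe_mul (g h : X) : fe φ g ⊓ fe φ h ≤ fe φ (g * h) := by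
  rintro v ⟨hg, hh⟩
  rw [mem_fe, map_mul, MulAut.mul_apply]
  rw [(mem_fe φ).mp hh, (mem_fe φ).mp hg]

theorem fe_one : fe φ (1 : X) = ⊤ := by
  rw [eq_top_iff]
  intro v _
  rw [mem_fe, map_one, MulAut.one_apply]

theorem fe_inv (g : X) : fe φ g⁻¹ = fe φ g := by
  have key : ∀ g : X, fe φ g ≤ fe φ g⁻¹ := by
    intro g v hv
    rw [mem_fe] at hv ⊢
    rw [map_inv, MulAut.inv_apply, MulEquiv.symm_apply_eq, hv]
  exact le_antisymm (by simpa using key g⁻¹) (key g)

theorem fe_pow (g : X) (k : ℕ) : fe φ g ≤ fe φ (g ^ k) := by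
  induction k with
  | zero => rw [pow_zero, fe_one]; exact le_top
  | succ k ih =>
    rw [pow_succ]
    exact (le_inf ih le_rfl).trans (fe_mul φ _ _)

theorem fe_zpow (g : X) (k : ℤ) : fe φ g ≤ fe φ (g ^ k) := by
  cases k with
  | ofNat k => rw [Int.ofNat_eq_natCast, zpow_natCast]; exact fe_pow φ g k
  | negSucc k => rw [zpow_negSucc, fe_inv]; exact fe_pow φ g _

theorem fe_le_of_mem_zpowers {g h : X} (hh : h ∈ zpowers g) : fe φ g ≤ fe φ h := by
  obtain ⟨k, rfl⟩ := hh
  exact fe_zpow φ g k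

theorem fe_conj (g h : X) : fe φ (g * h * g⁻¹) = (fe φ h).map (φ g).toMonoidHom := by
  ext v
  rw [mem_map_equiv]
  rw [mem_fe, mem_fe, map_mul, map_mul, map_inv, MulAut.mul_apply, MulAut.mul_apply]
  constructor
  · intro h1
    rw [MulEquiv.eq_symm_apply]
    exact h1
  · intro h1
    rw [MulEquiv.eq_symm_apply] at h1
    exact h1

theorem card_fe_conj (g h : X) : Nat.card (fe φ (g * h * g⁻¹)) = Nat.card (fe φ h) := by
  rw [fe_conj]
  exact card_map_of_injective (φ g).injective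

theorem index_fe_conj (g h : X) : (fe φ (g * h * g⁻¹)).index = (fe φ h).index := by
  rw [fe_conj]
  exact index_map_equiv _ (φ g)

theorem fe_eq_of_isConj {g h : X} (hc : IsConj g h) : (fe φ g).index = (fe φ h).index := by
  obtain ⟨c, hc⟩ := isConj_iff.mp hc
  rw [← hc, index_fe_conj]

theorem fe_pow_eq {g : X} {k : ℕ} (hk : k.Coprime (orderOf g)) : fe φ (g ^ k) = fe φ g := by
  refine le_antisymm ?_ (fe_pow φ g k)
  obtain ⟨m, hm⟩ := exists_pow_eq_self_of_coprime hk
  calc fe φ (g ^ k) ≤ fe φ ((g ^ k) ^ m) := fe_pow φ _ m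
    _ = fe φ g := by rw [hm]

/-- If `a` inverts `x` of odd order then `|V : C_V(x)| ≤ |V : C_V(a)|²`. -/
theorem index_le_of_inverts [Finite V] {a x : X} (hx : Odd (orderOf x)) (hax : a * x * a⁻¹ = x⁻¹) :
    (fe φ x).index ≤ (fe φ a).index ^ 2 := by
  have h1 : fe φ x = fe φ (x ^ 2) := (fe_pow_eq φ (Nat.coprime_two_left.mpr hx)).symm
  have h2 : x ^ 2 = (x * a * x⁻¹) * a⁻¹ := by
    have : a * x⁻¹ * a⁻¹ = x := by
      calc a * x⁻¹ * a⁻¹ = (a * x * a⁻¹)⁻¹ := by group
        _ = x := by rw [hax, inv_inv]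
    calc x ^ 2 = x * x := pow_two x
      _ = x * (a * x⁻¹ * a⁻¹) := by rw [this]
      _ = (x * a * x⁻¹) * a⁻¹ := by group
  have h3 : fe φ (x * a * x⁻¹) ⊓ fe φ a ≤ fe φ x := by
    rw [h1, h2]
    exact (le_inf inf_le_left (inf_le_right.trans (fe_inv φ a).ge)).trans (fe_mul φ _ _)
  calc (fe φ x).index ≤ (fe φ (x * a * x⁻¹) ⊓ fe φ a).index :=
        Nat.le_of_dvd (Nat.pos_of_ne_zero index_ne_zero_of_finite) (index_dvd_of_le h3)
    _ ≤ (fe φ (x * a * x⁻¹)).index * (fe φ a).index := index_inf_le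
    _ = (fe φ a).index ^ 2 := by rw [index_fe_conj, pow_two]

/-- `|V : C_V([a, g])| ≤ |V : C_V(a)|²`. -/
theorem index_commutator_le [Finite V] (a g : X) :
    (fe φ (a * (g * a⁻¹ * g⁻¹))).index ≤ (fe φ a).index ^ 2 := by
  calc (fe φ (a * (g * a⁻¹ * g⁻¹))).index ≤ (fe φ a ⊓ fe φ (g * a⁻¹ * g⁻¹)).index :=
        Nat.le_of_dvd (Nat.pos_of_ne_zero index_ne_zero_of_finite) (index_dvd_of_le (fe_mul φ _ _))
    _ ≤ (fe φ a).index * (fe φ (g * a⁻¹ * g⁻¹)).index := index_inf_le
    _ = (fe φ a).index ^ 2 := by rw [index_fe_conj, fe_inv, pow_two]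

section two

variable (hV : ∀ v : V, v * v = 1)

include hV

theorem inv_eq (v : V) : v⁻¹ = v := inv_eq_of_mul_eq_one_right (hV v)

theorem mul_eq_one_iff (u v : V) : u * v = 1 ↔ u = v := by
  rw [mul_eq_one_iff_eq_inv, inv_eq hV]

theorem ker_D (g : X) : (D φ g).ker = fe φ g := by
  ext v
  rw [MonoidHom.mem_ker, D_apply, mul_eq_one_iff hV, mem_fe]

theorem card_range_D [Finite V] (g : X) : Nat.card (D φ g).range = (fe φ g).index := by
  rw [← ker_D φ hV, index_ker]

theorem card_eq_two_pow [Finite V] (W : Subgroup V) : ∃ n, Nat.card W = 2 ^ n := by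
  have hp2 : Fact (Nat.Prime 2) := ⟨Nat.prime_two⟩
  have h1 : IsPGroup 2 W := by
    rintro ⟨w, hw⟩
    exact ⟨1, Subtype.ext (by show w ^ 2 ^ 1 = 1; rw [pow_one, pow_two, hV])⟩
  exact IsPGroup.iff_card.mp h1

/-- In characteristic 2, `(g - 1)² = g² - 1`. -/
theorem D_D (g : X) (v : V) : D φ g (D φ g v) = D φ (g * g) v := by
  rw [D_apply, D_apply, D_apply, map_mul, map_mul, MulAut.mul_apply]
  calc φ g (φ g v) * φ g v * (φ g v * v) = φ g (φ g v) * (φ g v * φ g v) * v := by
        simp only [mul_assoc]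
    _ = φ g (φ g v) * v := by rw [hV, mul_one]

omit hV in
theorem conj_D (y g : X) (v : V) : φ y (D φ g v) = D φ (y * g * y⁻¹) (φ y v) := by
  rw [D_apply, D_apply, map_mul]
  congr 1
  rw [← MulAut.mul_apply, ← map_mul, ← MulAut.mul_apply, ← map_mul]
  congr 2
  group

omit hV in
/-- `1 + y + y² = 0` for a fixed-point-free element with `y³ = 1`. -/
theorem norm_eq_one {y : X} (hy : y ^ 3 = 1) (hf : fe φ y = ⊥) (v : V) :
    v * φ y v * φ y (φ y v) = 1 := by
  have h1 : v * φ y v * φ y (φ y v) ∈ fe φ y := by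
    rw [mem_fe, map_mul, map_mul]
    have h2 : φ y (φ y (φ y v)) = v := by
      rw [← MulAut.mul_apply, ← map_mul, ← MulAut.mul_apply, ← map_mul]
      have : y * y * y = 1 := by rw [← hy, pow_succ, pow_two]
      rw [this, map_one, MulAut.one_apply]
    rw [h2]
    rw [mul_comm _ v, mul_assoc]
  rwa [hf, mem_bot] at h1

/-- **The `A₄`-identity**: `⟨i, j⟩⟨y⟩ ≅ A₄` acting on `V` with `C_V(y) = 1`: then
`(i - 1)(j - 1) = 0`. -/
theorem D_D_eq_one {y i j : X} (hy : y ^ 3 = 1) (hi : i * i = 1) (hj : j * j = 1)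
    (hij : i * j = j * i) (h1 : y * i * y⁻¹ = j) (h2 : y * j * y⁻¹ = i * j)
    (hf : fe φ y = ⊥) (u : V) : D φ i (D φ j u) = 1 := by
  -- `j y` is conjugate to `y`
  have hconj : (i * j) * y * (i * j)⁻¹ = j * y := by
    have e1 : y * (i * j)⁻¹ * y⁻¹ = i := by
      calc y * (i * j)⁻¹ * y⁻¹ = ((y * i * y⁻¹) * (y * j * y⁻¹))⁻¹ := by group
        _ = (j * (i * j))⁻¹ := by rw [h1, h2]
        _ = (i * (j * j))⁻¹ := by rw [← mul_assoc, ← hij, mul_assoc]
        _ = i := by rw [hj, mul_one]; exact inv_eq_of_mul_eq_one_right hi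
    calc (i * j) * y * (i * j)⁻¹ = (i * j) * (y * (i * j)⁻¹ * y⁻¹) * y := by group
      _ = (i * j) * i * y := by rw [e1]
      _ = (j * i) * i * y := by rw [hij]
      _ = j * (i * i) * y := by rw [mul_assoc j i i]
      _ = j * y := by rw [hi, mul_one]
  have hf' : fe φ (j * y) = ⊥ := by
    rw [← hconj, fe_conj, hf, Subgroup.map_bot]
  have hjy3 : (j * y) ^ 3 = 1 := by
    rw [← hconj, conj_pow, hy]; group
  have hjy2 : (j * y) * (j * y) = i * (y * y) := by
    calc (j * y) * (j * y) = j * (y * j * y⁻¹) * (y * y) := by group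
      _ = j * (i * j) * (y * y) := by rw [h2]
      _ = i * (j * j) * (y * y) := by rw [← mul_assoc j i j, ← hij]; group
      _ = i * (y * y) := by rw [hj, mul_one]
  -- the relation `D j (y v) = D i (y² v)`
  have key : ∀ v : V, D φ j (φ y v) = D φ i (φ y (φ y v)) := by
    intro v
    have e1 := norm_eq_one φ hy hf v
    have e2 := norm_eq_one φ hjy3 hf' v
    have e3 : φ (j * y) (φ (j * y) v) = φ i (φ y (φ y v)) := by
      rw [← MulAut.mul_apply, ← map_mul, hjy2, map_mul, map_mul, MulAut.mul_apply,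
        MulAut.mul_apply]
    rw [e3, map_mul, MulAut.mul_apply] at e2
    rw [← mul_eq_one_iff hV, D_apply, D_apply]
    have e4 : (v * φ y v * φ y (φ y v)) * (v * φ j (φ y v) * φ i (φ y (φ y v))) = 1 := by
      rw [e1, e2, one_mul]
    calc φ j (φ y v) * φ y v * (φ i (φ y (φ y v)) * φ y (φ y v))
        = (v * v) * (φ j (φ y v) * φ y v * (φ i (φ y (φ y v)) * φ y (φ y v))) := by
          rw [hV, one_mul]
      _ = (v * φ y v * φ y (φ y v)) * (v * φ j (φ y v) * φ i (φ y (φ y v))) := by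
          ac_rfl
      _ = 1 := e4
  have h3 : D φ j u = D φ i (φ y u) := by
    have := key ((φ y).symm u)
    rwa [MulEquiv.apply_symm_apply] at this
  rw [h3, D_D φ hV, hi, D_apply, map_one, MulAut.one_apply, hV]

omit hV in
theorem card_dvd_of_free {E Y : Type*} [Group E] [Finite E] [MulAction E Y] [Finite Y]
    (h : ∀ (z : E) (x : Y), z • x = x → z = 1) : Nat.card E ∣ Nat.card Y := by
  classical
  have _ := Fintype.ofFinite E
  have _ := Fintype.ofFinite Y
  have e := MulAction.selfEquivSigmaOrbits E Y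
  rw [Nat.card_congr e, Nat.card_sigma]
  refine Finset.dvd_sum fun ω _ => ?_
  have h1 : Nat.card (MulAction.orbit E (Quotient.out ω : Y)) = Nat.card E := by
    refine (Nat.card_congr (Equiv.ofBijective
      (fun z : E => (⟨z • (Quotient.out ω : Y), MulAction.mem_orbit _ z⟩ :
        MulAction.orbit E (Quotient.out ω : Y))) ⟨?_, ?_⟩)).symm
    · intro z w hzw
      have h2 : z • (Quotient.out ω : Y) = w • (Quotient.out ω : Y) := congrArg Subtype.val hzw
      have h3 : (w⁻¹ * z) • (Quotient.out ω : Y) = Quotient.out ω := by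
        rw [mul_smul, h2, ← mul_smul, inv_mul_cancel, one_smul]
      have h4 := h _ _ h3
      exact (inv_mul_eq_one.1 h4).symm
    · rintro ⟨y, z, rfl⟩
      exact ⟨z, rfl⟩
  rw [h1]

omit hV in
/-- A cyclic group `⟨r⟩` acting on a subgroup `W` of `V` without fixed points `≠ 1`. -/
theorem orderOf_dvd_card_sub_one [Finite X] [Finite V] (r : X) (W : Subgroup V)
    (hW : ∀ v ∈ W, φ r v ∈ W)
    (hfree : ∀ k : ℤ, r ^ k ≠ 1 → ∀ v ∈ W, φ (r ^ k) v = v → v = 1) :
    orderOf r ∣ Nat.card W - 1 := by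
  classical
  have hWk : ∀ k : ℤ, ∀ v ∈ W, φ (r ^ k) v ∈ W := by
    have hmap : W.map (φ r).toMonoidHom ≤ W := by
      rintro _ ⟨v, hv, rfl⟩
      exact hW v hv
    have heq : W.map (φ r).toMonoidHom = W :=
      eq_of_le_of_card_ge hmap (card_map_of_injective (φ r).injective).ge
    have hinv : ∀ v ∈ W, φ r⁻¹ v ∈ W := by
      intro v hv
      rw [← heq] at hv
      obtain ⟨u, hu, rfl⟩ := hv
      have : φ r⁻¹ (φ r u) = u := by
        rw [← MulAut.mul_apply, ← map_mul, inv_mul_cancel, map_one, MulAut.one_apply]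
      show φ r⁻¹ (φ r u) ∈ W
      rw [this]
      exact hu
    intro k
    induction k using Int.induction_on with
    | zero => intro v hv; rw [zpow_zero, map_one, MulAut.one_apply]; exact hv
    | succ n ih =>
      intro v hv
      rw [zpow_add_one, map_mul, MulAut.mul_apply]
      exact ih _ (hW v hv)
    | pred n ih =>
      intro v hv
      rw [zpow_sub_one, map_mul, MulAut.mul_apply]
      exact ih _ (hinv v hv)
  let Y := {w : V // w ∈ W ∧ w ≠ 1}
  let act : MulAction (zpowers r) Y :=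
    { smul := fun z w => ⟨φ (z : X) w.1, by
        obtain ⟨_, k, rfl⟩ := z
        exact hWk k _ w.2.1, fun h => w.2.2 ((φ (z : X)).map_eq_one_iff.1 h)⟩
      one_smul := fun w => Subtype.ext (by
        show φ ((1 : zpowers r) : X) w.1 = w.1
        rw [OneMemClass.coe_one, map_one, MulAut.one_apply])
      mul_smul := fun a b w => Subtype.ext (by
        show φ ((a * b : zpowers r) : X) w.1 = φ (a : X) (φ (b : X) w.1)
        rw [Subgroup.coe_mul, map_mul, MulAut.mul_apply]) }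
  have h1 : Nat.card (zpowers r) ∣ Nat.card Y := by
    refine card_dvd_of_free fun z w hzw => ?_
    by_contra hz
    obtain ⟨_, k, rfl⟩ := z
    exact w.2.2 (hfree k (fun h => hz (Subtype.ext h)) w.1 w.2.1 (congrArg Subtype.val hzw))
  rw [Nat.card_zpowers] at h1
  have h2 : Nat.card Y = Nat.card W - 1 := by
    have h3 : Nat.card Y = Nat.card {w : W // w ≠ 1} := by
      refine Nat.card_congr
        { toFun := fun w => ⟨⟨w.1, w.2.1⟩, fun h => w.2.2 (congrArg Subtype.val h)⟩
          invFun := fun w => ⟨w.1.1, w.1.2, fun h => w.2 (Subtype.ext h)⟩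
          left_inv := fun w => rfl
          right_inv := fun w => rfl }
    rw [h3]
    have := Fintype.ofFinite W
    rw [Nat.card_eq_fintype_card, Nat.card_eq_fintype_card, Fintype.card_subtype_compl,
      Fintype.card_subtype_eq]
  rwa [h2] at h1

/-- `y` of order 3 has no fixed points on `[V, y]`. -/
theorem eq_one_of_mem_range {y : X} (hy : y ^ 3 = 1) {w : V} (hw : w ∈ (D φ y).range)
    (hf : φ y w = w) : w = 1 := by
  obtain ⟨v, rfl⟩ := hw
  have h1 : D φ y (D φ y v) = 1 := by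
    rw [D_apply φ y (D φ y v), hf, hV]
  rw [D_D φ hV, ← MonoidHom.mem_ker, ker_D φ hV] at h1
  have h2 : v ∈ fe φ ((y * y) ^ 2) := fe_pow φ _ 2 h1
  have h3 : (y * y) ^ 2 = y := by
    calc (y * y) ^ 2 = y ^ 3 * y := by rw [← pow_two, ← pow_mul, ← pow_succ]
      _ = y := by rw [hy, one_mul]
  rw [h3, ← ker_D φ hV] at h2
  exact h2

/-- If `y = r³` with `r` of order 9 acts nontrivially then `|V : C_V(y)| ≥ 64`. -/
theorem index_ge_of_order_nine [Finite X] [Finite V] {r : X} (hr : orderOf r = 9)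
    (hne : fe φ (r ^ 3) ≠ ⊤) : 64 ≤ (fe φ (r ^ 3)).index := by
  set y := r ^ 3 with hy
  have hy3 : y ^ 3 = 1 := by rw [hy, ← pow_mul, show 3 * 3 = 9 by norm_num, ← hr, pow_orderOf_eq_one]
  set W := (D φ y).range with hW
  have hcard : Nat.card W = (fe φ y).index := card_range_D φ hV y
  have hinv : ∀ v ∈ W, φ r v ∈ W := by
    rintro _ ⟨v, rfl⟩
    refine ⟨φ r v, ?_⟩
    rw [conj_D φ r y v]
    congr 2
    rw [hy]
    group
  have hdvd : orderOf r ∣ Nat.card W - 1 := by
    refine orderOf_dvd_card_sub_one φ r W hinv fun k hk v hv hfix => ?_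
    -- `y` is a power of `r ^ k`
    have h9 : ¬ (9 : ℤ) ∣ k := by
      intro h
      apply hk
      rw [← orderOf_dvd_iff_zpow_eq_one, hr]
      exact_mod_cast h
    have hpow : ∀ m : ℤ, φ ((r ^ k) ^ m) v = v := by
      intro m
      have h1 : v ∈ fe φ (r ^ k) := hfix
      induction m using Int.induction_on with
      | zero => rw [zpow_zero, map_one, MulAut.one_apply]
      | succ n ih => rw [zpow_add_one, map_mul, MulAut.mul_apply, hfix, ih]
      | pred n ih =>
        rw [zpow_sub_one, map_mul, MulAut.mul_apply]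
        have h2 : v ∈ fe φ (r ^ k)⁻¹ := by rw [fe_inv]; exact h1
        rw [(mem_fe φ).mp h2, ih]
    have h10 : ∃ m : ℤ, (9 : ℤ) ∣ k * m - 3 := by
      have h11 : (k % 9 = 1 ∨ k % 9 = 2 ∨ k % 9 = 3 ∨ k % 9 = 4 ∨ k % 9 = 5 ∨ k % 9 = 6 ∨
          k % 9 = 7 ∨ k % 9 = 8) := by omega
      rcases h11 with h | h | h | h | h | h | h | h
      · exact ⟨3, by omega⟩
      · exact ⟨6, by omega⟩
      · exact ⟨1, by omega⟩
      · exact ⟨3, by omega⟩
      · exact ⟨6, by omega⟩
      · exact ⟨2, by omega⟩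
      · exact ⟨3, by omega⟩
      · exact ⟨6, by omega⟩
    obtain ⟨m, hm⟩ := h10
    have h12 : (r ^ k) ^ m = y := by
      rw [← zpow_mul, hy, ← zpow_natCast r 3, zpow_eq_zpow_iff_modEq, hr]
      exact (Int.modEq_iff_dvd.mpr (by exact_mod_cast hm)).symm
    have h13 := hpow m
    rw [h12] at h13
    exact eq_one_of_mem_range φ hV hy3 hv h13
  rw [hr] at hdvd
  obtain ⟨n, hn⟩ := card_eq_two_pow hV W
  have hn0 : n ≠ 0 := by
    rintro rfl
    rw [hcard, pow_zero] at hn
    exact hne (index_eq_one.mp hn)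
  rw [← hcard, hn]
  rw [hn] at hdvd
  have h6 : 6 ≤ n := by
    by_contra hlt
    have : n = 1 ∨ n = 2 ∨ n = 3 ∨ n = 4 ∨ n = 5 := by omega
    rcases this with rfl | rfl | rfl | rfl | rfl <;> revert hdvd <;> decide
  calc 64 = 2 ^ 6 := by norm_num
    _ ≤ 2 ^ n := Nat.pow_le_pow_right (by norm_num) h6

omit hV in
/-- An element of prime order `p` without fixed points: `p ∣ |V| - 1`. -/
theorem prime_dvd_card_sub_one [Finite X] [Finite V] {p : ℕ} (hp : p.Prime) {x : X}
    (hx : orderOf x = p) (hf : fe φ x = ⊥) : p ∣ Nat.card V - 1 := by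
  have h1 := orderOf_dvd_card_sub_one φ x ⊤ (fun _ _ => mem_top _) (fun k hk v _ hv => by
    have h2 : orderOf (x ^ k) = p := by
      have h3 : orderOf (x ^ k) ∣ p := by
        refine orderOf_dvd_of_pow_eq_one ?_
        rw [← zpow_natCast, ← zpow_mul, mul_comm, zpow_mul, zpow_natCast, ← hx,
          pow_orderOf_eq_one, one_zpow]
      rcases (Nat.dvd_prime hp).mp h3 with h4 | h4
      · exact absurd (orderOf_eq_one_iff.mp h4) hk
      · exact h4
    have h3 : zpowers (x ^ k) = zpowers x := by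
      refine eq_of_le_of_card_ge ?_ ?_
      · rw [zpowers_le]; exact ⟨k, rfl⟩
      · rw [Nat.card_zpowers, Nat.card_zpowers, h2, hx]
    have h4 : x ∈ zpowers (x ^ k) := by rw [h3]; exact mem_zpowers x
    have h5 : v ∈ fe φ x := fe_le_of_mem_zpowers φ h4 hv
    rwa [hf, mem_bot] at h5)
  rwa [hx, card_top] at h1

/-- An element `κ` of order 16 on `V` with `κ ^ 8` acting nontrivially: `|V| ≥ 2 ^ 9`. -/
theorem card_ge_of_pow_sixteen [Finite V] {κ : X} (hκ : κ ^ 16 = 1) (hne : fe φ (κ ^ 8) ≠ ⊤) :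
    2 ^ 9 ≤ Nat.card V := by
  set f : V →* V := D φ κ with hf
  have e2 : ∀ u, f (f u) = D φ (κ ^ 2) u := fun u => by rw [hf, D_D φ hV, ← pow_two]
  have e4 : ∀ u, D φ (κ ^ 2) (D φ (κ ^ 2) u) = D φ (κ ^ 4) u := fun u => by
    rw [D_D φ hV, ← pow_add]
  have e8 : ∀ u, D φ (κ ^ 4) (D φ (κ ^ 4) u) = D φ (κ ^ 8) u := fun u => by
    rw [D_D φ hV, ← pow_add]
  have e16 : ∀ u, D φ (κ ^ 8) (D φ (κ ^ 8) u) = 1 := fun u => by
    rw [D_D φ hV, ← pow_add, hκ, D_apply, map_one, MulAut.one_apply, hV]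
  have hf8 : ∀ u, f^[8] u = D φ (κ ^ 8) u := by
    intro u
    show f (f (f (f (f (f (f (f u))))))) = _
    rw [e2, e2, e2, e2, e4, e4, e8]
  let W : ℕ → Subgroup V := fun k => (fun U : Subgroup V => U.map f)^[k] ⊤
  have hW0 : W 0 = ⊤ := rfl
  have hWs : ∀ k, W (k + 1) = (W k).map f := fun k => Function.iterate_succ_apply' _ _ _
  have hmem : ∀ k u, f^[k] u ∈ W k := by
    intro k
    induction k with
    | zero => intro u; exact mem_top _
    | succ k ih =>
      intro u
      rw [Function.iterate_succ_apply', hWs]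
      exact ⟨_, ih u, rfl⟩
  have hmem' : ∀ k, ∀ v ∈ W k, ∃ u, f^[k] u = v := by
    intro k
    induction k with
    | zero => intro v _; exact ⟨v, rfl⟩
    | succ k ih =>
      intro v hv
      rw [hWs] at hv
      obtain ⟨v', hv', rfl⟩ := hv
      obtain ⟨u, rfl⟩ := ih v' hv'
      exact ⟨u, Function.iterate_succ_apply' _ _ _⟩
  have hanti : ∀ k, W (k + 1) ≤ W k := by
    intro k
    induction k with
    | zero => exact le_top
    | succ k ih =>
      exact (hWs (k + 1)).le.trans ((Subgroup.map_mono ih).trans (hWs k).ge)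
  have hW16 : ∀ k, W (16 + k) = ⊥ := by
    intro k
    rw [eq_bot_iff]
    intro v hv
    obtain ⟨u, rfl⟩ := hmem' _ v hv
    rw [mem_bot, Function.iterate_add_apply, show 16 = 8 + 8 by norm_num,
      Function.iterate_add_apply, hf8, hf8]
    exact e16 _
  have hstrict : ∀ k, W k ≠ ⊥ → W (k + 1) ≠ W k := by
    intro k hk heq
    apply hk
    have h1 : ∀ m, W (k + m) = W k := by
      intro m
      induction m with
      | zero => rfl
      | succ m ih => rw [← add_assoc, hWs, ih, ← hWs, heq]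
    rw [← h1 16, add_comm, hW16]
  have hcard : ∀ k, W k ≠ ⊥ → 2 ^ k * Nat.card (W k) ≤ Nat.card V := by
    intro k
    induction k with
    | zero =>
      intro _
      rw [pow_zero, one_mul]
      exact card_le_card_group _
    | succ k ih =>
      intro hk
      have h1 : W k ≠ ⊥ := by
        intro h2
        apply hk
        rw [eq_bot_iff, ← h2]
        exact hanti k
      have h3 : W (k + 1) < W k := lt_of_le_of_ne (hanti k) (hstrict k h1)
      have h4 := Lib.HallHigman.card_mul_relIndex' h3.le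
      have h5 : (W (k + 1)).relIndex (W k) ≠ 1 := by
        rw [Ne, relIndex_eq_one]
        exact h3.not_ge
      have h6 : (W (k + 1)).relIndex (W k) ≠ 0 := by
        intro h0
        rw [h0, mul_zero] at h4
        exact Nat.card_pos.ne h4
      have h7 := ih h1
      have h8 : Nat.card (W (k + 1)) * 2 ≤ Nat.card (W k) := by
        rw [← h4]
        exact Nat.mul_le_mul_left _ (by omega)
      calc 2 ^ (k + 1) * Nat.card (W (k + 1))
          = 2 ^ k * (Nat.card (W (k + 1)) * 2) := by ring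
        _ ≤ 2 ^ k * Nat.card (W k) := Nat.mul_le_mul_left _ h8
        _ ≤ Nat.card V := h7
  have h8 : W 8 ≠ ⊥ := by
    intro h0
    apply hne
    rw [eq_top_iff]
    intro v _
    rw [← ker_D φ hV, MonoidHom.mem_ker, ← hf8]
    have h1 := hmem 8 v
    rwa [h0, mem_bot] at h1
  have h9 := hcard 8 h8
  have h10 : 2 ≤ Nat.card (W 8) := by
    have := (one_lt_card_iff_ne_bot _).mpr h8
    omega
  calc 2 ^ 9 = 2 ^ 8 * 2 := by norm_num
    _ ≤ 2 ^ 8 * Nat.card (W 8) := Nat.mul_le_mul_left _ h10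
    _ ≤ _ := h9

/-- The 3-elements of an `A₄` in good position have fixed points. -/
theorem fe_ne_bot [Finite V] {x w i j y : X} (hx : Odd (orderOf x)) (hix : i * x * i⁻¹ = x⁻¹)
    (hfx : fe φ x = ⊥) (hw4 : w ^ 4 = i) (hi : i * i = 1) (hj : j * j = 1) (hij : i * j = j * i)
    (hjw : j * w * j⁻¹ = w⁻¹) (hy : y ^ 3 = 1) (h1 : y * i * y⁻¹ = j) (h2 : y * j * y⁻¹ = i * j)
    (hne : fe φ i ≠ ⊤) : fe φ y ≠ ⊥ := by
  intro hfy
  have hrange : ∀ g : X, g * g = 1 → (D φ g).range ≤ fe φ g := by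
    rintro g hg _ ⟨v, rfl⟩
    rw [← ker_D φ hV, MonoidHom.mem_ker, D_D φ hV, hg, D_apply, map_one, MulAut.one_apply, hV]
  have hVi : Nat.card V ≤ (fe φ i).index ^ 2 := by
    have := index_le_of_inverts φ hx hix
    rwa [hfx, index_bot] at this
  have hmul := (fe φ i).card_mul_index
  have hpos : 0 < (fe φ i).index := Nat.pos_of_ne_zero index_ne_zero_of_finite
  have hle : Nat.card (fe φ i) ≤ (fe φ i).index := by
    rw [← hmul, pow_two] at hVi
    exact Nat.le_of_mul_le_mul_right hVi hpos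
  have hri : (D φ i).range = fe φ i :=
    eq_of_le_of_card_ge (hrange i hi) (by rw [card_range_D φ hV]; exact hle)
  have hcj : Nat.card (fe φ j) = Nat.card (fe φ i) := by rw [← h1, card_fe_conj]
  have hindj : (fe φ j).index = (fe φ i).index := by rw [← h1, index_fe_conj]
  have hrj : (D φ j).range = fe φ j :=
    eq_of_le_of_card_ge (hrange j hj) (by rw [card_range_D φ hV, hcj, hindj]; exact hle)
  have hji : fe φ j = fe φ i := by
    rw [← hrj]
    refine eq_of_le_of_card_ge ?_ (by rw [card_range_D φ hV, hindj]; exact hle)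
    rintro _ ⟨u, rfl⟩
    rw [← ker_D φ hV, MonoidHom.mem_ker]
    exact D_D_eq_one φ hV hy hi hj hij h1 h2 hfy u
  -- `w`
  have hwi : w * i * w⁻¹ = i := by rw [← hw4]; group
  have hwj : w * j * w⁻¹ = w ^ 2 * j := by
    have e1 : j * w⁻¹ * j⁻¹ = w := by
      calc j * w⁻¹ * j⁻¹ = (j * w * j⁻¹)⁻¹ := by group
        _ = w := by rw [hjw, inv_inv]
    calc w * j * w⁻¹ = w * (j * w⁻¹ * j⁻¹) * j := by group
      _ = w ^ 2 * j := by rw [e1, pow_two]
  have h3 : fe φ (w ^ 2 * j) = fe φ i := by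
    rw [← hwj, fe_conj, hji, ← fe_conj, hwi]
  have h4 : fe φ (w ^ 2) = fe φ i := by
    apply le_antisymm
    · rw [← hw4, show w ^ 4 = (w ^ 2) ^ 2 by rw [← pow_mul]]
      exact fe_pow φ _ 2
    · have e1 : w ^ 2 = (w ^ 2 * j) * j⁻¹ := by group
      rw [e1]
      refine le_trans (le_inf h3.ge ?_) (fe_mul φ _ _)
      rw [fe_inv, hji]
  apply hne
  rw [eq_top_iff]
  intro v _
  have hgg : ∀ u, D φ (w ^ 2) (D φ (w ^ 2) u) = D φ i u := by
    intro u
    rw [D_D φ hV, ← hw4]
    congr 2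
    rw [← pow_add]
  have hk : ∀ u, D φ i u = 1 ↔ D φ (w ^ 2) u = 1 := by
    intro u
    rw [← MonoidHom.mem_ker, ← MonoidHom.mem_ker, ker_D φ hV, ker_D φ hV, h4]
  have h5 : D φ i (D φ i v) = 1 := by
    rw [D_D φ hV, hi, D_apply, map_one, MulAut.one_apply, hV]
  rw [hk, ← hgg] at h5
  rw [hgg, hk] at h5
  rw [hgg, ← MonoidHom.mem_ker, ker_D φ hV] at h5
  exact h5

end two

end Cfsg.Agent.SmallSimple.S1000.TwoModule
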