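import Mathlib
import Cfsg.Agent.S0144
import Cfsg.Agent.S1001
import Cfsg.Agent.J3.Fix
import Cfsg.Agent.SmallSimple.FixCount
import Cfsg.Agent.SmallSimple.BurnsideNC
import Cfsg.Agent.SmallSimple.Embed
import Cfsg.Agent.SmallSimple.SylowSub

/-!
# Simple groups of order 25920 with a nonsolvable 2-local subgroup: local data
-/

set_option autoImplicit false

namespace Cfsg.Agent.SmallSimple.S1000.Order25920Local

open Subgroup

/-- A group whose order divides `p ^ a * q ^ b` is solvable. -/
theorem solvable_of_dvd {L : Type*} [Group L] [Finite L] {p q a b : ℕ} (hp : p.Prime) (hq : q.Prime)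
    (h : Nat.card L ∣ p ^ a * q ^ b) : Group.IsSolvable L := by
  obtain ⟨y, z, hy, hz, hyz⟩ := (Nat.dvd_mul).1 h
  obtain ⟨i, -, rfl⟩ := (Nat.dvd_prime_pow hp).1 hy
  obtain ⟨j, -, rfl⟩ := (Nat.dvd_prime_pow hq).1 hz
  exact Cfsg.Agent.S0144.result p q i j hp hq hyz.symm

/-- Burnside: if a Sylow `5`-subgroup of a group whose order divides `25920` is central in its
normalizer then the group is solvable. -/
theorem solvable_of_burnside {L : Type*} [Group L] [Finite L] (hF : Fact (Nat.Prime 5))
    (P : Sylow 5 L) (hP : Nat.card P = 5) (hL : Nat.card L ∣ 25920)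
    (hN : normalizer (P : Set L) ≤ centralizer (P : Set L)) : Group.IsSolvable L := by
  have hcomp := MonoidHom.ker_transferSylow_isComplement' P hN
  have h1 := hcomp.card_mul_card
  have hPcomm : ∀ a b : P, a * b = b * a := by
    have hc : IsCyclic P := isCyclic_of_prime_card hP
    intro a b
    exact hc.isMulCommutative.is_comm.comm a b
  have hsP : Group.IsSolvable P := Group.isSolvable_of_comm hPcomm
  have hK : Group.IsSolvable (MonoidHom.transferSylow P hN).ker := by
    apply solvable_of_dvd (p := 2) (q := 3) (a := 6) (b := 4) Nat.prime_two Nat.prime_three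
    have h2 : Nat.card (MonoidHom.transferSylow P hN).ker * 5 ∣ (2 ^ 6 * 3 ^ 4) * 5 := by
      have h3 : Nat.card (MonoidHom.transferSylow P hN).ker * 5 = Nat.card L := by
        rw [← h1, hP]
      rw [h3]
      exact hL.trans (by norm_num)
    exact Nat.dvd_of_mul_dvd_mul_right (by norm_num) h2
  exact Group.isSolvable_of_ker_le_range (MonoidHom.transferSylow P hN).ker.subtype
    (MonoidHom.transferSylow P hN) (by rw [Subgroup.range_subtype])

variable {G : Type*} [Group G] [Finite G]

theorem self_cent [IsSimpleGroup G] (hG : Nat.card G = 25920) {x : G} (hx : orderOf x = 5) :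
    centralizer ({x} : Set G) = zpowers x :=
  Cfsg.Agent.S1001.result 5 4 6 (by norm_num) (by rw [hG]; norm_num) x hx

theorem not_comm [IsSimpleGroup G] (hG : Nat.card G = 25920) : ¬ IsMulCommutative G := by
  apply Embed.not_comm_of_card_not_prime
  rw [hG]
  norm_num

/-- A subgroup of order prime to 5 normalized by an element of order 5 has order `≡ 1 mod 5`. -/
theorem card_mod_five [IsSimpleGroup G] (hG : Nat.card G = 25920) {x : G} (hx : orderOf x = 5)
    (H : Subgroup G) (hn : ∀ q ∈ H, x * q * x⁻¹ ∈ H) (h5 : ¬ 5 ∣ Nat.card H) :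
    Nat.card H % 5 = 1 := by
  have h1 := Cfsg.Agent.J3.Fix.card_subgroup_modEq (p := 5) (by norm_num) H x
    (by rw [← hx]; exact pow_orderOf_eq_one x) hn
  have h2 : H ⊓ centralizer ({x} : Set G) = ⊥ := by
    rw [self_cent hG hx]
    apply Subgroup.inf_eq_bot_of_coprime
    rw [Nat.card_zpowers, hx]
    exact ((Nat.Prime.coprime_iff_not_dvd (by norm_num)).2 h5).symm
  rw [h2, Subgroup.card_bot] at h1
  exact h1

/-- A `2`-subgroup normalized by an element of order `5` is trivial or of order `16`. -/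
theorem card_two_group [IsSimpleGroup G] (hG : Nat.card G = 25920) {x : G} (hx : orderOf x = 5)
    (H : Subgroup G) (hn : ∀ q ∈ H, x * q * x⁻¹ ∈ H) (h2 : IsPGroup 2 H) :
    Nat.card H = 1 ∨ Nat.card H = 16 := by
  obtain ⟨k, hk⟩ := IsPGroup.iff_card.1 h2
  have hd : 2 ^ k ∣ 2 ^ 6 * 405 := by
    have := H.card_subgroup_dvd_card
    rw [hk, hG] at this
    exact this.trans (by norm_num)
  have hk6 : k ≤ 6 := by
    have h3 : 2 ^ k ∣ 2 ^ 6 := Nat.Coprime.dvd_of_dvd_mul_right
      (Nat.Coprime.pow_left k (by norm_num)) hd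
    exact (Nat.pow_dvd_pow_iff_le_right (by norm_num)).1 h3
  have h5 : ¬ 5 ∣ Nat.card H := by
    rw [hk]
    intro h
    have := (Nat.prime_dvd_prime_iff_eq (by norm_num) Nat.prime_two).1
      (Nat.Prime.dvd_of_dvd_pow (by norm_num) h)
    omega
  have h1 := card_mod_five hG hx H hn h5
  rw [hk] at h1 ⊢
  interval_cases k <;> simp_all

/-- The numbers attached to a subgroup `L` containing a Sylow `5`-subgroup. -/
theorem sylow_data [IsSimpleGroup G] (hG : Nat.card G = 25920) {x : G} (hx : orderOf x = 5)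
    (L : Subgroup G) (hxL : x ∈ L) :
    ∃ n s : ℕ, Nat.card (normalizer (zpowers x : Set G) ⊓ L : Subgroup G) = n ∧
      n * s = Nat.card L ∧ s % 5 = 1 ∧ (n = 5 ∨ n = 10 ∨ n = 20) ∧
      (n = 5 → Group.IsSolvable L) := by
  have hF : Fact (Nat.Prime 5) := ⟨by norm_num⟩
  obtain ⟨S⟩ : Nonempty (Sylow 5 G) := inferInstance
  have hS : Nat.card S = 5 := by
    have := SylowSub.card_sylow_eq (k := 1) (m := 5184) (by rw [hG]; norm_num) (by norm_num) S
    simpa using this
  obtain ⟨P, hP⟩ := SylowSub.exists_sylow_eq (zpowers x) S (by rw [Nat.card_zpowers, hx, hS])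
  have hPc : Nat.card P = 5 := by
    have : Nat.card (P : Subgroup G) = 5 := by rw [hP, Nat.card_zpowers, hx]
    exact this
  have hPL : (P : Subgroup G) ≤ L := by
    rw [hP]
    exact (Subgroup.zpowers_le).2 hxL
  have hcent : centralizer ((P : Subgroup G) : Set G) = P := by
    rw [hP, ← self_cent hG hx]
    rw [self_cent hG hx]
    have h1 : centralizer ((zpowers x : Subgroup G) : Set G) = centralizer ({x} : Set G) := by
      rw [Subgroup.zpowers_eq_closure, Subgroup.centralizer_closure]
    rw [h1, self_cent hG hx]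
  -- the order of the normalizer
  have hN : Nat.card (normalizer ((P : Subgroup G) : Set G)) ∣ 20 := by
    have h1 := BurnsideNC.card_normalizer_eq (P : Subgroup G)
    have h2 : (centralizer ((P : Subgroup G) : Set G)).relIndex
        (normalizer ((P : Subgroup G) : Set G)) ∣ 5 - 1 :=
      BurnsideNC.relIndex_dvd_of_card_eq_prime P hPc
    rw [hcent] at h1 h2
    rw [h1]
    have h3 : Nat.card (P : Subgroup G) = 5 := hPc
    rw [h3]
    exact Nat.mul_dvd_mul (Nat.dvd_refl 5) h2
  have hNL : Nat.card (normalizer ((P : Subgroup G) : Set G) ⊓ L : Subgroup G) ∣ 20 :=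
    (Subgroup.card_dvd_of_le inf_le_left).trans hN
  have h5 : 5 ∣ Nat.card (normalizer ((P : Subgroup G) : Set G) ⊓ L : Subgroup G) := by
    have := Subgroup.card_dvd_of_le (H := (P : Subgroup G))
      (K := normalizer ((P : Subgroup G) : Set G) ⊓ L) (le_inf Subgroup.le_normalizer hPL)
    rwa [show Nat.card (P : Subgroup G) = 5 from hPc] at this
  refine ⟨_, Nat.card (Sylow 5 L), rfl, ?_, ?_, ?_, ?_⟩
  · rw [SylowSub.card_sylow_eq_relIndex P L hPL, ← hP]
    exact SylowSub.card_inf_mul_relIndex _ _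
  · exact card_sylow_modEq_one 5 L
  · rw [← hP]
    obtain ⟨c, hc⟩ := h5
    rw [hc] at hNL ⊢
    have h4 : c ∣ 4 := Nat.dvd_of_mul_dvd_mul_left (by norm_num) (show 5 * c ∣ 5 * 4 from hNL)
    have h6 := Nat.le_of_dvd (by norm_num) h4
    interval_cases c <;> simp_all
  · intro h
    rw [← hP] at h
    have hle : normalizer ((P : Subgroup G) : Set G) ⊓ L = P := by
      symm
      apply Subgroup.eq_of_le_of_card_ge (le_inf Subgroup.le_normalizer hPL)
      rw [h]
      exact hPc.ge
    have hcardP' : Nat.card (P.subtype hPL) = 5 := by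
      have : Nat.card ((P : Subgroup G).subgroupOf L) = 5 := by
        rw [Nat.card_congr (Subgroup.subgroupOfEquivOfLe hPL).toEquiv]
        exact hPc
      exact this
    apply solvable_of_burnside hF (P.subtype hPL) hcardP'
    · rw [← hG]
      exact L.card_subgroup_dvd_card
    · intro g hg
      have hg1 : g ∈ (normalizer ((P : Subgroup G) : Set G)).subgroupOf L := by
        have h1 := Subgroup.subgroupOf_normalizer_eq hPL
        rw [h1]
        exact hg
      have hg2 : (g : G) ∈ (P : Subgroup G) := by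
        rw [← hle]
        exact ⟨hg1, g.2⟩
      rw [Subgroup.mem_centralizer_iff]
      intro y hy
      have hy2 : (y : G) ∈ (P : Subgroup G) := hy
      rw [← hcent] at hg2
      rw [Subgroup.mem_centralizer_iff] at hg2
      exact Subtype.ext (hg2 _ hy2)

/-- Two elements of order `5` generate conjugate subgroups when `25` does not divide the order. -/
theorem conj_into {L : Type*} [Group L] [Finite L] (h25 : ¬ 25 ∣ Nat.card L) {x y : L}
    (hx : orderOf x = 5) (hy : orderOf y = 5) : ∃ m : L, m * x * m⁻¹ ∈ zpowers y := by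
  have hF : Fact (Nat.Prime 5) := ⟨by norm_num⟩
  have key : ∀ z : L, orderOf z = 5 → ∃ S : Sylow 5 L, (S : Subgroup L) = zpowers z := by
    intro z hz
    have h1 : IsPGroup 5 (zpowers z) := IsPGroup.of_card (n := 1) (by rw [Nat.card_zpowers, hz, pow_one])
    obtain ⟨S, hS⟩ := h1.exists_le_sylow
    refine ⟨S, (Subgroup.eq_of_le_of_card_ge hS ?_).symm⟩
    rw [Nat.card_zpowers, hz]
    obtain ⟨k, hk⟩ := IsPGroup.iff_card.1 S.isPGroup'
    have hk1 : k < 2 := by
      by_contra hlt
      apply h25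
      have h2 : 5 ^ 2 ∣ 5 ^ k := Nat.pow_dvd_pow 5 (by omega)
      have h3 := (S : Subgroup L).card_subgroup_dvd_card
      rw [hk] at h3
      exact (by simpa using h2.trans h3)
    have : 5 ^ k ≤ 5 ^ 1 := Nat.pow_le_pow_right (by norm_num) (by omega)
    rw [hk]
    simpa using this
  obtain ⟨S, hS⟩ := key x hx
  obtain ⟨T, hT⟩ := key y hy
  obtain ⟨m, hm⟩ := MulAction.exists_smul_eq L S T
  refine ⟨m, ?_⟩
  rw [← hT, ← hm]
  show m * x * m⁻¹ ∈ ((m • S : Sylow 5 L) : Subgroup L)
  rw [Sylow.coe_subgroup_smul, Subgroup.mem_pointwise_smul_iff_inv_smul_mem]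
  have h1 : (MulAut.conj m)⁻¹ • (m * x * m⁻¹) = x := by
    rw [← map_inv, MulAut.smul_def, MulAut.conj_apply]
    group
  rw [h1, hS]
  exact Subgroup.mem_zpowers x

/-- The subgroup of central elements of exponent `2` of `Q`. -/
def omegaCenter (Q : Subgroup G) : Subgroup G where
  carrier := {q | q ∈ Q ∧ (∀ r ∈ Q, q * r = r * q) ∧ q * q = 1}
  one_mem' := ⟨Q.one_mem, fun r _ => by rw [one_mul, mul_one], by rw [one_mul]⟩
  mul_mem' := by
    rintro a b ⟨ha, ha1, ha2⟩ ⟨hb, hb1, hb2⟩
    refine ⟨Q.mul_mem ha hb, fun r hr => ?_, ?_⟩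
    · rw [mul_assoc, hb1 r hr, ← mul_assoc, ha1 r hr, mul_assoc]
    · calc a * b * (a * b) = a * (b * a) * b := by group
        _ = a * (a * b) * b := by rw [hb1 a ha]
        _ = (a * a) * (b * b) := by group
        _ = 1 := by rw [ha2, hb2, one_mul]
  inv_mem' := by
    rintro a ⟨ha, ha1, ha2⟩
    have h : a⁻¹ = a := (eq_inv_of_mul_eq_one_left ha2).symm
    simp only [h]
    exact ⟨ha, ha1, ha2⟩

theorem mem_omegaCenter {Q : Subgroup G} {q : G} :
    q ∈ omegaCenter Q ↔ q ∈ Q ∧ (∀ r ∈ Q, q * r = r * q) ∧ q * q = 1 := Iff.rfl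

theorem elementary [IsSimpleGroup G] (hG : Nat.card G = 25920) {x : G} (hx : orderOf x = 5)
    (Q : Subgroup G) (hn : ∀ q, q ∈ Q ↔ x * q * x⁻¹ ∈ Q) (h16 : Nat.card Q = 16) :
    ∀ q ∈ Q, (∀ r ∈ Q, q * r = r * q) ∧ q * q = 1 := by
  have hF : Fact (Nat.Prime 2) := ⟨Nat.prime_two⟩
  have hQ2 : IsPGroup 2 Q := IsPGroup.of_card (n := 4) (by rw [h16]; norm_num)
  have hle : omegaCenter Q ≤ Q := fun q hq => hq.1
  have hE2 : IsPGroup 2 (omegaCenter Q) := hQ2.to_le hle
  have hEx : ∀ q ∈ omegaCenter Q, x * q * x⁻¹ ∈ omegaCenter Q := by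
    rintro q ⟨hq, hq1, hq2⟩
    refine ⟨(hn q).1 hq, fun r hr => ?_, ?_⟩
    · have hr' : x⁻¹ * r * x ∈ Q := by
        rw [hn]
        have : x * (x⁻¹ * r * x) * x⁻¹ = r := by group
        rwa [this]
      have h1 := hq1 _ hr'
      calc x * q * x⁻¹ * r = x * (q * (x⁻¹ * r * x)) * x⁻¹ := by group
        _ = x * (x⁻¹ * r * x * q) * x⁻¹ := by rw [h1]
        _ = r * (x * q * x⁻¹) := by group
    · calc x * q * x⁻¹ * (x * q * x⁻¹) = x * (q * q) * x⁻¹ := by group
        _ = 1 := by rw [hq2]; group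
  have hEne : Nat.card (omegaCenter Q) ≠ 1 := by
    intro h1
    have hQnt : Nontrivial Q := by
      rw [← Finite.one_lt_card_iff_nontrivial, h16]
      norm_num
    have hZ := hQ2.center_nontrivial
    have hZ2 : IsPGroup 2 (center Q) := hQ2.to_subgroup _
    have hdvd : 2 ∣ Nat.card (center Q) := by
      rcases hZ2.card_eq_or_dvd with h | h
      · have := (Finite.one_lt_card_iff_nontrivial (α := center Q)).2 hZ
        omega
      · exact h
    obtain ⟨z, hz⟩ := exists_prime_orderOf_dvd_card' 2 hdvd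
    have hz2 : z * z = 1 := by
      rw [← pow_two, ← hz]
      exact pow_orderOf_eq_one z
    have hz1 : z ≠ 1 := by
      rintro rfl
      rw [orderOf_one] at hz
      omega
    have hmem : ((z : Q) : G) ∈ omegaCenter Q := by
      refine ⟨(z : Q).2, fun r hr => ?_, ?_⟩
      · have := (Subgroup.mem_center_iff.1 z.2) ⟨r, hr⟩
        exact (congrArg Subtype.val this).symm
      · have := congrArg (fun t : center Q => ((t : Q) : G)) hz2
        exact this
    rw [Subgroup.card_eq_one] at h1
    rw [h1, Subgroup.mem_bot] at hmem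
    exact hz1 (Subtype.ext (Subtype.ext hmem))
  have hE16 := (card_two_group hG hx _ hEx hE2).resolve_left hEne
  have heq : omegaCenter Q = Q := Subgroup.eq_of_le_of_card_ge hle (by rw [hE16, h16])
  intro q hq
  rw [← heq] at hq
  exact hq.2

theorem index_eq {L : Subgroup G} (hG : Nat.card G = 25920) {a b : ℕ} (hL : Nat.card L = a)
    (hab : a * b = 25920) (ha : 0 < a) : L.index = b := by
  have := L.card_mul_index
  rw [hG, hL, ← hab] at this
  exact Nat.eq_of_mul_eq_mul_left ha this

/-- The local structure. -/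
theorem local_structure [IsSimpleGroup G] (hG : Nat.card G = 25920) (Q : Subgroup G)
    (hQ2 : IsPGroup 2 Q) (hne : Q ≠ ⊥) (hns : ¬ Group.IsSolvable (normalizer (Q : Set G))) :
    ∃ x : G, orderOf x = 5 ∧ x ∈ normalizer (Q : Set G) ∧ Nat.card Q = 16 ∧
      (∀ q ∈ Q, (∀ r ∈ Q, q * r = r * q) ∧ q * q = 1) ∧
      Nat.card (normalizer (Q : Set G)) = 960 ∧
      Nat.card (MulAction.fixedBy (G ⧸ normalizer (Q : Set G)) x) = 2 := by
  have hF5 : Fact (Nat.Prime 5) := ⟨by norm_num⟩
  have hnc := not_comm hG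
  set M := normalizer (Q : Set G) with hM
  have hMdvd : Nat.card M ∣ 25920 := hG ▸ M.card_subgroup_dvd_card
  have h5 : 5 ∣ Nat.card M := by
    by_contra h5
    apply hns
    apply solvable_of_dvd (p := 2) (q := 3) (a := 6) (b := 4) Nat.prime_two Nat.prime_three
    have h1 : Nat.card M ∣ 5 * 5184 := hMdvd
    have h2 : Nat.card M ∣ 5184 := by
      apply Nat.Coprime.dvd_of_dvd_mul_left _ h1
      exact ((Nat.Prime.coprime_iff_not_dvd (by norm_num)).2 h5).symm
    exact h2.trans (by norm_num)
  obtain ⟨x', hx'⟩ := exists_prime_orderOf_dvd_card' 5 h5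
  obtain ⟨x, hxM⟩ := x'
  have hx : orderOf x = 5 := by
    rw [← hx']
    exact (Subgroup.orderOf_mk x hxM).symm
  have hxn : ∀ q, q ∈ Q ↔ x * q * x⁻¹ ∈ Q := fun q => Subgroup.mem_normalizer_iff.1 hxM q
  have hQ16 : Nat.card Q = 16 :=
    (card_two_group hG hx Q (fun q hq => (hxn q).1 hq) hQ2).resolve_left
      (fun h => hne (Subgroup.card_eq_one.1 h))
  have hQM : Q ≤ M := Subgroup.le_normalizer
  have hMne : M ≠ ⊤ := by
    intro h
    have hN : Q.Normal := Subgroup.normalizer_eq_top_iff.1 h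
    rcases hN.eq_bot_or_eq_top with h1 | h1
    · exact hne h1
    · rw [h1, Subgroup.card_top, hG] at hQ16
      omega
  have hMfac := Embed.two_mul_card_dvd_factorial_index hnc M hMne
  rw [hG] at hMfac
  -- solvable quotient
  have hsolv : ∀ c : ℕ, c ∣ 3 ^ 3 * 5 ^ 1 → Nat.card M = 16 * c → False := by
    intro c hc hMc
    apply hns
    have hQn : (Q.subgroupOf M).Normal := Subgroup.normal_in_normalizer
    rw [Group.isSolvable_iff_subgroup_quotient (Q.subgroupOf M)]
    have hcQ : Nat.card (Q.subgroupOf M) = 16 := by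
      rw [Nat.card_congr (Subgroup.subgroupOfEquivOfLe hQM).toEquiv, hQ16]
    constructor
    · apply solvable_of_dvd (p := 2) (q := 3) (a := 4) (b := 0) Nat.prime_two Nat.prime_three
      rw [hcQ]
      norm_num
    · apply solvable_of_dvd (p := 3) (q := 5) (a := 3) (b := 1) Nat.prime_three (by norm_num)
      have h1 := Subgroup.card_eq_card_quotient_mul_card_subgroup (Q.subgroupOf M)
      rw [hcQ, hMc, mul_comm] at h1
      have h2 : c = Nat.card (M ⧸ Q.subgroupOf M) := Nat.eq_of_mul_eq_mul_right (by norm_num) h1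
      rw [← h2]
      exact hc
  obtain ⟨n, s, hn1, hn2, hn3, hn4, hn5⟩ := sylow_data hG hx M hxM
  have h16 : 16 ∣ Nat.card M := by
    have := Subgroup.card_dvd_of_le hQM
    rwa [hQ16] at this
  have hM960 : Nat.card M = 960 ∧ n = 10 := by
    rcases hn4 with h | h | h
    · exact absurd (hn5 h) hns
    · subst h
      obtain ⟨t, ht⟩ : 8 ∣ s := by omega
      subst ht
      have ht324 : t ∣ 324 := by
        have h1 : 80 * t ∣ 80 * 324 := by
          have : 80 * t = Nat.card M := by rw [← hn2]; ring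
          rw [this]
          exact hMdvd
        exact Nat.dvd_of_mul_dvd_mul_left (by norm_num) h1
      have ht2 : t ∈ Nat.divisors 324 := Nat.mem_divisors.2 ⟨ht324, by norm_num⟩
      simp only [Nat.divisors_ofNat, Finset.mem_insert, Finset.mem_singleton] at ht2
      have ht3 : t = 2 ∨ t = 12 ∨ t = 27 ∨ t = 162 := by omega
      rcases ht3 with rfl | rfl | rfl | rfl
      · exfalso
        apply hns
        apply solvable_of_dvd (p := 2) (q := 5) (a := 5) (b := 1) Nat.prime_two (by norm_num)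
        rw [← hn2]
        norm_num
      · exact ⟨hn2.symm, rfl⟩
      · exact (hsolv 135 (by norm_num) hn2.symm).elim
      · exfalso
        have h1 : M.index = 2 := index_eq hG hn2.symm (by norm_num) (by norm_num)
        rw [h1] at hMfac
        exact absurd (Nat.le_of_dvd (Nat.factorial_pos _) hMfac) (by decide)
    · subst h
      obtain ⟨t, ht⟩ : 4 ∣ s := by omega
      subst ht
      have ht324 : t ∣ 324 := by
        have h1 : 80 * t ∣ 80 * 324 := by
          have : 80 * t = Nat.card M := by rw [← hn2]; ring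
          rw [this]
          exact hMdvd
        exact Nat.dvd_of_mul_dvd_mul_left (by norm_num) h1
      have ht2 : t ∈ Nat.divisors 324 := Nat.mem_divisors.2 ⟨ht324, by norm_num⟩
      simp only [Nat.divisors_ofNat, Finset.mem_insert, Finset.mem_singleton] at ht2
      have ht3 : t = 4 ∨ t = 9 ∨ t = 54 ∨ t = 324 := by omega
      exfalso
      rcases ht3 with rfl | rfl | rfl | rfl
      · apply hns
        apply solvable_of_dvd (p := 2) (q := 5) (a := 6) (b := 1) Nat.prime_two (by norm_num)
        rw [← hn2]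
        norm_num
      · exact hsolv 45 (by norm_num) hn2.symm
      · have h1 : M.index = 6 := index_eq hG hn2.symm (by norm_num) (by norm_num)
        rw [h1] at hMfac
        exact absurd (Nat.le_of_dvd (Nat.factorial_pos _) hMfac) (by decide)
      · have h1 : M.index = 1 := index_eq hG hn2.symm (by norm_num) (by norm_num)
        exact hMne (Subgroup.index_eq_one.1 h1)
  obtain ⟨hMc, rfl⟩ := hM960
  -- the normalizer in `G`
  obtain ⟨n', s', hn1', hn2', hn3', hn4', -⟩ := sylow_data hG hx ⊤ (Subgroup.mem_top x)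
  rw [inf_top_eq] at hn1'
  rw [Subgroup.card_top, hG] at hn2'
  have hN20 : Nat.card (normalizer (zpowers x : Set G)) = 20 := by
    rw [hn1']
    rcases hn4' with rfl | rfl | rfl
    · omega
    · omega
    · rfl
  refine ⟨x, hx, hxM, hQ16, elementary hG hx Q hxn hQ16, hMc, ?_⟩
  -- the fixed points
  set N := normalizer (zpowers x : Set G) with hN
  have h25 : ¬ 25 ∣ Nat.card M := by
    rw [hMc]
    norm_num
  have horb : MulAction.orbit N ((1 : G) : G ⧸ M) = MulAction.fixedBy (G ⧸ M) x := by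
    ext a
    constructor
    · rintro ⟨⟨g, hg⟩, rfl⟩
      show (QuotientGroup.mk (g * 1) : G ⧸ M) ∈ MulAction.fixedBy (G ⧸ M) x
      rw [FixCount.mk_mem_fixedBy_iff, mul_one]
      have h1 : g⁻¹ * x * g ∈ zpowers x := by
        have h2 := (Subgroup.mem_normalizer_iff.1 (inv_mem hg) x).1 (Subgroup.mem_zpowers x)
        rwa [inv_inv] at h2
      exact (Subgroup.zpowers_le.2 hxM) h1
    · obtain ⟨g, rfl⟩ := QuotientGroup.mk_surjective a
      intro hg
      rw [FixCount.mk_mem_fixedBy_iff] at hg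
      have hy : orderOf (g⁻¹ * x * g) = 5 := by
        have : g⁻¹ * x * g = MulAut.conj g⁻¹ x := by rw [MulAut.conj_apply, inv_inv]
        rw [this, MulEquiv.orderOf_eq, hx]
      obtain ⟨m, hm⟩ := conj_into (L := M) h25 (x := ⟨x, hxM⟩) (y := ⟨_, hg⟩)
        (by rw [Subgroup.orderOf_mk, hx]) (by rw [Subgroup.orderOf_mk, hy])
      obtain ⟨k, hk⟩ := Subgroup.mem_zpowers_iff.1 hm
      have hk' : (g⁻¹ * x * g) ^ k = (m : G) * x * (m : G)⁻¹ := congrArg Subtype.val hk
      have hk2 : (g * m) * x * (g * m)⁻¹ = x ^ k := by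
        have h3 : (g⁻¹ * x * g) ^ k = g⁻¹ * x ^ k * g := by
          have h4 := conj_zpow (i := k) (a := g⁻¹) (b := x)
          rw [inv_inv] at h4
          exact h4
        calc (g * m) * x * (g * m)⁻¹ = g * ((m : G) * x * (m : G)⁻¹) * g⁻¹ := by group
          _ = g * (g⁻¹ * x ^ k * g) * g⁻¹ := by rw [← hk', h3]
          _ = x ^ k := by group
      have hgm : g * m ∈ N := by
        rw [hN]
        apply mem_normalizer_fintype
        intro y hy
        obtain ⟨j, rfl⟩ := Subgroup.mem_zpowers_iff.1 hy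
        rw [← conj_zpow, hk2]
        exact Subgroup.zpow_mem _ (Subgroup.zpow_mem _ (Subgroup.mem_zpowers x) k) j
      refine ⟨⟨g * m, hgm⟩, ?_⟩
      show (QuotientGroup.mk (g * m * 1) : G ⧸ M) = QuotientGroup.mk g
      rw [mul_one, QuotientGroup.eq]
      have : (g * (m : G))⁻¹ * g = (m : G)⁻¹ := by group
      rw [this]
      exact M.inv_mem m.2
  have hst : (MulAction.stabilizer N ((1 : G) : G ⧸ M)) = M.subgroupOf N := by
    ext ⟨g, hg⟩
    rw [MulAction.mem_stabilizer_iff, Subgroup.mem_subgroupOf]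
    show (QuotientGroup.mk (g * 1) : G ⧸ M) = QuotientGroup.mk 1 ↔ g ∈ M
    rw [mul_one, eq_comm, QuotientGroup.eq, inv_one, one_mul]
  have hidx := MulAction.index_stabilizer N ((1 : G) : G ⧸ M)
  rw [hst, horb] at hidx
  have h3 := SylowSub.card_inf_mul_relIndex M N
  rw [inf_comm, hn1, hN20, Subgroup.relIndex, hidx] at h3
  have h4 : (MulAction.fixedBy (G ⧸ M) x).ncard = 2 := by omega
  exact h4

end Cfsg.Agent.SmallSimple.S1000.Order25920Local
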