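import Mathlib
import Cfsg.Prelude.Def_Classical
import Cfsg.Agent.Lib.FieldThree
import Cfsg.Agent.LieClassical.SympCenter
import Cfsg.Agent.Classification.CoprimeTriple
import Cfsg.Agent.SmallSimple.S1000.Order25920Local

/-!
# A nonsolvable `2`-local subgroup of `PSp 2 F3`
-/

set_option autoImplicit false

namespace Cfsg.Agent.SmallSimple.S1000.Order25920PSp

open Matrix
open Cfsg.Agent.Lib.FieldThree (F3)

/-- Matrices. -/
abbrev Mat := Matrix (Fin 2 ⊕ Fin 2) (Fin 2 ⊕ Fin 2) F3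

/-- The symplectic group. -/
abbrev Sp := Matrix.symplecticGroup (Fin 2) F3

/-- Numbering of the basis. -/
def code : Fin 2 ⊕ Fin 2 → Fin 4
  | .inl i => ![0, 1] i
  | .inr i => ![2, 3] i

/-- The matrix of a table. -/
def mat (t : Fin 4 → Fin 4 → F3) : Mat := Matrix.of fun i j => t (code i) (code j)

/-- First generator. -/
def m1 : Sp := ⟨mat ![![.o, .o, .m, .o], ![.o, .o, .o, .m], ![.i, .o, .o, .o], ![.o, .i, .o, .o]],
  by rw [SymplecticGroup.mem_iff]; decide +kernel⟩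

/-- Second generator. -/
def m2 : Sp := ⟨mat ![![.i, .o, .i, .o], ![.o, .i, .o, .i], ![.i, .o, .m, .o], ![.o, .i, .o, .m]],
  by rw [SymplecticGroup.mem_iff]; decide +kernel⟩

/-- Third generator. -/
def m3 : Sp := ⟨mat ![![.i, .o, .o, .o], ![.o, .m, .o, .o], ![.o, .o, .i, .o], ![.o, .o, .o, .m]],
  by rw [SymplecticGroup.mem_iff]; decide +kernel⟩

/-- Fourth generator. -/
def m4 : Sp := ⟨mat ![![.o, .i, .o, .o], ![.i, .o, .o, .o], ![.o, .o, .o, .i], ![.o, .o, .i, .o]],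
  by rw [SymplecticGroup.mem_iff]; decide +kernel⟩

/-- An element of order two. -/
def ga : Sp := ⟨mat ![![.o, .o, .m, .m], ![.o, .o, .m, .i], ![.m, .m, .o, .o], ![.m, .i, .o, .o]],
  by rw [SymplecticGroup.mem_iff]; decide +kernel⟩

/-- An element of order three. -/
def gb : Sp := ⟨mat ![![.m, .o, .i, .o], ![.o, .i, .o, .i], ![.m, .o, .o, .o], ![.o, .o, .o, .i]],
  by rw [SymplecticGroup.mem_iff]; decide +kernel⟩

/-- The projection. -/
def π (x : Sp) : Cfsg.PSp 2 F3 := QuotientGroup.mk x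

theorem π_mul (x y : Sp) : π (x * y) = π x * π y := rfl

theorem π_one : π 1 = 1 := rfl

theorem π_eq {x y : Sp} (h : (x : Mat) = (y : Mat) ∨ (x : Mat) = -(y : Mat)) : π x = π y := by
  rcases h with h | h
  · rw [Subtype.ext h]
  · unfold π
    rw [QuotientGroup.eq, Cfsg.Agent.LieClassical.SympCenter.mem_center_iff]
    refine ⟨-1, ?_⟩
    have h2 : y = x * ⟨(-1 : F3) • (1 : Mat),
        Cfsg.Agent.LieClassical.SympCenter.smul_one_mem 2 (by rfl)⟩ := by
      apply Subtype.ext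
      show (y : Mat) = (x : Mat) * ((-1 : F3) • (1 : Mat))
      rw [h, Matrix.mul_smul, Matrix.mul_one, neg_smul, one_smul, neg_neg]
    rw [h2, ← mul_assoc, inv_mul_cancel, one_mul]

theorem π_ne_one {x : Sp} (h : ∀ a : F3, (x : Mat) ≠ a • 1) : π x ≠ 1 := by
  intro h1
  have h2 : x ∈ Subgroup.center Sp := (QuotientGroup.eq_one_iff x).1 h1
  rw [Cfsg.Agent.LieClassical.SympCenter.mem_center_iff] at h2
  obtain ⟨a, ha⟩ := h2
  exact h a ha

/-- The generators as a set. -/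
def gens : Set (Cfsg.PSp 2 F3) := {π m1, π m2, π m3, π m4}

/-- The subgroup of order `16`. -/
def Q0 : Subgroup (Cfsg.PSp 2 F3) := Subgroup.closure gens

theorem gens_comm : ∀ x ∈ gens, ∀ y ∈ gens, x * y = y * x := by
  rintro x (rfl | rfl | rfl | rfl) y (rfl | rfl | rfl | rfl) <;> simp only [← π_mul] <;>
    exact π_eq (by decide +kernel)

theorem gens_sq : ∀ x ∈ gens, x * x = 1 := by
  rintro x (rfl | rfl | rfl | rfl) <;>
    (rw [← π_mul, ← π_one]; exact π_eq (by decide +kernel))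

theorem m1_mem : π m1 ∈ Q0 := Subgroup.subset_closure (Or.inl rfl)
theorem m2_mem : π m2 ∈ Q0 := Subgroup.subset_closure (Or.inr (Or.inl rfl))
theorem m3_mem : π m3 ∈ Q0 := Subgroup.subset_closure (Or.inr (Or.inr (Or.inl rfl)))
theorem m4_mem : π m4 ∈ Q0 := Subgroup.subset_closure (Or.inr (Or.inr (Or.inr rfl)))

theorem Q0_comm_gens : ∀ x ∈ gens, ∀ r ∈ Q0, x * r = r * x := by
  intro x hx r hr
  have h1 : Q0 ≤ Subgroup.centralizer {x} := by
    rw [Q0, Subgroup.closure_le]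
    intro y hy
    show y ∈ Subgroup.centralizer {x}
    rw [Subgroup.mem_centralizer_singleton_iff]
    exact gens_comm y hy x hx
  have h2 := h1 hr
  rw [Subgroup.mem_centralizer_singleton_iff] at h2
  exact h2.symm

theorem Q0_sq : ∀ q ∈ Q0, q * q = 1 := by
  have h1 : Q0 ≤ Order25920Local.omegaCenter Q0 := by
    conv_lhs => rw [Q0]
    rw [Subgroup.closure_le]
    intro x hx
    exact ⟨Subgroup.subset_closure hx, Q0_comm_gens x hx, gens_sq x hx⟩
  intro q hq
  exact (h1 hq).2.2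

theorem Q0_two : IsPGroup 2 Q0 := by
  rintro ⟨q, hq⟩
  refine ⟨1, Subtype.ext ?_⟩
  show q ^ (2 ^ 1) = 1
  rw [pow_one, pow_two]
  exact Q0_sq q hq

theorem Q0_ne_bot : Q0 ≠ ⊥ := by
  intro h
  have h1 := m3_mem
  rw [h, Subgroup.mem_bot] at h1
  exact π_ne_one (x := m3) (by decide +kernel) h1

/-- A criterion for membership in the normalizer. -/
theorem mem_normalizer {g : Cfsg.PSp 2 F3} (h : ∀ x ∈ gens, ∃ y ∈ Q0, g * x = y * g) :
    g ∈ Subgroup.normalizer (Q0 : Set (Cfsg.PSp 2 F3)) := by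
  have : Finite (Cfsg.PSp 2 F3) := inferInstance
  apply Subgroup.mem_normalizer_fintype
  have h1 : Q0 ≤ Q0.comap (MulAut.conj g).toMonoidHom := by
    conv_lhs => rw [Q0]
    rw [Subgroup.closure_le]
    intro x hx
    obtain ⟨y, hy, hxy⟩ := h x hx
    show g * x * g⁻¹ ∈ Q0
    rw [hxy, mul_assoc, mul_inv_cancel, mul_one]
    exact hy
  intro n hn
  exact h1 hn

theorem ga_mem : π ga ∈ Subgroup.normalizer (Q0 : Set (Cfsg.PSp 2 F3)) := by
  apply mem_normalizer
  rintro x (rfl | rfl | rfl | rfl)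
  · refine ⟨π m1, m1_mem, ?_⟩
    rw [← π_mul, ← π_mul]
    exact π_eq (by decide +kernel)
  · refine ⟨π m1 * π m2, Q0.mul_mem m1_mem m2_mem, ?_⟩
    rw [← π_mul, ← π_mul, ← π_mul]
    exact π_eq (by decide +kernel)
  · refine ⟨π m4, m4_mem, ?_⟩
    rw [← π_mul, ← π_mul]
    exact π_eq (by decide +kernel)
  · refine ⟨π m3, m3_mem, ?_⟩
    rw [← π_mul, ← π_mul]
    exact π_eq (by decide +kernel)

theorem gb_mem : π gb ∈ Subgroup.normalizer (Q0 : Set (Cfsg.PSp 2 F3)) := by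
  apply mem_normalizer
  rintro x (rfl | rfl | rfl | rfl)
  · refine ⟨π m2, m2_mem, ?_⟩
    rw [← π_mul, ← π_mul]
    exact π_eq (by decide +kernel)
  · refine ⟨π m1 * π m2 * π m3, Q0.mul_mem (Q0.mul_mem m1_mem m2_mem) m3_mem, ?_⟩
    rw [← π_mul, ← π_mul, ← π_mul, ← π_mul]
    exact π_eq (by decide +kernel)
  · refine ⟨π m3, m3_mem, ?_⟩
    rw [← π_mul, ← π_mul]
    exact π_eq (by decide +kernel)
  · refine ⟨π m2 * π m3 * π m4, Q0.mul_mem (Q0.mul_mem m2_mem m3_mem) m4_mem, ?_⟩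
    rw [← π_mul, ← π_mul, ← π_mul, ← π_mul]
    exact π_eq (by decide +kernel)

theorem orderOf_a : orderOf (π ga) = 2 := by
  have hF : Fact (Nat.Prime 2) := ⟨Nat.prime_two⟩
  apply orderOf_eq_prime
  · rw [pow_two, ← π_mul, ← π_one]
    exact π_eq (by decide +kernel)
  · exact π_ne_one (by decide +kernel)

theorem orderOf_b : orderOf (π gb) = 3 := by
  have hF : Fact (Nat.Prime 3) := ⟨Nat.prime_three⟩
  apply orderOf_eq_prime
  · rw [pow_succ, pow_two, ← π_mul, ← π_mul, ← π_one]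
    exact π_eq (by decide +kernel)
  · exact π_ne_one (by decide +kernel)

theorem orderOf_ab : orderOf (π ga * π gb) = 5 := by
  have hF : Fact (Nat.Prime 5) := ⟨by norm_num⟩
  rw [← π_mul]
  apply orderOf_eq_prime
  · have h1 : ∀ x : Sp, π x ^ 5 = π (x * x * x * x * x) := by
      intro x
      simp only [π_mul, pow_succ, pow_zero, one_mul]
    rw [h1, ← π_one]
    exact π_eq (by decide +kernel)
  · exact π_ne_one (by decide +kernel)

/-- The normalizer is not solvable. -/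
theorem not_solvable :
    ¬ Group.IsSolvable (Subgroup.normalizer (Q0 : Set (Cfsg.PSp 2 F3))) := by
  intro hs
  apply Cfsg.Agent.Classification.CoprimeTriple.not_hasTriple_of_isSolvable hs
  have hne : ∀ (g : Cfsg.PSp 2 F3) (hg : g ∈ Subgroup.normalizer (Q0 : Set (Cfsg.PSp 2 F3))),
      orderOf g ≠ 1 → (⟨g, hg⟩ : Subgroup.normalizer (Q0 : Set (Cfsg.PSp 2 F3))) ≠ 1 := by
    intro g hg h1 h2
    apply h1
    rw [orderOf_eq_one_iff]
    exact congrArg Subtype.val h2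
  have hab := mul_mem ga_mem gb_mem
  have hc : orderOf (π ga * π gb)⁻¹ = 5 := by rw [orderOf_inv, orderOf_ab]
  refine ⟨⟨π ga, ga_mem⟩, ⟨π gb, gb_mem⟩, ⟨(π ga * π gb)⁻¹, inv_mem hab⟩, hne _ _ ?_, hne _ _ ?_,
    hne _ _ ?_, ?_, ?_, ?_, ?_⟩
  · rw [orderOf_a]; norm_num
  · rw [orderOf_b]; norm_num
  · rw [hc]; norm_num
  · rw [Subgroup.orderOf_mk, Subgroup.orderOf_mk, orderOf_a, orderOf_b]; norm_num
  · rw [Subgroup.orderOf_mk, Subgroup.orderOf_mk, hc, orderOf_b]; norm_num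
  · rw [Subgroup.orderOf_mk, Subgroup.orderOf_mk, hc, orderOf_a]; norm_num
  · apply Subtype.ext
    show π ga * π gb * (π ga * π gb)⁻¹ = 1
    rw [mul_inv_cancel]

end Cfsg.Agent.SmallSimple.S1000.Order25920PSp
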