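import Mathlib
import Cfsg.Agent.Lib.ElemAbGL

/-!
# Automorphisms of an elementary abelian group of order 8

`V` is a group of order 8 with `x * x = 1` for all `x`; a frame is a triple `(a, b, c)` with `a ≠ 1`,
`b ∉ ⟨a⟩`, `c ∉ ⟨a, b⟩`.

* `exists_aut`: there is an automorphism carrying one frame to another;
* `pow_four`: automorphisms of 2-power order have order at most 4;
* `sq_eq_one_of_fixed`: an automorphism with two fixed points is an involution;
* `card_le_four`: commutative 2-groups of automorphisms have order at most 4;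
* `exists_pair`: the stabilizer of a point contains two involutions with product of order 3.
-/

set_option autoImplicit false

namespace Cfsg.Agent.SmallSimple.S1000.FrameAut

open Subgroup

variable {V : Type*} [Group V]

theorem comm_of_sq (hV : ∀ x : V, x * x = 1) (x y : V) : x * y = y * x := by
  have h1 := hV (x * y)
  have h2 : x * y = (x * y)⁻¹ := eq_inv_of_mul_eq_one_left h1
  rw [h2, _root_.mul_inv_rev, ← eq_inv_of_mul_eq_one_left (hV x), ← eq_inv_of_mul_eq_one_left (hV y)]

/-- Frames. -/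
structure Frame (a b c : V) : Prop where
  a1 : a ≠ 1
  b1 : b ≠ 1
  ba : b ≠ a
  c1 : c ≠ 1
  ca : c ≠ a
  cb : c ≠ b
  cab : c ≠ a * b

/-- The commutative group structure. -/
abbrev cg (hV : ∀ x : V, x * x = 1) : CommGroup V :=
  { (inferInstance : Group V) with mul_comm := comm_of_sq hV }

/-- Powers indexed by `ZMod 2`. -/
theorem pow_val_add {x : V} (hx : x * x = 1) (i j : ZMod 2) :
    x ^ (i + j).val = x ^ i.val * x ^ j.val := by
  rw [ZMod.val_add, ← pow_add]
  conv_rhs => rw [← Nat.mod_add_div (i.val + j.val) 2]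
  rw [pow_add, pow_mul, pow_two x, hx, one_pow, mul_one]

/-- The coordinates attached to a frame. -/
theorem exists_coord (hV : ∀ x : V, x * x = 1) (hc : Nat.card V = 8) {a b c : V} (h : Frame a b c) :
    ∃ e : (Multiplicative (ZMod 2 × ZMod 2 × ZMod 2)) ≃* V,
      e (Multiplicative.ofAdd (1, 0, 0)) = a ∧ e (Multiplicative.ofAdd (0, 1, 0)) = b ∧
      e (Multiplicative.ofAdd (0, 0, 1)) = c := by
  have hco := comm_of_sq hV
  have : Finite V := Nat.finite_of_card_ne_zero (by omega)
  let f : Multiplicative (ZMod 2 × ZMod 2 × ZMod 2) →* V :=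
    { toFun := fun t => a ^ t.toAdd.1.val * b ^ t.toAdd.2.1.val * c ^ t.toAdd.2.2.val
      map_one' := by simp
      map_mul' := by
        intro s t
        simp only [toAdd_mul, Prod.fst_add, Prod.snd_add, pow_val_add (hV a), pow_val_add (hV b),
          pow_val_add (hV c)]
        generalize a ^ s.toAdd.1.val = a1
        generalize a ^ t.toAdd.1.val = a2
        generalize b ^ s.toAdd.2.1.val = b1
        generalize b ^ t.toAdd.2.1.val = b2
        generalize c ^ s.toAdd.2.2.val = c1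
        generalize c ^ t.toAdd.2.2.val = c2
        calc a1 * a2 * (b1 * b2) * (c1 * c2) = a1 * (a2 * b1) * b2 * c1 * c2 := by group
          _ = a1 * (b1 * a2) * b2 * c1 * c2 := by rw [hco a2 b1]
          _ = a1 * b1 * ((a2 * b2) * c1) * c2 := by group
          _ = a1 * b1 * (c1 * (a2 * b2)) * c2 := by rw [hco (a2 * b2) c1]
          _ = a1 * b1 * c1 * (a2 * b2 * c2) := by group }
  have hf : ∀ t, f t = a ^ t.toAdd.1.val * b ^ t.toAdd.2.1.val * c ^ t.toAdd.2.2.val := fun _ => rfl
  have hinj : Function.Injective f := by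
    rw [injective_iff_map_eq_one]
    intro t ht
    rw [hf] at ht
    obtain ⟨x, y, z⟩ := t
    have hz2 : ∀ u v : V, u * v = 1 → v = u := by
      intro u v huv
      have := hV u
      exact mul_left_cancel (huv.trans this.symm)
    fin_cases x <;> fin_cases y <;> fin_cases z
    · rfl
    · exfalso; apply h.c1
      have h1 : a ^ 0 * b ^ 0 * c ^ 1 = 1 := ht
      simpa using h1
    · exfalso; apply h.b1
      have h1 : a ^ 0 * b ^ 1 * c ^ 0 = 1 := ht
      simpa using h1
    · exfalso
      have h0 : a ^ 0 * b ^ 1 * c ^ 1 = 1 := ht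
      have h1 : b * c = 1 := by simpa using h0
      exact h.cb (hz2 _ _ h1)
    · exfalso; apply h.a1
      have h1 : a ^ 1 * b ^ 0 * c ^ 0 = 1 := ht
      simpa using h1
    · exfalso
      have h0 : a ^ 1 * b ^ 0 * c ^ 1 = 1 := ht
      have h1 : a * c = 1 := by simpa using h0
      exact h.ca (hz2 _ _ h1)
    · exfalso
      have h0 : a ^ 1 * b ^ 1 * c ^ 0 = 1 := ht
      have h1 : a * b = 1 := by simpa using h0
      exact h.ba (hz2 _ _ h1)
    · exfalso
      have h0 : a ^ 1 * b ^ 1 * c ^ 1 = 1 := ht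
      have h1 : a * b * c = 1 := by simpa using h0
      exact h.cab (hz2 _ _ h1)
  have hcard : Nat.card (Multiplicative (ZMod 2 × ZMod 2 × ZMod 2)) = 8 := by
    rw [Nat.card_eq_fintype_card]
    rfl
  have hbij : Function.Bijective f := by
    refine hinj.bijective_of_nat_card_le ?_
    rw [hcard, hc]
  refine ⟨MulEquiv.ofBijective f hbij, ?_, ?_, ?_⟩
  · show f _ = a
    rw [hf]
    simp [ZMod.val_one]
  · show f _ = b
    rw [hf]
    simp [ZMod.val_one]
  · show f _ = c
    rw [hf]
    simp [ZMod.val_one]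

/-- Every element is in the list. -/
theorem Frame.cases (hV : ∀ x : V, x * x = 1) (hc : Nat.card V = 8) {a b c : V} (h : Frame a b c)
    (x : V) : x = 1 ∨ x = a ∨ x = b ∨ x = a * b ∨ x = c ∨ x = a * c ∨ x = b * c ∨ x = a * b * c := by
  obtain ⟨e, ha, hb, hcc⟩ := exists_coord hV hc h
  obtain ⟨t, rfl⟩ := e.surjective x
  have h3 : ∀ s : ZMod 2 × ZMod 2 × ZMod 2, s = 0 ∨ s = (1, 0, 0) ∨ s = (0, 1, 0) ∨
      s = (1, 0, 0) + (0, 1, 0) ∨ s = (0, 0, 1) ∨ s = (1, 0, 0) + (0, 0, 1) ∨
      s = (0, 1, 0) + (0, 0, 1) ∨ s = (1, 0, 0) + (0, 1, 0) + (0, 0, 1) := by decide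
  rw [← ha, ← hb, ← hcc]
  rcases h3 t.toAdd with h4 | h4 | h4 | h4 | h4 | h4 | h4 | h4
  · left
    have : t = 1 := by rw [← ofAdd_toAdd t, h4]; rfl
    rw [this, map_one]
  · right; left
    rw [← ofAdd_toAdd t, h4]
  · right; right; left
    rw [← ofAdd_toAdd t, h4]
  · right; right; right; left
    rw [← ofAdd_toAdd t, h4, ofAdd_add, map_mul]
  · right; right; right; right; left
    rw [← ofAdd_toAdd t, h4]
  · right; right; right; right; right; left
    rw [← ofAdd_toAdd t, h4, ofAdd_add, map_mul]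
  · right; right; right; right; right; right; left
    rw [← ofAdd_toAdd t, h4, ofAdd_add, map_mul]
  · right; right; right; right; right; right; right
    rw [← ofAdd_toAdd t, h4, ofAdd_add, ofAdd_add, map_mul, map_mul]

/-- Two automorphisms that agree on a frame are equal. -/
theorem Frame.ext (hV : ∀ x : V, x * x = 1) (hc : Nat.card V = 8) {a b c : V} (h : Frame a b c)
    {σ τ : MulAut V} (h1 : σ a = τ a) (h2 : σ b = τ b) (h3 : σ c = τ c) : σ = τ := by
  refine MulEquiv.ext fun x => ?_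
  rcases h.cases hV hc x with rfl | rfl | rfl | rfl | rfl | rfl | rfl | rfl <;>
    simp only [map_one, map_mul, h1, h2, h3]

/-- There is an automorphism carrying one frame to another one. -/
theorem exists_aut (hV : ∀ x : V, x * x = 1) (hc : Nat.card V = 8) {a b c a' b' c' : V}
    (h : Frame a b c) (h' : Frame a' b' c') : ∃ σ : MulAut V, σ a = a' ∧ σ b = b' ∧ σ c = c' := by
  obtain ⟨e, ha, hb, hcc⟩ := exists_coord hV hc h
  obtain ⟨e', ha', hb', hcc'⟩ := exists_coord hV hc h'
  refine ⟨e.symm.trans e', ?_, ?_, ?_⟩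
  · rw [← ha, ← ha']
    simp
  · rw [← hb, ← hb']
    simp
  · rw [← hcc, ← hcc']
    simp

/-- Every pair of different non-identity elements is part of a frame. -/
theorem exists_frame_of_pair (hc : Nat.card V = 8) {a b : V} (ha : a ≠ 1) (hb : b ≠ 1) (hba : b ≠ a) :
    ∃ c, Frame a b c := by
  classical
  have : Finite V := Nat.finite_of_card_ne_zero (by omega)
  have := Fintype.ofFinite V
  have h1 : ({1, a, b, a * b} : Finset V).card < Fintype.card V := by
    rw [← Nat.card_eq_fintype_card, hc]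
    exact (Finset.card_le_four).trans_lt (by norm_num)
  obtain ⟨c, hcn⟩ : ∃ c : V, c ∉ ({1, a, b, a * b} : Finset V) := by
    by_contra hcon
    push Not at hcon
    have : ({1, a, b, a * b} : Finset V) = Finset.univ := Finset.eq_univ_of_forall hcon
    rw [this, Finset.card_univ] at h1
    exact lt_irrefl _ h1
  simp only [Finset.mem_insert, Finset.mem_singleton, not_or] at hcn
  exact ⟨c, ha, hb, hba, hcn.1, hcn.2.1, hcn.2.2.1, hcn.2.2.2⟩

theorem exists_frame (hc : Nat.card V = 8) {a : V} (ha : a ≠ 1) : ∃ b c, Frame a b c := by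
  classical
  have : Finite V := Nat.finite_of_card_ne_zero (by omega)
  have := Fintype.ofFinite V
  have h1 : ({1, a} : Finset V).card < Fintype.card V := by
    rw [← Nat.card_eq_fintype_card, hc]
    exact (Finset.card_le_two).trans_lt (by norm_num)
  obtain ⟨b, hb⟩ : ∃ b : V, b ∉ ({1, a} : Finset V) := by
    by_contra hcon
    push Not at hcon
    have : ({1, a} : Finset V) = Finset.univ := Finset.eq_univ_of_forall hcon
    rw [this, Finset.card_univ] at h1
    exact lt_irrefl _ h1
  simp only [Finset.mem_insert, Finset.mem_singleton, not_or] at hb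
  obtain ⟨c, hc'⟩ := exists_frame_of_pair hc ha hb.1 hb.2
  exact ⟨b, c, hc'⟩

/-- Transitivity on the non-identity elements. -/
theorem exists_map (hV : ∀ x : V, x * x = 1) (hc : Nat.card V = 8) {a a' : V} (ha : a ≠ 1)
    (ha' : a' ≠ 1) : ∃ σ : MulAut V, σ a = a' := by
  obtain ⟨b, c, h⟩ := exists_frame hc ha
  obtain ⟨b', c', h'⟩ := exists_frame hc ha'
  obtain ⟨σ, h1, -, -⟩ := exists_aut hV hc h h'
  exact ⟨σ, h1⟩

theorem card_mulAut (hV : ∀ x : V, x * x = 1) (hc : Nat.card V = 8) : Nat.card (MulAut V) = 168 := by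
  have : Fact (Nat.Prime 2) := ⟨Nat.prime_two⟩
  let _ : CommGroup V := cg hV
  obtain ⟨e⟩ := Cfsg.Agent.Lib.ElemAbGL.mulAut_equiv_GL (V := V) 2 3
    (fun x => by rw [pow_two]; exact hV x) (by rw [hc]; rfl)
  rw [Nat.card_congr e.toEquiv, Matrix.card_GL_field]
  simp [Fin.prod_univ_succ]

/-- An automorphism fixing two non-identity elements has order at most 2. -/
theorem sq_eq_one_of_fixed (hV : ∀ x : V, x * x = 1) (hc : Nat.card V = 8) {σ : MulAut V} {a b : V}
    (ha : a ≠ 1) (hb : b ≠ 1) (hba : b ≠ a) (h1 : σ a = a) (h2 : σ b = b) : σ * σ = 1 := by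
  obtain ⟨c, h⟩ := exists_frame_of_pair hc ha hb hba
  have hco := comm_of_sq hV
  refine h.ext hV hc ?_ ?_ ?_
  · show σ (σ a) = a
    rw [h1, h1]
  · show σ (σ b) = b
    rw [h2, h2]
  · show σ (σ c) = c
    have hinj : ∀ w, σ w = w → σ c = w → c = w := fun w hw hcw => σ.injective (hcw.trans hw.symm)
    have hab : σ (a * b) = a * b := by rw [map_mul, h1, h2]
    have hcan : ∀ w, σ w = w → σ c = w * c → σ (σ c) = c := by
      intro w hw hcw
      rw [hcw, map_mul, hw, hcw, ← mul_assoc, hV w, one_mul]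
    rcases h.cases hV hc (σ c) with h3 | h3 | h3 | h3 | h3 | h3 | h3 | h3
    · exact absurd (hinj 1 (map_one _) h3) h.c1
    · exact absurd (hinj a h1 h3) h.ca
    · exact absurd (hinj b h2 h3) h.cb
    · exact absurd (hinj (a * b) hab h3) h.cab
    · rw [h3, h3]
    · exact hcan a h1 h3
    · exact hcan b h2 h3
    · exact hcan (a * b) hab h3

/-- Automorphisms of 2-power order have order at most 4. -/
theorem pow_four (hc : Nat.card V = 8) {σ : MulAut V} {k : ℕ} (h : σ ^ 2 ^ k = 1) : σ ^ 4 = 1 := by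
  classical
  have : Finite V := Nat.finite_of_card_ne_zero (by omega)
  have hpow : ∀ (n : ℕ) (v : V), (σ ^ n) v = (σ : V → V)^[n] v := by
    intro n v
    induction n with
    | zero => rfl
    | succ n ih => rw [pow_succ', MulAut.mul_apply, ih, Function.iterate_succ_apply']
  refine MulEquiv.ext fun v => ?_
  rw [MulAut.one_apply, hpow]
  by_cases hv : v = 1
  · rw [hv]
    exact Function.iterate_fixed (map_one σ) 4
  have hper : Function.IsPeriodicPt (σ : V → V) (2 ^ k) v := by
    show (σ : V → V)^[2 ^ k] v = v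
    rw [← hpow, h, MulAut.one_apply]
  obtain ⟨j, -, hj⟩ := (Nat.dvd_prime_pow Nat.prime_two).1 hper.minimalPeriod_dvd
  have hne : ∀ i, (σ : V → V)^[i] v ≠ 1 := by
    intro i hi
    rw [← hpow] at hi
    exact hv ((map_eq_one_iff (σ ^ i) (σ ^ i).injective).1 hi)
  have hle : Function.minimalPeriod (σ : V → V) v ≤ 7 := by
    have hcard : Nat.card {x : V // x ≠ 1} = 7 := by
      have := Fintype.ofFinite V
      have h1 : Nat.card {x : V // x ≠ 1} = Fintype.card V - 1 := by
        rw [Nat.card_eq_fintype_card, Fintype.card_subtype_compl, Fintype.card_subtype_eq]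
      rw [h1, ← Nat.card_eq_fintype_card, hc]
    rw [← hcard, ← Nat.card_fin (Function.minimalPeriod (σ : V → V) v)]
    refine Nat.card_le_card_of_injective
      (fun i : Fin _ => (⟨(σ : V → V)^[i] v, hne i⟩ : {x : V // x ≠ 1})) ?_
    intro i j hij
    have h2 := congrArg Subtype.val hij
    exact Fin.ext (Function.iterate_injOn_Iio_minimalPeriod i.2 j.2 h2)
  have h4 : Function.minimalPeriod (σ : V → V) v ∣ 4 := by
    rw [hj] at hle ⊢
    have hj2 : j ≤ 2 := by
      by_contra hcon
      have : 2 ^ 3 ≤ 2 ^ j := Nat.pow_le_pow_right (by norm_num) (by omega)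
      omega
    exact pow_dvd_pow 2 hj2
  exact (Function.isPeriodicPt_iff_minimalPeriod_dvd.2 h4)

/-- The stabilizer of a point contains two involutions with product of order 3. -/
theorem exists_pair (hV : ∀ x : V, x * x = 1) (hc : Nat.card V = 8) {a : V} (ha : a ≠ 1) :
    ∃ σ τ : MulAut V, σ a = a ∧ τ a = a ∧ σ * σ = 1 ∧ τ * τ = 1 ∧ (σ * τ) ^ 3 = 1 ∧ σ * τ ≠ 1 := by
  obtain ⟨b, c, h⟩ := exists_frame hc ha
  have hco := comm_of_sq hV
  have hz2 : ∀ u v : V, u * (u * v) = v := fun u v => by rw [← mul_assoc, hV, one_mul]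
  have hbc : Frame a b (b * c) := by
    refine ⟨ha, h.b1, h.ba, ?_, ?_, ?_, ?_⟩
    · intro h1
      exact h.cb (by rw [← hz2 b c, h1, mul_one])
    · intro h1
      apply h.cab
      rw [← hz2 b c, h1, hco]
    · intro h1
      exact h.c1 (mul_left_cancel (h1.trans (mul_one b).symm))
    · intro h1
      apply h.ca
      rw [← hz2 b c, h1, hco a b, hz2]
  have hcb : Frame a (b * c) c := by
    refine ⟨ha, hbc.c1, hbc.ca, h.c1, h.ca, ?_, ?_⟩
    · intro h1
      have h2 : c * 1 = c * b := by rw [mul_one, hco c b, ← h1]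
      exact h.b1 (mul_left_cancel h2).symm
    · intro h1
      have h2 : 1 = a * b := by
        have : 1 * c = (a * b) * c := by rw [one_mul, mul_assoc, ← h1]
        exact mul_right_cancel this
      exact h.ba (by rw [← hz2 a b, ← h2, mul_one])
  obtain ⟨σ, s1, s2, s3⟩ := exists_aut hV hc h hbc
  obtain ⟨τ, t1, t2, t3⟩ := exists_aut hV hc h hcb
  have hcc : c * (b * c) = b := by rw [hco b c, hz2]
  refine ⟨σ, τ, s1, t1, ?_, ?_, ?_, ?_⟩
  · refine h.ext hV hc ?_ ?_ ?_
    · show σ (σ a) = a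
      rw [s1, s1]
    · show σ (σ b) = b
      rw [s2, s2]
    · show σ (σ c) = c
      rw [s3, map_mul, s2, s3, hz2]
  · refine h.ext hV hc ?_ ?_ ?_
    · show τ (τ a) = a
      rw [t1, t1]
    · show τ (τ b) = b
      rw [t2, map_mul, t2, t3, mul_assoc, hV, mul_one]
    · show τ (τ c) = c
      rw [t3, t3]
  · refine h.ext hV hc ?_ ?_ ?_
    · show σ (τ (σ (τ (σ (τ a))))) = a
      simp only [s1, t1]
    · show σ (τ (σ (τ (σ (τ b))))) = b
      simp only [t2, map_mul, s2, s3, t3, hz2, hcc]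
    · show σ (τ (σ (τ (σ (τ c))))) = c
      simp only [t2, map_mul, s2, s3, t3, hz2, hcc]
  · intro h1
    have h2 : σ (τ c) = c := DFunLike.congr_fun h1 c
    rw [t3, s3] at h2
    have h3 : b * c = 1 * c := by rw [h2, one_mul]
    exact h.b1 (mul_right_cancel h3)

theorem isPGroup_zpowers_of_pow {H : Type*} [Group H] {x : H} {k : ℕ} (h : x ^ 2 ^ k = 1) :
    IsPGroup 2 (zpowers x) := by
  rintro ⟨_, n, rfl⟩
  refine ⟨k, Subtype.ext ?_⟩
  show (x ^ n) ^ 2 ^ k = 1
  rw [← zpow_natCast, ← zpow_mul, mul_comm, zpow_mul, zpow_natCast, h, one_zpow]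

/-- Commutative 2-groups of automorphisms have order at most 4. -/
theorem card_le_four (hV : ∀ x : V, x * x = 1) (hc : Nat.card V = 8) {D : Subgroup (MulAut V)}
    (hD : IsPGroup 2 D) (hcomm : ∀ x ∈ D, ∀ y ∈ D, x * y = y * x) : Nat.card D ≤ 4 := by
  have hf : Fact (Nat.Prime 2) := ⟨Nat.prime_two⟩
  have hfin : Finite (MulAut V) := Nat.finite_of_card_ne_zero (by rw [card_mulAut hV hc]; norm_num)
  obtain ⟨n, hn⟩ := IsPGroup.iff_card.mp hD
  have hdvd : 2 ^ n ∣ 168 := by
    rw [← hn, ← card_mulAut hV hc]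
    exact card_subgroup_dvd_card D
  have hn3 : n ≤ 3 := by
    by_contra hcon
    have h1 : 2 ^ 4 ∣ 168 := (pow_dvd_pow 2 (by omega)).trans hdvd
    norm_num at h1
  by_contra hcon
  have hn3' : n = 3 := by
    rw [hn] at hcon
    have h1 : ¬ n ≤ 2 := fun h2 => hcon (Nat.pow_le_pow_right (by norm_num) h2)
    omega
  -- `D` is a Sylow 2-subgroup
  have hDc : Nat.card D = 2 ^ (Nat.card (MulAut V)).factorization 2 := by
    rw [hn, hn3', card_mulAut hV hc]
    have : (168 : ℕ).factorization 2 = 3 := by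
      rw [show (168 : ℕ) = 2 ^ 3 * 21 by norm_num, Nat.factorization_mul (by norm_num) (by norm_num),
        Nat.Prime.factorization_pow Nat.prime_two, Finsupp.add_apply, Finsupp.single_eq_same,
        Nat.factorization_eq_zero_of_not_dvd (show ¬ 2 ∣ 21 by norm_num)]
    rw [this]
  let P : Sylow 2 (MulAut V) := Sylow.ofCard D hDc
  have hP : (P : Subgroup (MulAut V)) = D := rfl
  -- every 2-subgroup is commutative
  have hall : ∀ K : Subgroup (MulAut V), IsPGroup 2 K → ∀ x ∈ K, ∀ y ∈ K, x * y = y * x := by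
    intro K hK x hx y hy
    obtain ⟨R, hR⟩ := hK.exists_le_sylow
    obtain ⟨g, hg⟩ := MulAction.exists_smul_eq (MulAut V) P R
    have hR2 : ∀ z ∈ K, ∃ d ∈ D, g * d * g⁻¹ = z := by
      intro z hz
      have h1 : z ∈ (R : Subgroup (MulAut V)) := hR hz
      rw [← hg] at h1
      obtain ⟨d, hd, hdz⟩ := h1
      exact ⟨d, hd, hdz⟩
    obtain ⟨d, hd, rfl⟩ := hR2 x hx
    obtain ⟨d', hd', rfl⟩ := hR2 y hy
    calc g * d * g⁻¹ * (g * d' * g⁻¹) = g * (d * d') * g⁻¹ := by group
      _ = g * (d' * d) * g⁻¹ := by rw [hcomm d hd d' hd']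
      _ = g * d' * g⁻¹ * (g * d * g⁻¹) := by group
  -- a non-commutative 2-subgroup
  have : Nontrivial V := by
    have : Finite V := Nat.finite_of_card_ne_zero (by omega)
    rw [← Finite.one_lt_card_iff_nontrivial]
    omega
  obtain ⟨a, ha⟩ := exists_ne (1 : V)
  obtain ⟨b, c, h⟩ := exists_frame hc ha
  have hco := comm_of_sq hV
  have hz2 : ∀ u v : V, u * (u * v) = v := fun u v => by rw [← mul_assoc, hV, one_mul]
  have hab : a * b ≠ 1 := by
    intro h1
    exact h.ba (by rw [← hz2 a b, h1, mul_one])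
  have f1 : Frame a (a * b) c := by
    refine ⟨ha, hab, ?_, h.c1, h.ca, h.cab, ?_⟩
    · intro h1
      exact h.b1 (mul_left_cancel (h1.trans (mul_one a).symm))
    · rw [hz2]
      exact h.cb
  have f2 : Frame a b (b * c) := by
    refine ⟨ha, h.b1, h.ba, ?_, ?_, ?_, ?_⟩
    · intro h1
      exact h.cb (by rw [← hz2 b c, h1, mul_one])
    · intro h1
      apply h.cab
      rw [← hz2 b c, h1, hco]
    · intro h1
      exact h.c1 (mul_left_cancel (h1.trans (mul_one b).symm))
    · intro h1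
      apply h.ca
      rw [← hz2 b c, h1, hco a b, hz2]
  obtain ⟨σ, s1, s2, s3⟩ := exists_aut hV hc h f1
  obtain ⟨τ, t1, t2, t3⟩ := exists_aut hV hc h f2
  have hσ : σ * σ = 1 := by
    refine h.ext hV hc ?_ ?_ ?_
    · show σ (σ a) = a
      rw [s1, s1]
    · show σ (σ b) = b
      rw [s2, map_mul, s1, s2, hz2]
    · show σ (σ c) = c
      rw [s3, s3]
  have hτ : τ * τ = 1 := by
    refine h.ext hV hc ?_ ?_ ?_
    · show τ (τ a) = a
      rw [t1, t1]
    · show τ (τ b) = b
      rw [t2, t2]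
    · show τ (τ c) = c
      rw [t3, map_mul, t2, t3, hz2]
  have hne : σ * τ ≠ τ * σ := by
    intro h1
    have h2 : σ (τ c) = τ (σ c) := DFunLike.congr_fun h1 c
    rw [t3, s3, t3, map_mul, s2, s3, mul_assoc] at h2
    have h3 : a * (b * c) = 1 * (b * c) := by rw [h2, one_mul]
    exact ha (mul_right_cancel h3)
  set x := σ * τ with hx
  have xa : x a = a := by
    show σ (τ a) = a
    rw [t1, s1]
  have xb : x b = a * b := by
    show σ (τ b) = a * b
    rw [t2, s2]
  have xc : x c = a * b * c := by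
    show σ (τ c) = a * b * c
    rw [t3, map_mul, s2, s3]
  have xxc : x (x c) = a * c := by
    rw [xc, map_mul, map_mul, xa, xb, xc, hz2, hco a b, mul_assoc b a c, hz2]
  have hx4 : x ^ 4 = 1 := by
    refine h.ext hV hc ?_ ?_ ?_
    · show x (x (x (x a))) = a
      rw [xa, xa, xa, xa]
    · show x (x (x (x b))) = b
      rw [xb, map_mul, xa, xb, hz2, xb, map_mul, xa, xb, hz2]
    · show x (x (x (x c))) = c
      rw [xxc, map_mul, map_mul, xa, xa, xxc, hz2]
  have hσi : σ⁻¹ = σ := (eq_inv_of_mul_eq_one_left hσ).symm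
  have hτi : τ⁻¹ = τ := (eq_inv_of_mul_eq_one_left hτ).symm
  have hσx : σ * x * σ⁻¹ = x⁻¹ := by
    rw [hx, _root_.mul_inv_rev, hσi, hτi, ← mul_assoc, hσ, one_mul]
  have hKσ : zpowers σ ≤ normalizer (zpowers x : Set (MulAut V)) := by
    rw [zpowers_le]
    have h1 : ∀ y ∈ zpowers x, σ * y * σ⁻¹ ∈ zpowers x := by
      rintro _ ⟨n, rfl⟩
      show σ * x ^ n * σ⁻¹ ∈ zpowers x
      rw [← conj_zpow, hσx]
      exact zpow_mem (inv_mem (mem_zpowers x)) n
    rw [mem_normalizer_iff]
    intro y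
    refine ⟨h1 y, fun h2 => ?_⟩
    have h3 := h1 _ h2
    rw [hσi] at h3
    have e : σ * (σ * y * σ) * σ = σ * σ * y * (σ * σ) := by group
    rwa [e, hσ, one_mul, mul_one] at h3
  have hK : IsPGroup 2 (zpowers σ ⊔ zpowers x : Subgroup (MulAut V)) := by
    refine IsPGroup.to_sup_of_normal_right' ?_ ?_ hKσ
    · refine isPGroup_zpowers_of_pow (k := 1) ?_
      rw [pow_one, pow_two, hσ]
    · exact isPGroup_zpowers_of_pow (k := 2) hx4
  apply hne
  have h5 := hall _ hK σ (mem_sup_left (mem_zpowers σ)) x (mem_sup_right (mem_zpowers x))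
  have h6 : τ = σ * τ * σ := by
    calc τ = σ * σ * τ := by rw [hσ, one_mul]
      _ = σ * x := by rw [hx, mul_assoc]
      _ = x * σ := h5
      _ = σ * τ * σ := by rw [hx]
  calc x = σ * τ * 1 := by rw [hx, mul_one]
    _ = (σ * τ * σ) * σ := by rw [← hσ]; group
    _ = τ * σ := by rw [← h6]

end Cfsg.Agent.SmallSimple.S1000.FrameAut
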