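import Mathlib
import Cfsg.Prelude.Def_CaseTheorems
import Cfsg.Agent.Lib.Cores
import Cfsg.Agent.Lib.HallHigman
import Cfsg.Agent.Lib.MinNormalNonabelian
import Cfsg.Agent.PLocal.OffenderBound
import Cfsg.Agent.OddOrderLocal.FpfSolvable

/-!
# The structure of a nonsolvable 2-local subgroup

`H` is a finite nonsolvable group of characteristic 2 whose order is divisible by the odd prime `p` to
the first power only, all `p'`-subgroups of `H` are solvable and an element `x` of order `p` has
`C_H(x) = ⟨x⟩`.  Then `H / O₂(H)` is almost simple: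

* `le_pCore_of_not_dvd`: the normal `p'`-subgroups of `H` lie in `O₂(H)`;
* `mem_zpowers_quotient`: `C_{H/O₂(H)}(x̄) = ⟨x̄⟩`;
* `exists_simple_normal`: `H / O₂(H)` has a nonabelian simple normal subgroup `L` with trivial
  centralizer, contained in all nontrivial normal subgroups.
-/

set_option autoImplicit false

namespace Cfsg.Agent.SmallSimple.S1000.LocalStructure

open Subgroup Cfsg

variable {H : Type*} [Group H]

/-- A normal subgroup of odd order is trivial if `C_H(O₂(H)) ≤ O₂(H)`. -/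
theorem eq_bot_of_odd [Finite H] (hchar : centralizer (pCore 2 H : Set H) ≤ pCore 2 H)
    {K : Subgroup H} (hK : K.Normal) (hodd : Odd (Nat.card K)) : K = ⊥ := by
  have hp2 : Fact (Nat.Prime 2) := ⟨Nat.prime_two⟩
  have hNn : (pCore 2 H).Normal := Lib.Cores.pCore_normal 2
  have hdis : Disjoint K (pCore 2 H) := by
    apply disjoint_of_coprime_natCard
    obtain ⟨n, hn⟩ := IsPGroup.iff_card.mp (Lib.Cores.pCore_isPGroup (G := H) 2)
    rw [hn]
    exact Nat.Coprime.pow_right n (Nat.coprime_two_right.mpr hodd)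
  have h1 : K ≤ centralizer (pCore 2 H : Set H) := by
    intro k hk
    rw [mem_centralizer_iff]
    intro y hy
    exact (commute_of_normal_of_disjoint _ _ hNn hK hdis.symm y k hy hk).eq
  have h2 := hdis.le_bot
  exact le_bot_iff.mp (le_trans (le_inf le_rfl (h1.trans hchar)) h2)

/-- The normal `p'`-subgroups lie in `O₂(H)`. -/
theorem le_pCore_of_not_dvd [Finite H] {p : ℕ} (hp : p.Prime)
    (hsol : ∀ K : Subgroup H, ¬ p ∣ Nat.card K → Group.IsSolvable K) (x : H) (hx : orderOf x = p)
    (hcx : ∀ g : H, x * g = g * x → g ∈ zpowers x)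
    (hchar : centralizer (pCore 2 H : Set H) ≤ pCore 2 H) {K : Subgroup H} (hK : K.Normal)
    (hpK : ¬ p ∣ Nat.card K) : K ≤ pCore 2 H := by
  have hp2 : Fact (Nat.Prime 2) := ⟨Nat.prime_two⟩
  have hnil : Group.IsNilpotent K := by
    refine OddOrderLocal.FpfSolvable.isNilpotent_of_fpf_elem K (hsol K hpK) x ?_ hp
      (by rw [← hx, pow_orderOf_eq_one]) ?_
    · rw [normalizer_eq_top_iff.mpr hK]
      exact mem_top x
    · intro k hk hxk
      obtain ⟨j, rfl⟩ := hcx k hxk
      have h1 : orderOf (x ^ j) ∣ p := by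
        refine orderOf_dvd_of_pow_eq_one ?_
        rw [← zpow_natCast, ← zpow_mul, mul_comm, zpow_mul, zpow_natCast, ← hx,
          pow_orderOf_eq_one, one_zpow]
      have h2 : orderOf (x ^ j) ∣ Nat.card K := by
        have := orderOf_dvd_natCard (⟨_, hk⟩ : K)
        rwa [orderOf_mk] at this
      rcases (Nat.dvd_prime hp).mp h1 with h3 | h3
      · exact orderOf_eq_one_iff.mp h3
      · exact absurd (h3 ▸ h2) hpK
  refine (Lib.Cores.le_iSup_pCore_of_isNilpotent hK hnil).trans (iSup_le fun q => ?_)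
  have hq : Fact (Nat.Prime (q : ℕ)) := ⟨q.2⟩
  by_cases hq2 : (q : ℕ) = 2
  · rw [hq2]
  · have h1 : pCore (q : ℕ) H = ⊥ := by
      refine eq_bot_of_odd hchar (Lib.Cores.pCore_normal _) ?_
      obtain ⟨n, hn⟩ := IsPGroup.iff_card.mp (Lib.Cores.pCore_isPGroup (G := H) (q : ℕ))
      rw [hn]
      exact (q.2.odd_of_ne_two hq2).pow
    rw [h1]
    exact bot_le

section quotient

variable [Finite H] {p : ℕ}

theorem not_dvd_card_pCore (hp : p.Prime) (hp2 : p ≠ 2) : ¬ p ∣ Nat.card (pCore 2 H) := by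
  have h2 : Fact (Nat.Prime 2) := ⟨Nat.prime_two⟩
  obtain ⟨n, hn⟩ := IsPGroup.iff_card.mp (Lib.Cores.pCore_isPGroup (G := H) 2)
  rw [hn]
  intro hd
  exact hp2 ((Nat.prime_dvd_prime_iff_eq hp Nat.prime_two).mp (hp.dvd_of_dvd_pow hd))

/-- `C_{H/N}(x̄) = C_H(x) N / N` for a normal `p'`-subgroup `N` and `x` of order `p`. -/
theorem exists_commute_of_quotient (hp : p.Prime) (N : Subgroup H) [N.Normal]
    (hN : ¬ p ∣ Nat.card N) {x : H} (hx : orderOf x = p) (g : H)
    (hg : (x : H ⧸ N) * g = g * x) : ∃ g' : H, (g' : H ⧸ N) = g ∧ x * g' = g' * x := by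
  have hpf : Fact p.Prime := ⟨hp⟩
  have hpg : IsPGroup p (zpowers x) :=
    IsPGroup.of_card (n := 1) (by rw [Nat.card_zpowers, hx, pow_one])
  have hNn : N.Normal := inferInstance
  obtain ⟨n, hn, hfix⟩ := PLocal.OffenderBound.exists_fixed_in_coset (p := p)
    ((MulAut.conj (G := H)).comp (zpowers x).subtype) hpg N hN
    (fun a n hn => by
      show (a : H) * n * (a : H)⁻¹ ∈ N
      exact hNn.conj_mem n hn _) g (fun a => by
      show g⁻¹ * ((a : H) * g * (a : H)⁻¹) ∈ N
      obtain ⟨a, k, rfl⟩ := a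
      rw [← QuotientGroup.eq_one_iff]
      have h1 : Commute (x : H ⧸ N) g := hg
      have h2 : Commute ((x : H ⧸ N) ^ k) g := h1.zpow_left k
      simp only [QuotientGroup.mk_mul, QuotientGroup.mk_inv, QuotientGroup.mk_zpow]
      rw [h2.eq]
      group)
  refine ⟨g * n, ?_, ?_⟩
  · rw [QuotientGroup.mk_mul, (QuotientGroup.eq_one_iff n).mpr hn, mul_one]
  · have h1 : x * (g * n) * x⁻¹ = g * n := hfix ⟨x, mem_zpowers x⟩
    calc x * (g * n) = x * (g * n) * x⁻¹ * x := by group
      _ = g * n * x := by rw [h1]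

theorem mem_zpowers_quotient (hp : p.Prime) (hp2 : p ≠ 2) {x : H} (hx : orderOf x = p)
    (hcx : ∀ g : H, x * g = g * x → g ∈ zpowers x) (g : H ⧸ pCore 2 H)
    (hg : (x : H ⧸ pCore 2 H) * g = g * x) : g ∈ zpowers (x : H ⧸ pCore 2 H) := by
  obtain ⟨g, rfl⟩ := QuotientGroup.mk_surjective g
  obtain ⟨g', hg', hxg'⟩ := exists_commute_of_quotient hp (pCore 2 H)
    (not_dvd_card_pCore hp hp2) hx g hg
  obtain ⟨k, hk⟩ := hcx g' hxg'
  refine ⟨k, ?_⟩
  rw [← hg', ← hk]
  rfl

omit [Finite H] in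
theorem orderOf_quotient (hp : p.Prime) (N : Subgroup H) [N.Normal]
    (hN : ¬ p ∣ Nat.card N) {x : H} (hx : orderOf x = p) : orderOf (x : H ⧸ N) = p := by
  have h1 : orderOf (x : H ⧸ N) ∣ p := by
    rw [← hx]
    exact orderOf_map_dvd (QuotientGroup.mk' N) x
  rcases (Nat.dvd_prime hp).mp h1 with h2 | h2
  · exfalso
    rw [orderOf_eq_one_iff, QuotientGroup.eq_one_iff] at h2
    apply hN
    have := orderOf_dvd_natCard (⟨x, h2⟩ : N)
    rwa [orderOf_mk, hx] at this
  · exact h2

omit [Finite H] in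
theorem card_comap (N : Subgroup H) [N.Normal] (K : Subgroup (H ⧸ N)) :
    Nat.card (K.comap (QuotientGroup.mk' N)) = Nat.card N * Nat.card K := by
  have hsurj : Function.Surjective (QuotientGroup.mk' N) := QuotientGroup.mk'_surjective _
  have hle : N ≤ K.comap (QuotientGroup.mk' N) := by
    intro y hy
    rw [mem_comap, QuotientGroup.mk'_apply, (QuotientGroup.eq_one_iff y).mpr hy]
    exact K.one_mem
  rw [← Lib.HallHigman.card_mul_relIndex' hle]
  congr 1
  have h2 := relIndex_ker (K := K.comap (QuotientGroup.mk' N)) (QuotientGroup.mk' N)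
  rwa [QuotientGroup.ker_mk', map_comap_eq_self_of_surjective hsurj] at h2

/-- Subgroups of `G` that meet trivially and one of which is normal: if both orders are divisible
by `p` then `p ^ 2` divides `|G|`. -/
theorem sq_dvd_of_disjoint {G : Type*} [Group G] (S T : Subgroup G) (hS : S.Normal)
    (hST : S ⊓ T = ⊥) (h1 : p ∣ Nat.card S) (h2 : p ∣ Nat.card T) : p ^ 2 ∣ Nat.card G := by
  have h3 : S.relIndex T ∣ S.index := relIndex_dvd_index_of_normal S T
  have h4 : S.relIndex T = Nat.card T := by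
    rw [relIndex, subgroupOf_eq_bot.mpr (disjoint_iff.mpr hST), index_bot]
  rw [h4] at h3
  rw [← S.card_mul_index, pow_two]
  exact Nat.mul_dvd_mul h1 (h2.trans h3)

/-- The nontrivial normal subgroups of `H / O₂(H)` have order divisible by `p`. -/
theorem dvd_card_of_normal (hp : p.Prime) (hp2 : p ≠ 2)
    (hsol : ∀ K : Subgroup H, ¬ p ∣ Nat.card K → Group.IsSolvable K) (x : H) (hx : orderOf x = p)
    (hcx : ∀ g : H, x * g = g * x → g ∈ zpowers x)
    (hchar : centralizer (pCore 2 H : Set H) ≤ pCore 2 H) {K : Subgroup (H ⧸ pCore 2 H)}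
    (hK : K.Normal) (hK1 : K ≠ ⊥) : p ∣ Nat.card K := by
  by_contra hpK
  apply hK1
  have hNn : (pCore 2 H).Normal := Lib.Cores.pCore_normal 2
  set π := QuotientGroup.mk' (pCore 2 H) with hπ
  have hsurj : Function.Surjective π := QuotientGroup.mk'_surjective _
  have h1 : Nat.card (K.comap π) = Nat.card (pCore 2 H) * Nat.card K := card_comap _ K
  have h2 : K.comap π ≤ pCore 2 H := by
    refine le_pCore_of_not_dvd hp hsol x hx hcx hchar (hK.comap π) ?_
    rw [h1, hp.dvd_mul]
    exact not_or.mpr ⟨not_dvd_card_pCore hp hp2, hpK⟩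
  rw [eq_bot_iff]
  intro y hy
  obtain ⟨z, rfl⟩ := hsurj y
  have : z ∈ pCore 2 H := h2 hy
  rw [mem_bot]
  exact (QuotientGroup.eq_one_iff z).mpr this

/-- If a finite group has a normal subgroup `⟨x⟩` with `C(x) = ⟨x⟩`, it is solvable. -/
theorem isSolvable_of_normal_zpowers {G : Type*} [Group G] {x : G} (hn : (zpowers x).Normal)
    (hcx : ∀ g : G, x * g = g * x → g ∈ zpowers x) : Group.IsSolvable G := by
  have hker : (MulAut.conjNormal (H := zpowers x) : G →* MulAut (zpowers x)).ker ≤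
      (zpowers x).subtype.range := by
    intro g hg
    rw [range_subtype]
    apply hcx
    rw [MonoidHom.mem_ker] at hg
    have h1 : ((MulAut.conjNormal (H := zpowers x) g ⟨x, mem_zpowers x⟩ : zpowers x) : G) = x := by
      rw [hg]; rfl
    rw [MulAut.conjNormal_apply] at h1
    have h2 : g * x * g⁻¹ = x := h1
    calc x * g = (g * x * g⁻¹) * g := by rw [h2]
      _ = g * x := by group
  have hcomm : ∀ a b : MulAut (zpowers x), a * b = b * a := by
    intro a b
    apply (IsCyclic.mulAutMulEquiv (zpowers x)).injective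
    rw [map_mul, map_mul, mul_comm]
  have hz : Group.IsSolvable (zpowers x) := Group.isSolvable_of_comm fun a b => Subtype.ext (by
    obtain ⟨_, i, rfl⟩ := a
    obtain ⟨_, j, rfl⟩ := b
    exact (Commute.refl x).zpow_zpow i j)
  have hs : Group.IsSolvable (MulAut (zpowers x)) := Group.isSolvable_of_comm hcomm
  exact Group.isSolvable_of_ker_le_range (zpowers x).subtype _ hker

/-- **Structure of `H / O₂(H)`.** -/
theorem exists_simple_normal (hp : p.Prime) (hp2 : p ≠ 2) (hpp : ¬ p ^ 2 ∣ Nat.card H)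
    (hsol : ∀ K : Subgroup H, ¬ p ∣ Nat.card K → Group.IsSolvable K)
    (hns : ¬ Group.IsSolvable H) (x : H) (hx : orderOf x = p)
    (hcx : ∀ g : H, x * g = g * x → g ∈ zpowers x)
    (hchar : centralizer (pCore 2 H : Set H) ≤ pCore 2 H) :
    ∃ L : Subgroup (H ⧸ pCore 2 H), L.Normal ∧ IsSimpleGroup L ∧ ¬ IsMulCommutative L ∧
      p ∣ Nat.card L ∧ centralizer (L : Set (H ⧸ pCore 2 H)) = ⊥ ∧
      ∀ K : Subgroup (H ⧸ pCore 2 H), K.Normal → K ≠ ⊥ → L ≤ K := by
  have hpf : Fact p.Prime := ⟨hp⟩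
  have hNn : (pCore 2 H).Normal := Lib.Cores.pCore_normal 2
  have hN := not_dvd_card_pCore (H := H) hp hp2
  set N := pCore 2 H with hNdef
  set π := QuotientGroup.mk' N with hπ
  have hsurj : Function.Surjective π := QuotientGroup.mk'_surjective _
  have hdvd : ∀ K : Subgroup (H ⧸ N), K.Normal → K ≠ ⊥ → p ∣ Nat.card K := fun K hK hK1 =>
    dvd_card_of_normal hp hp2 hsol x hx hcx hchar hK hK1
  have hcxq := fun g : H ⧸ N => mem_zpowers_quotient hp hp2 hx hcx g
  have hxq : orderOf (x : H ⧸ N) = p := orderOf_quotient hp N hN hx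
  have hcardq : Nat.card (H ⧸ N) ∣ Nat.card H := by
    rw [← N.card_mul_index]
    exact Dvd.intro_left _ rfl
  have hppq : ¬ p ^ 2 ∣ Nat.card (H ⧸ N) := fun h => hpp (h.trans hcardq)
  have hnsq : ¬ Group.IsSolvable (H ⧸ N) := by
    intro h
    apply hns
    have hNs : Group.IsSolvable N := by
      have h2 : Fact (Nat.Prime 2) := ⟨Nat.prime_two⟩
      have hnil : Group.IsNilpotent N := (Lib.Cores.pCore_isPGroup (G := H) 2).isNilpotent
      infer_instance
    exact Group.isSolvable_of_ker_le_range N.subtype π (by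
      rw [hπ, QuotientGroup.ker_mk', range_subtype])
  -- a minimal normal subgroup
  have htop : (⊤ : Subgroup (H ⧸ N)) ≠ ⊥ := by
    intro h
    have h1 : (x : H ⧸ N) ∈ (⊤ : Subgroup (H ⧸ N)) := mem_top _
    rw [h, mem_bot] at h1
    rw [h1, orderOf_one] at hxq
    exact hp.one_lt.ne hxq
  obtain ⟨L, -, hL1, hLn', hLmin'⟩ := Lib.MinNormal.exists_minimal_normal_le
    (⊤ : Subgroup (H ⧸ N)) htop
  have hLn : L.Normal := normalizer_eq_top_iff.mp (top_le_iff.mp hLn')
  have hLmin : ∀ K : Subgroup (H ⧸ N), K.Normal → K ≤ L → K = ⊥ ∨ K = L := fun K hK hKL =>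
    hLmin' K hKL (by rw [normalizer_eq_top_iff.mpr hK])
  have hpL : p ∣ Nat.card L := hdvd L hLn hL1
  have hppL : ¬ p ^ 2 ∣ Nat.card L := fun h => hppq (h.trans (card_subgroup_dvd_card L))
  have hLna : ¬ ∀ y ∈ L, ∀ z ∈ L, Commute y z := by
    intro hab
    obtain ⟨q, hq, hqg, -⟩ := Lib.MinNormalNonabelian.abelian_structure L hL1 hLmin hab
    have hqf : Fact q.Prime := ⟨hq⟩
    obtain ⟨n, hn⟩ := IsPGroup.iff_card.mp hqg
    have hqp : q = p := by
      rw [hn] at hpL
      exact ((Nat.prime_dvd_prime_iff_eq hp hq).mp (hp.dvd_of_dvd_pow hpL)).symm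
    subst hqp
    have hcardL : Nat.card L = q := by
      have hn1 : n = 1 := by
        have hn0 : n ≠ 0 := by
          rintro rfl
          rw [hn, pow_zero] at hpL
          exact hq.one_lt.ne' (Nat.dvd_one.mp hpL)
        by_contra hne
        exact hppL (by rw [hn]; exact pow_dvd_pow q (by omega))
      rw [hn, hn1, pow_one]
    -- `L = ⟨x̄⟩`
    have hLx : L = zpowers (x : H ⧸ N) := by
      have h1 : ∀ z ∈ zpowers (x : H ⧸ N), z ∈ L := by
        -- `⟨x̄⟩` is a `p`-group acting on the normal Sylow subgroup `L`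
        have h2 : IsPGroup q (zpowers (x : H ⧸ N)) :=
          IsPGroup.of_card (n := 1) (by rw [Nat.card_zpowers, hxq, pow_one])
        have h3 : IsPGroup q L := hqg
        have h4 : ¬ q ∣ L.index := by
          intro h5
          apply hppq
          rw [← L.card_mul_index, hcardL, pow_two]
          exact Nat.mul_dvd_mul_left q h5
        obtain ⟨g, hg⟩ := h2.exists_le_sylow
        have h6 : (g : Subgroup (H ⧸ N)) = L := by
          have h7 : (h3.toSylow h4 : Sylow q (H ⧸ N)).Normal := hLn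
          have := Sylow.unique_of_normal (h3.toSylow h4 : Sylow q (H ⧸ N)) h7
          have h8 := Subsingleton.elim g (h3.toSylow h4 : Sylow q (H ⧸ N))
          rw [h8]
          rfl
        intro z hz
        rw [← h6]
        exact hg hz
      refine (eq_of_le_of_card_ge h1 ?_).symm
      rw [hcardL, Nat.card_zpowers, hxq]
    rw [hLx] at hLn
    exact hnsq (isSolvable_of_normal_zpowers hLn hcxq)
  obtain ⟨hne, hind, hsup, hsimp, hcent, hconj⟩ :=
    Lib.MinNormalNonabelian.nonabelian_structure L hLmin hLna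
  obtain ⟨T, hT⟩ := hne
  -- every member has order divisible by `p`
  have hsolq : ∀ K : Subgroup (H ⧸ N), ¬ p ∣ Nat.card K → Group.IsSolvable K := by
    intro K hK
    have h1 : ¬ p ∣ Nat.card (K.comap π) := by
      rw [hπ, card_comap, hp.dvd_mul]
      exact not_or.mpr ⟨hN, hK⟩
    have h2 := hsol _ h1
    have h3 : Function.Surjective (π.subgroupComap K) :=
      π.subgroupComap_surjective_of_surjective K hsurj
    exact Group.isSolvable_of_surjective h3
  have hTp : ∀ S ∈ Lib.MinNormalNonabelian.minSet L, p ∣ Nat.card S := by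
    intro S hS
    by_contra hpS
    have h1 := hsolq S hpS
    have h2 := hsimp S hS
    have h3 := hcent S hS
    have h4 := IsSimpleGroup.comm_iff_isSolvable.mpr h1
    apply hS.2.1
    rw [eq_bot_iff]
    intro z hz
    exact mem_bot.mpr (h3 z hz fun t ht => congrArg Subtype.val (h4 ⟨z, hz⟩ ⟨t, ht⟩))
  have hTL : T = L := by
    have h1 : Lib.MinNormalNonabelian.minSet L = {T} := by
      refine Set.eq_singleton_iff_unique_mem.mpr ⟨hT, fun S hS => ?_⟩
      by_contra hne
      have hdis : Disjoint S T := hind.pairwiseDisjoint hS hT hne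
      have hSL : S ≤ L := hS.1
      have hTL : T ≤ L := hT.1
      have hSn : (S.subgroupOf L).Normal := normal_subgroupOf_of_le_normalizer hS.2.2.1
      apply hppL
      refine sq_dvd_of_disjoint (S.subgroupOf L) (T.subgroupOf L) hSn ?_ ?_ ?_
      · rw [eq_bot_iff]
        rintro y ⟨h1, h2⟩
        have h3 : (y : H ⧸ N) ∈ (⊥ : Subgroup (H ⧸ N)) := hdis.le_bot ⟨h1, h2⟩
        rw [mem_bot] at h3 ⊢
        exact Subtype.ext h3
      · rw [Nat.card_congr (subgroupOfEquivOfLe hSL).toEquiv]
        exact hTp S hS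
      · rw [Nat.card_congr (subgroupOfEquivOfLe hTL).toEquiv]
        exact hTp T hT
    rw [← hsup, h1, sSup_singleton]
  subst hTL
  have hLsimp := hsimp T hT
  have hcentT := hcent T hT
  have hC : centralizer (T : Set (H ⧸ N)) = ⊥ := by
    by_contra hne
    have hCn : (centralizer (T : Set (H ⧸ N))).Normal := inferInstance
    have h1 := hdvd _ hCn hne
    apply hppq
    refine sq_dvd_of_disjoint T _ hLn ?_ hpL h1
    rw [eq_bot_iff]
    rintro z ⟨hz, hzc⟩
    exact mem_bot.mpr (hcentT z hz fun t ht => (mem_centralizer_iff.mp hzc t ht).symm)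
  refine ⟨T, hLn, hLsimp, ?_, hpL, hC, ?_⟩
  · intro hcomm
    apply hLna
    intro y hy z hz
    exact congrArg Subtype.val (hcomm.is_comm.comm ⟨y, hy⟩ ⟨z, hz⟩)
  · intro K hK hK1
    have hKn := hK
    have hinf : (K ⊓ T).Normal := inferInstance
    rcases hLmin _ hinf inf_le_right with h1 | h1
    · exfalso
      apply hK1
      rw [eq_bot_iff, ← hC]
      intro k hk
      rw [mem_centralizer_iff]
      intro t ht
      exact (commute_of_normal_of_disjoint _ _ hLn hK (disjoint_iff.mpr (by rw [inf_comm, h1]))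
        t k ht hk).eq
    · exact inf_eq_right.mp h1

end quotient

end Cfsg.Agent.SmallSimple.S1000.LocalStructure
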