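import Mathlib
import Cfsg.Agent.S0144
import Cfsg.Agent.MinSimple.Basic
import Cfsg.Agent.OddOrderLocal.NilParts
import Cfsg.Agent.Classification.LocalCore

/-!
# Simple groups of order `p * 3 ^ a * 2 ^ b` (S1000): the standing hypotheses

`o2 X = O₂(X)` (`ZN.o2`), `o3 X = O₃(X)`, `TT X`: `X` is a `{2,3}`-group.

* `Hyp G p a b`: the situation after the reduction (characteristic 2 type, 2-rank `≥ 3`, no strongly
  embedded subgroup, a nonsolvable 2-local subgroup, `C_G(P) = P` for the subgroups `P` of order `p`).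
* `Loc G`: the purely local hypotheses: centralizers of 2-elements and of 3-elements are `{2,3}`-groups
  of characteristic 2 and characteristic 3.
-/

set_option autoImplicit false

namespace Cfsg.Agent.SmallSimple.S1000.Setup

open Subgroup Cfsg Cfsg.Agent.ZN Cfsg.Agent.MinSimple.Basic Cfsg.Agent.MinSimple.VModule

universe u

variable {G : Type u} [Group G]

/-- `O₃(X)` as a subgroup of `G`. -/
abbrev o3 (X : Subgroup G) : Subgroup G := OddOrderLocal.NilParts.oP 3 X

/-- `X` is a `{2,3}`-group. -/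
def TT (X : Subgroup G) : Prop := ∃ i j : ℕ, Nat.card X = 2 ^ i * 3 ^ j

theorem TT.solvable [Finite G] {X : Subgroup G} (h : TT X) : Group.IsSolvable X := by
  obtain ⟨i, j, h⟩ := h
  exact Cfsg.Agent.S0144.result 2 3 i j Nat.prime_two Nat.prime_three h

theorem exists_of_dvd {i j n : ℕ} (h : n ∣ 2 ^ i * 3 ^ j) : ∃ k l : ℕ, n = 2 ^ k * 3 ^ l := by
  obtain ⟨x, y, hx, hy, rfl⟩ := exists_dvd_and_dvd_of_dvd_mul h
  obtain ⟨k, -, rfl⟩ := (Nat.dvd_prime_pow Nat.prime_two).mp hx
  obtain ⟨l, -, rfl⟩ := (Nat.dvd_prime_pow Nat.prime_three).mp hy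
  exact ⟨k, l, rfl⟩

theorem TT.mono [Finite G] {X Y : Subgroup G} (h : TT X) (hY : Y ≤ X) : TT Y := by
  obtain ⟨i, j, h⟩ := h
  exact exists_of_dvd (h ▸ card_dvd_of_le hY)

/-- `X` is a `{2,3}`-group as soon as its order is divisible by no prime `≥ 5`. -/
theorem TT.of_prime [Finite G] {X : Subgroup G}
    (h : ∀ q : ℕ, q.Prime → q ∣ Nat.card X → q = 2 ∨ q = 3) : TT X := by
  have h0 : Nat.card X ≠ 0 := Nat.card_pos.ne'
  obtain ⟨i, m, hm, hc⟩ := Nat.exists_eq_pow_mul_and_not_dvd h0 2 (by norm_num)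
  have hm0 : m ≠ 0 := by rintro rfl; simp at hm
  obtain ⟨j, k, hk, hc'⟩ := Nat.exists_eq_pow_mul_and_not_dvd hm0 3 (by norm_num)
  have hk1 : k = 1 := by
    by_contra hk1
    obtain ⟨q, hq, hqk⟩ := Nat.exists_prime_and_dvd hk1
    have hqm : q ∣ m := hc' ▸ Dvd.dvd.mul_left hqk _
    rcases h q hq (hc ▸ Dvd.dvd.mul_left hqm _) with rfl | rfl
    · exact hm hqm
    · exact hk hqk
  exact ⟨i, j, by rw [hc, hc', hk1, mul_one]⟩

theorem TT.prime [Finite G] {X : Subgroup G} (h : TT X) {q : ℕ} (hq : q.Prime)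
    (hqX : q ∣ Nat.card X) : q = 2 ∨ q = 3 := by
  obtain ⟨i, j, h⟩ := h
  rw [h] at hqX
  rcases (Nat.Prime.dvd_mul hq).1 hqX with h1 | h1
  · exact Or.inl ((Nat.prime_dvd_prime_iff_eq hq Nat.prime_two).1 (hq.dvd_of_dvd_pow h1))
  · exact Or.inr ((Nat.prime_dvd_prime_iff_eq hq Nat.prime_three).1 (hq.dvd_of_dvd_pow h1))

/-! ### `O₃` -/

theorem o3_def (X : Subgroup G) : o3 X = (pCore 3 ↥X).map X.subtype := rfl

theorem o3_le (X : Subgroup G) : o3 X ≤ X := map_subtype_le _

theorem o3_isPGroup (X : Subgroup G) : IsPGroup 3 (o3 X) := OddOrderLocal.NilParts.isPGroup_oP 3 X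

theorem le_normalizer_o3 (X : Subgroup G) : X ≤ normalizer (o3 X : Set G) :=
  OddOrderLocal.NilParts.le_normalizer_oP 3 X

theorem le_o3 {K X : Subgroup G} (hKX : K ≤ X) (hK : IsPGroup 3 K)
    (hn : X ≤ normalizer (K : Set G)) : K ≤ o3 X :=
  OddOrderLocal.NilParts.le_oP hKX hK hn

theorem isPGroup_of_tt_of_coprime [Finite G] {X : Subgroup G} (h : TT X)
    (hc : (Nat.card X).Coprime 3) : IsPGroup 2 X := by
  obtain ⟨i, j, h⟩ := h
  rcases Nat.eq_zero_or_pos j with rfl | hj
  · exact IsPGroup.of_card (by rw [h, pow_zero, mul_one])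
  · exfalso
    have h3 : 3 ∣ Nat.card X := h ▸ Dvd.dvd.mul_left (dvd_pow_self 3 hj.ne') _
    have := Nat.dvd_gcd h3 (dvd_refl 3)
    rw [hc] at this
    omega

theorem isPGroup_of_tt_of_odd [Finite G] {X : Subgroup G} (h : TT X)
    (hc : (Nat.card X).Coprime 2) : IsPGroup 3 X := by
  obtain ⟨i, j, h⟩ := h
  rcases Nat.eq_zero_or_pos i with rfl | hj
  · exact IsPGroup.of_card (by rw [h, pow_zero, one_mul])
  · exfalso
    have h3 : 2 ∣ Nat.card X := h ▸ Dvd.dvd.mul_right (dvd_pow_self 2 hj.ne') _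
    have := Nat.dvd_gcd h3 (dvd_refl 2)
    rw [hc] at this
    omega

/-- `C_X(O₃(X)) ≤ O₃(X)` for a `{2,3}`-group `X` with `O₂(X) = 1`. -/
theorem inf_centralizer_o3_le [Finite G] {X : Subgroup G} (hX : TT X) (h : o2 X = ⊥) :
    X ⊓ centralizer (o3 X : Set G) ≤ o3 X := by
  have hf3 : Fact (Nat.Prime 3) := ⟨Nat.prime_three⟩
  have hsol := hX.solvable
  have h1 : pPrimeCore 3 ↥X = ⊥ := by
    have h2 : OddOrderLocal.NilParts.oP' 3 X ≤ o2 X := by
      refine le_o2 (OddOrderLocal.NilParts.oP'_le 3 X) ?_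
        (OddOrderLocal.NilParts.le_normalizer_oP' 3 X)
      exact isPGroup_of_tt_of_coprime (hX.mono (OddOrderLocal.NilParts.oP'_le 3 X))
        (OddOrderLocal.NilParts.coprime_oP' 3 X)
    rw [h, le_bot_iff, OddOrderLocal.NilParts.oP'_def] at h2
    exact (Subgroup.map_eq_bot_iff_of_injective _ X.subtype_injective).mp h2
  have h3 := Lib.HallHigman.centralizer_pCore_le_of_solvable 3 h1
  rintro x ⟨hx, hxc⟩
  have h4 : (⟨x, hx⟩ : X) ∈ centralizer (pCore 3 ↥X : Set X) := by
    rw [mem_centralizer_iff]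
    intro y hy
    exact Subtype.ext (mem_centralizer_iff.mp hxc _ ⟨y, hy, rfl⟩)
  exact ⟨_, h3 h4, rfl⟩

/-- `C_X(O₂(X)) ≤ O₂(X)` for a `{2,3}`-group `X` with `O₃(X) = 1`. -/
theorem inf_centralizer_o2_le [Finite G] {X : Subgroup G} (hX : TT X) (h : o3 X = ⊥) :
    X ⊓ centralizer (o2 X : Set G) ≤ o2 X := by
  refine char2_of_oc_eq_bot hX.solvable ?_
  rw [← le_bot_iff, ← h]
  refine le_o3 (oc_le X) ?_ (le_normalizer_oc X)
  exact isPGroup_of_tt_of_odd (hX.mono (oc_le X)) (Nat.coprime_two_right.mpr (odd_card_oc X))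

/-! ### The purely local hypotheses -/

/-- The local hypotheses: `G` is of characteristic 2 type, the centralizers of the elements of order
2 and 3 are `{2,3}`-groups, and `O₂(C_G(y)) = 1` for all elements `y` of order 3. -/
structure Loc (G : Type*) [Group G] : Prop where
  char2 : IsCharacteristicTwoType G
  tt2 : ∀ t : G, orderOf t = 2 → TT (centralizer ({t} : Set G))
  tt3 : ∀ y : G, orderOf y = 3 → TT (centralizer ({y} : Set G))
  core3 : ∀ y : G, orderOf y = 3 → o2 (centralizer ({y} : Set G)) = ⊥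

theorem exists_orderOf_eq [Finite G] {q : ℕ} [hq : Fact q.Prime] {T : Subgroup G}
    (hT : IsPGroup q T) (hT1 : T ≠ ⊥) :
    ∃ t ∈ T, orderOf t = q ∧ T ≤ centralizer ({t} : Set G) := by
  have : Nontrivial T := (nontrivial_iff_ne_bot T).mpr hT1
  have hz : Nontrivial (center ↥T) := hT.center_nontrivial
  have hp : IsPGroup q (center ↥T) := hT.to_subgroup _
  obtain ⟨n, hn, hc⟩ := (hp.nontrivial_iff_card).mp hz
  obtain ⟨⟨z, hzc⟩, hz⟩ := exists_prime_orderOf_dvd_card' (G := center ↥T) q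
    (hc ▸ dvd_pow_self q hn.ne')
  refine ⟨z, z.2, ?_, ?_⟩
  · rw [Subgroup.orderOf_coe]
    exact (Subgroup.orderOf_coe (⟨z, hzc⟩ : center ↥T)).trans hz
  · intro x hx
    rw [mem_centralizer_iff]
    rintro _ rfl
    exact (congrArg Subtype.val (mem_center_iff.mp hzc ⟨x, hx⟩)).symm

variable [Finite G]

/-- `C_G(T)` is a `{2,3}`-group for 2-subgroups `T ≠ 1`. -/
theorem Loc.tt_two (h : Loc G) {T : Subgroup G} (hT : IsPGroup 2 T) (hT1 : T ≠ ⊥) :
    TT (centralizer (T : Set G)) := by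
  have hf : Fact (Nat.Prime 2) := ⟨Nat.prime_two⟩
  obtain ⟨t, htT, ht, -⟩ := exists_orderOf_eq hT hT1
  exact (h.tt2 t ht).mono (centralizer_le (Set.singleton_subset_iff.mpr htT))

/-- `C_G(T)` is a `{2,3}`-group for 3-subgroups `T ≠ 1`. -/
theorem Loc.tt_three (h : Loc G) {T : Subgroup G} (hT : IsPGroup 3 T) (hT1 : T ≠ ⊥) :
    TT (centralizer (T : Set G)) := by
  have hf : Fact (Nat.Prime 3) := ⟨Nat.prime_three⟩
  obtain ⟨t, htT, ht, -⟩ := exists_orderOf_eq hT hT1
  exact (h.tt3 t ht).mono (centralizer_le (Set.singleton_subset_iff.mpr htT))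

omit [Finite G] in
theorem normalizer_le_normalizer_centralizer (T : Subgroup G) :
    normalizer (T : Set G) ≤ normalizer (centralizer (T : Set G) : Set G) :=
  OddOrderLocal.NilParts.normalizer_le_normalizer_centralizer T

omit [Finite G] in
/-- `O_q` of a subgroup normalized by `X` is normalized by `X`. -/
theorem le_normalizer_o3_of_le {X Y : Subgroup G} (h : X ≤ normalizer (Y : Set G)) :
    X ≤ normalizer (o3 Y : Set G) :=
  h.trans (OddOrderLocal.NilParts.normalizer_le_oP 3 Y)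

omit [Finite G] in
theorem le_normalizer_o2_of_le {X Y : Subgroup G} (h : X ≤ normalizer (Y : Set G)) :
    X ≤ normalizer (o2 Y : Set G) :=
  h.trans (OddOrderLocal.NilParts.normalizer_le_oP 2 Y)

/-- In a group of characteristic 2 type: a subgroup `D` of odd order that is normalized by a subgroup
`X` with `U ≤ X ≤ N_G(U)`, ... contained in `X`, where `U ≠ 1` is a 2-group: trivial if `X = N_G(U)`
or `X = C_G(U)`. -/
theorem o3_centralizer_eq_bot (hG : IsCharacteristicTwoType G) {T : Subgroup G}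
    (hT : IsPGroup 2 T) (hT1 : T ≠ ⊥) : o3 (centralizer (T : Set G)) = ⊥ := by
  have h1 := char2_normalizer hG hT hT1
  refine eq_bot_of_odd h1 ((o3_le _).trans (centralizer_le_normalizer _))
    (le_normalizer_o3_of_le (normalizer_le_normalizer_centralizer T)) ?_
  obtain ⟨n, hn⟩ := IsPGroup.iff_card.mp (o3_isPGroup (centralizer (T : Set G)))
  rw [hn]
  exact Odd.pow (by decide)

/-- `C_G(T)` is of characteristic 2 for 2-subgroups `T ≠ 1`. -/
theorem Loc.char_two (h : Loc G) {T : Subgroup G} (hT : IsPGroup 2 T) (hT1 : T ≠ ⊥) :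
    centralizer (T : Set G) ⊓ centralizer (o2 (centralizer (T : Set G)) : Set G) ≤
      o2 (centralizer (T : Set G)) :=
  inf_centralizer_o2_le (h.tt_two hT hT1) (o3_centralizer_eq_bot h.char2 hT hT1)

theorem Loc.o3_two (h : Loc G) {T : Subgroup G} (hT : IsPGroup 2 T) (hT1 : T ≠ ⊥) :
    o3 (centralizer (T : Set G)) = ⊥ := o3_centralizer_eq_bot h.char2 hT hT1

/-- `O₂(C_G(T)) = 1` for 3-subgroups `T ≠ 1`. -/
theorem Loc.o2_three (h : Loc G) {T : Subgroup G} (hT : IsPGroup 3 T) (hT1 : T ≠ ⊥) :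
    o2 (centralizer (T : Set G)) = ⊥ := by
  have hf : Fact (Nat.Prime 3) := ⟨Nat.prime_three⟩
  obtain ⟨t, htT, ht, hTt⟩ := exists_orderOf_eq hT hT1
  have h1 := inf_centralizer_o3_le (h.tt3 t ht) (h.core3 t ht)
  refine Classification.LocalCore.pPrimeCore_centralizer_eq_bot 3 T hT t htT hTt ?_ _ ?_
    (o2_le _) (le_normalizer_o2 _)
  · intro x hx
    have h2 := h1 ⟨x.2, mem_centralizer_iff.mpr (by
      rintro _ ⟨y, hy, rfl⟩
      exact congrArg Subtype.val (mem_centralizer_iff.mp hx y hy))⟩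
    obtain ⟨y, hy, hyx⟩ := h2
    rwa [Subtype.ext hyx] at hy
  · obtain ⟨n, hn⟩ := IsPGroup.iff_card.mp (o2_isPGroup (centralizer (T : Set G)))
    rw [hn]
    exact Nat.Coprime.pow_left n (by norm_num)

/-- `C_G(T)` is of characteristic 3 for 3-subgroups `T ≠ 1`. -/
theorem Loc.char_three (h : Loc G) {T : Subgroup G} (hT : IsPGroup 3 T) (hT1 : T ≠ ⊥) :
    centralizer (T : Set G) ⊓ centralizer (o3 (centralizer (T : Set G)) : Set G) ≤
      o3 (centralizer (T : Set G)) :=
  inf_centralizer_o3_le (h.tt_three hT hT1) (h.o2_three hT hT1)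

omit [Finite G] in
theorem zpowers_ne_bot_of_orderOf {t : G} {q : ℕ} (hq : q.Prime) (ht : orderOf t = q) :
    zpowers t ≠ ⊥ := by
  rw [Ne, zpowers_eq_bot]
  rintro rfl
  rw [orderOf_one] at ht
  exact hq.one_lt.ne ht

omit [Finite G] in
theorem isPGroup_zpowers_of_orderOf {t : G} {q : ℕ} [Fact q.Prime] (ht : orderOf t = q) :
    IsPGroup q (zpowers t) :=
  IsPGroup.of_card (n := 1) (by rw [Nat.card_zpowers, ht, pow_one])

omit [Finite G] in
theorem centralizer_zpowers_eq (t : G) :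
    centralizer ((zpowers t : Subgroup G) : Set G) = centralizer ({t} : Set G) := by
  rw [← centralizer_closure ({t} : Set G), ← zpowers_eq_closure]

/-- `C_G(t)` is of characteristic 2 for involutions `t`. -/
theorem Loc.char_two' (h : Loc G) {t : G} (ht : orderOf t = 2) :
    centralizer ({t} : Set G) ⊓ centralizer (o2 (centralizer ({t} : Set G)) : Set G) ≤
      o2 (centralizer ({t} : Set G)) := by
  have hf : Fact (Nat.Prime 2) := ⟨Nat.prime_two⟩
  have := h.char_two (isPGroup_zpowers_of_orderOf ht) (zpowers_ne_bot_of_orderOf Nat.prime_two ht)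
  rwa [centralizer_zpowers_eq] at this

/-- `C_G(y)` is of characteristic 3 for elements `y` of order 3. -/
theorem Loc.char_three' (h : Loc G) {y : G} (hy : orderOf y = 3) :
    centralizer ({y} : Set G) ⊓ centralizer (o3 (centralizer ({y} : Set G)) : Set G) ≤
      o3 (centralizer ({y} : Set G)) :=
  inf_centralizer_o3_le (h.tt3 y hy) (h.core3 y hy)

/-- `m_{2,3}(G) ≤ n`: the elementary abelian 3-subgroups that normalize a nontrivial 2-subgroup have rank
at most `n`. The wide case is `¬ M23LE 1 G`, the thin case is `M23LE 1 G`. -/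
def M23LE (n : ℕ) (G : Type*) [Group G] : Prop :=
  ∀ B U : Subgroup G, IsElementaryAbelian 3 B → IsPGroup 2 U → U ≠ ⊥ → B ≤ normalizer (U : Set G) →
    Nat.card B ≤ 3 ^ n

/-! ### The conclusion of S1000 -/

/-- `H` is one of the eight groups of the conclusion of S1000. -/
def Known (H : Type*) [Group H] : Prop :=
  Nonempty (H ≃* alternatingGroup (Fin 5)) ∨ Nonempty (H ≃* alternatingGroup (Fin 6)) ∨
    (∃ (F : Type) (_ : Field F) (_ : Fintype F), Fintype.card F = 3 ∧ Nonempty (H ≃* Cfsg.PSp 2 F)) ∨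
    (∃ (F : Type) (_ : Field F) (_ : Fintype F), (Fintype.card F = 7 ∨ Fintype.card F = 8 ∨
      Fintype.card F = 17) ∧ Nonempty (H ≃* Matrix.ProjectiveSpecialLinearGroup (Fin 2) F)) ∨
    (∃ (F : Type) (_ : Field F) (_ : Fintype F), Fintype.card F = 9 ∧ Nonempty (H ≃* Cfsg.PSU 3 F 3)) ∨
    (∃ (F : Type) (_ : Field F) (_ : Fintype F), Fintype.card F = 3 ∧
      Nonempty (H ≃* Matrix.ProjectiveSpecialLinearGroup (Fin 3) F))

/-- The induction hypothesis: S1000 holds for the groups of order smaller than `|G|`. -/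
def Ind (G : Type u) : Prop :=
  ∀ (H : Type u) [Group H] [Finite H] [IsSimpleGroup H], ¬ IsMulCommutative H →
    Nat.card H < Nat.card G → ∀ q c d : ℕ, q.Prime → Nat.card H = q * 3 ^ c * 2 ^ d → Known H

/-! ### The situation after the reduction -/

/-- The standing hypotheses in the proof of S1000. -/
structure Hyp (G : Type*) [Group G] (p a b : ℕ) : Prop where
  simple : IsSimpleGroup G
  prime : p.Prime
  five_le : 5 ≤ p
  mem : p = 5 ∨ p = 7 ∨ p = 13 ∨ p = 17
  card : Nat.card G = p * 3 ^ a * 2 ^ b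
  cent : ∀ x : G, orderOf x = p → centralizer ({x} : Set G) = zpowers x
  char2 : IsCharacteristicTwoType G
  rank : ¬ PRankLE 2 2 G
  nse : ∀ H : Subgroup G, ¬ IsStronglyEmbedded H
  nsol : ∃ N : Subgroup G, IsTwoLocal N ∧ ¬ Group.IsSolvable N

variable {p a b : ℕ}

theorem Hyp.finite {G : Type*} [Group G] (h : Hyp G p a b) : Finite G := by
  apply Nat.finite_of_card_ne_zero
  rw [h.card]
  have := h.prime.pos
  positivity

/-- The centralizer of an element of prime order `q ≠ p` is a `{2,3}`-group. -/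
theorem Hyp.tt (h : Hyp G p a b) {t : G} (ht : t ≠ 1) (htp : orderOf t ≠ p) :
    TT (centralizer ({t} : Set G)) := by
  refine TT.of_prime fun q hq hqX => ?_
  have hqG : q ∣ p * 3 ^ a * 2 ^ b := h.card ▸ hqX.trans (card_subgroup_dvd_card _)
  by_cases hqp : q = p
  · exfalso
    subst hqp
    have hfq : Fact q.Prime := ⟨hq⟩
    obtain ⟨x, hx⟩ := exists_prime_orderOf_dvd_card' (G := centralizer ({t} : Set G)) q hqX
    have hxo : orderOf (x : G) = q := by rw [Subgroup.orderOf_coe, hx]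
    have htc : t ∈ centralizer ({(x : G)} : Set G) := by
      rw [mem_centralizer_iff]
      rintro _ rfl
      exact ((mem_centralizer_iff.mp x.2) t rfl).symm
    rw [h.cent _ hxo] at htc
    have h1 : orderOf t ∣ q := by
      rw [← hxo, ← Nat.card_zpowers (x : G)]
      have := orderOf_dvd_natCard (⟨t, htc⟩ : zpowers (x : G))
      rwa [Subgroup.orderOf_mk] at this
    rcases (Nat.dvd_prime hq).mp h1 with h2 | h2
    · exact ht (orderOf_eq_one_iff.mp h2)
    · exact htp h2
  · rcases (Nat.Prime.dvd_mul hq).1 hqG with h1 | h1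
    · rcases (Nat.Prime.dvd_mul hq).1 h1 with h2 | h2
      · exact absurd ((Nat.prime_dvd_prime_iff_eq hq h.prime).1 h2) hqp
      · exact Or.inr ((Nat.prime_dvd_prime_iff_eq hq Nat.prime_three).1 (hq.dvd_of_dvd_pow h2))
    · exact Or.inl ((Nat.prime_dvd_prime_iff_eq hq Nat.prime_two).1 (hq.dvd_of_dvd_pow h1))

/-- `C_G(T)` is a `{2,3}`-group for the 2-subgroups `T ≠ 1`. -/
theorem Hyp.tt_two (h : Hyp G p a b) {T : Subgroup G} (hT : IsPGroup 2 T) (hT1 : T ≠ ⊥) :
    TT (centralizer (T : Set G)) := by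
  have hf : Fact (Nat.Prime 2) := ⟨Nat.prime_two⟩
  obtain ⟨t, htT, ht, -⟩ := exists_orderOf_eq hT hT1
  refine (h.tt (t := t) ?_ ?_).mono (centralizer_le (Set.singleton_subset_iff.mpr htT))
  · rintro rfl
    simp at ht
  · have := h.five_le
    omega

/-- `C_G(T)` is of characteristic 2 for the 2-subgroups `T ≠ 1`. -/
theorem Hyp.char_two (h : Hyp G p a b) {T : Subgroup G} (hT : IsPGroup 2 T) (hT1 : T ≠ ⊥) :
    centralizer (T : Set G) ⊓ centralizer (o2 (centralizer (T : Set G)) : Set G) ≤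
      o2 (centralizer (T : Set G)) :=
  inf_centralizer_o2_le (h.tt_two hT hT1) (o3_centralizer_eq_bot h.char2 hT hT1)

/-- The local hypotheses hold as soon as `O₂(C_G(y)) = 1` for the elements `y` of order 3. -/
theorem Hyp.loc (h : Hyp G p a b)
    (h3 : ∀ y : G, orderOf y = 3 → o2 (centralizer ({y} : Set G)) = ⊥) : Loc G where
  char2 := h.char2
  tt2 t ht := h.tt (by rintro rfl; simp at ht) (by have := h.five_le; omega)
  tt3 t ht := h.tt (by rintro rfl; simp at ht) (by have := h.five_le; omega)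
  core3 := h3

/-- A subgroup of order prime to `p` is a `{2,3}`-group. -/
theorem Hyp.tt_of_not_dvd (h : Hyp G p a b) {X : Subgroup G} (hX : ¬ p ∣ Nat.card X) : TT X := by
  refine TT.of_prime fun q hq hqX => ?_
  have hqG : q ∣ p * 3 ^ a * 2 ^ b := h.card ▸ hqX.trans (card_subgroup_dvd_card _)
  rcases (Nat.Prime.dvd_mul hq).1 hqG with h1 | h1
  · rcases (Nat.Prime.dvd_mul hq).1 h1 with h2 | h2
    · rw [(Nat.prime_dvd_prime_iff_eq hq h.prime).1 h2] at hqX
      exact absurd hqX hX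
    · exact Or.inr ((Nat.prime_dvd_prime_iff_eq hq Nat.prime_three).1 (hq.dvd_of_dvd_pow h2))
  · exact Or.inl ((Nat.prime_dvd_prime_iff_eq hq Nat.prime_two).1 (hq.dvd_of_dvd_pow h1))

end Cfsg.Agent.SmallSimple.S1000.Setup
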