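import Mathlib
import Cfsg.Agent.SmallSimple.S1000.Setup
import Cfsg.Agent.SmallSimple.S1000.LocalStructure
import Cfsg.Agent.SmallSimple.S1000.TwoModule

/-!
# The maximal nonsolvable 2-local subgroup (S1000)

`MaxLocal M`: `M` is a nonsolvable 2-local subgroup, maximal among the 2-local subgroups.  Under the
hypotheses `Hyp G p a b`:

* `exists_maxLocal`;
* `MaxLocal.normalizer_eq`: `N_G(D) = M` for the 2-groups `D ≠ 1` normalised by `M`;
* `MaxLocal.exists_orderOf`: `M` contains an element `x` of order `p`;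
* `MaxLocal.exists_simple`: `M / O₂(M)` is almost simple; `MaxLocal.known`: the socle is one of the
  groups of S1000;
* `MaxLocal.act`: the (faithful) action of `M / O₂(M)` on `V = Ω₁(Z(O₂(M)))`.
-/

set_option autoImplicit false

namespace Cfsg.Agent.SmallSimple.S1000.Local

open Subgroup Cfsg Cfsg.Agent.ZN Cfsg.Agent.MinSimple.Basic Cfsg.Agent.MinSimple.VModule
open Cfsg.Agent.SmallSimple.S1000.Setup Cfsg.Agent.SmallSimple.S1000.TwoModule

universe u

variable {G : Type u} [Group G]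

/-- `M` is a nonsolvable 2-local subgroup, maximal among the 2-local subgroups. -/
structure MaxLocal (M : Subgroup G) : Prop where
  isLocal : IsTwoLocal M
  nsol : ¬ Group.IsSolvable M
  max : ∀ N : Subgroup G, IsTwoLocal N → M ≤ N → N = M

variable {p a b : ℕ}

theorem exists_maxLocal (h : Hyp G p a b) : ∃ M : Subgroup G, MaxLocal M := by
  have hfin := h.finite
  obtain ⟨N, hN, hNs⟩ := h.nsol
  obtain ⟨M, ⟨hM, hNM⟩, hmax⟩ := (Set.toFinite {M : Subgroup G | IsTwoLocal M ∧ N ≤ M}).exists_maximal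
    ⟨N, hN, le_rfl⟩
  refine ⟨M, hM, ?_, ?_⟩
  · intro hs
    exact hNs (Group.isSolvable_of_isSolvable_injective (inclusion_injective hNM))
  · intro K hK hMK
    exact le_antisymm (hmax ⟨hK, hNM.trans hMK⟩ hMK) hMK

namespace MaxLocal

variable {M : Subgroup G}

theorem normalizer_eq (hM : MaxLocal M) {D : Subgroup G} (hD : IsPGroup 2 D) (hD1 : D ≠ ⊥)
    (hMD : M ≤ normalizer (D : Set G)) : normalizer (D : Set G) = M :=
  hM.max _ ⟨D, hD, hD1, rfl⟩ hMD

theorem o2_ne_bot (hM : MaxLocal M) : o2 M ≠ ⊥ := by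
  obtain ⟨D, hD, hD1, rfl⟩ := hM.isLocal
  intro h
  apply hD1
  rw [← le_bot_iff, ← h]
  exact le_o2 (le_normalizer) hD le_rfl

theorem normalizer_o2 (hM : MaxLocal M) : normalizer (o2 M : Set G) = M :=
  hM.normalizer_eq (o2_isPGroup M) hM.o2_ne_bot (le_normalizer_o2 M)

theorem char2 (hM : MaxLocal M) (h : Hyp G p a b) :
    M ⊓ centralizer (o2 M : Set G) ≤ o2 M := by
  obtain ⟨D, hD, hD1, hDM⟩ := hM.isLocal
  have := char2_normalizer h.char2 hD hD1
  rwa [← hDM] at this

theorem char2' (hM : MaxLocal M) (h : Hyp G p a b) :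
    centralizer (pCore 2 ↥M : Set ↥M) ≤ pCore 2 ↥M := (char2_iff M).mpr (hM.char2 h)

theorem dvd_card (hM : MaxLocal M) (h : Hyp G p a b) : p ∣ Nat.card M := by
  have hfin := h.finite
  by_contra hp
  exact hM.nsol (h.tt_of_not_dvd hp).solvable

theorem not_sq_dvd (h : Hyp G p a b) (K : Subgroup G) : ¬ p ^ 2 ∣ Nat.card K := by
  intro hd
  have h1 : p ^ 2 ∣ p * 3 ^ a * 2 ^ b := h.card ▸ hd.trans (card_subgroup_dvd_card K)
  rw [pow_two, mul_assoc] at h1
  have h2 : p ∣ 3 ^ a * 2 ^ b := Nat.dvd_of_mul_dvd_mul_left h.prime.pos h1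
  have h5 := h.five_le
  rcases (Nat.Prime.dvd_mul h.prime).1 h2 with h3 | h3
  · have := (Nat.prime_dvd_prime_iff_eq h.prime Nat.prime_three).1 (h.prime.dvd_of_dvd_pow h3)
    omega
  · have := (Nat.prime_dvd_prime_iff_eq h.prime Nat.prime_two).1 (h.prime.dvd_of_dvd_pow h3)
    omega

theorem exists_orderOf (hM : MaxLocal M) (h : Hyp G p a b) : ∃ x : M, orderOf x = p := by
  have hfin := h.finite
  have hpf : Fact p.Prime := ⟨h.prime⟩
  exact exists_prime_orderOf_dvd_card' p (hM.dvd_card h)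

theorem mem_zpowers (h : Hyp G p a b) {x : M} (hx : orderOf x = p) (g : M)
    (hg : x * g = g * x) : g ∈ zpowers x := by
  have h1 : (g : G) ∈ centralizer ({(x : G)} : Set G) := by
    rw [mem_centralizer_iff]
    rintro _ rfl
    exact congrArg Subtype.val hg
  rw [h.cent _ (by rw [Subgroup.orderOf_coe, hx])] at h1
  obtain ⟨k, hk⟩ := h1
  exact ⟨k, Subtype.ext hk⟩

theorem solvable_of_not_dvd (h : Hyp G p a b) (K : Subgroup M) (hK : ¬ p ∣ Nat.card K) :
    Group.IsSolvable K := by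
  have hfin := h.finite
  have h1 : Nat.card (K.map M.subtype) = Nat.card K :=
    card_map_of_injective M.subtype_injective
  have h2 := (h.tt_of_not_dvd (X := K.map M.subtype) (by rwa [h1])).solvable
  exact Group.isSolvable_of_surjective
    (f := (K.equivMapOfInjective M.subtype M.subtype_injective).symm.toMonoidHom)
    (K.equivMapOfInjective M.subtype M.subtype_injective).symm.surjective

/-- `M / O₂(M)` is almost simple. -/
theorem exists_simple (hM : MaxLocal M) (h : Hyp G p a b) :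
    ∃ L : Subgroup (M ⧸ pCore 2 ↥M), L.Normal ∧ IsSimpleGroup L ∧ ¬ IsMulCommutative L ∧
      p ∣ Nat.card L ∧ centralizer (L : Set (M ⧸ pCore 2 ↥M)) = ⊥ ∧
      ∀ K : Subgroup (M ⧸ pCore 2 ↥M), K.Normal → K ≠ ⊥ → L ≤ K := by
  have hfin := h.finite
  obtain ⟨x, hx⟩ := hM.exists_orderOf h
  exact LocalStructure.exists_simple_normal h.prime (by have := h.five_le; omega)
    (not_sq_dvd h M) (solvable_of_not_dvd h) hM.nsol x hx (mem_zpowers h hx) (hM.char2' h)

theorem card_quotient_dvd (M : Subgroup G) (L : Subgroup (M ⧸ pCore 2 ↥M)) :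
    Nat.card L ∣ Nat.card M := by
  refine (card_subgroup_dvd_card L).trans ?_
  rw [← (pCore 2 ↥M).card_mul_index]
  exact Dvd.intro_left _ rfl

theorem card_pCore (M : Subgroup G) : Nat.card (pCore 2 ↥M) = Nat.card (o2 M) :=
  (card_map_of_injective M.subtype_injective).symm

theorem card_mul_card (M : Subgroup G) :
    Nat.card (o2 M) * Nat.card (M ⧸ pCore 2 ↥M) = Nat.card M := by
  rw [← card_pCore]
  exact (pCore 2 ↥M).card_mul_index

/-- The socle of `M / O₂(M)` is known by induction. -/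
theorem known (hM : MaxLocal M) (h : Hyp G p a b) (ind : Ind G) (L : Subgroup (M ⧸ pCore 2 ↥M))
    (hLs : IsSimpleGroup L) (hLc : ¬ IsMulCommutative L) (hpL : p ∣ Nat.card L) :
    ∃ c d : ℕ, Nat.card L = p * 3 ^ c * 2 ^ d ∧ Known L := by
  have hfin := h.finite
  have hdvd : Nat.card L ∣ p * 3 ^ a * 2 ^ b :=
    h.card ▸ (card_quotient_dvd M L).trans (card_subgroup_dvd_card M)
  obtain ⟨m, hm⟩ := hpL
  have h1 : m ∣ 2 ^ b * 3 ^ a := by
    rw [hm, mul_assoc] at hdvd
    rw [mul_comm (2 ^ b)]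
    exact Nat.dvd_of_mul_dvd_mul_left h.prime.pos hdvd
  obtain ⟨d, c, rfl⟩ := Setup.exists_of_dvd h1
  have h2 : Nat.card L = p * 3 ^ c * 2 ^ d := by rw [hm]; ring
  refine ⟨c, d, h2, ind L hLc ?_ p c d h.prime h2⟩
  -- `|L| < |G|`
  have h3 : Nat.card L ≤ Nat.card (M ⧸ pCore 2 ↥M) := card_le_card_group L
  have h4 := card_mul_card M
  have h5 : 1 < Nat.card (o2 M) := (one_lt_card_iff_ne_bot _).mpr hM.o2_ne_bot
  have h6 : Nat.card M ≤ Nat.card G := card_le_card_group M
  have h7 : 0 < Nat.card (M ⧸ pCore 2 ↥M) := Nat.card_pos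
  nlinarith

end MaxLocal

/-! ### The action on `V = Ω₁(Z(O₂(M)))` -/

/-- `V = Ω₁(Z(O₂(M)))`. -/
abbrev V (M : Subgroup G) : Subgroup G := zc (o2 M)

theorem V_le (M : Subgroup G) : V M ≤ M := (zc_le _).trans (o2_le M)

theorem le_normalizer_V (M : Subgroup G) : M ≤ normalizer (V M : Set G) :=
  (le_normalizer_o2 M).trans (normalizer_le_normalizer_zc _)

theorem V_sq (M : Subgroup G) (v : V M) : v * v = 1 :=
  Subtype.ext (by rw [← pow_two]; exact zc_sq (o2 M) v v.2)

/-- `V` is commutative. -/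
noncomputable abbrev commGroup (M : Subgroup G) : CommGroup (V M) :=
  { (inferInstance : Group (V M)) with
    mul_comm := fun a b => Subtype.ext (zc_comm (o2 M) a a.2 b b.2) }

/-- The action of `M / O₂(M)` on `V`. -/
noncomputable def act (M : Subgroup G) : (M ⧸ pCore 2 ↥M) →* MulAut (V M) :=
  QuotientGroup.lift (pCore 2 ↥M)
    ((V M).normalizerMonoidHom.comp (inclusion (le_normalizer_V M))) (by
      intro y hy
      apply MulEquiv.ext
      intro v
      apply Subtype.ext
      show (y : G) * (v : G) * (y : G)⁻¹ = v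
      have h1 : (y : G) ∈ o2 M := ⟨y, hy, rfl⟩
      have h2 := mem_centralizer_iff.mp (zc_le_centralizer (o2 M) v.2) (y : G) h1
      rw [h2]
      group)

theorem act_apply (M : Subgroup G) (m : M) (v : V M) :
    ((act M (m : M ⧸ pCore 2 ↥M) v : V M) : G) = (m : G) * v * (m : G)⁻¹ := rfl

theorem V_ne_bot [Finite G] {M : Subgroup G} (hM : o2 M ≠ ⊥) : V M ≠ ⊥ := by
  have hf : Fact (Nat.Prime 2) := ⟨Nat.prime_two⟩
  obtain ⟨t, htT, ht, htc⟩ := exists_orderOf_eq (o2_isPGroup M) hM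
  intro h
  have h1 : t ∈ V M := by
    rw [V, mem_zc]
    refine ⟨htT, mem_centralizer_iff.mpr fun y hy => ?_, ?_⟩
    · exact (mem_centralizer_iff.mp (htc hy) t rfl).symm
    · rw [← ht, pow_orderOf_eq_one]
  rw [h, mem_bot] at h1
  rw [h1, orderOf_one] at ht
  omega

/-- Elements of order `p` act without fixed points. -/
theorem eq_one_of_commute (h : Hyp G p a b) {M : Subgroup G} {x : M} (hx : orderOf x = p) {v : G}
    (hv : v ∈ V M) (hxv : (x : G) * v = v * x) : v = 1 := by
  have h1 : v ∈ centralizer ({(x : G)} : Set G) := by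
    rw [mem_centralizer_iff]
    rintro _ rfl
    exact hxv
  rw [h.cent _ (by rw [Subgroup.orderOf_coe, hx])] at h1
  have h2 : orderOf v ∣ p := by
    have := orderOf_dvd_natCard (⟨v, h1⟩ : zpowers (x : G))
    rwa [Subgroup.orderOf_mk, Nat.card_zpowers, Subgroup.orderOf_coe, hx] at this
  have h3 : orderOf v ∣ 2 := orderOf_dvd_of_pow_eq_one (zc_sq _ v hv)
  have h5 := h.five_le
  rcases (Nat.dvd_prime h.prime).mp h2 with h4 | h4
  · exact orderOf_eq_one_iff.mp h4
  · rw [h4] at h3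
    have := Nat.le_of_dvd (by norm_num) h3
    omega

/-- A normal subgroup of order divisible by `p` contains all elements of order `p`, if `p²` does not
divide the order of the group. -/
theorem mem_of_dvd {X : Type*} [Group X] [Finite X] {p : ℕ} (hp : p.Prime)
    (hpp : ¬ p ^ 2 ∣ Nat.card X) (K : Subgroup X) [K.Normal] (hK : p ∣ Nat.card K) {x : X}
    (hx : orderOf x = p) : x ∈ K := by
  rw [← QuotientGroup.eq_one_iff, ← orderOf_eq_one_iff]
  have h1 : orderOf (x : X ⧸ K) ∣ p := by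
    rw [← hx]
    exact orderOf_map_dvd (QuotientGroup.mk' K) x
  rcases (Nat.dvd_prime hp).mp h1 with h2 | h2
  · exact h2
  · exfalso
    apply hpp
    have h3 : p ∣ Nat.card (X ⧸ K) := h2 ▸ orderOf_dvd_natCard _
    rw [← K.card_mul_index, pow_two]
    exact Nat.mul_dvd_mul hK h3

/-- Data on `M / O₂(M)` and its action on `V`. -/
theorem act_facts (h : Hyp G p a b) {M : Subgroup G} (hM : MaxLocal M) {x : M}
    (hx : orderOf x = p) :
    orderOf (x : M ⧸ pCore 2 ↥M) = p ∧ (∀ v, act M (x : M ⧸ pCore 2 ↥M) v = v → v = 1) ∧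
      Function.Injective (act M) := by
  have hfin := h.finite
  have hpf : Fact p.Prime := ⟨h.prime⟩
  have hp2 : p ≠ 2 := by have := h.five_le; omega
  have hNn : (pCore 2 ↥M).Normal := Lib.Cores.pCore_normal 2
  have hxq : orderOf (x : M ⧸ pCore 2 ↥M) = p :=
    LocalStructure.orderOf_quotient h.prime _ (LocalStructure.not_dvd_card_pCore h.prime hp2) hx
  have hfix : ∀ v, act M (x : M ⧸ pCore 2 ↥M) v = v → v = 1 := by
    intro v hv
    have h1 : (x : G) * v * (x : G)⁻¹ = v := congrArg Subtype.val hv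
    apply Subtype.ext
    refine eq_one_of_commute h hx v.2 ?_
    calc (x : G) * v = ((x : G) * v * (x : G)⁻¹) * x := by group
      _ = v * x := by rw [h1]
  refine ⟨hxq, hfix, ?_⟩
  rw [← MonoidHom.ker_eq_bot_iff]
  by_contra hne
  have hppq : ¬ p ^ 2 ∣ Nat.card (M ⧸ pCore 2 ↥M) := fun hd =>
    MaxLocal.not_sq_dvd h M (hd.trans (by rw [← MaxLocal.card_mul_card M]; exact Dvd.intro_left _ rfl))
  have h1 : p ∣ Nat.card (act M).ker :=
    LocalStructure.dvd_card_of_normal h.prime hp2 (MaxLocal.solvable_of_not_dvd h) x hx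
      (MaxLocal.mem_zpowers h hx) (hM.char2' h) inferInstance hne
  have h2 := mem_of_dvd h.prime hppq (act M).ker h1 hxq
  rw [MonoidHom.mem_ker] at h2
  apply V_ne_bot hM.o2_ne_bot
  rw [eq_bot_iff]
  intro v hv
  have h3 := hfix ⟨v, hv⟩ (by rw [h2]; rfl)
  exact mem_bot.mpr (congrArg Subtype.val h3)

end Cfsg.Agent.SmallSimple.S1000.Local
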