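import Mathlib
import Cfsg.Agent.SmallSimple.S1000.Local
import Cfsg.Agent.SmallSimple.S1000.PSLFacts

/-!
# The socle of `M / O₂(M)` and the inequality `6 ≤ b` for `p = 5, 7` (S1000)
-/

set_option autoImplicit false

namespace Cfsg.Agent.SmallSimple.S1000.Consequences

open Subgroup Cfsg Cfsg.Agent.ZN Cfsg.Agent.MinSimple.Basic Cfsg.Agent.MinSimple.VModule
open Cfsg.Agent.SmallSimple.S1000.Setup Cfsg.Agent.SmallSimple.S1000.TwoModule
open Cfsg.Agent.SmallSimple.S1000.Local

universe u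

section known

variable {H : Type*} [Group H] [Finite H]

omit [Finite H] in
/-- The groups of the list with their orders. -/
theorem known_cases (hK : Known H) :
    (Nat.card H = 60 ∧ Nonempty (H ≃* alternatingGroup (Fin 5))) ∨
    (Nat.card H = 360 ∧ Nonempty (H ≃* alternatingGroup (Fin 6))) ∨
    (Nat.card H = 25920 ∧ ∃ (F : Type) (_ : Field F) (_ : Fintype F), Fintype.card F = 3 ∧
      Nonempty (H ≃* Cfsg.PSp 2 F)) ∨
    (Nat.card H = 168 ∧ ∃ (F : Type) (_ : Field F) (_ : Fintype F), Fintype.card F = 7 ∧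
      Nonempty (H ≃* Matrix.ProjectiveSpecialLinearGroup (Fin 2) F)) ∨
    (Nat.card H = 504 ∧ ∃ (F : Type) (_ : Field F) (_ : Fintype F), Fintype.card F = 8 ∧
      Nonempty (H ≃* Matrix.ProjectiveSpecialLinearGroup (Fin 2) F)) ∨
    (Nat.card H = 2448 ∧ ∃ (F : Type) (_ : Field F) (_ : Fintype F), Fintype.card F = 17 ∧
      Nonempty (H ≃* Matrix.ProjectiveSpecialLinearGroup (Fin 2) F)) ∨
    (Nat.card H = 6048 ∧ ∃ (F : Type) (_ : Field F) (_ : Fintype F), Fintype.card F = 9 ∧
      Nonempty (H ≃* Cfsg.PSU 3 F 3)) ∨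
    (Nat.card H = 5616 ∧ ∃ (F : Type) (_ : Field F) (_ : Fintype F), Fintype.card F = 3 ∧
      Nonempty (H ≃* Matrix.ProjectiveSpecialLinearGroup (Fin 3) F)) := by
  rcases hK with ⟨⟨e⟩⟩ | ⟨⟨e⟩⟩ | ⟨F, _, _, hF, ⟨e⟩⟩ | ⟨F, _, _, hF, ⟨e⟩⟩ | ⟨F, _, _, hF, ⟨e⟩⟩ |
    ⟨F, _, _, hF, ⟨e⟩⟩
  · exact Or.inl ⟨by rw [Nat.card_congr e.toEquiv, PSLFacts.card_alt_five], ⟨e⟩⟩
  · exact Or.inr (Or.inl ⟨by rw [Nat.card_congr e.toEquiv, PSLFacts.card_alt_six], ⟨e⟩⟩)
  · exact Or.inr (Or.inr (Or.inl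
      ⟨by rw [Nat.card_congr e.toEquiv, PSLFacts.card_psp_two_three hF], F, _, _, hF, ⟨e⟩⟩))
  · rcases hF with hF | hF | hF
    · exact Or.inr (Or.inr (Or.inr (Or.inl
        ⟨by rw [Nat.card_congr e.toEquiv, PSLFacts.card_psl_two_seven hF], F, _, _, hF, ⟨e⟩⟩)))
    · exact Or.inr (Or.inr (Or.inr (Or.inr (Or.inl
        ⟨by rw [Nat.card_congr e.toEquiv, PSLFacts.card_psl_two_eight hF], F, _, _, hF, ⟨e⟩⟩))))
    · exact Or.inr (Or.inr (Or.inr (Or.inr (Or.inr (Or.inl
        ⟨by rw [Nat.card_congr e.toEquiv, PSLFacts.card_psl_two_seventeen hF],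
          F, _, _, hF, ⟨e⟩⟩)))))
  · exact Or.inr (Or.inr (Or.inr (Or.inr (Or.inr (Or.inr (Or.inl
      ⟨by rw [Nat.card_congr e.toEquiv, PSLFacts.card_psu_three_three hF], F, _, _, hF, ⟨e⟩⟩))))))
  · exact Or.inr (Or.inr (Or.inr (Or.inr (Or.inr (Or.inr (Or.inr
      ⟨by rw [Nat.card_congr e.toEquiv, PSLFacts.card_psl_three_three hF], F, _, _, hF, ⟨e⟩⟩))))))

theorem not_prime_dvd {p q c d : ℕ} (hp : p.Prime) (hq : q.Prime) (hp2 : p ≠ 2) (hp3 : p ≠ 3)
    (hqp : p ≠ q) : ¬ p ∣ q * 3 ^ c * 2 ^ d := by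
  intro h
  rcases (Nat.Prime.dvd_mul hp).1 h with h1 | h1
  · rcases (Nat.Prime.dvd_mul hp).1 h1 with h2 | h2
    · exact hqp ((Nat.prime_dvd_prime_iff_eq hp hq).1 h2)
    · exact hp3 ((Nat.prime_dvd_prime_iff_eq hp Nat.prime_three).1 (hp.dvd_of_dvd_pow h2))
  · exact hp2 ((Nat.prime_dvd_prime_iff_eq hp Nat.prime_two).1 (hp.dvd_of_dvd_pow h1))

theorem false_of {n p q c d : ℕ} (hc : n = q * 3 ^ c * 2 ^ d) (hp : p.Prime) (hq : q.Prime)
    (hp2 : p ≠ 2) (hp3 : p ≠ 3) (hqp : p ≠ q) (hn : p ∣ n) : False :=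
  not_prime_dvd hp hq hp2 hp3 hqp (hc ▸ hn)

theorem socle_five (hK : Known H) {c d : ℕ} (hc : Nat.card H = 5 * 3 ^ c * 2 ^ d) :
    Nat.card H = 60 ∨ Nat.card H = 360 ∨ Nat.card H = 25920 := by
  rcases known_cases hK with h | h | h | h | h | h | h | h
  · exact Or.inl h.1
  · exact Or.inr (Or.inl h.1)
  · exact Or.inr (Or.inr h.1)
  · exact (false_of (p := 7) hc (by norm_num) (by norm_num) (by norm_num) (by norm_num)
      (by norm_num) (by rw [h.1]; norm_num)).elim
  · exact (false_of (p := 7) hc (by norm_num) (by norm_num) (by norm_num) (by norm_num)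
      (by norm_num) (by rw [h.1]; norm_num)).elim
  · exact (false_of (p := 17) hc (by norm_num) (by norm_num) (by norm_num) (by norm_num)
      (by norm_num) (by rw [h.1]; norm_num)).elim
  · exact (false_of (p := 7) hc (by norm_num) (by norm_num) (by norm_num) (by norm_num)
      (by norm_num) (by rw [h.1]; norm_num)).elim
  · exact (false_of (p := 13) hc (by norm_num) (by norm_num) (by norm_num) (by norm_num)
      (by norm_num) (by rw [h.1]; norm_num)).elim

theorem socle_seven (hK : Known H) {c d : ℕ} (hc : Nat.card H = 7 * 3 ^ c * 2 ^ d) :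
    (Nat.card H = 168 ∧ ∃ (F : Type) (_ : Field F) (_ : Fintype F), Fintype.card F = 7 ∧
      Nonempty (H ≃* Matrix.ProjectiveSpecialLinearGroup (Fin 2) F)) ∨
    (Nat.card H = 504 ∧ ∃ (F : Type) (_ : Field F) (_ : Fintype F), Fintype.card F = 8 ∧
      Nonempty (H ≃* Matrix.ProjectiveSpecialLinearGroup (Fin 2) F)) ∨
    (Nat.card H = 6048 ∧ ∃ (F : Type) (_ : Field F) (_ : Fintype F), Fintype.card F = 9 ∧
      Nonempty (H ≃* Cfsg.PSU 3 F 3)) := by
  rcases known_cases hK with h | h | h | h | h | h | h | h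
  · exact (false_of (p := 5) hc (by norm_num) (by norm_num) (by norm_num) (by norm_num)
      (by norm_num) (by rw [h.1]; norm_num)).elim
  · exact (false_of (p := 5) hc (by norm_num) (by norm_num) (by norm_num) (by norm_num)
      (by norm_num) (by rw [h.1]; norm_num)).elim
  · exact (false_of (p := 5) hc (by norm_num) (by norm_num) (by norm_num) (by norm_num)
      (by norm_num) (by rw [h.1]; norm_num)).elim
  · exact Or.inl h
  · exact Or.inr (Or.inl h)
  · exact (false_of (p := 17) hc (by norm_num) (by norm_num) (by norm_num) (by norm_num)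
      (by norm_num) (by rw [h.1]; norm_num)).elim
  · exact Or.inr (Or.inr h)
  · exact (false_of (p := 13) hc (by norm_num) (by norm_num) (by norm_num) (by norm_num)
      (by norm_num) (by rw [h.1]; norm_num)).elim

theorem socle_thirteen (hK : Known H) {c d : ℕ} (hc : Nat.card H = 13 * 3 ^ c * 2 ^ d) :
    Nat.card H = 5616 ∧ ∃ (F : Type) (_ : Field F) (_ : Fintype F), Fintype.card F = 3 ∧
      Nonempty (H ≃* Matrix.ProjectiveSpecialLinearGroup (Fin 3) F) := by
  rcases known_cases hK with h | h | h | h | h | h | h | h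
  · exact (false_of (p := 5) hc (by norm_num) (by norm_num) (by norm_num) (by norm_num)
      (by norm_num) (by rw [h.1]; norm_num)).elim
  · exact (false_of (p := 5) hc (by norm_num) (by norm_num) (by norm_num) (by norm_num)
      (by norm_num) (by rw [h.1]; norm_num)).elim
  · exact (false_of (p := 5) hc (by norm_num) (by norm_num) (by norm_num) (by norm_num)
      (by norm_num) (by rw [h.1]; norm_num)).elim
  · exact (false_of (p := 7) hc (by norm_num) (by norm_num) (by norm_num) (by norm_num)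
      (by norm_num) (by rw [h.1]; norm_num)).elim
  · exact (false_of (p := 7) hc (by norm_num) (by norm_num) (by norm_num) (by norm_num)
      (by norm_num) (by rw [h.1]; norm_num)).elim
  · exact (false_of (p := 17) hc (by norm_num) (by norm_num) (by norm_num) (by norm_num)
      (by norm_num) (by rw [h.1]; norm_num)).elim
  · exact (false_of (p := 7) hc (by norm_num) (by norm_num) (by norm_num) (by norm_num)
      (by norm_num) (by rw [h.1]; norm_num)).elim
  · exact h

theorem socle_seventeen (hK : Known H) {c d : ℕ} (hc : Nat.card H = 17 * 3 ^ c * 2 ^ d) :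
    Nat.card H = 2448 ∧ ∃ (F : Type) (_ : Field F) (_ : Fintype F), Fintype.card F = 17 ∧
      Nonempty (H ≃* Matrix.ProjectiveSpecialLinearGroup (Fin 2) F) := by
  rcases known_cases hK with h | h | h | h | h | h | h | h
  · exact (false_of (p := 5) hc (by norm_num) (by norm_num) (by norm_num) (by norm_num)
      (by norm_num) (by rw [h.1]; norm_num)).elim
  · exact (false_of (p := 5) hc (by norm_num) (by norm_num) (by norm_num) (by norm_num)
      (by norm_num) (by rw [h.1]; norm_num)).elim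
  · exact (false_of (p := 5) hc (by norm_num) (by norm_num) (by norm_num) (by norm_num)
      (by norm_num) (by rw [h.1]; norm_num)).elim
  · exact (false_of (p := 7) hc (by norm_num) (by norm_num) (by norm_num) (by norm_num)
      (by norm_num) (by rw [h.1]; norm_num)).elim
  · exact (false_of (p := 7) hc (by norm_num) (by norm_num) (by norm_num) (by norm_num)
      (by norm_num) (by rw [h.1]; norm_num)).elim
  · exact h
  · exact (false_of (p := 7) hc (by norm_num) (by norm_num) (by norm_num) (by norm_num)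
      (by norm_num) (by rw [h.1]; norm_num)).elim
  · exact (false_of (p := 13) hc (by norm_num) (by norm_num) (by norm_num) (by norm_num)
      (by norm_num) (by rw [h.1]; norm_num)).elim

end known

variable {G : Type u} [Group G] {p a b : ℕ}

/-- The order of `V = Ω₁(Z(O₂(M)))`. -/
theorem card_V_sub_one (h : Hyp G p a b) {M : Subgroup G} (hM : MaxLocal M) :
    ∃ n, 1 ≤ n ∧ Nat.card (V M) = 2 ^ n ∧ p ∣ 2 ^ n - 1 := by
  have hfin := h.finite
  let _ := commGroup M
  obtain ⟨x, hx⟩ := hM.exists_orderOf h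
  obtain ⟨ho, hfix, hinj⟩ := act_facts h hM hx
  have h1 := prime_dvd_card_sub_one (act M) h.prime ho (by
    rw [eq_bot_iff]; intro v hv; exact mem_bot.mpr (hfix v hv))
  obtain ⟨n, hn⟩ := card_eq_two_pow (V_sq M) (⊤ : Subgroup (V M))
  rw [card_top] at hn
  rw [hn] at h1
  refine ⟨n, ?_, hn, h1⟩
  by_contra h0
  have h0 : n = 0 := by omega
  rw [h0] at hn
  have h2 := (one_lt_card_iff_ne_bot _).mpr (V_ne_bot hM.o2_ne_bot)
  omega

/-- `|V| |L|` divides `|G|`. -/
theorem mul_dvd_card (h : Hyp G p a b) (M : Subgroup G) (L : Subgroup (M ⧸ pCore 2 ↥M)) {k l : ℕ}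
    (hk : 2 ^ k ∣ Nat.card (V M)) (hl : 2 ^ l ∣ Nat.card L) : k + l ≤ b := by
  have hfin := h.finite
  have h1 : 2 ^ (k + l) ∣ Nat.card G := by
    refine Dvd.dvd.trans ?_ (card_subgroup_dvd_card M)
    rw [← MaxLocal.card_mul_card M, pow_add]
    exact Nat.mul_dvd_mul (hk.trans (card_dvd_of_le (zc_le _)))
      (hl.trans (card_subgroup_dvd_card L))
  rw [h.card] at h1
  have h5 := h.five_le
  have h2 : (2 ^ (k + l)).Coprime (p * 3 ^ a) := by
    apply Nat.Coprime.pow_left
    apply Nat.Coprime.mul_right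
    · exact (Nat.coprime_primes Nat.prime_two h.prime).mpr (by omega)
    · exact Nat.Coprime.pow_right a (by norm_num)
  have h3 := h2.dvd_of_dvd_mul_left h1
  exact (Nat.pow_dvd_pow_iff_le_right (by norm_num)).mp h3

/-- **(4a)**: `6 ≤ b` for `p = 5, 7`. -/
theorem six_le (h : Hyp G p a b) (ind : Ind G) (hp : p = 5 ∨ p = 7) : 6 ≤ b := by
  have hfin := h.finite
  obtain ⟨M, hM⟩ := exists_maxLocal h
  obtain ⟨L, hLn, hLs, hLc, hpL, hcL, -⟩ := hM.exists_simple h
  obtain ⟨c, d, hcd, hK⟩ := hM.known h ind L hLs hLc hpL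
  obtain ⟨n, hn1, hn, hpn⟩ := card_V_sub_one h hM
  have h2 : 1 ≤ 2 ^ n := Nat.one_le_two_pow
  rcases hp with rfl | rfl
  · have h3 : 2 ^ n % 5 = 1 := by omega
    have h4 : 2 ^ n % 5 = 2 ^ (n % 4) % 5 := by
      conv_lhs => rw [← Nat.div_add_mod n 4, pow_add, pow_mul, Nat.mul_mod, Nat.pow_mod]
      norm_num
    rw [h4] at h3
    have h5 : n % 4 < 4 := Nat.mod_lt _ (by norm_num)
    have h6 : n % 4 = 0 := by
      generalize n % 4 = k at h3 h5
      interval_cases k
      · rfl
      all_goals exact absurd h3 (by norm_num)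
    have h7 : 2 ^ 4 ∣ Nat.card (V M) := by
      rw [hn]; exact pow_dvd_pow 2 (by omega)
    have h8 : 2 ^ 2 ∣ Nat.card L := by
      rcases socle_five hK hcd with h9 | h9 | h9 <;> rw [h9] <;> norm_num
    exact mul_dvd_card h M L h7 h8
  · have h3 : 2 ^ n % 7 = 1 := by omega
    have h4 : 2 ^ n % 7 = 2 ^ (n % 3) % 7 := by
      conv_lhs => rw [← Nat.div_add_mod n 3, pow_add, pow_mul, Nat.mul_mod, Nat.pow_mod]
      norm_num
    rw [h4] at h3
    have h5 : n % 3 < 3 := Nat.mod_lt _ (by norm_num)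
    have h6 : n % 3 = 0 := by
      generalize n % 3 = k at h3 h5
      interval_cases k
      · rfl
      all_goals exact absurd h3 (by norm_num)
    have h7 : 2 ^ 3 ∣ Nat.card (V M) := by
      rw [hn]; exact pow_dvd_pow 2 (by omega)
    have h8 : 2 ^ 3 ∣ Nat.card L := by
      rcases socle_seven hK hcd with h9 | h9 | h9 <;> rw [h9.1] <;> norm_num
    exact mul_dvd_card h M L h7 h8

end Cfsg.Agent.SmallSimple.S1000.Consequences
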