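import Mathlib
import Cfsg.Agent.SmallSimple.S1000.TwoModule

/-!
# A group with normal subgroup `PSL₂(17)` acting on an elementary abelian 2-group

`Sev φ L x w r y j`: `φ : X →* MulAut V` faithful, `L ≅ PSL₂(17)` normal in `X` (given by some explicit
elements `x, w, r, y, j`).

* `Sev.nf`: for elementary abelian `1 ≠ A ≤ X` there is `a ∈ A` with `2 |A| < |V : C_V(a)|`;
* `Sev.four_le`: `|C_V(y)| ≥ 4` for the element `y` of order 3.
-/

set_option autoImplicit false

namespace Cfsg.Agent.SmallSimple.S1000.Seventeen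

open Subgroup Cfsg.Agent.SmallSimple.S1000.TwoModule

variable {X V : Type*} [Group X] [CommGroup V]

/-- `L ≅ PSL₂(17)` normal in `X`, which acts faithfully on the elementary abelian 2-group `V`. -/
structure Sev (φ : X →* MulAut V) (L : Subgroup X) (x w r y j : X) : Prop where
  sqV : ∀ v : V, v * v = 1
  ne : Nontrivial V
  inj : Function.Injective φ
  ln : L.Normal
  lc : centralizer (L : Set X) = ⊥
  card : Nat.card L = 2448
  nsq : ¬ 17 ^ 2 ∣ Nat.card X
  cx : ∀ g, x * g = g * x → g ∈ zpowers x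
  fx : ∀ v, φ x v = v → v = 1
  xL : x ∈ L
  wL : w ∈ L
  rL : r ∈ L
  yL : y ∈ L
  jL : j ∈ L
  ox : orderOf x = 17
  ow : orderOf w = 8
  hwx : w * x * w⁻¹ = x ^ 9
  or9 : orderOf r = 9
  oy : orderOf y = 3
  oj : orderOf j = 2
  jw4 : j * w ^ 4 = w ^ 4 * j
  yw : y * w ^ 4 * y⁻¹ = j
  yj : y * j * y⁻¹ = j * w ^ 4
  jw : j * w * j⁻¹ = w⁻¹
  conj : ∀ s ∈ L, ∀ t ∈ L, orderOf s = 2 → orderOf t = 2 → IsConj s t

namespace Sev

variable {φ : X →* MulAut V} {L : Subgroup X} {x w r y j : X}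

theorem wx (h : Sev φ L x w r y j) (k : ℕ) : w ^ k * x * (w ^ k)⁻¹ = x ^ 9 ^ k := by
  induction k with
  | zero => rw [pow_zero, pow_zero, pow_one, one_mul, inv_one, mul_one]
  | succ k ih =>
    calc w ^ (k + 1) * x * (w ^ (k + 1))⁻¹ = w * (w ^ k * x * (w ^ k)⁻¹) * w⁻¹ := by
          rw [pow_succ']; group
      _ = (w * x * w⁻¹) ^ 9 ^ k := by rw [ih, conj_pow]
      _ = x ^ 9 ^ (k + 1) := by rw [h.hwx, ← pow_mul, pow_succ', mul_comm]

theorem ix (h : Sev φ L x w r y j) : w ^ 4 * x * (w ^ 4)⁻¹ = x⁻¹ := by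
  have h17 : x ^ 17 = 1 := by
    have := pow_orderOf_eq_one x
    rwa [h.ox] at this
  rw [h.wx, show 9 ^ 4 = 17 * 385 + 16 by norm_num, pow_add, pow_mul, h17,
    one_pow, one_mul, eq_inv_iff_mul_eq_one, ← pow_succ, h17]

theorem fe_x (h : Sev φ L x w r y j) : fe φ x = ⊥ := by
  rw [eq_bot_iff]
  intro v hv
  exact mem_bot.mpr (h.fx v hv)

theorem odd_x (h : Sev φ L x w r y j) : Odd (orderOf x) := by
  rw [h.ox]; decide

theorem i_sq (h : Sev φ L x w r y j) : w ^ 4 * w ^ 4 = 1 := by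
  rw [← pow_add, show 4 + 4 = 8 by norm_num, ← h.ow, pow_orderOf_eq_one]

theorem order_i (h : Sev φ L x w r y j) : orderOf (w ^ 4) = 2 := by
  rw [orderOf_pow' _ (by norm_num), h.ow]
  decide

theorem index_i (h : Sev φ L x w r y j) [Finite V] : Nat.card V ≤ (fe φ (w ^ 4)).index ^ 2 := by
  have := index_le_of_inverts φ h.odd_x h.ix
  rwa [h.fe_x, index_bot] at this

theorem card_V [Finite X] (h : Sev φ L x w r y j) [Finite V] : ∃ m, 1 ≤ m ∧ Nat.card V = 2 ^ (8 * m) := by
  obtain ⟨n, hn⟩ := card_eq_two_pow h.sqV (⊤ : Subgroup V)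
  rw [card_top] at hn
  have h1 := prime_dvd_card_sub_one φ (by norm_num) h.ox h.fe_x
  rw [hn] at h1
  have h0 : n ≠ 0 := by
    rintro rfl
    have := h.ne
    have h2 := Finite.one_lt_card (α := V)
    omega
  have h2 : 1 ≤ 2 ^ n := Nat.one_le_two_pow
  have h3 : 2 ^ n % 17 = 1 := by omega
  have h4 : 2 ^ n % 17 = 2 ^ (n % 8) % 17 := by
    conv_lhs => rw [← Nat.div_add_mod n 8, pow_add, pow_mul, Nat.mul_mod, Nat.pow_mod]
    norm_num
  rw [h4] at h3
  have h5 : n % 8 < 8 := Nat.mod_lt _ (by norm_num)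
  have h6 : n % 8 = 0 := by
    generalize n % 8 = k at h3 h5
    interval_cases k
    · rfl
    all_goals exact absurd h3 (by norm_num)
  refine ⟨n / 8, by omega, ?_⟩
  rw [hn]
  congr 1
  omega

/-! ### `|X : L| ≤ 2` -/

theorem cent_x (h : Sev φ L x w r y j) : centralizer (zpowers x : Set X) = zpowers x := by
  apply le_antisymm
  · intro g hg
    exact h.cx g (mem_centralizer_iff.mp hg x (mem_zpowers x))
  · intro g hg
    rw [mem_centralizer_iff]
    rintro _ ⟨k, rfl⟩
    obtain ⟨m, rfl⟩ := hg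
    show x ^ k * x ^ m = x ^ m * x ^ k
    rw [← zpow_add, ← zpow_add, add_comm]

theorem w_mem (h : Sev φ L x w r y j) : w ∈ normalizer (zpowers x : Set X) := by
  have h1 : (zpowers x).map (MulAut.conj w).toMonoidHom ≤ zpowers x := by
    rw [MonoidHom.map_zpowers, zpowers_le]
    show w * x * w⁻¹ ∈ zpowers x
    rw [h.hwx]
    exact pow_mem (mem_zpowers x) 9
  have hfin : Finite (zpowers x) := Nat.finite_of_card_ne_zero (by
    rw [Nat.card_zpowers, h.ox]; norm_num)
  have h2 : (zpowers x).map (MulAut.conj w).toMonoidHom = zpowers x :=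
    eq_of_le_of_card_ge h1 (card_map_of_injective (MulAut.conj w).injective).ge
  rw [mem_normalizer_iff]
  intro g
  constructor
  · intro hg
    rw [← h2]
    exact ⟨g, hg, rfl⟩
  · intro hg
    rw [← h2] at hg
    obtain ⟨g', hg', he⟩ := hg
    have : g' = g := (MulAut.conj w).injective he
    rwa [this] at hg'

section finite

variable [Finite X]

set_option linter.unusedSectionVars false

theorem index_eq (h : Sev φ L x w r y j) :
    L.index = L.relIndex (normalizer (zpowers x : Set X)) := by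
  have hf : Fact (Nat.Prime 17) := ⟨by norm_num⟩
  have hn := h.ln
  have h1 : IsPGroup 17 (zpowers x) :=
    IsPGroup.of_card (n := 1) (by rw [Nat.card_zpowers, h.ox, pow_one])
  have h2 : ¬ 17 ∣ (zpowers x).index := by
    intro hd
    apply h.nsq
    rw [← (zpowers x).card_mul_index, Nat.card_zpowers, h.ox, pow_two]
    exact Nat.mul_dvd_mul_left _ hd
  have h3 := Sylow.normalizer_sup_eq_top' (h1.toSylow h2) (N := L)
    (show zpowers x ≤ L from (zpowers_le).mpr h.xL)
  have h4 := relIndex_sup_right (normalizer (zpowers x : Set X)) L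
  have h5 : normalizer (zpowers x : Set X) ⊔ L = ⊤ := h3
  rw [h5, relIndex_top_right] at h4
  exact h4

theorem dvd_card_inf (h : Sev φ L x w r y j) :
    136 ∣ Nat.card (L ⊓ normalizer (zpowers x : Set X) : Subgroup X) := by
  have h1 : 17 ∣ Nat.card (L ⊓ normalizer (zpowers x : Set X) : Subgroup X) := by
    rw [← h.ox, ← Nat.card_zpowers]
    exact card_dvd_of_le (le_inf ((zpowers_le).mpr h.xL) le_normalizer)
  have h2 : 8 ∣ Nat.card (L ⊓ normalizer (zpowers x : Set X) : Subgroup X) := by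
    rw [← h.ow, ← Nat.card_zpowers]
    exact card_dvd_of_le (le_inf ((zpowers_le).mpr h.wL) ((zpowers_le).mpr h.w_mem))
  exact Nat.Coprime.mul_dvd_of_dvd_of_dvd (by norm_num : Nat.Coprime 17 8) h1 h2

theorem card_mulAut (h : Sev φ L x w r y j) : Nat.card (MulAut (zpowers x)) = 16 := by
  rw [IsCyclic.card_mulAut, Nat.card_zpowers, h.ox, Nat.totient_prime (by norm_num)]

theorem card_range (h : Sev φ L x w r y j) :
    Nat.card (normalizer (zpowers x : Set X)) =
      17 * Nat.card ((zpowers x).normalizerMonoidHom).range := by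
  have h1 : Nat.card ((zpowers x).normalizerMonoidHom).ker = 17 := by
    rw [normalizerMonoidHom_ker, h.cent_x]
    rw [Nat.card_congr (subgroupOfEquivOfLe (le_normalizer (H := zpowers x))).toEquiv,
      Nat.card_zpowers, h.ox]
  rw [← index_ker, ← h1, card_mul_index]

theorem index_dvd (h : Sev φ L x w r y j) : L.index = 1 ∨
    (L.index = 2 ∧ Nat.card (normalizer (zpowers x : Set X)) = 272) := by
  obtain ⟨c, hc⟩ := h.dvd_card_inf
  have h1 : Nat.card (L ⊓ normalizer (zpowers x : Set X) : Subgroup X) * L.index =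
      Nat.card (normalizer (zpowers x : Set X)) := by
    rw [h.index_eq, ← inf_relIndex_right]
    exact Lib.HallHigman.card_mul_relIndex' inf_le_right
  have h2 : Nat.card ((zpowers x).normalizerMonoidHom).range ∣ 16 := by
    rw [← h.card_mulAut]
    exact card_subgroup_dvd_card _
  rw [h.card_range, hc] at h1
  have h3 := Nat.le_of_dvd (by norm_num) h2
  have h4 : 8 * (c * L.index) = Nat.card ((zpowers x).normalizerMonoidHom).range := by
    have : 17 * (8 * (c * L.index)) = 17 * Nat.card ((zpowers x).normalizerMonoidHom).range := by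
      rw [← h1]; ring
    exact Nat.eq_of_mul_eq_mul_left (by norm_num) this
  have h5 : c * L.index ≤ 2 := by omega
  have h6 : L.index ≠ 0 := index_ne_zero_of_finite
  have h7 : c ≠ 0 := by
    rintro rfl
    have h8 := Nat.card_pos (α := (L ⊓ normalizer (zpowers x : Set X) : Subgroup X))
    omega
  have h8 : 1 ≤ c := by omega
  have h9 : L.index ≤ c * L.index := Nat.le_mul_of_pos_left _ h8
  rcases Nat.lt_or_ge L.index 2 with h10 | h10
  · left; omega
  · right
    have h11 : L.index = 2 := by omega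
    refine ⟨h11, ?_⟩
    rw [h11] at h4 h5
    have : c = 1 := by omega
    rw [h.card_range, ← h4, this]

/-- If `X ≠ L` then `|V| ≥ 2¹⁶`. -/
theorem card_V_ge [Finite V] (h : Sev φ L x w r y j)
    (hN : Nat.card (normalizer (zpowers x : Set X)) = 272) : 2 ^ 16 ≤ Nat.card V := by
  set ψ := (zpowers x).normalizerMonoidHom with hψ
  have h1 : Nat.card ψ.range = 16 := by
    have := h.card_range
    rw [hN, ← hψ] at this
    omega
  have h2 : Function.Surjective ψ := by
    rw [← MonoidHom.range_eq_top]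
    exact eq_top_of_card_eq _ (by rw [h1, h.card_mulAut])
  have hp : Fact (Nat.Prime (Nat.card (zpowers x))) := ⟨by rw [Nat.card_zpowers, h.ox]; norm_num⟩
  have h3 : IsCyclic (MulAut (zpowers x)) :=
    isCyclic_of_surjective _ (IsCyclic.mulAutMulEquiv (zpowers x)).symm.surjective
  obtain ⟨τ, hτ⟩ := h3.exists_generator
  obtain ⟨k, hk⟩ := h2 τ
  have hoτ : orderOf τ = 16 := by
    rw [orderOf_eq_card_of_forall_mem_zpowers hτ, h.card_mulAut]
  -- the involution induced by `w ^ 4`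
  set i' : normalizer (zpowers x : Set X) := ⟨w ^ 4, pow_mem h.w_mem 4⟩ with hi'
  have hi1 : ψ i' ≠ 1 := by
    intro he
    have h4 : i' ∈ ψ.ker := he
    rw [hψ, normalizerMonoidHom_ker, mem_subgroupOf, h.cent_x] at h4
    have h5 : w ^ 4 * x = x * w ^ 4 := by
      obtain ⟨m, hm⟩ := h4
      have hm' : x ^ m = w ^ 4 := hm
      rw [← hm', ← zpow_add_one, ← zpow_one_add, add_comm]
    have h6 := h.ix
    rw [h5, mul_inv_cancel_right] at h6
    have h7 : x ^ 2 = 1 := by
      rw [pow_two]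
      nth_rewrite 1 [h6]
      exact inv_mul_cancel x
    have h8 : orderOf x ∣ 2 := orderOf_dvd_of_pow_eq_one h7
    rw [h.ox] at h8
    exact absurd h8 (by norm_num)
  have hi2 : ψ i' * ψ i' = 1 := by
    rw [← map_mul]
    have : i' * i' = 1 := Subtype.ext h.i_sq
    rw [this, map_one]
  obtain ⟨m, hm⟩ := hτ (ψ i')
  have hm' : τ ^ m = ψ i' := hm
  have h16 : (16 : ℤ) ∣ 2 * m := by
    have : τ ^ (2 * m) = 1 := by rw [two_mul, zpow_add, hm', hi2]
    rw [← orderOf_dvd_iff_zpow_eq_one, hoτ] at this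
    exact_mod_cast this
  have hn16 : ¬ (16 : ℤ) ∣ m := by
    intro hd
    apply hi1
    rw [← hm', ← orderOf_dvd_iff_zpow_eq_one, hoτ]
    exact_mod_cast hd
  have hτ8 : τ ^ 8 = ψ i' := by
    rw [← hm', ← zpow_natCast, zpow_eq_zpow_iff_modEq, hoτ, Int.modEq_iff_dvd]
    push_cast
    omega
  -- the element of order 16
  set κ : X := (k : X) ^ 17 with hκ
  have hκ16 : κ ^ 16 = 1 := by
    have h4 : k ^ Nat.card (normalizer (zpowers x : Set X)) = 1 := pow_card_eq_one'
    rw [hN] at h4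
    have h5 : (k : X) ^ 272 = 1 := by
      rw [← Subgroup.coe_pow, h4, Subgroup.coe_one]
    rw [hκ, ← pow_mul]
    exact h5
  have hκx : κ ^ 8 * x * (κ ^ 8)⁻¹ = x⁻¹ := by
    have h4 : ψ (k ^ 136) = ψ i' := by
      rw [map_pow, hk, show 136 = 16 * 8 + 8 by norm_num, pow_add, pow_mul]
      rw [← hoτ, pow_orderOf_eq_one, one_pow, one_mul, hτ8]
    have h5 : ψ (k ^ 136) ⟨x, mem_zpowers x⟩ = ψ i' ⟨x, mem_zpowers x⟩ := by rw [h4]
    have h6 : (k : X) ^ 136 * x * ((k : X) ^ 136)⁻¹ = w ^ 4 * x * (w ^ 4)⁻¹ :=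
      congrArg Subtype.val h5
    rw [hκ, ← pow_mul]
    rw [h.ix] at h6
    exact h6
  have h5 : Nat.card V ≤ (fe φ (κ ^ 8)).index ^ 2 := by
    have := index_le_of_inverts φ h.odd_x hκx
    rwa [h.fe_x, index_bot] at this
  have hne : fe φ (κ ^ 8) ≠ ⊤ := by
    intro he
    rw [he, index_top, one_pow] at h5
    have := h.ne
    have := Finite.one_lt_card (α := V)
    omega
  have h6 := card_ge_of_pow_sixteen φ h.sqV hκ16 hne
  obtain ⟨m', hm1, hm2⟩ := h.card_V
  rw [hm2] at h6 ⊢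
  have h7 : 9 ≤ 8 * m' := (Nat.pow_le_pow_iff_right (by norm_num)).mp h6
  exact Nat.pow_le_pow_right (by norm_num) (by omega)

/-! ### The codimensions -/

theorem card_X (h : Sev φ L x w r y j) : Nat.card X = 2448 * L.index := by
  rw [← L.card_mul_index, h.card]

/-- An elementary abelian 2-subgroup of a group of order `2448` has order `≤ 4`. -/
theorem card_le_four (h : Sev φ L x w r y j) (hL : L.index = 1) (A : Subgroup X)
    (hA : ∀ a ∈ A, a * a = 1) : Nat.card A ≤ 4 := by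
  have hf : Fact (Nat.Prime 2) := ⟨Nat.prime_two⟩
  have hX : Nat.card X = 2448 := by rw [h.card_X, hL]
  have hA2 : IsPGroup 2 A := by
    rintro ⟨a, ha⟩
    exact ⟨1, Subtype.ext (by show a ^ 2 ^ 1 = 1; rw [pow_one, pow_two, hA a ha])⟩
  have hw2 : IsPGroup 2 (zpowers w) :=
    IsPGroup.of_card (n := 3) (by rw [Nat.card_zpowers, h.ow]; norm_num)
  obtain ⟨T, hT⟩ := hA2.exists_le_sylow
  obtain ⟨T', hT'⟩ := hw2.exists_le_sylow
  obtain ⟨g, hg⟩ := MulAction.exists_smul_eq X T' T
  have hTc : Nat.card T = 16 := by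
    have h1 := T.card_eq_multiplicity
    rw [hX] at h1
    rw [h1, show 2448 = 2 ^ 4 * 153 by norm_num,
      Nat.factorization_mul (by norm_num) (by norm_num), Nat.Prime.factorization_pow Nat.prime_two]
    rw [Finsupp.add_apply, Finsupp.single_eq_same,
      Nat.factorization_eq_zero_of_not_dvd (by norm_num : ¬ 2 ∣ 153)]
    norm_num
  set w' := g * w * g⁻¹ with hw'
  have hwT : w' ∈ (T : Subgroup X) := by
    rw [← hg, Sylow.coe_subgroup_smul]
    exact ⟨w, hT' (mem_zpowers w), rfl⟩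
  have how : orderOf w' = 8 := by
    rw [← h.ow, hw']
    exact (MulAut.conj g).orderOf_eq w
  set C := zpowers w' with hC
  have hCT : C ≤ T := (zpowers_le).mpr hwT
  have hCc : Nat.card C = 8 := by rw [hC, Nat.card_zpowers, how]
  have h1 : C.relIndex T = 2 := by
    have := Lib.HallHigman.card_mul_relIndex' hCT
    rw [hTc, hCc] at this
    omega
  have h2 : C.relIndex A ≤ 2 := by
    rw [← h1]
    exact relIndex_le_of_le_right hT (by rw [h1]; norm_num)
  -- `|A ∩ C| ≤ 2`
  have h3 : Nat.card (C ⊓ A : Subgroup X) ≤ 2 := by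
    have hcyc : IsCyclic (C ⊓ A : Subgroup X) :=
      isCyclic_of_injective (inclusion (inf_le_left : C ⊓ A ≤ C)) (inclusion_injective _)
    obtain ⟨g, hg⟩ := hcyc.exists_generator
    rw [← orderOf_eq_card_of_forall_mem_zpowers hg]
    refine Nat.le_of_dvd (by norm_num) (orderOf_dvd_of_pow_eq_one ?_)
    rw [pow_two]
    exact Subtype.ext (hA g g.2.2)
  have h4 := Lib.HallHigman.card_mul_relIndex' (inf_le_right : C ⊓ A ≤ A)
  rw [inf_relIndex_right] at h4
  rw [← h4]
  calc Nat.card (C ⊓ A : Subgroup X) * C.relIndex A ≤ 2 * 2 := Nat.mul_le_mul h3 h2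
    _ = 4 := rfl

theorem card_le_thirtytwo (h : Sev φ L x w r y j) (hL : L.index = 2) (A : Subgroup X)
    (hA : ∀ a ∈ A, a * a = 1) : Nat.card A ≤ 32 := by
  have hf : Fact (Nat.Prime 2) := ⟨Nat.prime_two⟩
  have hA2 : IsPGroup 2 A := by
    rintro ⟨a, ha⟩
    exact ⟨1, Subtype.ext (by show a ^ 2 ^ 1 = 1; rw [pow_one, pow_two, hA a ha])⟩
  obtain ⟨n, hn⟩ := IsPGroup.iff_card.mp hA2
  have h1 : 2 ^ n ∣ 2448 * 2 := by
    rw [← hn, ← hL, ← h.card_X]
    exact card_subgroup_dvd_card A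
  rw [hn]
  by_contra hlt
  have h2 : 5 < n := by
    by_contra h3
    exact hlt ((Nat.pow_le_pow_right (by norm_num) (not_lt.mp h3)).trans (by norm_num))
  have h3 : 2 ^ 6 ∣ 2448 * 2 := (pow_dvd_pow 2 h2).trans h1
  exact absurd h3 (by norm_num)

/-- Involutions of `L`. -/
theorem index_of_invol [Finite V] (h : Sev φ L x w r y j) {s : X} (hs : s ∈ L)
    (hs2 : orderOf s = 2) : Nat.card V ≤ (fe φ s).index ^ 2 := by
  rw [fe_eq_of_isConj φ (h.conj s hs (w ^ 4) (pow_mem h.wL 4) hs2 h.order_i)]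
  exact h.index_i

theorem index_mono [Finite V] {g k : X} (hgk : fe φ g ≤ fe φ k) :
    (fe φ k).index ≤ (fe φ g).index :=
  Nat.le_of_dvd (Nat.pos_of_ne_zero index_ne_zero_of_finite) (index_dvd_of_le hgk)

/-- An element of prime order `p` is conjugate to a generator of the subgroup of order `p` of a given
Sylow `p`-subgroup. -/
theorem exists_conj_mem {p : ℕ} (hp : p.Prime) {T : Subgroup X} (hT : IsPGroup p T)
    (hi : ¬ p ∣ T.index) {s : X} (hs : orderOf s = p) : ∃ g : X, g * s * g⁻¹ ∈ T := by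
  have hf : Fact p.Prime := ⟨hp⟩
  have h1 : IsPGroup p (zpowers s) :=
    IsPGroup.of_card (n := 1) (by rw [Nat.card_zpowers, hs, pow_one])
  obtain ⟨T', hT'⟩ := h1.exists_le_sylow
  obtain ⟨g, hg⟩ := MulAction.exists_smul_eq X T' (hT.toSylow hi)
  refine ⟨g, ?_⟩
  have h2 : g * s * g⁻¹ ∈ ((g • T' : Sylow p X) : Subgroup X) := by
    rw [Sylow.coe_subgroup_smul]
    exact ⟨s, hT' (mem_zpowers s), rfl⟩
  rw [hg] at h2
  exact h2

theorem index_cases (h : Sev φ L x w r y j) : L.index = 1 ∨ L.index = 2 := by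
  rcases h.index_dvd with h1 | ⟨h1, -⟩
  · exact Or.inl h1
  · exact Or.inr h1

theorem index_of_three [Finite V] (h : Sev φ L x w r y j) {s : X} (hs : orderOf s = 3) :
    64 ≤ (fe φ s).index := by
  have h1 : IsPGroup 3 (zpowers r) :=
    IsPGroup.of_card (n := 2) (by rw [Nat.card_zpowers, h.or9]; norm_num)
  have h2 : ¬ 3 ∣ (zpowers r).index := by
    have h3 := (zpowers r).card_mul_index
    rw [Nat.card_zpowers, h.or9, h.card_X] at h3
    rcases h.index_cases with h4 | h4 <;> rw [h4] at h3 <;> omega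
  obtain ⟨g, k, hk⟩ := exists_conj_mem Nat.prime_three h1 h2 hs
  have hk' : r ^ k = g * s * g⁻¹ := hk
  have hoz : orderOf (r ^ k) = 3 := by
    rw [hk', ← hs]
    exact (MulAut.conj g).orderOf_eq s
  rw [← index_fe_conj φ g s, ← hk']
  have h9 : (9 : ℤ) ∣ k * 3 := by
    have h5 : r ^ (k * 3) = 1 := by
      rw [zpow_mul]
      have := pow_orderOf_eq_one (r ^ k)
      rw [hoz] at this
      exact_mod_cast this
    rw [← orderOf_dvd_iff_zpow_eq_one, h.or9] at h5
    exact_mod_cast h5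
  have hn9 : ¬ (9 : ℤ) ∣ k := by
    intro hd
    have h5 : r ^ k = 1 := by
      rw [← orderOf_dvd_iff_zpow_eq_one, h.or9]
      exact_mod_cast hd
    rw [h5, orderOf_one] at hoz
    omega
  have h10 : ∃ m : ℤ, (9 : ℤ) ∣ k * m - 3 := by
    have h11 : k % 9 = 3 ∨ k % 9 = 6 := by omega
    rcases h11 with h | h
    · exact ⟨1, by omega⟩
    · exact ⟨2, by omega⟩
  obtain ⟨m, hm⟩ := h10
  have h12 : (r ^ k) ^ m = r ^ 3 := by
    rw [← zpow_mul, ← zpow_natCast r 3, zpow_eq_zpow_iff_modEq, h.or9]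
    exact (Int.modEq_iff_dvd.mpr (by
      have : ((3 : ℕ) : ℤ) - k * m = -(k * m - 3) := by push_cast; ring
      rw [this, dvd_neg]
      exact_mod_cast hm))
  have h13 : fe φ (r ^ k) ≤ fe φ (r ^ 3) := by
    rw [← h12]
    exact fe_zpow φ _ m
  refine le_trans ?_ (index_mono h13)
  apply index_ge_of_order_nine φ h.sqV h.or9
  intro ht
  have h14 : φ (r ^ 3) = 1 := by
    apply MulEquiv.ext
    intro v
    have : v ∈ fe φ (r ^ 3) := by rw [ht]; exact mem_top v
    exact this
  have h15 : r ^ 3 = 1 := h.inj (by rw [h14, map_one])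
  have h16 := orderOf_dvd_of_pow_eq_one h15
  rw [h.or9] at h16
  exact absurd h16 (by norm_num)

theorem index_of_seventeen [Finite V] (h : Sev φ L x w r y j) {s : X} (hs : orderOf s = 17) :
    Nat.card V ≤ (fe φ s).index := by
  have h1 : IsPGroup 17 (zpowers x) :=
    IsPGroup.of_card (n := 1) (by rw [Nat.card_zpowers, h.ox, pow_one])
  have h2 : ¬ 17 ∣ (zpowers x).index := by
    intro hd
    apply h.nsq
    rw [← (zpowers x).card_mul_index, Nat.card_zpowers, h.ox, pow_two]
    exact Nat.mul_dvd_mul_left _ hd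
  obtain ⟨g, hg⟩ := exists_conj_mem (by norm_num) h1 h2 hs
  have h3 : orderOf (g * s * g⁻¹) = 17 := by
    rw [← hs]
    exact (MulAut.conj g).orderOf_eq s
  have h4 : zpowers (g * s * g⁻¹) = zpowers x := by
    refine eq_of_le_of_card_ge ((zpowers_le).mpr hg) ?_
    rw [Nat.card_zpowers, Nat.card_zpowers, h3, h.ox]
  have h5 : fe φ (g * s * g⁻¹) ≤ fe φ x :=
    fe_le_of_mem_zpowers φ (by rw [h4]; exact mem_zpowers x)
  rw [h.fe_x, le_bot_iff] at h5
  rw [← index_fe_conj φ g s, h5, index_bot]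

/-- Elements outside `L`. -/
theorem index_of_not_mem [Finite V] (h : Sev φ L x w r y j) (hV : 2 ^ 16 ≤ Nat.card V) {a : X}
    (ha1 : a ≠ 1) : 8 ≤ (fe φ a).index := by
  -- a nontrivial commutator in `L`
  obtain ⟨g, hg, hne⟩ : ∃ g ∈ L, g * a ≠ a * g := by
    by_contra hcon
    push Not at hcon
    apply ha1
    rw [← mem_bot, ← h.lc, mem_centralizer_iff]
    intro g hg
    exact hcon g hg
  set c := a * (g * a⁻¹ * g⁻¹) with hc
  have hcL : c ∈ L := by
    have : c = (a * g * a⁻¹) * g⁻¹ := by rw [hc]; group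
    rw [this]
    exact mul_mem (h.ln.conj_mem g hg a) (inv_mem hg)
  have hc1 : c ≠ 1 := by
    intro h1
    apply hne
    have h2 : (a * g) * (g * a)⁻¹ = 1 := by
      rw [← h1, hc]; group
    exact (mul_inv_eq_one.mp h2).symm
  obtain ⟨q, hq, hqd⟩ := Nat.exists_prime_and_dvd (mt orderOf_eq_one_iff.mp hc1)
  obtain ⟨k, hk⟩ := hqd
  have hoc : 0 < orderOf c := orderOf_pos c
  have hcq : orderOf (c ^ k) = q := by
    have hk0 : k ≠ 0 := by
      rintro rfl
      rw [mul_zero] at hk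
      omega
    rw [orderOf_pow' c hk0, hk, Nat.gcd_eq_right (Dvd.intro_left q rfl),
      Nat.mul_div_cancel _ (Nat.pos_of_ne_zero hk0)]
  have hckL : c ^ k ∈ L := pow_mem hcL k
  have h1 : (fe φ (c ^ k)).index ≤ (fe φ a).index ^ 2 :=
    (index_mono (fe_pow φ c k)).trans (index_commutator_le φ a g)
  have h2 : 64 ≤ (fe φ (c ^ k)).index := by
    have h3 : q ∣ 2448 := by
      have h4 := orderOf_dvd_natCard (⟨c ^ k, hckL⟩ : L)
      rwa [Subgroup.orderOf_mk, hcq, h.card] at h4
    have h4 : q = 2 ∨ q = 3 ∨ q = 17 := by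
      rw [show 2448 = 2 ^ 4 * (3 ^ 2 * 17) by norm_num] at h3
      rcases (Nat.Prime.dvd_mul hq).mp h3 with h5 | h5
      · exact Or.inl ((Nat.prime_dvd_prime_iff_eq hq Nat.prime_two).mp (hq.dvd_of_dvd_pow h5))
      · rcases (Nat.Prime.dvd_mul hq).mp h5 with h6 | h6
        · exact Or.inr (Or.inl
            ((Nat.prime_dvd_prime_iff_eq hq Nat.prime_three).mp (hq.dvd_of_dvd_pow h6)))
        · exact Or.inr (Or.inr ((Nat.prime_dvd_prime_iff_eq hq (by norm_num)).mp h6))
    rcases h4 with rfl | rfl | rfl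
    · have h5 := h.index_of_invol hckL hcq
      nlinarith
    · exact h.index_of_three hcq
    · exact le_trans (by norm_num) (hV.trans (h.index_of_seventeen hcq))
  nlinarith

/-- **The main inequality.** -/
theorem nf [Finite V] (h : Sev φ L x w r y j) (A : Subgroup X) (hA1 : A ≠ ⊥)
    (hA : ∀ a ∈ A, a * a = 1) : ∃ a ∈ A, 2 * Nat.card A < (fe φ a).index := by
  have ho : ∀ a ∈ A, a ≠ 1 → orderOf a = 2 := fun a ha h1 =>
    orderOf_eq_prime (by rw [pow_two]; exact hA a ha) h1
  by_cases hAL : A ⊓ L = ⊥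
  · -- `A ∩ L = 1`
    obtain ⟨a, haA, ha1⟩ : ∃ a ∈ A, a ≠ 1 := by
      by_contra hcon
      push Not at hcon
      apply hA1
      rw [eq_bot_iff]
      intro s hs
      exact mem_bot.mpr (hcon s hs)
    have h1 : Nat.card A ≤ L.index := by
      have h2 := Lib.HallHigman.card_mul_relIndex' (inf_le_right : L ⊓ A ≤ A)
      rw [inf_relIndex_right, inf_comm, hAL, card_bot, one_mul] at h2
      rw [← h2, ← relIndex_top_right]
      exact relIndex_le_of_le_right le_top (by
        rw [relIndex_top_right]; exact index_ne_zero_of_finite)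
    have h2 : 1 < Nat.card A := (one_lt_card_iff_ne_bot A).mpr hA1
    rcases h.index_dvd with h3 | ⟨h3, h4⟩
    · omega
    · have h5 := h.index_of_not_mem (h.card_V_ge h4) ha1
      exact ⟨a, haA, by omega⟩
  · -- `A ∩ L ≠ 1`
    obtain ⟨s, hs, hs1⟩ : ∃ s ∈ A ⊓ L, s ≠ 1 := by
      by_contra hcon
      push Not at hcon
      apply hAL
      rw [eq_bot_iff]
      intro s hs
      exact mem_bot.mpr (hcon s hs)
    have h1 := h.index_of_invol hs.2 (ho s hs.1 hs1)
    refine ⟨s, hs.1, ?_⟩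
    rcases h.index_dvd with h3 | ⟨h3, h4⟩
    · have h5 := h.card_le_four h3 A hA
      obtain ⟨m, hm1, hm⟩ := h.card_V
      have h6 : 2 ^ 8 ≤ Nat.card V := by
        rw [hm]; exact Nat.pow_le_pow_right (by norm_num) (by omega)
      nlinarith
    · have h5 := h.card_le_thirtytwo h3 A hA
      have h6 := h.card_V_ge h4
      nlinarith

/-- The fixed points of the elements of order 3. -/
theorem four_le [Finite V] (h : Sev φ L x w r y j) : 4 ≤ Nat.card (fe φ y) := by
  have hy3 : y ^ 3 = 1 := by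
    have := pow_orderOf_eq_one y
    rwa [h.oy] at this
  have hjj : j * j = 1 := by
    have := pow_orderOf_eq_one j
    rwa [h.oj, pow_two] at this
  obtain ⟨m, hm1, hm⟩ := h.card_V
  have hne : fe φ (w ^ 4) ≠ ⊤ := by
    intro he
    have h1 := h.index_i
    rw [he, index_top, hm] at h1
    have h2 : 2 ^ 1 ≤ 2 ^ (8 * m) := Nat.pow_le_pow_right (by norm_num) (by omega)
    omega
  have h1 : fe φ y ≠ ⊥ := fe_ne_bot φ h.sqV h.odd_x h.ix h.fe_x rfl h.i_sq hjj
    h.jw4.symm h.jw hy3 h.yw (by rw [h.yj, h.jw4]) hne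
  -- parity
  obtain ⟨n, hn⟩ := card_eq_two_pow h.sqV (fe φ y)
  have hn0 : n ≠ 0 := by
    rintro rfl
    exact h1 (eq_bot_of_card_eq _ (by rw [hn, pow_zero]))
  obtain ⟨l, hl⟩ := card_eq_two_pow h.sqV (D φ y).range
  have h2 : orderOf y ∣ Nat.card (D φ y).range - 1 := by
    refine orderOf_dvd_card_sub_one φ y _ ?_ ?_
    · rintro _ ⟨v, rfl⟩
      refine ⟨φ y v, ?_⟩
      rw [conj_D φ y y v]
      congr 2
      group
    · intro k hk v hv hfix
      have h3 : zpowers (y ^ k) = zpowers y := by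
        refine eq_of_le_of_card_ge ((zpowers_le).mpr ⟨k, rfl⟩) ?_
        rw [Nat.card_zpowers, Nat.card_zpowers, h.oy]
        have h4 : orderOf (y ^ k) ∣ 3 := by
          refine orderOf_dvd_of_pow_eq_one ?_
          rw [← zpow_natCast, ← zpow_mul, mul_comm, zpow_mul, zpow_natCast, hy3, one_zpow]
        rcases (Nat.dvd_prime Nat.prime_three).mp h4 with h5 | h5
        · exact absurd (orderOf_eq_one_iff.mp h5) hk
        · exact h5.ge
      have h4 : v ∈ fe φ y := fe_le_of_mem_zpowers φ (by rw [h3]; exact mem_zpowers y) hfix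
      exact eq_one_of_mem_range φ h.sqV hy3 hv h4
  rw [h.oy, hl] at h2
  have h3 := (fe φ y).card_mul_index
  rw [← card_range_D φ h.sqV, hn, hl, hm, ← pow_add] at h3
  have h4 : n + l = 8 * m := Nat.pow_right_injective (le_refl 2) h3
  have h5 : 1 ≤ 2 ^ l := Nat.one_le_two_pow
  have h6 : 2 ^ l % 3 = 1 := by omega
  have h7 : 2 ^ l % 3 = 2 ^ (l % 2) % 3 := by
    conv_lhs => rw [← Nat.div_add_mod l 2, pow_add, pow_mul, Nat.mul_mod, Nat.pow_mod]
    norm_num
  rw [h7] at h6
  have h8 : l % 2 = 0 := by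
    rcases Nat.mod_two_eq_zero_or_one l with h9 | h9
    · exact h9
    · rw [h9] at h6; exact absurd h6 (by norm_num)
  have h9 : 2 ≤ n := by omega
  rw [hn]
  calc 4 = 2 ^ 2 := by norm_num
    _ ≤ 2 ^ n := Nat.pow_le_pow_right (by norm_num) h9

end finite

end Sev

end Cfsg.Agent.SmallSimple.S1000.Seventeen
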