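import Mathlib
import Cfsg.Agent.ZN.CaseTwo
import Cfsg.Agent.SmallSimple.S1000.NonFF
import Cfsg.Agent.SmallSimple.S1000.Local
import Cfsg.Agent.SmallSimple.S1000.Seventeen
import Cfsg.Agent.SmallSimple.S1000.PSLFacts
import Cfsg.Agent.SmallSimple.S1000.Consequences

/-!
# The primes 13 and 17 (S1000)
-/

set_option autoImplicit false

namespace Cfsg.Agent.SmallSimple.S1000.BigPrimes

open Subgroup Cfsg Cfsg.Agent.ZN Cfsg.Agent.MinSimple.Basic Cfsg.Agent.MinSimple.VModule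
open Cfsg.Agent.SmallSimple.S1000.Setup Cfsg.Agent.SmallSimple.S1000.TwoModule
open Cfsg.Agent.SmallSimple.S1000.Local Cfsg.Agent.SmallSimple.S1000.Seventeen

universe u

/-- Elements of odd order of `H / N`, `N` a normal 2-subgroup, lift. -/
theorem exists_pow_lift {H : Type*} [Group H] (N : Subgroup H) [N.Normal]
    (hN : IsPGroup 2 N) {q : ℕ} (hq : Odd q) {g₀ : H} (hx : orderOf (g₀ : H ⧸ N) = q) :
    ∃ n : ℕ, ((g₀ ^ n : H) : H ⧸ N) = g₀ ∧ orderOf (g₀ ^ n) = q := by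
  have h1 : g₀ ^ q ∈ N := by
    rw [← QuotientGroup.eq_one_iff, QuotientGroup.mk_pow, ← hx, pow_orderOf_eq_one]
  obtain ⟨k, hk⟩ := hN ⟨g₀ ^ q, h1⟩
  have hk' : (g₀ ^ q) ^ 2 ^ k = 1 := congrArg Subtype.val hk
  have hcop : (2 ^ k).Coprime (orderOf (g₀ : H ⧸ N)) := by
    rw [hx]
    exact Nat.Coprime.pow_left k (Nat.coprime_two_left.mpr hq)
  obtain ⟨m, hm⟩ := exists_pow_eq_self_of_coprime hcop
  refine ⟨2 ^ k * m, ?_, ?_⟩
  · rw [QuotientGroup.mk_pow, pow_mul, hm]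
  rw [pow_mul]
  apply Nat.dvd_antisymm
  · apply orderOf_dvd_of_pow_eq_one
    rw [← pow_mul, ← pow_mul, show 2 ^ k * (m * q) = q * 2 ^ k * m by ring, pow_mul, pow_mul, hk',
      one_pow]
  · rw [← hx]
    have h2 : ((g₀ : H ⧸ N)) = QuotientGroup.mk' N ((g₀ ^ 2 ^ k) ^ m) := by
      rw [QuotientGroup.mk'_apply, QuotientGroup.mk_pow, QuotientGroup.mk_pow, hm]
    rw [h2]
    exact orderOf_map_dvd _ _

theorem exists_lift {H : Type*} [Group H] (N : Subgroup H) [N.Normal]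
    (hN : IsPGroup 2 N) {q : ℕ} (hq : Odd q) {x : H ⧸ N} (hx : orderOf x = q) :
    ∃ g : H, (g : H ⧸ N) = x ∧ orderOf g = q := by
  obtain ⟨g₀, rfl⟩ := QuotientGroup.mk_surjective x
  obtain ⟨n, h1, h2⟩ := exists_pow_lift N hN hq hx
  exact ⟨_, h1, h2⟩
variable {G : Type u} [Group G] {a b : ℕ}

theorem odd_card_o3 [Finite G] (X : Subgroup G) : Odd (Nat.card (o3 X)) := by
  have hf : Fact (Nat.Prime 3) := ⟨Nat.prime_three⟩
  obtain ⟨n, hn⟩ := IsPGroup.iff_card.mp (o3_isPGroup X)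
  rw [hn]
  exact Odd.pow (by decide)

theorem inf_eq_bot_of_two_three [Finite G] {A B : Subgroup G} (hA : IsPGroup 2 A)
    (hB : IsPGroup 3 B) : A ⊓ B = ⊥ := by
  have hf : Fact (Nat.Prime 2) := ⟨Nat.prime_two⟩
  have hf3 : Fact (Nat.Prime 3) := ⟨Nat.prime_three⟩
  obtain ⟨n, hn⟩ := IsPGroup.iff_card.mp hA
  obtain ⟨m, hm⟩ := IsPGroup.iff_card.mp hB
  apply Disjoint.eq_bot
  apply Subgroup.disjoint_of_coprime_natCard
  rw [hn, hm]
  exact Nat.Coprime.pow _ _ (by norm_num)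

/-- `|C_V(g)|` for `g ∈ M`. -/
theorem card_fe (M : Subgroup G) (g : M) :
    letI := commGroup M
    Nat.card (fe (act M) (g : M ⧸ pCore 2 ↥M)) = Nat.card ↥(V M ⊓ centralizer ({(g : G)} : Set G)) := by
  let _ := commGroup M
  have h1 : (fe (act M) (g : M ⧸ pCore 2 ↥M)).map (V M).subtype =
      V M ⊓ centralizer ({(g : G)} : Set G) := by
    ext v
    constructor
    · rintro ⟨v, hv, rfl⟩
      refine ⟨v.2, mem_centralizer_iff.mpr ?_⟩
      rintro _ rfl
      have h2 : (g : G) * (v : G) * (g : G)⁻¹ = v := congrArg Subtype.val hv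
      calc (g : G) * v = ((g : G) * v * (g : G)⁻¹) * g := by group
        _ = v * g := by rw [h2]
    · rintro ⟨hv, hvA⟩
      refine ⟨⟨v, hv⟩, ?_, rfl⟩
      rw [SetLike.mem_coe, mem_fe]
      apply Subtype.ext
      rw [act_apply]
      show (g : G) * v * (g : G)⁻¹ = v
      rw [mem_centralizer_iff.mp hvA (g : G) rfl, mul_inv_cancel_right]
  rw [← h1, card_map_of_injective (V M).subtype_injective]

theorem nsq_quotient {p : ℕ} (h : Hyp G p a b) (M : Subgroup G) :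
    ¬ p ^ 2 ∣ Nat.card (M ⧸ pCore 2 ↥M) := fun hd =>
  MaxLocal.not_sq_dvd h M (hd.trans (by rw [← MaxLocal.card_mul_card M]; exact Dvd.intro_left _ rfl))

/-- The hypotheses of the NF2 lemma. -/
theorem exists_data {p : ℕ} (h : Hyp G p a b) {M : Subgroup G} (hM : MaxLocal M)
    (hnf : letI := commGroup M
      ∀ A : Subgroup (M ⧸ pCore 2 ↥M), A ≠ ⊥ → (∀ a ∈ A, a * a = 1) →
        ∃ a ∈ A, 2 * Nat.card A < (fe (act M) a).index) :
    NonFF.Data M (o2 M) (V M) := by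
  let _ := commGroup M
  have hfin := h.finite
  have hf : Fact (Nat.Prime 2) := ⟨Nat.prime_two⟩
  have hU2 : ∀ U ≤ V M, IsPGroup 2 U := fun U hU =>
    (o2_isPGroup M).to_le (hU.trans (zc_le _))
  refine
    { two := o2_isPGroup M
      QM := o2_le M
      MQ := le_normalizer_o2 M
      VQ := zc_le _
      sq := fun v hv => by rw [← pow_two]; exact zc_sq (o2 M) v hv
      MV := le_normalizer_V M
      QV := le_centralizer_iff.mp (zc_le_centralizer (o2 M))
      max := ?_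
      nf := ?_
      sol := fun U hU hU1 => (h.tt_two (hU2 U hU) hU1).solvable
      char2 := fun U hU hU1 => h.char_two (hU2 U hU) hU1 }
  · exact (hM.normalizer_eq ((o2_isPGroup M).to_le (jj_le _))
      (CaseTwo.jj_ne_bot (o2_isPGroup M) hM.o2_ne_bot)
      ((le_normalizer_o2 M).trans (normalizer_le_normalizer_jj _))).le
  · intro A hAM hAQ hA
    set A' : Subgroup (M ⧸ pCore 2 ↥M) := (A.subgroupOf M).map (QuotientGroup.mk' (pCore 2 ↥M))
      with hA'
    have hmem : ∀ g : M, (g : M ⧸ pCore 2 ↥M) = 1 ↔ (g : G) ∈ o2 M := by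
      intro g
      rw [QuotientGroup.eq_one_iff]
      constructor
      · intro hg; exact ⟨g, hg, rfl⟩
      · rintro ⟨g', hg', he⟩
        rwa [← Subtype.ext he]
    have h1 : A' ≠ ⊥ := by
      intro hbot
      apply hAQ
      intro x hx
      rw [← hmem ⟨x, hAM hx⟩, ← mem_bot, ← hbot]
      exact ⟨⟨x, hAM hx⟩, hx, rfl⟩
    have h2 : ∀ c ∈ A', c * c = 1 := by
      rintro _ ⟨c, hc, rfl⟩
      rw [← map_mul]
      exact (hmem (c * c)).mpr (hA c hc)
    obtain ⟨c, hc, hlt⟩ := hnf A' h1 h2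
    obtain ⟨c, hcA, rfl⟩ := hc
    have h3 : (A ⊓ o2 M).relIndex A = Nat.card A' := by
      rw [inf_comm, inf_relIndex_right, hA', ← relIndex_ker, QuotientGroup.ker_mk',
        ← relIndex_subgroupOf hAM]
      congr 1
      ext g
      rw [mem_subgroupOf, ← hmem g, QuotientGroup.eq_one_iff]
    have h4 : Nat.card ↥(V M ⊓ centralizer (A : Set G)) ≤
        Nat.card (fe (act M) (c : M ⧸ pCore 2 ↥M)) := by
      rw [card_fe]
      exact card_le_of_le (inf_le_inf_left _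
        (centralizer_le (Set.singleton_subset_iff.mpr hcA)))
    have h5 := (fe (act M) (c : M ⧸ pCore 2 ↥M)).card_mul_index
    have h6 : 0 < Nat.card (fe (act M) (c : M ⧸ pCore 2 ↥M)) := Nat.card_pos
    rw [h3, ← h5]
    calc 2 * (Nat.card A' * Nat.card ↥(V M ⊓ centralizer (A : Set G)))
        ≤ 2 * (Nat.card A' * Nat.card (fe (act M) (c : M ⧸ pCore 2 ↥M))) :=
          Nat.mul_le_mul_left _ (Nat.mul_le_mul_left _ h4)
      _ = (2 * Nat.card A') * Nat.card (fe (act M) (c : M ⧸ pCore 2 ↥M)) := by ring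
      _ < (fe (act M) (c : M ⧸ pCore 2 ↥M)).index *
          Nat.card (fe (act M) (c : M ⧸ pCore 2 ↥M)) := Nat.mul_lt_mul_of_pos_right hlt h6
      _ = Nat.card (fe (act M) (c : M ⧸ pCore 2 ↥M)) *
          (fe (act M) (c : M ⧸ pCore 2 ↥M)).index := Nat.mul_comm _ _

/-- `|C_V(y)| ≤ 2` for the elements `y` of order 3 of `M / O₂(M)`. -/
theorem card_fe_le_two {p : ℕ} (h : Hyp G p a b)
    (h3 : ∀ y : G, orderOf y = 3 → o2 (centralizer ({y} : Set G)) = ⊥) {M : Subgroup G}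
    (hD : NonFF.Data M (o2 M) (V M)) {y : M ⧸ pCore 2 ↥M} (hy : orderOf y = 3) :
    letI := commGroup M
    Nat.card (fe (act M) y) ≤ 2 := by
  let _ := commGroup M
  have hfin := h.finite
  have hNn : (pCore 2 ↥M).Normal := Lib.Cores.pCore_normal 2
  obtain ⟨g, rfl, hg⟩ := exists_lift (pCore 2 ↥M) (Lib.Cores.pCore_isPGroup 2) (by decide) hy
  rw [card_fe]
  have hgo : orderOf (g : G) = 3 := by rw [Subgroup.orderOf_coe, hg]
  refine hD.card_inf_centralizer_le (R := o3 (centralizer ({(g : G)} : Set G)))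
    (odd_card_o3 _) (le_normalizer_o3 _) ?_
  rw [eq_bot_iff, ← inf_eq_bot_of_two_three ((o2_isPGroup M).to_le (zc_le (o2 M)))
    (o3_isPGroup (centralizer ({(g : G)} : Set G)))]
  rintro v ⟨⟨hv, hvc⟩, hvR⟩
  exact ⟨hv, (h.loc h3).char_three' hgo ⟨hvc, hvR⟩⟩

theorem not_seventeen (h : Hyp G 17 a b) (ind : Ind G)
    (h3 : ∀ y : G, orderOf y = 3 → o2 (centralizer ({y} : Set G)) = ⊥) : False := by
  have hfin := h.finite
  obtain ⟨M, hM⟩ := exists_maxLocal h
  let _ := commGroup M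
  have hNn : (pCore 2 ↥M).Normal := Lib.Cores.pCore_normal 2
  obtain ⟨L, hLn, hLs, hLc, hpL, hcL, -⟩ := hM.exists_simple h
  obtain ⟨c, d, hcd, hK⟩ := hM.known h ind L hLs hLc hpL
  obtain ⟨hcard, F, _, _, hF, ⟨e⟩⟩ := Consequences.socle_seventeen hK hcd
  obtain ⟨-, x, w, r, y, j, hx, hw, hwx, hr, hy, hj, hjw, hyw, hyj, hjw'⟩ :=
    PSLFacts.psl_two_seventeen hF
  set f : Matrix.ProjectiveSpecialLinearGroup (Fin 2) F →* (M ⧸ pCore 2 ↥M) :=
    L.subtype.comp e.symm.toMonoidHom with hf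
  have hfi : Function.Injective f := L.subtype_injective.comp e.symm.injective
  have hfo : ∀ g, orderOf (f g) = orderOf g := orderOf_injective f hfi
  have hfL : ∀ g, f g ∈ L := fun g => (e.symm g).2
  obtain ⟨x', hx', hxo⟩ := exists_lift (pCore 2 ↥M) (Lib.Cores.pCore_isPGroup 2) (by decide)
    ((hfo x).trans hx)
  obtain ⟨ho, hfix, hinj⟩ := act_facts h hM hxo
  have hcx := LocalStructure.mem_zpowers_quotient h.prime (by decide) hxo
    (MaxLocal.mem_zpowers h hxo)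
  rw [hx'] at hfix hcx
  have S : Sev (act M) L (f x) (f w) (f r) (f y) (f j) :=
    { sqV := V_sq M
      ne := (nontrivial_iff_ne_bot _).mpr (V_ne_bot hM.o2_ne_bot)
      inj := hinj
      ln := hLn
      lc := hcL
      card := hcard
      nsq := nsq_quotient h M
      cx := hcx
      fx := hfix
      xL := hfL x
      wL := hfL w
      rL := hfL r
      yL := hfL y
      jL := hfL j
      ox := (hfo x).trans hx
      ow := (hfo w).trans hw
      hwx := by rw [← map_mul, ← map_inv, ← map_mul, hwx, map_pow]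
      or9 := (hfo r).trans hr
      oy := (hfo y).trans hy
      oj := (hfo j).trans hj
      jw4 := by rw [← map_pow, ← map_mul, hjw, map_mul]
      yw := by rw [← map_pow, ← map_mul, ← map_inv, ← map_mul, hyw]
      yj := by rw [← map_pow, ← map_mul, ← map_inv, ← map_mul, ← map_mul, hyj]
      jw := by rw [← map_mul, ← map_inv, ← map_mul, hjw', map_inv]
      conj := by
        intro s hs t ht hso hto
        have h1 := PSLFacts.isConj_seventeen hF (e ⟨s, hs⟩) (e ⟨t, ht⟩)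
          (by rw [MulEquiv.orderOf_eq, Subgroup.orderOf_mk, hso])
          (by rw [MulEquiv.orderOf_eq, Subgroup.orderOf_mk, hto])
        have h2 := f.map_isConj h1
        have h3 : ∀ u (hu : u ∈ L), f (e ⟨u, hu⟩) = u := fun u hu => by
          show ((e.symm (e ⟨u, hu⟩) : L) : M ⧸ pCore 2 ↥M) = u
          rw [MulEquiv.symm_apply_apply]
        rwa [h3, h3] at h2 }
  have h1 := card_fe_le_two h h3 (exists_data h hM S.nf) S.oy
  have h2 := S.four_le
  omega

theorem not_M23LE {p : ℕ} (h : Hyp G p a b) {M : Subgroup G} (hM : MaxLocal M)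
    {u v : M ⧸ pCore 2 ↥M} (hu : orderOf u = 3) (hv : orderOf v = 3) (huv : u * v = v * u)
    (hne : v ∉ zpowers u) : ¬ M23LE 1 G := by
  intro hle
  have hfin := h.finite
  have hf3 : Fact (Nat.Prime 3) := ⟨Nat.prime_three⟩
  have hNn : (pCore 2 ↥M).Normal := Lib.Cores.pCore_normal 2
  have hN2 : IsPGroup 2 (pCore 2 ↥M) := Lib.Cores.pCore_isPGroup 2
  obtain ⟨u', rfl, huo⟩ := exists_lift (pCore 2 ↥M) hN2 (by decide) hu
  obtain ⟨v₀, rfl⟩ := QuotientGroup.mk_surjective v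
  obtain ⟨v₁, hv₁, hc⟩ := LocalStructure.exists_commute_of_quotient Nat.prime_three (pCore 2 ↥M)
    (LocalStructure.not_dvd_card_pCore Nat.prime_three (by norm_num)) huo v₀ huv
  rw [← hv₁] at hv hne
  obtain ⟨n, hn, hvo⟩ := exists_pow_lift (pCore 2 ↥M) hN2 (by decide) hv
  rw [← hn] at hne
  set v' : M := v₁ ^ n with hv'
  have hc' : Commute (u' : G) (v' : G) := by
    have h1 : Commute u' v₁ := hc
    have h2 : Commute u' v' := h1.pow_right n
    exact congrArg Subtype.val h2.eq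
  have hu3 : (u' : G) ^ 3 = 1 := by
    have := pow_orderOf_eq_one u'
    rw [huo] at this
    exact congrArg Subtype.val this
  have hv3 : (v' : G) ^ 3 = 1 := by
    have := pow_orderOf_eq_one v'
    rw [hvo] at this
    exact congrArg Subtype.val this
  set B : Subgroup G := zpowers (u' : G) ⊔ zpowers (v' : G) with hB
  have hcc : ∀ x ∈ zpowers (u' : G), ∀ y ∈ zpowers (v' : G), x * y = y * x := by
    rintro _ ⟨i, rfl⟩ _ ⟨j, rfl⟩
    exact (hc'.zpow_zpow i j).eq
  have hmem : ∀ x ∈ B, ∃ i j : ℤ, x = (u' : G) ^ i * (v' : G) ^ j := by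
    intro x hx
    obtain ⟨_, ⟨i, rfl⟩, _, ⟨j, rfl⟩, h1⟩ := NonFF.exists_mul_of_mem_sup hcc hx
    exact ⟨i, j, h1⟩
  have hBe : IsElementaryAbelian 3 B := by
    refine ⟨⟨⟨?_⟩⟩, ?_⟩
    · rintro ⟨x, hx⟩ ⟨y, hy⟩
      obtain ⟨i, j, rfl⟩ := hmem x hx
      obtain ⟨k, l, rfl⟩ := hmem y hy
      apply Subtype.ext
      show (u' : G) ^ i * (v' : G) ^ j * ((u' : G) ^ k * (v' : G) ^ l) =
        (u' : G) ^ k * (v' : G) ^ l * ((u' : G) ^ i * (v' : G) ^ j)
      have e1 : Commute ((u' : G) ^ i * (v' : G) ^ j) ((u' : G) ^ k * (v' : G) ^ l) := by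
        refine Commute.mul_left ?_ ?_ <;> refine Commute.mul_right ?_ ?_
        · exact (Commute.refl _).zpow_zpow i k
        · exact hc'.zpow_zpow i l
        · exact hc'.symm.zpow_zpow j k
        · exact (Commute.refl _).zpow_zpow j l
      exact e1.eq
    · intro x hx
      obtain ⟨i, j, rfl⟩ := hmem x hx
      rw [(hc'.zpow_zpow i j).mul_pow, ← zpow_natCast, ← zpow_natCast, ← zpow_mul, ← zpow_mul,
        mul_comm i, mul_comm j, zpow_mul, zpow_mul, zpow_natCast, zpow_natCast, hu3, hv3,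
        one_zpow, one_zpow, one_mul]
  have hBM : B ≤ M := sup_le ((zpowers_le).mpr u'.2) ((zpowers_le).mpr v'.2)
  have h1 := hle B (o2 M) hBe (o2_isPGroup M) hM.o2_ne_bot (hBM.trans (le_normalizer_o2 M))
  have h2 : zpowers (u' : G) = B := by
    refine eq_of_le_of_card_ge le_sup_left ?_
    rw [Nat.card_zpowers, Subgroup.orderOf_coe, huo]
    exact h1
  apply hne
  have h3 : (v' : G) ∈ zpowers (u' : G) := by
    rw [h2, hB]
    exact le_sup_right (a := zpowers (u' : G)) (mem_zpowers (v' : G))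
  obtain ⟨k, hk⟩ := h3
  refine ⟨k, ?_⟩
  have h4 : u' ^ k = v' := Subtype.ext hk
  rw [← h4]
  rfl

theorem not_thirteen (h : Hyp G 13 a b) (ind : Ind G)
    (hwide : ¬ M23LE 1 G → ∀ S : Sylow 2 G, Nat.card S ≤ 2 ^ 13) : False := by
  have hfin := h.finite
  have hf : Fact (Nat.Prime 2) := ⟨Nat.prime_two⟩
  obtain ⟨M, hM⟩ := exists_maxLocal h
  let _ := commGroup M
  have hNn : (pCore 2 ↥M).Normal := Lib.Cores.pCore_normal 2
  obtain ⟨L, hLn, hLs, hLc, hpL, hcL, -⟩ := hM.exists_simple h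
  obtain ⟨c, d, hcd, hK⟩ := hM.known h ind L hLs hLc hpL
  obtain ⟨hcard, F, _, _, hF, ⟨e⟩⟩ := Consequences.socle_thirteen hK hcd
  obtain ⟨-, u, v, hu, hv, huv, hne⟩ := PSLFacts.psl_three_three hF
  set f : Matrix.ProjectiveSpecialLinearGroup (Fin 3) F →* (M ⧸ pCore 2 ↥M) :=
    L.subtype.comp e.symm.toMonoidHom with hf
  have hfi : Function.Injective f := L.subtype_injective.comp e.symm.injective
  have hfo : ∀ g, orderOf (f g) = orderOf g := orderOf_injective f hfi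
  have hw : ¬ M23LE 1 G := not_M23LE h hM ((hfo u).trans hu) ((hfo v).trans hv)
    (by rw [← map_mul, huv, map_mul]) (by
      rintro ⟨k, hk⟩
      apply hne
      refine ⟨k, hfi ?_⟩
      rw [map_zpow]
      exact hk)
  obtain ⟨S⟩ : Nonempty (Sylow 2 G) := inferInstance
  have hS := hwide hw S
  -- `|V| ≥ 2¹²`
  obtain ⟨x, hx⟩ := hM.exists_orderOf h
  obtain ⟨ho, hfix, hinj⟩ := act_facts h hM hx
  have h1 := prime_dvd_card_sub_one (act M) h.prime ho (by
    rw [eq_bot_iff]; intro v hv; exact mem_bot.mpr (hfix v hv))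
  obtain ⟨n, hn⟩ := card_eq_two_pow (V_sq M) (⊤ : Subgroup (V M))
  rw [card_top] at hn
  rw [hn] at h1
  have h0 : n ≠ 0 := by
    rintro rfl
    have h2 := (one_lt_card_iff_ne_bot _).mpr (V_ne_bot hM.o2_ne_bot)
    omega
  have h2 : 1 ≤ 2 ^ n := Nat.one_le_two_pow
  have h3 : 2 ^ n % 13 = 1 := by omega
  have h4 : 2 ^ n % 13 = 2 ^ (n % 12) % 13 := by
    conv_lhs => rw [← Nat.div_add_mod n 12, pow_add, pow_mul, Nat.mul_mod, Nat.pow_mod]
    norm_num
  rw [h4] at h3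
  have h5 : n % 12 < 12 := Nat.mod_lt _ (by norm_num)
  have h6 : n % 12 = 0 := by
    generalize n % 12 = k at h3 h5
    interval_cases k
    · rfl
    all_goals exact absurd h3 (by norm_num)
  have h7 : 2 ^ 12 ∣ Nat.card (o2 M) := by
    refine (pow_dvd_pow 2 (by omega : 12 ≤ n)).trans ?_
    rw [← hn]
    exact card_dvd_of_le (zc_le _)
  have h8 : 2 ^ 4 ∣ Nat.card (M ⧸ pCore 2 ↥M) := by
    refine Dvd.dvd.trans ?_ (card_subgroup_dvd_card L)
    rw [hcard]
    norm_num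
  have h9 : 2 ^ 16 ∣ Nat.card G := by
    refine Dvd.dvd.trans ?_ (card_subgroup_dvd_card M)
    rw [← MaxLocal.card_mul_card M, show 2 ^ 16 = 2 ^ 12 * 2 ^ 4 by norm_num]
    exact Nat.mul_dvd_mul h7 h8
  have h10 := Nat.le_of_dvd Nat.card_pos (S.pow_dvd_card_of_pow_dvd_card h9)
  have h11 : 2 ^ 16 ≤ 2 ^ 13 := h10.trans hS
  exact absurd h11 (by norm_num)

/-- **(4b)** -/
theorem not_thirteen_seventeen {p : ℕ} (h : Hyp G p a b) (ind : Ind G)
    (h3 : ∀ y : G, orderOf y = 3 → o2 (centralizer ({y} : Set G)) = ⊥)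
    (hwide : ¬ M23LE 1 G → ∀ S : Sylow 2 G, Nat.card S ≤ 2 ^ 13) : p ≠ 13 ∧ p ≠ 17 := by
  constructor
  · rintro rfl
    exact not_thirteen h ind hwide
  · rintro rfl
    exact not_seventeen h ind h3

end Cfsg.Agent.SmallSimple.S1000.BigPrimes
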