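import Cfsg.Agent.SmallSimple.S1000.ExpSieve

/-!
# The degree equation for `p = 5`, `e = 4`

All exponents.  `δ * 2 ^ b`, `-δ * 3 ^ a` and the members of `K` are the signed degrees of the
nonprincipal characters of the principal `5`-block.
-/

set_option autoImplicit false

namespace Cfsg.Agent.SmallSimple.S1000.ArithFive

open Cfsg.Agent.SmallSimple.S1000.ExpSieve

/-- A signed degree which is divisible by `6` and congruent to `1` modulo `p`. -/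
def IsU (p : ℤ) (a b : ℕ) (k : ℤ) : Prop :=
  ∃ i j : ℕ, 1 ≤ i ∧ i < b ∧ 1 ≤ j ∧ j < a ∧ (k = 2 ^ i * 3 ^ j ∨ k = -(2 ^ i * 3 ^ j)) ∧
    k ≡ 1 [ZMOD p]

theorem two_pow_mod (n : ℕ) : (2 : ℤ) ^ n ≡ 2 ^ (n % 4) [ZMOD 5] := by
  conv_lhs => rw [← Nat.mod_add_div n 4, pow_add, pow_mul]
  have : ((2 : ℤ) ^ 4) ^ (n / 4) ≡ 1 ^ (n / 4) [ZMOD 5] := Int.ModEq.pow _ (by decide)
  calc (2 : ℤ) ^ (n % 4) * (2 ^ 4) ^ (n / 4) ≡ 2 ^ (n % 4) * 1 ^ (n / 4) [ZMOD 5] :=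
        (Int.ModEq.refl _).mul this
    _ = 2 ^ (n % 4) := by rw [one_pow, mul_one]

theorem unit_mod (i j : ℕ) : (2 : ℤ) ^ i * 3 ^ j ≡ 2 ^ ((i + 3 * j) % 4) [ZMOD 5] := by
  refine Int.ModEq.trans ?_ (two_pow_mod _)
  rw [pow_add, pow_mul]
  exact (Int.ModEq.refl _).mul (Int.ModEq.pow _ (by decide))

theorem sign_pos {i j : ℕ} (h : (2 : ℤ) ^ i * 3 ^ j ≡ 1 [ZMOD 5]) : (i + 3 * j) % 4 = 0 := by
  have h1 := (unit_mod i j).symm.trans h
  have h2 : (i + 3 * j) % 4 < 4 := Nat.mod_lt _ (by norm_num)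
  generalize (i + 3 * j) % 4 = r at h1 h2
  interval_cases r
  · rfl
  all_goals exact absurd h1 (by decide)

theorem sign_neg {i j : ℕ} (h : -((2 : ℤ) ^ i * 3 ^ j) ≡ 1 [ZMOD 5]) : (i + 3 * j) % 4 = 2 := by
  have h1 := (unit_mod i j).symm.neg.trans h
  have h2 : (i + 3 * j) % 4 < 4 := Nat.mod_lt _ (by norm_num)
  generalize (i + 3 * j) % 4 = r at h1 h2
  interval_cases r
  · exact absurd h1 (by decide)
  · exact absurd h1 (by decide)
  · rfl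
  · exact absurd h1 (by decide)

/-! ### The equation `2 ^ b = 3 ^ a + 1 + k₁ + k₂` -/

/-- Acceptance: `(a, b)` is determined and in the list. -/
def acc (L : List (ℕ × ℕ)) (st : St) : Bool :=
  Nat.beq (pd st 0) 0 && Nat.beq (pd st 1) 0 &&
    L.any fun e => Nat.beq (rd st 0) e.1 && Nat.beq (rd st 1) e.2

theorem acc_spec {L : List (ℕ × ℕ)} {st : St} {a b : ℕ} {l : List ℕ} (h : acc L st = true)
    (hs : Sat (xs (a :: b :: l)) st) : (a, b) ∈ L := by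
  rw [acc, Bool.and_eq_true, Bool.and_eq_true, List.any_eq_true] at h
  obtain ⟨⟨h0, h1⟩, e, he, h2⟩ := h
  rw [Bool.and_eq_true] at h2
  obtain ⟨k, hk⟩ := hs 0
  obtain ⟨m, hm⟩ := hs 1
  have e0 := Nat.eq_of_beq_eq_true h0
  have e1 := Nat.eq_of_beq_eq_true h1
  have e2 := Nat.eq_of_beq_eq_true h2.1
  have e3 := Nat.eq_of_beq_eq_true h2.2
  rw [e0, e2] at hk
  rw [e1, e3] at hm
  have ha : a = e.1 := by simpa [xs] using hk
  have hb : b = e.2 := by simpa [xs] using hm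
  rw [ha, hb]
  exact he

/-- left side (`1`: residue sum `2`, i.e. a negative member). -/
def lhs1 (r s : ℕ) : List Tm :=
  (1, 1, 9) :: ((if r = 2 then [(1, 2, 3)] else []) ++ (if s = 2 then [(1, 4, 5)] else []))

/-- right side -/
def rhs1 (r s : ℕ) : List Tm :=
  (1, 9, 0) :: (1, 9, 9) ::
    ((if r = 2 then [] else [(1, 2, 3)]) ++ (if s = 2 then [] else [(1, 4, 5)]))

/-- the steps for the first equation -/
def steps1 : List Step :=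
  [.peel 2, .peel 4, .chk 16, .split 3 91, .split 3 51319, .split 4 951473, .peel 1, .peel 2,
   .peel 4, .chk 64, .peel 0, .peel 3, .peel 5, .chk 27, .chk 243, .split 2 193, .chk 128,
   .split 3 47197, .chk 128, .chk 81, .split 2 3985921, .chk 256]

set_option maxRecDepth 100000 in
theorem check1 : ∀ i₁ j₁ i₂ j₂ : Fin 4, (i₁.1 + 3 * j₁.1) % 2 = 0 → (i₂.1 + 3 * j₂.1) % 2 = 0 →
    run (lhs1 ((i₁.1 + 3 * j₁.1) % 4) ((i₂.1 + 3 * j₂.1) % 4))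
      (rhs1 ((i₁.1 + 3 * j₁.1) % 4) ((i₂.1 + 3 * j₂.1) % 4)) (acc [(4, 6)]) steps1
      [(4, 4), (6, 4), pos 4 i₁.1, pos 4 j₁.1, pos 4 i₂.1, pos 4 j₂.1] = true := by
  decide +kernel

theorem mod_lift {i j : ℕ} {r : ℕ} (h : (i + 3 * j) % 4 = r) :
    (i % 4 + 3 * (j % 4)) % 4 = r := by omega

theorem eq_one {a b i₁ j₁ i₂ j₂ : ℕ} {k₁ k₂ : ℤ} (ha : a % 4 = 0) (ha1 : 1 ≤ a) (hb : b % 4 = 2)
    (hb3 : 3 ≤ b) (hi₁ : 1 ≤ i₁) (hj₁ : 1 ≤ j₁) (hi₂ : 1 ≤ i₂) (hj₂ : 1 ≤ j₂)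
    (h₁ : k₁ = 2 ^ i₁ * 3 ^ j₁ ∨ k₁ = -(2 ^ i₁ * 3 ^ j₁)) (m₁ : k₁ ≡ 1 [ZMOD 5])
    (h₂ : k₂ = 2 ^ i₂ * 3 ^ j₂ ∨ k₂ = -(2 ^ i₂ * 3 ^ j₂)) (m₂ : k₂ ≡ 1 [ZMOD 5])
    (h : (2 : ℤ) ^ b = 3 ^ a + 1 + k₁ + k₂) : (a, b) = (4, 6) := by
  have hsat : Sat (xs [a, b, i₁, j₁, i₂, j₂]) [(4, 4), (6, 4), pos 4 (i₁ % 4), pos 4 (j₁ % 4),
      pos 4 (i₂ % 4), pos 4 (j₂ % 4)] := by
    refine sat_xs (prog (by omega) (by omega)) (sat_xs (prog (by omega) (by omega)) ?_)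
    exact sat_xs (pos_spec hi₁) (sat_xs (pos_spec hj₁) (sat_xs (pos_spec hi₂)
      (sat_xs (pos_spec hj₂) sat_nil)))
  have key : ∀ r s : ℕ, (i₁ + 3 * j₁) % 4 = r → (i₂ + 3 * j₂) % 4 = s → r % 2 = 0 → s % 2 = 0 →
      ev (xs [a, b, i₁, j₁, i₂, j₂]) (lhs1 r s) = ev (xs [a, b, i₁, j₁, i₂, j₂]) (rhs1 r s) →
      (a, b) = (4, 6) := by
    intro r s hr hs hr2 hs2 he
    have c := check1 ⟨i₁ % 4, Nat.mod_lt _ (by norm_num)⟩ ⟨j₁ % 4, Nat.mod_lt _ (by norm_num)⟩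
      ⟨i₂ % 4, Nat.mod_lt _ (by norm_num)⟩ ⟨j₂ % 4, Nat.mod_lt _ (by norm_num)⟩
      (by simp only; omega) (by simp only; omega)
    simp only [mod_lift hr, mod_lift hs] at c
    obtain ⟨st, hst, hsx⟩ := run_sound _ _ c _ hsat he
    have := acc_spec hst hsx
    simpa using this
  rcases h₁ with h₁ | h₁ <;> rcases h₂ with h₂ | h₂ <;> subst h₁ <;> subst h₂
  · refine key 0 0 (sign_pos m₁) (sign_pos m₂) rfl rfl ?_
    have : ((2 ^ b : ℕ) : ℤ) = ((3 ^ a + 1 + 2 ^ i₁ * 3 ^ j₁ + 2 ^ i₂ * 3 ^ j₂ : ℕ) : ℤ) := by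
      push_cast; linarith
    have := Int.natCast_inj.1 this
    simp [lhs1, rhs1, ev, xs]
    linarith
  · refine key 0 2 (sign_pos m₁) (sign_neg m₂) rfl rfl ?_
    have : ((2 ^ b + 2 ^ i₂ * 3 ^ j₂ : ℕ) : ℤ) = ((3 ^ a + 1 + 2 ^ i₁ * 3 ^ j₁ : ℕ) : ℤ) := by
      push_cast; linarith
    have := Int.natCast_inj.1 this
    simp [lhs1, rhs1, ev, xs]
    linarith
  · refine key 2 0 (sign_neg m₁) (sign_pos m₂) rfl rfl ?_
    have : ((2 ^ b + 2 ^ i₁ * 3 ^ j₁ : ℕ) : ℤ) = ((3 ^ a + 1 + 2 ^ i₂ * 3 ^ j₂ : ℕ) : ℤ) := by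
      push_cast; linarith
    have := Int.natCast_inj.1 this
    simp [lhs1, rhs1, ev, xs]
    linarith
  · refine key 2 2 (sign_neg m₁) (sign_neg m₂) rfl rfl ?_
    have : ((2 ^ b + 2 ^ i₁ * 3 ^ j₁ + 2 ^ i₂ * 3 ^ j₂ : ℕ) : ℤ) = ((3 ^ a + 1 : ℕ) : ℤ) := by
      push_cast; linarith
    have := Int.natCast_inj.1 this
    simp [lhs1, rhs1, ev, xs]
    linarith

/-! ### The equation `3 ^ a = 1 + k + 2 * 2 ^ b` -/

/-- left side -/
def lhs2 (r : ℕ) : List Tm := (1, 9, 9) :: (2, 1, 9) :: (if r = 2 then [] else [(1, 2, 3)])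

/-- right side -/
def rhs2 (r : ℕ) : List Tm := (1, 9, 0) :: (if r = 2 then [(1, 2, 3)] else [])

/-- the steps for the second equation -/
def steps2 : List Step :=
  [.split 3 91, .split 3 51319, .split 4 951473, .peel 1, .peel 2, .chk 64, .peel 0, .peel 3,
   .chk 27, .split 2 193, .chk 128, .split 3 47197, .chk 81, .split 2 3985921, .chk 256,
   .split 2 769, .split 2 257, .chk 1024, .chk 2187]

set_option maxRecDepth 100000 in
theorem check2 : ∀ i j : Fin 4, (i.1 + 3 * j.1) % 2 = 0 →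
    run (lhs2 ((i.1 + 3 * j.1) % 4)) (rhs2 ((i.1 + 3 * j.1) % 4)) (acc [(2, 4), (6, 8)]) steps2
      [(2, 4), (4, 4), pos 4 i.1, pos 4 j.1] = true := by
  decide +kernel

theorem eq_two {a b i j : ℕ} {k : ℤ} (ha : a % 4 = 2) (hb : b % 4 = 0)
    (hb1 : 1 ≤ b) (hi : 1 ≤ i) (hj : 1 ≤ j)
    (hk : k = 2 ^ i * 3 ^ j ∨ k = -(2 ^ i * 3 ^ j)) (m : k ≡ 1 [ZMOD 5])
    (h : (3 : ℤ) ^ a = 1 + k + 2 * 2 ^ b) : (a, b) = (2, 4) ∨ (a, b) = (6, 8) := by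
  have hsat : Sat (xs [a, b, i, j]) [(2, 4), (4, 4), pos 4 (i % 4), pos 4 (j % 4)] := by
    refine sat_xs (prog (by omega) (by omega)) (sat_xs (prog (by omega) (by omega)) ?_)
    exact sat_xs (pos_spec hi) (sat_xs (pos_spec hj) sat_nil)
  have key : ∀ r : ℕ, (i + 3 * j) % 4 = r → r % 2 = 0 →
      ev (xs [a, b, i, j]) (lhs2 r) = ev (xs [a, b, i, j]) (rhs2 r) →
      (a, b) = (2, 4) ∨ (a, b) = (6, 8) := by
    intro r hr hr2 he
    have c := check2 ⟨i % 4, Nat.mod_lt _ (by norm_num)⟩ ⟨j % 4, Nat.mod_lt _ (by norm_num)⟩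
      (by simp only; omega)
    simp only [mod_lift hr] at c
    obtain ⟨st, hst, hsx⟩ := run_sound _ _ c _ hsat he
    have := acc_spec hst hsx
    simpa using this
  rcases hk with hk | hk <;> subst hk
  · refine key 0 (sign_pos m) rfl ?_
    have : ((3 ^ a : ℕ) : ℤ) = ((1 + 2 ^ i * 3 ^ j + 2 * 2 ^ b : ℕ) : ℤ) := by
      push_cast; linarith
    have := Int.natCast_inj.1 this
    simp [lhs2, rhs2, ev, xs]
    linarith
  · refine key 2 (sign_neg m) rfl ?_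
    have : ((3 ^ a + 2 ^ i * 3 ^ j : ℕ) : ℤ) = ((1 + 2 * 2 ^ b : ℕ) : ℤ) := by
      push_cast; linarith
    have := Int.natCast_inj.1 this
    simp [lhs2, rhs2, ev, xs]
    linarith

/-! ### The degree equation -/

theorem IsU.even {p : ℤ} {a b : ℕ} {k : ℤ} (h : IsU p a b k) : (2 : ℤ) ∣ k := by
  obtain ⟨i, j, hi, -, -, -, h, -⟩ := h
  have : (2 : ℤ) ∣ 2 ^ i * 3 ^ j := Dvd.dvd.mul_right (dvd_pow_self 2 (by omega)) _
  rcases h with h | h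
  · rw [h]; exact this
  · rw [h]; exact this.neg_right

theorem IsU.three {p : ℤ} {a b : ℕ} {k : ℤ} (h : IsU p a b k) : (3 : ℤ) ∣ k := by
  obtain ⟨i, j, -, -, hj, -, h, -⟩ := h
  have : (3 : ℤ) ∣ 2 ^ i * 3 ^ j := Dvd.dvd.mul_left (dvd_pow_self 3 (by omega)) _
  rcases h with h | h
  · rw [h]; exact this
  · rw [h]; exact this.neg_right

theorem dvd_sum {d : ℤ} : ∀ {K : List ℤ}, (∀ k ∈ K, d ∣ k) → d ∣ K.sum
  | [], _ => by simp
  | k :: K, h => by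
    rw [List.sum_cons]
    exact dvd_add (h k (by simp)) (dvd_sum fun x hx => h x (by simp [hx]))

theorem three_pow_mod (n : ℕ) : (3 : ℤ) ^ n ≡ 3 ^ (n % 4) [ZMOD 5] := by
  conv_lhs => rw [← Nat.mod_add_div n 4, pow_add, pow_mul]
  have : ((3 : ℤ) ^ 4) ^ (n / 4) ≡ 1 ^ (n / 4) [ZMOD 5] := Int.ModEq.pow _ (by decide)
  calc (3 : ℤ) ^ (n % 4) * (3 ^ 4) ^ (n / 4) ≡ 3 ^ (n % 4) * 1 ^ (n / 4) [ZMOD 5] :=
        (Int.ModEq.refl _).mul this
    _ = 3 ^ (n % 4) := by rw [one_pow, mul_one]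

theorem two_mod_three {b : ℕ} (h : b % 2 = 0) : (2 : ℤ) ^ b ≡ 1 [ZMOD 3] := by
  obtain ⟨c, rfl⟩ : ∃ c, b = 2 * c := ⟨b / 2, by omega⟩
  rw [pow_mul]
  have : ((2 : ℤ) ^ 2) ^ c ≡ 1 ^ c [ZMOD 3] := Int.ModEq.pow _ (by decide)
  rwa [one_pow] at this

theorem odd_pow_mod_four {j : ℕ} : (2 * 3 ^ j : ℤ) ≡ 2 [ZMOD 4] := by
  have h : (3 : ℤ) ^ j % 2 = 1 := by
    have h1 : Odd ((3 : ℤ) ^ j) := Odd.pow (by decide)
    exact Int.odd_iff.1 h1
  unfold Int.ModEq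
  omega

/-- The degree equation for `p = 5`, `e = 4` with all exponents. -/
theorem five {a b nN nM : ℕ} {δ : ℤ} {K : List ℤ} (ha : 1 ≤ a) (hb : 1 ≤ b)
    (hδ : δ = 1 ∨ δ = -1) (hN : 1 ≤ nN) (hM : 1 ≤ nM) (hc : nN + nM + K.length = 4)
    (hK : ∀ k ∈ K, IsU 5 a b k) (h2 : δ * 2 ^ b ≡ 1 [ZMOD 5]) (h3 : -δ * 3 ^ a ≡ 1 [ZMOD 5])
    (h : 1 + K.sum = δ * (nM * 3 ^ a - nN * 2 ^ b)) :
    (a = 2 ∧ b = 4) ∨ (a = 4 ∧ b = 6) ∨ (a = 6 ∧ b = 8) := by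
  have hs2 : (2 : ℤ) ∣ K.sum := dvd_sum fun k hk => (hK k hk).even
  have hs3 : (3 : ℤ) ∣ K.sum := dvd_sum fun k hk => (hK k hk).three
  -- residues of the exponents
  have r2 := (Int.ModEq.refl δ).mul (two_pow_mod b)
  have r3 := (Int.ModEq.refl (-δ)).mul (three_pow_mod a)
  replace r2 := r2.symm.trans h2
  replace r3 := r3.symm.trans h3
  have hb4 : b % 4 < 4 := Nat.mod_lt _ (by norm_num)
  have ha4 : a % 4 < 4 := Nat.mod_lt _ (by norm_num)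
  have hres : (δ = 1 ∧ b % 4 = 0 ∧ a % 4 = 2) ∨ (δ = -1 ∧ b % 4 = 2 ∧ a % 4 = 0) := by
    generalize b % 4 = rb at r2 hb4 ⊢
    generalize a % 4 = ra at r3 ha4 ⊢
    rcases hδ with rfl | rfl
    · left
      refine ⟨rfl, ?_, ?_⟩
      · interval_cases rb
        · rfl
        all_goals exact absurd r2 (by decide)
      · interval_cases ra
        · exact absurd r3 (by decide)
        · exact absurd r3 (by decide)
        · rfl
        · exact absurd r3 (by decide)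
    · right
      refine ⟨rfl, ?_, ?_⟩
      · interval_cases rb
        · exact absurd r2 (by decide)
        · exact absurd r2 (by decide)
        · rfl
        · exact absurd r2 (by decide)
      · interval_cases ra
        · rfl
        all_goals exact absurd r3 (by decide)
  have hb2 : b % 2 = 0 := by omega
  -- parity
  have p3 : (3 : ℤ) ^ a % 2 = 1 := Int.odd_iff.1 (Odd.pow (by decide))
  have p2 : (2 : ℤ) ^ b % 2 = 0 := Int.emod_eq_zero_of_dvd (dvd_pow_self 2 (by omega))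
  have t3 : (3 : ℤ) ^ a % 3 = 0 := Int.emod_eq_zero_of_dvd (dvd_pow_self 3 (by omega))
  have t2 : (2 : ℤ) ^ b % 3 = 1 := two_mod_three hb2
  have hNM : (nN = 1 ∧ nM = 1 ∧ K.length = 2) ∨ (nN = 1 ∧ nM = 2 ∧ K.length = 1) ∨
      (nN = 1 ∧ nM = 3 ∧ K.length = 0) ∨ (nN = 2 ∧ nM = 1 ∧ K.length = 1) ∨
      (nN = 2 ∧ nM = 2 ∧ K.length = 0) ∨ (nN = 3 ∧ nM = 1 ∧ K.length = 0) := by omega
  generalize e3 : (3 : ℤ) ^ a = A at *
  generalize e2 : (2 : ℤ) ^ b = B at *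
  rcases hNM with ⟨rfl, rfl, hl⟩ | ⟨rfl, rfl, hl⟩ | ⟨rfl, rfl, hl⟩ | ⟨rfl, rfl, hl⟩ |
    ⟨rfl, rfl, hl⟩ | ⟨rfl, rfl, hl⟩ <;> push_cast at h
  · -- (1, 1)
    obtain ⟨k₁, k₂, rfl⟩ := List.length_eq_two.1 hl
    have hk₁ := hK k₁ (by simp)
    have hk₂ := hK k₂ (by simp)
    have d₁ := hk₁.three
    have d₂ := hk₂.three
    simp only [List.sum_cons, List.sum_nil, add_zero] at h hs2 hs3
    obtain ⟨i₁, j₁, hi₁, hib₁, hj₁, -, hs₁, m₁⟩ := hk₁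
    obtain ⟨i₂, j₂, hi₂, hib₂, hj₂, -, hs₂, m₂⟩ := hk₂
    rcases hres with ⟨rfl, hb4, ha4⟩ | ⟨rfl, hb4, ha4⟩
    · exfalso; omega
    · have h' : B = A + 1 + k₁ + k₂ := by linarith
      by_cases hb3 : 3 ≤ b
      · have := eq_one (a := a) (b := b) ha4 ha hb4 hb3 hi₁ hj₁ hi₂ hj₂ hs₁ m₁ hs₂ m₂
          (by rw [e2, e3]; exact h')
        right; left
        simpa using this
      · exfalso
        have hb' : b = 2 := by omega
        have e₁ : i₁ = 1 := by omega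
        have e₂ : i₂ = 1 := by omega
        subst e₁ e₂
        rw [pow_one] at hs₁ hs₂
        have q₁ : (2 * 3 ^ j₁ : ℤ) % 4 = 2 := odd_pow_mod_four
        have q₂ : (2 * 3 ^ j₂ : ℤ) % 4 = 2 := odd_pow_mod_four
        have qA : A % 4 = 1 := by
          obtain ⟨c, rfl⟩ : ∃ c, a = 2 * c := ⟨a / 2, by omega⟩
          rw [← e3, pow_mul]
          have : ((3 : ℤ) ^ 2) ^ c ≡ 1 ^ c [ZMOD 4] := Int.ModEq.pow _ (by decide)
          rw [one_pow] at this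
          exact this
        have qB : B = 4 := by rw [← e2, hb']; norm_num
        generalize (2 * 3 ^ j₁ : ℤ) = x at *
        generalize (2 * 3 ^ j₂ : ℤ) = y at *
        rcases hs₁ with rfl | rfl <;> rcases hs₂ with rfl | rfl <;> omega
  · -- (1, 2)
    rcases hres with ⟨rfl, hb4, ha4⟩ | ⟨rfl, hb4, ha4⟩ <;> exfalso <;> omega
  · -- (1, 3)
    rw [List.length_eq_zero_iff] at hl
    subst hl
    simp only [List.sum_nil] at h
    rcases hres with ⟨rfl, hb4, ha4⟩ | ⟨rfl, hb4, ha4⟩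
    · exfalso; omega
    · exfalso
      have qA : A % 8 = 1 := by
        obtain ⟨c, rfl⟩ : ∃ c, a = 2 * c := ⟨a / 2, by omega⟩
        rw [← e3, pow_mul]
        have : ((3 : ℤ) ^ 2) ^ c ≡ 1 ^ c [ZMOD 8] := Int.ModEq.pow _ (by decide)
        rw [one_pow] at this
        exact this
      have qA2 : 3 ≤ A := by
        rw [← e3]
        calc (3 : ℤ) = 3 ^ 1 := by norm_num
          _ ≤ 3 ^ a := pow_le_pow_right₀ (by norm_num) ha
      by_cases hb3 : 3 ≤ b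
      · have : (8 : ℤ) ∣ B := by
          rw [← e2]
          exact pow_dvd_pow 2 hb3
        omega
      · have hb' : b = 2 := by omega
        have qB : B = 4 := by rw [← e2, hb']; norm_num
        omega
  · -- (2, 1)
    obtain ⟨k, rfl⟩ := List.length_eq_one_iff.1 hl
    have hk := hK k (by simp)
    have d := hk.three
    simp only [List.sum_cons, List.sum_nil, add_zero] at h hs2 hs3
    obtain ⟨i, j, hi, hib, hj, -, hs, m⟩ := hk
    rcases hres with ⟨rfl, hb4, ha4⟩ | ⟨rfl, hb4, ha4⟩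
    · have := eq_two (a := a) (b := b) ha4 hb4 hb hi hj hs m (by rw [e2, e3]; linarith)
      rcases this with h | h
      · left; simpa using h
      · right; right; simpa using h
    · exfalso; omega
  · rcases hres with ⟨rfl, hb4, ha4⟩ | ⟨rfl, hb4, ha4⟩ <;> exfalso <;> omega
  · rcases hres with ⟨rfl, hb4, ha4⟩ | ⟨rfl, hb4, ha4⟩ <;> exfalso <;> omega

end Cfsg.Agent.SmallSimple.S1000.ArithFive
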