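import Cfsg.Agent.SmallSimple.S1000.ArithFive

/-!
# The degree equation for `p = 7`, `e = 3`, and for `e = 2`
-/

set_option autoImplicit false

namespace Cfsg.Agent.SmallSimple.S1000.ArithSeven

open Cfsg.Agent.SmallSimple.S1000.ExpSieve
open Cfsg.Agent.SmallSimple.S1000.ArithFive (IsU acc acc_spec dvd_sum IsU.even IsU.three)

theorem three_pow_mod (n : ℕ) : (3 : ℤ) ^ n ≡ 3 ^ (n % 6) [ZMOD 7] := by
  conv_lhs => rw [← Nat.mod_add_div n 6, pow_add, pow_mul]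
  have : ((3 : ℤ) ^ 6) ^ (n / 6) ≡ 1 ^ (n / 6) [ZMOD 7] := Int.ModEq.pow _ (by decide)
  calc (3 : ℤ) ^ (n % 6) * (3 ^ 6) ^ (n / 6) ≡ 3 ^ (n % 6) * 1 ^ (n / 6) [ZMOD 7] :=
        (Int.ModEq.refl _).mul this
    _ = 3 ^ (n % 6) := by rw [one_pow, mul_one]

theorem two_pow_mod (n : ℕ) : (2 : ℤ) ^ n ≡ 2 ^ (n % 3) [ZMOD 7] := by
  conv_lhs => rw [← Nat.mod_add_div n 3, pow_add, pow_mul]
  have : ((2 : ℤ) ^ 3) ^ (n / 3) ≡ 1 ^ (n / 3) [ZMOD 7] := Int.ModEq.pow _ (by decide)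
  calc (2 : ℤ) ^ (n % 3) * (2 ^ 3) ^ (n / 3) ≡ 2 ^ (n % 3) * 1 ^ (n / 3) [ZMOD 7] :=
        (Int.ModEq.refl _).mul this
    _ = 2 ^ (n % 3) := by rw [one_pow, mul_one]

theorem unit_mod (i j : ℕ) : (2 : ℤ) ^ i * 3 ^ j ≡ 3 ^ ((2 * i + j) % 6) [ZMOD 7] := by
  refine Int.ModEq.trans ?_ (three_pow_mod _)
  rw [pow_add, pow_mul]
  exact (Int.ModEq.pow _ (by decide)).mul (Int.ModEq.refl _)

theorem sign_pos {i j : ℕ} (h : (2 : ℤ) ^ i * 3 ^ j ≡ 1 [ZMOD 7]) : (2 * i + j) % 6 = 0 := by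
  have h1 := (unit_mod i j).symm.trans h
  have h2 : (2 * i + j) % 6 < 6 := Nat.mod_lt _ (by norm_num)
  generalize (2 * i + j) % 6 = r at h1 h2
  interval_cases r
  · rfl
  all_goals exact absurd h1 (by decide)

theorem sign_neg {i j : ℕ} (h : -((2 : ℤ) ^ i * 3 ^ j) ≡ 1 [ZMOD 7]) : (2 * i + j) % 6 = 3 := by
  have h1 := (unit_mod i j).symm.neg.trans h
  have h2 : (2 * i + j) % 6 < 6 := Nat.mod_lt _ (by norm_num)
  generalize (2 * i + j) % 6 = r at h1 h2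
  interval_cases r
  · exact absurd h1 (by decide)
  · exact absurd h1 (by decide)
  · exact absurd h1 (by decide)
  · rfl
  · exact absurd h1 (by decide)
  · exact absurd h1 (by decide)

/-! ### The equation `3 ^ a = 1 + k + 2 ^ b` -/

/-- left side -/
def lhs3 (r : ℕ) : List Tm := (1, 9, 9) :: (1, 1, 9) :: (if r = 3 then [] else [(1, 2, 3)])

/-- right side -/
def rhs3 (r : ℕ) : List Tm := (1, 9, 0) :: (if r = 3 then [(1, 2, 3)] else [])

/-- the steps for the equation -/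
def steps3 : List Step :=
  [.split 2 65, .split 3 51319, .split 4 951473, .peel 1, .peel 2, .chk 64, .peel 0, .peel 3,
   .chk 27, .split 2 193, .chk 128, .split 3 47197, .chk 81, .split 2 3985921, .chk 256,
   .split 2 769, .split 2 257, .chk 1024, .chk 2187]

set_option maxRecDepth 100000 in
theorem check3 : ∀ i j : Fin 6, (2 * i.1 + j.1) % 3 = 0 → ∀ s ∈ [((1 : ℕ), (6 : ℕ)), (1, 3),
    (3, 2), (3, 5)],
    run (lhs3 ((2 * i.1 + j.1) % 6)) (rhs3 ((2 * i.1 + j.1) % 6)) (acc [(1, 3), (3, 5)]) steps3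
      [(s.1, 6), (s.2, 6), pos 6 i.1, pos 6 j.1] = true := by
  decide +kernel

theorem mod_lift {i j : ℕ} {r : ℕ} (h : (2 * i + j) % 6 = r) :
    (2 * (i % 6) + (j % 6)) % 6 = r := by omega

theorem eq_three {a b i j : ℕ} {k : ℤ}
    (hab : (a % 6 = 1 ∧ b % 3 = 0) ∨ (a % 6 = 3 ∧ b % 3 = 2))
    (hb1 : 1 ≤ b) (hi : 1 ≤ i) (hj : 1 ≤ j)
    (hk : k = 2 ^ i * 3 ^ j ∨ k = -(2 ^ i * 3 ^ j)) (m : k ≡ 1 [ZMOD 7])
    (h : (3 : ℤ) ^ a = 1 + k + 2 ^ b) : (a, b) = (1, 3) ∨ (a, b) = (3, 5) := by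
  obtain ⟨s, hs, ha, hb⟩ : ∃ s ∈ [((1 : ℕ), (6 : ℕ)), (1, 3), (3, 2), (3, 5)],
      (∃ k, a = s.1 + 6 * k) ∧ (∃ k, b = s.2 + 6 * k) := by
    rcases hab with ⟨h1, h2⟩ | ⟨h1, h2⟩
    · have : b % 6 = 0 ∨ b % 6 = 3 := by omega
      rcases this with h3 | h3
      · exact ⟨(1, 6), by simp, prog (by omega) (by omega), prog (by omega) (by omega)⟩
      · exact ⟨(1, 3), by simp, prog (by omega) (by omega), prog (by omega) (by omega)⟩
    · have : b % 6 = 2 ∨ b % 6 = 5 := by omega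
      rcases this with h3 | h3
      · exact ⟨(3, 2), by simp, prog (by omega) (by omega), prog (by omega) (by omega)⟩
      · exact ⟨(3, 5), by simp, prog (by omega) (by omega), prog (by omega) (by omega)⟩
  have hsat : Sat (xs [a, b, i, j]) [(s.1, 6), (s.2, 6), pos 6 (i % 6), pos 6 (j % 6)] :=
    sat_xs ha (sat_xs hb (sat_xs (pos_spec hi) (sat_xs (pos_spec hj) sat_nil)))
  have key : ∀ r : ℕ, (2 * i + j) % 6 = r → r % 3 = 0 →
      ev (xs [a, b, i, j]) (lhs3 r) = ev (xs [a, b, i, j]) (rhs3 r) →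
      (a, b) = (1, 3) ∨ (a, b) = (3, 5) := by
    intro r hr hr2 he
    have c := check3 ⟨i % 6, Nat.mod_lt _ (by norm_num)⟩ ⟨j % 6, Nat.mod_lt _ (by norm_num)⟩
      (by simp only; omega) s hs
    simp only [mod_lift hr] at c
    obtain ⟨st, hst, hsx⟩ := run_sound _ _ c _ hsat he
    have := acc_spec hst hsx
    simpa using this
  rcases hk with hk | hk <;> subst hk
  · refine key 0 (sign_pos m) rfl ?_
    have : ((3 ^ a : ℕ) : ℤ) = ((1 + 2 ^ i * 3 ^ j + 2 ^ b : ℕ) : ℤ) := by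
      push_cast; linarith
    have := Int.natCast_inj.1 this
    simp [lhs3, rhs3, ev, xs]
    linarith
  · refine key 3 (sign_neg m) rfl ?_
    have : ((3 ^ a + 2 ^ i * 3 ^ j : ℕ) : ℤ) = ((1 + 2 ^ b : ℕ) : ℤ) := by
      push_cast; linarith
    have := Int.natCast_inj.1 this
    simp [lhs3, rhs3, ev, xs]
    linarith

/-! ### `3 ^ a - 2 ^ b = ± 1` -/

theorem three_pow_mod_sixteen {a : ℕ} (h : (3 : ℤ) ^ a ≡ 1 [ZMOD 16]) : a % 4 = 0 := by
  have h1 : (3 : ℤ) ^ a ≡ 3 ^ (a % 4) [ZMOD 16] := by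
    conv_lhs => rw [← Nat.mod_add_div a 4, pow_add, pow_mul]
    have : ((3 : ℤ) ^ 4) ^ (a / 4) ≡ 1 ^ (a / 4) [ZMOD 16] := Int.ModEq.pow _ (by decide)
    have := (Int.ModEq.refl ((3 : ℤ) ^ (a % 4))).mul this
    rwa [one_pow, mul_one] at this
  have h2 := h1.symm.trans h
  have h3 : a % 4 < 4 := Nat.mod_lt _ (by norm_num)
  generalize a % 4 = r at h2 h3
  interval_cases r
  · rfl
  all_goals exact absurd h2 (by decide)

theorem three_pow_mod_eight (a : ℕ) : (3 : ℤ) ^ a % 8 = 1 ∨ (3 : ℤ) ^ a % 8 = 3 := by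
  induction a with
  | zero => left; rfl
  | succ a ih => rw [pow_succ]; omega

/-- `3 ^ a = 2 ^ b + 1`. -/
theorem catalan_one {a b : ℕ} (hb : 1 ≤ b) (h : (3 : ℤ) ^ a = 2 ^ b + 1) :
    (a = 1 ∧ b = 1) ∨ (a = 2 ∧ b = 3) := by
  by_cases hb4 : 4 ≤ b
  · exfalso
    have h16 : (16 : ℤ) ∣ 2 ^ b := pow_dvd_pow 2 hb4
    have h1 : (3 : ℤ) ^ a ≡ 1 [ZMOD 16] := by
      unfold Int.ModEq
      omega
    have h2 := three_pow_mod_sixteen h1
    obtain ⟨c, rfl⟩ : ∃ c, a = 4 * c := ⟨a / 4, by omega⟩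
    have h3 : (3 : ℤ) ^ (4 * c) ≡ 1 [ZMOD 5] := by
      rw [pow_mul]
      have : ((3 : ℤ) ^ 4) ^ c ≡ 1 ^ c [ZMOD 5] := Int.ModEq.pow _ (by decide)
      rwa [one_pow] at this
    have h5 : (5 : ℤ) ∣ 2 ^ b := by
      unfold Int.ModEq at h3
      omega
    have h6 : (5 : ℤ) ∣ 2 := Int.Prime.dvd_pow' (by norm_num) h5
    omega
  · have : b = 1 ∨ b = 2 ∨ b = 3 := by omega
    have h0 : a ≤ 2 := by
      by_contra hc
      have h27 : (3 : ℤ) ^ 3 ≤ 3 ^ a := pow_le_pow_right₀ (by norm_num) (by omega)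
      rcases this with rfl | rfl | rfl <;> norm_num at h h27 <;> omega
    interval_cases a <;> rcases this with rfl | rfl | rfl <;> omega

/-- `2 ^ b = 3 ^ a + 1`. -/
theorem catalan_two {a b : ℕ} (h : (2 : ℤ) ^ b = 3 ^ a + 1) :
    (a = 0 ∧ b = 1) ∨ (a = 1 ∧ b = 2) := by
  have h1 := three_pow_mod_eight a
  have hb : b ≤ 2 := by
    by_contra hc
    have : (8 : ℤ) ∣ 2 ^ b := pow_dvd_pow 2 (by omega : 3 ≤ b)
    omega
  have ha : a ≤ 1 := by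
    by_contra hc
    have h2 : (3 : ℤ) ^ 2 ≤ 3 ^ a := pow_le_pow_right₀ (by norm_num) (by omega)
    have h3 : (2 : ℤ) ^ b ≤ 2 ^ 2 := pow_le_pow_right₀ (by norm_num) hb
    omega
  interval_cases a <;> interval_cases b <;> omega

/-- Any equation `3 ^ a - 2 ^ b = ± 1` has `b ≤ 3`. -/
theorem catalan {a b : ℕ} {d : ℤ} (ha : 1 ≤ a) (hb : 1 ≤ b) (hd : d = 1 ∨ d = -1)
    (h : 1 = d * (3 ^ a - 2 ^ b)) :
    (a = 1 ∧ b = 1) ∨ (a = 2 ∧ b = 3) ∨ (a = 1 ∧ b = 2) := by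
  rcases hd with rfl | rfl
  · rcases catalan_one (a := a) hb (by linarith) with h | h
    · exact Or.inl h
    · exact Or.inr (Or.inl h)
  · rcases catalan_two (a := a) (b := b) (by linarith) with h | h
    · omega
    · exact Or.inr (Or.inr h)

/-! ### The degree equation for `e = 2` -/

/-- case (B), `e = 2`: the exceptional characters have degree `3 ^ a` -/
theorem two_B {a b nN n' t : ℕ} {d : ℤ} {K : List ℤ} (ha : 1 ≤ a) (hb : 1 ≤ b)
    (hd : d = 1 ∨ d = -1) (hN : 1 ≤ nN) (hc : nN + n' + K.length = 1)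
    (h : 1 + K.sum = d * ((1 + t * n') * 3 ^ a - nN * 2 ^ b)) :
    (a = 1 ∧ b = 1) ∨ (a = 2 ∧ b = 3) ∨ (a = 1 ∧ b = 2) := by
  have h1 : nN = 1 := by omega
  have h2 : n' = 0 := by omega
  have h3 : K = [] := List.length_eq_zero_iff.1 (by omega)
  subst h1 h2 h3
  refine catalan ha hb hd ?_
  simpa using h

/-- case (C), `e = 2`: the exceptional characters have degree `2 ^ b` -/
theorem two_C {a b nM n' t : ℕ} {d : ℤ} {K : List ℤ} (ha : 1 ≤ a) (hb : 1 ≤ b)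
    (hd : d = 1 ∨ d = -1) (hM : 1 ≤ nM) (hc : nM + n' + K.length = 1)
    (h : 1 + K.sum = d * ((1 + t * n') * 2 ^ b - nM * 3 ^ a)) :
    (a = 1 ∧ b = 1) ∨ (a = 2 ∧ b = 3) ∨ (a = 1 ∧ b = 2) := by
  have h1 : nM = 1 := by omega
  have h2 : n' = 0 := by omega
  have h3 : K = [] := List.length_eq_zero_iff.1 (by omega)
  subst h1 h2 h3
  refine catalan (d := -d) ha hb (by omega) ?_
  have : (1 : ℤ) = d * (2 ^ b - 3 ^ a) := by simpa using h
  linarith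

/-! ### The degree equation for `p = 7`, `e = 3` -/

theorem a_of_three {a : ℕ} {r : ℤ} {s : ℕ} (h : (3 : ℤ) ^ a ≡ r [ZMOD 7])
    (hr : ∀ t : Fin 6, (3 : ℤ) ^ t.1 ≡ r [ZMOD 7] → t.1 = s) : a % 6 = s :=
  hr ⟨a % 6, Nat.mod_lt _ (by norm_num)⟩ ((three_pow_mod a).symm.trans h)

theorem b_of_two {b : ℕ} {r : ℤ} {s : ℕ} (h : (2 : ℤ) ^ b ≡ r [ZMOD 7])
    (hr : ∀ t : Fin 3, (2 : ℤ) ^ t.1 ≡ r [ZMOD 7] → t.1 = s) : b % 3 = s :=
  hr ⟨b % 3, Nat.mod_lt _ (by norm_num)⟩ ((two_pow_mod b).symm.trans h)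

/-- case (B), `p = 7`, `e = 3`: the exceptional characters have degree `3 ^ a` -/
theorem seven_B {a b nN n' : ℕ} {d : ℤ} {K : List ℤ} (ha : 1 ≤ a) (hb : 1 ≤ b)
    (hd : d = 1 ∨ d = -1) (hN : 1 ≤ nN) (hc : nN + n' + K.length = 2)
    (hK : ∀ k ∈ K, IsU 7 a b k) (h2 : d * 2 ^ b ≡ 1 [ZMOD 7]) (h3 : (3 : ℤ) ^ a ≡ 3 * d [ZMOD 7])
    (h : 1 + K.sum = d * ((1 + 2 * n') * 3 ^ a - nN * 2 ^ b)) : a = 1 ∧ b = 3 := by
  have hd1 : d = 1 := by
    rcases hd with rfl | rfl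
    · rfl
    · exfalso
      have h4 : (2 : ℤ) ^ b ≡ 6 [ZMOD 7] := by
        unfold Int.ModEq at h2 ⊢
        omega
      have h5 : b % 3 = 3 := b_of_two (s := 3) h4 (by decide)
      omega
  subst hd1
  rw [one_mul] at h2
  rw [mul_one] at h3
  have ha6 : a % 6 = 1 := a_of_three h3 (by decide)
  have hb3 : b % 3 = 0 := b_of_two h2 (by decide)
  have p3 : (3 : ℤ) ^ a % 2 = 1 := Int.odd_iff.1 (Odd.pow (by decide))
  have p2 : (2 : ℤ) ^ b % 8 = 0 := Int.emod_eq_zero_of_dvd (pow_dvd_pow 2 (by omega : 3 ≤ b))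
  have hcs : (nN = 1 ∧ n' = 0 ∧ K.length = 1) ∨ (nN = 1 ∧ n' = 1 ∧ K.length = 0) ∨
      (nN = 2 ∧ n' = 0 ∧ K.length = 0) := by omega
  rcases hcs with ⟨rfl, rfl, hl⟩ | ⟨rfl, rfl, hl⟩ | ⟨rfl, rfl, hl⟩
  · obtain ⟨k, rfl⟩ := List.length_eq_one_iff.1 hl
    have hk := hK k (by simp)
    obtain ⟨i, j, hi, hib, hj, -, hs, m⟩ := hk
    have e : (3 : ℤ) ^ a = 1 + k + 2 ^ b := by
      simp only [List.sum_cons, List.sum_nil] at h
      push_cast at h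
      linarith
    have := eq_three (Or.inl ⟨ha6, hb3⟩) hb hi hj hs m e
    simp only [Prod.mk.injEq] at this
    omega
  · rw [List.length_eq_zero_iff] at hl
    subst hl
    have e : (1 : ℤ) + 2 ^ b = 3 ^ (a + 1) := by
      rw [pow_succ]
      simp only [List.sum_nil] at h
      push_cast at h
      linarith
    have := catalan_one (a := a + 1) hb (by linarith)
    omega
  · rw [List.length_eq_zero_iff] at hl
    subst hl
    exfalso
    have e : (3 : ℤ) ^ a = 2 ^ (b + 1) + 1 := by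
      rw [pow_succ]
      simp only [List.sum_nil] at h
      push_cast at h
      linarith
    have := catalan_one (a := a) (by omega : 1 ≤ b + 1) e
    omega

/-- case (C), `p = 7`, `e = 3`: the exceptional characters have degree `2 ^ b` -/
theorem seven_C {a b nM n' : ℕ} {d : ℤ} {K : List ℤ} (ha : 1 ≤ a) (hb : 1 ≤ b)
    (hd : d = 1 ∨ d = -1) (hM : 1 ≤ nM) (hc : nM + n' + K.length = 2)
    (hK : ∀ k ∈ K, IsU 7 a b k) (h2 : (2 : ℤ) ^ b ≡ 3 * d [ZMOD 7]) (h3 : d * 3 ^ a ≡ 1 [ZMOD 7])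
    (h : 1 + K.sum = d * ((1 + 2 * n') * 2 ^ b - nM * 3 ^ a)) : a = 3 ∧ b = 5 := by
  have hd1 : d = -1 := by
    rcases hd with rfl | rfl
    · exfalso
      have h5 : b % 3 = 3 := b_of_two (s := 3) h2 (by decide)
      omega
    · rfl
  subst hd1
  have hb3 : b % 3 = 2 := b_of_two h2 (by decide)
  have ha6 : a % 6 = 3 := by
    have h4 : (3 : ℤ) ^ a ≡ 6 [ZMOD 7] := by
      unfold Int.ModEq at h3 ⊢
      omega
    exact a_of_three h4 (by decide)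
  have p3 : (3 : ℤ) ^ a % 3 = 0 := Int.emod_eq_zero_of_dvd (dvd_pow_self 3 (by omega))
  have p2 : (2 : ℤ) ^ b % 2 = 0 := Int.emod_eq_zero_of_dvd (dvd_pow_self 2 (by omega))
  have hcs : (nM = 1 ∧ n' = 0 ∧ K.length = 1) ∨ (nM = 1 ∧ n' = 1 ∧ K.length = 0) ∨
      (nM = 2 ∧ n' = 0 ∧ K.length = 0) := by omega
  rcases hcs with ⟨rfl, rfl, hl⟩ | ⟨rfl, rfl, hl⟩ | ⟨rfl, rfl, hl⟩
  · obtain ⟨k, rfl⟩ := List.length_eq_one_iff.1 hl
    have hk := hK k (by simp)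
    obtain ⟨i, j, hi, hib, hj, -, hs, m⟩ := hk
    have e : (3 : ℤ) ^ a = 1 + k + 2 ^ b := by
      simp only [List.sum_cons, List.sum_nil] at h
      push_cast at h
      linarith
    have := eq_three (Or.inr ⟨ha6, hb3⟩) hb hi hj hs m e
    simp only [Prod.mk.injEq] at this
    omega
  · rw [List.length_eq_zero_iff] at hl
    subst hl
    exfalso
    simp only [List.sum_nil] at h
    push_cast at h
    omega
  · rw [List.length_eq_zero_iff] at hl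
    subst hl
    exfalso
    simp only [List.sum_nil] at h
    push_cast at h
    omega

end Cfsg.Agent.SmallSimple.S1000.ArithSeven
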