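import Cfsg.Agent.SmallSimple.S1000.NumSearch

/-!
# The degree equation for `p = 7`, `e = 6`

`seven` : the degree equation `1 + ∑ K = nM * 3 ^ a - nN * 2 ^ b` with `|K| + nN + nM = 6`, all
members of `K` of the form `± 2 ^ i * 3 ^ j ≡ 1 mod 7` with `1 ≤ i < b`, `1 ≤ j < a`, together with
`2 ^ b ≤ 6 * 3 ^ a`, `3 ^ a ≤ 6 * 2 ^ b`, the sum of squares, and `b ≤ 32`, implies
`(a, b) = (3, 3)` or `(9, 15)`.
-/

set_option autoImplicit false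

namespace Cfsg.Agent.SmallSimple.S1000.NumSeven

open Cfsg.Agent.SmallSimple.S1000.NumSearch

/-- all solutions violate the bound for the sum of squares -/
def ok (a b nN nM : ℕ) : Bool :=
  (sols 7 a b (6 - nN - nM) (nM * 3 ^ a - nN * 2 ^ b - 1)).all fun l =>
    decide ((7 * 2 ^ b * 3 ^ a : ℤ) < 1 + nN * 4 ^ b + nM * 9 ^ a + (l.map (· ^ 2)).sum)

/-- all possibilities for `nN`, `nM` -/
def okAll (a b : ℕ) : Bool :=
  (List.range 5).all fun nN => (List.range 5).all fun nM =>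
    decide (6 < nN + 1 + (nM + 1)) || ok a b (nN + 1) (nM + 1)

theorem okAll_3_6 : okAll 3 6 = true := by decide +kernel
theorem okAll_9_12 : okAll 9 12 = true := by decide +kernel
theorem okAll_15_24 : okAll 15 24 = true := by decide +kernel

/-- The possible pairs `(a, b)`. -/
theorem pairs {a b : ℕ} (hb : b ≤ 32) (h1 : 2 ^ b ≤ 6 * 3 ^ a) (h2 : 3 ^ a ≤ 6 * 2 ^ b)
    (h3 : 3 ∣ b) (h4 : a % 6 = 3) :
    (a, b) ∈ [(3, 3), (9, 15), (3, 6), (9, 12), (15, 24)] := by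
  have ha : a < 24 := by
    by_contra h
    push Not at h
    have e1 : 3 ^ 24 ≤ 3 ^ a := Nat.pow_le_pow_right (by norm_num) h
    have e2 : 2 ^ b ≤ 2 ^ 32 := Nat.pow_le_pow_right (by norm_num) hb
    have e3 : 6 * 2 ^ 32 < 3 ^ 24 := by norm_num
    omega
  have key : ∀ x : Fin 24, ∀ y : Fin 33, 2 ^ (y : ℕ) ≤ 6 * 3 ^ (x : ℕ) →
      3 ^ (x : ℕ) ≤ 6 * 2 ^ (y : ℕ) → 3 ∣ (y : ℕ) → (x : ℕ) % 6 = 3 →
      ((x : ℕ), (y : ℕ)) ∈ [(3, 3), (9, 15), (3, 6), (9, 12), (15, 24)] := by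
    decide +kernel
  exact key ⟨a, ha⟩ ⟨b, by omega⟩ h1 h2 h3 h4

/-- **Bounded numerics for `p = 7`, `e = 6`.** -/
theorem seven {a b nN nM : ℕ} {K : List ℤ} (hb : b ≤ 32) (hN : 1 ≤ nN) (hM : 1 ≤ nM)
    (hlen : K.length + nN + nM = 6) (hK : ∀ k ∈ K, IsK 7 a b k)
    (hsum : 1 + K.sum = nM * 3 ^ a - nN * 2 ^ b)
    (h1 : 2 ^ b ≤ 6 * 3 ^ a) (h2 : 3 ^ a ≤ 6 * 2 ^ b) (h3 : 3 ∣ b) (h4 : a % 6 = 3)
    (hsq : (1 + nN * 4 ^ b + nM * 9 ^ a + (K.map (· ^ 2)).sum : ℤ) ≤ 7 * 2 ^ b * 3 ^ a) :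
    (a = 3 ∧ b = 3) ∨ (a = 9 ∧ b = 15) := by
  have hfin : okAll a b = true → False := by
    intro h
    rw [okAll, List.all_eq_true] at h
    have h5 := h (nN - 1) (List.mem_range.2 (by omega))
    rw [List.all_eq_true] at h5
    have h6 := h5 (nM - 1) (List.mem_range.2 (by omega))
    rw [Nat.sub_add_cancel hN, Nat.sub_add_cancel hM, Bool.or_eq_true, decide_eq_true_eq] at h6
    rcases h6 with h6 | h6
    · omega
    · rw [ok, List.all_eq_true] at h6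
      obtain ⟨l, hl, hp⟩ := sols_spec (p := 7) (by norm_num) hK (n := 6 - nN - nM) (by omega)
        (T := nM * 3 ^ a - nN * 2 ^ b - 1) (by linarith)
      have h7 := h6 l hl
      rw [decide_eq_true_eq, (hp.map _).sum_eq] at h7
      linarith
  have hp := pairs hb h1 h2 h3 h4
  simp only [List.mem_cons, List.not_mem_nil, or_false, Prod.mk.injEq] at hp
  rcases hp with h | h | ⟨rfl, rfl⟩ | ⟨rfl, rfl⟩ | ⟨rfl, rfl⟩
  · exact Or.inl h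
  · exact Or.inr h
  · exact (hfin okAll_3_6).elim
  · exact (hfin okAll_9_12).elim
  · exact (hfin okAll_15_24).elim

/-- Powers of two which are `±1` mod `7`. -/
theorem pow_two_mod {b : ℕ} {δ : ℤ} (hδ : δ = 1 ∨ δ = -1) (h : δ * 2 ^ b ≡ 1 [ZMOD 7]) :
    δ = 1 ∧ 3 ∣ b := by
  have h1 : (2 : ℤ) ^ b = (2 ^ 3) ^ (b / 3) * 2 ^ (b % 3) := by
    rw [← pow_mul, ← pow_add, Nat.div_add_mod]
  have h2 : ((2 : ℤ) ^ 3) ^ (b / 3) ≡ 1 [ZMOD 7] := by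
    have : (2 : ℤ) ^ 3 ≡ 1 [ZMOD 7] := by decide
    simpa using this.pow (b / 3)
  have h3 : (2 : ℤ) ^ b ≡ 2 ^ (b % 3) [ZMOD 7] := by
    rw [h1]
    simpa using h2.mul_right (2 ^ (b % 3))
  have h4 : δ * 2 ^ (b % 3) ≡ 1 [ZMOD 7] := (h3.mul_left δ).symm.trans h
  have h5 : b % 3 < 3 := Nat.mod_lt _ (by norm_num)
  rw [Nat.dvd_iff_mod_eq_zero]
  generalize b % 3 = r at h4 h5
  rcases hδ with rfl | rfl <;> interval_cases r <;> revert h4 <;> decide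

/-- Powers of three which are `-1` mod `7`. -/
theorem pow_three_mod {a : ℕ} (h : -(3 : ℤ) ^ a ≡ 1 [ZMOD 7]) : a % 6 = 3 := by
  have h1 : (3 : ℤ) ^ a = (3 ^ 6) ^ (a / 6) * 3 ^ (a % 6) := by
    rw [← pow_mul, ← pow_add, Nat.div_add_mod]
  have h2 : ((3 : ℤ) ^ 6) ^ (a / 6) ≡ 1 [ZMOD 7] := by
    have : (3 : ℤ) ^ 6 ≡ 1 [ZMOD 7] := by decide
    simpa using this.pow (a / 6)
  have h3 : (3 : ℤ) ^ a ≡ 3 ^ (a % 6) [ZMOD 7] := by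
    rw [h1]
    simpa using h2.mul_right (3 ^ (a % 6))
  have h4 : -(3 : ℤ) ^ (a % 6) ≡ 1 [ZMOD 7] := (h3.neg).symm.trans h
  have h5 : a % 6 < 6 := Nat.mod_lt _ (by norm_num)
  generalize a % 6 = r at h4 h5
  interval_cases r <;> revert h4 <;> decide

/-- The same with a sign `δ`, in the shape of the structure theorem. -/
theorem seven' {a b nN nM : ℕ} {K : List ℤ} {δ : ℤ} (hδ : δ = 1 ∨ δ = -1) (hb : b ≤ 32)
    (hN : 1 ≤ nN) (hM : 1 ≤ nM)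
    (hlen : K.length + nN + nM = 6) (hK : ∀ k ∈ K, IsK 7 a b k)
    (hsum : 1 + K.sum = δ * (nM * 3 ^ a - nN * 2 ^ b))
    (hδ1 : δ * 2 ^ b ≡ 1 [ZMOD 7]) (hδ2 : -(δ * 3 ^ a) ≡ 1 [ZMOD 7])
    (h1 : 2 ^ b ≤ 6 * 3 ^ a) (h2 : 3 ^ a ≤ 6 * 2 ^ b)
    (hsq : (1 + nN * 4 ^ b + nM * 9 ^ a + (K.map (· ^ 2)).sum : ℤ) ≤ 7 * 2 ^ b * 3 ^ a) :
    (a = 3 ∧ b = 3) ∨ (a = 9 ∧ b = 15) := by
  obtain ⟨rfl, h3⟩ := pow_two_mod hδ hδ1
  rw [one_mul] at hsum hδ2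
  exact seven hb hN hM hlen hK hsum h1 h2 h3 (pow_three_mod hδ2) hsq

end Cfsg.Agent.SmallSimple.S1000.NumSeven
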