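import Cfsg.Agent.SmallSimple.S1000.StructureOne
import Cfsg.Agent.SmallSimple.S1000.Setup
import Cfsg.Agent.SmallSimple.SylowPrimeCount
import Cfsg.Agent.SmallSimple.S1000.ArithSeven
import Cfsg.Agent.SmallSimple.S1000.ArithFive
import Cfsg.Agent.SmallSimple.S1000.NumSeven

/-!
# S1000: the degree equation and characteristic 3

For a group satisfying the standing hypotheses `Setup.Hyp G p a b`:

* `exists_both` : the two Steinberg characters;
* `core3` : `O₂(C(y)) = 1` for the elements `y` of order 3;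
* `degrees` : the degree equation of the principal `p`-block (three cases);
* `cases_five`, `cases_seven` : the exponents.
-/

set_option autoImplicit false
set_option linter.unusedSectionVars false

open Cfsg

namespace Cfsg.Agent.SmallSimple.S1000.Degrees

open Subgroup DegreeData BlockTypes Structure StructureOne Setup
open Cfsg.Agent.Characters.Core Cfsg.Agent.Blocks.Basic Cfsg.Agent.Blocks.Local Cfsg.Agent.ZN
open Cfsg.Agent.MinSimple.Basic Cfsg.Agent.MinSimple.VModule
open Cfsg.Agent.SmallSimple.SylowPrimeCount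

universe u

variable {G : Type u} [Group G] {p a b : ℕ}

theorem not_solvable (h : Setup.Hyp G p a b) : ¬ Group.IsSolvable G := by
  intro hs
  obtain ⟨N, -, hN⟩ := h.nsol
  exact hN inferInstance

theorem a_ne_zero (h : Setup.Hyp G p a b) : a ≠ 0 := by
  have := h.finite
  rintro rfl
  refine not_solvable h ?_
  exact Cfsg.Agent.S0144.result p 2 1 b h.prime Nat.prime_two (by
    rw [h.card, pow_zero, mul_one, pow_one])

theorem b_ne_zero (h : Setup.Hyp G p a b) : b ≠ 0 := by
  have := h.finite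
  rintro rfl
  refine not_solvable h ?_
  exact Cfsg.Agent.S0144.result p 3 1 a h.prime Nat.prime_three (by
    rw [h.card, pow_zero, mul_one, pow_one])

theorem exists_mul_ne (h : Setup.Hyp G p a b) : ∃ x y : G, x * y ≠ y * x := by
  by_contra hcon
  push Not at hcon
  refine not_solvable h ?_
  exact Group.isSolvable_of_comm hcon

/-- The character theoretic hypotheses. -/
theorem charHyp (h : Setup.Hyp G p a b) [Finite G] : CharSetup.Hyp G p 2 b 3 a where
  hp := h.prime
  hr := Nat.prime_two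
  hs := Nat.prime_three
  hpr := by have := h.five_le; omega
  hps := by have := h.five_le; omega
  hrs := by norm_num
  card := by rw [h.card]; ring
  cent := h.cent

theorem core2 (h : Setup.Hyp G p a b) {u : G} (hu : u ≠ 1) (hk : ∃ k : ℕ, orderOf u = 2 ^ k) :
    pPrimeCore 2 (centralizer ({u} : Set G)) = ⊥ := by
  have := h.finite
  have hf : Fact (Nat.Prime 2) := ⟨Nat.prime_two⟩
  obtain ⟨k, hk⟩ := hk
  have hT : IsPGroup 2 (zpowers u) := IsPGroup.of_card (by rw [Nat.card_zpowers, hk])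
  have hT1 : zpowers u ≠ ⊥ := by rw [Ne, zpowers_eq_bot]; exact hu
  have h1 := o3_centralizer_eq_bot h.char2 hT hT1
  have h2 := h.tt_two hT hT1
  rw [centralizer_zpowers_eq] at h1 h2
  have h3 : OddOrderLocal.NilParts.oP' 2 (centralizer ({u} : Set G)) ≤
      o3 (centralizer ({u} : Set G)) := by
    refine le_o3 (OddOrderLocal.NilParts.oP'_le 2 _) ?_
      (OddOrderLocal.NilParts.le_normalizer_oP' 2 _)
    exact isPGroup_of_tt_of_odd (h2.mono (OddOrderLocal.NilParts.oP'_le 2 _))
      (OddOrderLocal.NilParts.coprime_oP' 2 _)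
  rw [h1, le_bot_iff, OddOrderLocal.NilParts.oP'_def] at h3
  exact (Subgroup.map_eq_bot_iff_of_injective _ (centralizer ({u} : Set G)).subtype_injective).mp h3

/-- The two Steinberg characters, and the vanishing of the characters outside the principal blocks. -/
theorem exists_both (h : Setup.Hyp G p a b) [Finite G] (P : Sylow p G) {e t : ℕ}
    (he : (centralizer (P : Set G)).relIndex (normalizer (P : Set G)) = e) (ht : e * t = p - 1) :
    ∃ (M R N : Ideal AlgInt) (D : BlockData p M P e t) (A B : IrrCharacter G),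
      Both p 2 b 3 a D R N A B ∧
      (∀ ξ : IrrCharacter G, ξ ∉ principalBlock R G → ∀ g : G, 2 ∣ orderOf g →
        (ξ : G → ℂ) g = 0) ∧
      (∀ ξ : IrrCharacter G, ξ ∉ principalBlock N G → ∀ g : G, 3 ∣ orderOf g →
        (ξ : G → ℂ) g = 0) ∧
      (∀ y : G, y ≠ 1 → (∃ k : ℕ, orderOf y = 3 ^ k) →
        pPrimeCore 3 (centralizer ({y} : Set G)) = ⊥) := by
  have := h.simple
  have hp := Fact.mk h.prime
  have h2 : Fact (Nat.Prime 2) := ⟨Nat.prime_two⟩
  have h3 : Fact (Nat.Prime 3) := ⟨Nat.prime_three⟩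
  obtain ⟨M, hM⟩ := Blocks.ExistsModular.exists_isPModular h.prime
  obtain ⟨R, hR⟩ := Blocks.ExistsModular.exists_isPModular Nat.prime_two
  obtain ⟨N, hN⟩ := Blocks.ExistsModular.exists_isPModular Nat.prime_three
  have hH := charHyp h
  obtain ⟨D⟩ := exists_blockData p (by have := h.five_le; omega) M hM P (hH.card_sylow P) e t he ht
  obtain ⟨⟨A, a1, a2, a3, a4⟩, ⟨B, b1, b2, b3, b4⟩, h4, h5, h6⟩ :=
    Steinberg.exists_both hH (exists_mul_ne h) (a_ne_zero h) D hM he ht hR hN
      (fun u hu hk => core2 h hu hk)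
  exact ⟨M, R, N, D, A, B, ⟨hH, hM, he, ht, hR, hN, b_ne_zero h, a_ne_zero h, exists_mul_ne h,
    a1, a2, a3, a4, b1, b2, b3, b4⟩, h4, h5, h6⟩

/-- `O₂(C(y)) = 1` for the elements `y` of order 3. -/
theorem core3 (h : Setup.Hyp G p a b) : ∀ y : G, orderOf y = 3 →
    o2 (centralizer ({y} : Set G)) = ⊥ := by
  have := h.finite
  have hp := Fact.mk h.prime
  intro y hy
  obtain ⟨P⟩ : Nonempty (Sylow p G) := inferInstance
  have hH := charHyp h
  obtain ⟨t, ht⟩ := relIndex_dvd_pred (P := (P : Subgroup G)) h.prime (hH.card_sylow P)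
  obtain ⟨M, R, N, D, A, B, -, -, -, h1⟩ := exists_both h P rfl ht.symm
  have h2 := h1 y (by rintro rfl; simp at hy) ⟨1, by rw [hy, pow_one]⟩
  have h3 : o2 (centralizer ({y} : Set G)) ≤ OddOrderLocal.NilParts.oP' 3
      (centralizer ({y} : Set G)) := by
    refine OddOrderLocal.NilParts.le_oP' (o2_le _) ?_ (le_normalizer_o2 _)
    obtain ⟨n, hn⟩ := IsPGroup.iff_card.mp (o2_isPGroup (centralizer ({y} : Set G)))
    rw [hn]
    exact Nat.Coprime.pow_left n (by norm_num)
  rw [OddOrderLocal.NilParts.oP'_def, h2, Subgroup.map_bot, le_bot_iff] at h3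
  exact h3

theorem loc (h : Setup.Hyp G p a b) [Finite G] : Loc G := h.loc (core3 h)

/-- **The degree equation.** -/
theorem degrees (h : Setup.Hyp G p a b) [Finite G] (P : Sylow p G) :
    ∃ e t : ℕ, (centralizer (P : Set G)).relIndex (normalizer (P : Set G)) = e ∧ e * t = p - 1 ∧
      ((t = 1 ∧ CaseOne p 2 b 3 a) ∨
        (t ≠ 1 ∧ (CaseTwo p 2 b 3 a e t ∨ CaseTwo p 3 a 2 b e t))) := by
  have := h.simple
  have hp := Fact.mk h.prime
  have hH := charHyp h
  obtain ⟨t, ht⟩ := relIndex_dvd_pred (P := (P : Subgroup G)) h.prime (hH.card_sylow P)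
  obtain ⟨M, R, N, D, A, B, h1, -⟩ := exists_both h P rfl ht.symm
  refine ⟨_, t, rfl, ht.symm, ?_⟩
  by_cases ht1 : t = 1
  · exact Or.inl ⟨ht1, caseOne h1 ht1⟩
  · refine Or.inr ⟨ht1, ?_⟩
    rcases StructureOne.cases h1 with h2 | h2
    · exact absurd h2.1 ht1
    · exact h2

theorem isU_of_kProp {z : ℤ} (h : KProp p 2 b 3 a z) : ArithFive.IsU p a b z := by
  obtain ⟨h1, i, j, hi, hi', hj, hj', hz⟩ := h
  refine ⟨i, j, hi, hi', hj, hj', ?_, h1⟩
  have h2 : (z.natAbs : ℤ) = 2 ^ i * 3 ^ j := by rw [hz]; push_cast; rfl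
  rcases Int.natAbs_eq z with h3 | h3
  · exact Or.inl (by rw [← h2]; exact h3)
  · exact Or.inr (by rw [← h2]; exact h3)

theorem isU_of_kProp' {z : ℤ} (h : KProp p 3 a 2 b z) : ArithFive.IsU p a b z := by
  obtain ⟨h1, i, j, hi, hi', hj, hj', hz⟩ := h
  exact isU_of_kProp ⟨h1, j, i, hj, hj', hi, hi', by rw [hz, mul_comm]⟩

/-- The case `e = 1` does not occur. -/
theorem one_lt_e {r m s n e t : ℕ} (h : CaseTwo p r m s n e t) : 1 < e := by
  obtain ⟨-, nN, n', K, -, h1, h2, -⟩ := h
  omega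

/-- The case `e = 2`. -/
theorem e_two {t : ℕ} (ha : a ≠ 0) (hb : b ≠ 0)
    (h : CaseTwo p 2 b 3 a 2 t ∨ CaseTwo p 3 a 2 b 2 t) : b ≤ 3 := by
  rcases h with h | h
  · obtain ⟨d, nN, n', K, hd, hN, hc, hs, -⟩ := h
    push_cast at hs
    have := ArithSeven.two_B (Nat.one_le_iff_ne_zero.2 ha) (Nat.one_le_iff_ne_zero.2 hb) hd hN
      (by omega) hs
    omega
  · obtain ⟨d, nN, n', K, hd, hN, hc, hs, -⟩ := h
    push_cast at hs
    have := ArithSeven.two_C (Nat.one_le_iff_ne_zero.2 ha) (Nat.one_le_iff_ne_zero.2 hb) hd hN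
      (by omega) hs
    omega

/-- The case `p = 7`, `e = 3`. -/
theorem e_three (ha : a ≠ 0) (hb : b ≠ 0)
    (h : CaseTwo 7 2 b 3 a 3 2 ∨ CaseTwo 7 3 a 2 b 3 2) : b ≤ 5 := by
  rcases h with h | h
  · obtain ⟨d, nN, n', K, hd, hN, hc, hs, hK, h1, h2, -⟩ := h
    push_cast at hs h1 h2
    have := ArithSeven.seven_B (Nat.one_le_iff_ne_zero.2 ha) (Nat.one_le_iff_ne_zero.2 hb) hd hN
      (by omega) (fun k hk => isU_of_kProp (hK k hk)) h1 (by
        have h3 := (Int.ModEq.refl d).mul h2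
        rcases hd with rfl | rfl
        · simpa using h3
        · simpa using h3) hs
    omega
  · obtain ⟨d, nN, n', K, hd, hN, hc, hs, hK, h1, h2, -⟩ := h
    push_cast at hs h1 h2
    have := ArithSeven.seven_C (Nat.one_le_iff_ne_zero.2 ha) (Nat.one_le_iff_ne_zero.2 hb) hd hN
      (by omega) (fun k hk => isU_of_kProp' (hK k hk)) (by
        have h3 := (Int.ModEq.refl d).mul h2
        rcases hd with rfl | rfl
        · simpa using h3
        · simpa using h3) h1 hs
    omega

/-- **The exponents for `p = 5`.** -/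
theorem five (h : Setup.Hyp G 5 a b) :
    b ≤ 3 ∨ (a = 2 ∧ b = 4) ∨ (a = 4 ∧ b = 6) ∨ (a = 6 ∧ b = 8) := by
  have := h.finite
  have hp := Fact.mk h.prime
  have ha := a_ne_zero h
  have hb := b_ne_zero h
  obtain ⟨P⟩ : Nonempty (Sylow 5 G) := inferInstance
  obtain ⟨e, t, -, het, hcase⟩ := degrees h P
  have he4 : e ∣ 4 := ⟨t, het.symm⟩
  have he : e ≤ 4 := Nat.le_of_dvd (by norm_num) he4
  rcases hcase with ⟨rfl, hcase⟩ | ⟨ht1, hcase⟩
  · right
    obtain ⟨δ, nN, nM, K, hδ, hN, hM, hl, hs, hK, h1, h2, -⟩ := hcase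
    push_cast at hs h1 h2
    exact ArithFive.five (Nat.one_le_iff_ne_zero.2 ha) (Nat.one_le_iff_ne_zero.2 hb) hδ hN hM
      (by omega) (fun k hk => isU_of_kProp (hK k hk)) h1 (by rwa [neg_mul]) hs
  · left
    have he1 : 1 < e := by
      rcases hcase with h1 | h1
      · exact one_lt_e h1
      · exact one_lt_e h1
    have he2 : e = 2 := by
      interval_cases e
      · rfl
      · omega
      · exact absurd (by omega) ht1
    subst he2
    exact e_two ha hb hcase

/-- **The exponents for `p = 7`.** -/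
theorem seven_cases (h : Setup.Hyp G 7 a b) : b ≤ 5 ∨ CaseOne 7 2 b 3 a := by
  have := h.finite
  have hp := Fact.mk h.prime
  have ha := a_ne_zero h
  have hb := b_ne_zero h
  obtain ⟨P⟩ : Nonempty (Sylow 7 G) := inferInstance
  obtain ⟨e, t, -, het, hcase⟩ := degrees h P
  have he6 : e ∣ 6 := ⟨t, het.symm⟩
  have he : e ≤ 6 := Nat.le_of_dvd (by norm_num) he6
  rcases hcase with ⟨rfl, hcase⟩ | ⟨ht1, hcase⟩
  · exact Or.inr hcase
  · left
    have he1 : 1 < e := by
      rcases hcase with h1 | h1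
      · exact one_lt_e h1
      · exact one_lt_e h1
    have he2 : e = 2 ∨ (e = 3 ∧ t = 2) := by
      interval_cases e
      · exact Or.inl rfl
      · exact Or.inr ⟨rfl, by omega⟩
      · omega
      · omega
      · exact absurd (by omega) ht1
    rcases he2 with rfl | ⟨rfl, rfl⟩
    · exact (e_two ha hb hcase).trans (by norm_num)
    · exact e_three ha hb hcase

/-- **The exponents for `p = 7`, `b ≤ 13`.** -/
theorem seven (h : Setup.Hyp G 7 a b) (hb : b ≤ 13) : b ≤ 5 := by
  rcases seven_cases h with h1 | h1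
  · exact h1
  obtain ⟨δ, nN, nM, K, hδ, hN, hM, hl, hs, hK, h1, h2, h3, h4, h5⟩ := h1
  push_cast at hs h1 h2 h5
  have e1 : 0 < 2 ^ b := by positivity
  have e2 : 0 < 3 ^ a := by positivity
  have := NumSeven.seven' (K := K) hδ (by omega : b ≤ 32) hN hM (by omega)
    (fun k hk => isU_of_kProp (hK k hk)) hs h1 h2 (by nlinarith) (by nlinarith) (by
      have e3 : ((2 : ℤ) ^ b) ^ 2 = 4 ^ b := by rw [← pow_mul, mul_comm, pow_mul]; norm_num
      have e4 : ((3 : ℤ) ^ a) ^ 2 = 9 ^ a := by rw [← pow_mul, mul_comm, pow_mul]; norm_num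
      rw [e3, e4] at h5
      linarith)
  omega

end Cfsg.Agent.SmallSimple.S1000.Degrees
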