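import Cfsg.Agent.SmallSimple.S1000.NumSearch

/-!
# The degree equation for `p = 5`, `e = 4`, small exponents

The solutions of `1 + ∑ K = δ * (nM * 3 ^ a - nN * 2 ^ b)` with `nN + nM + |K| = 4` for
`(a, b) = (2, 4), (4, 6), (6, 8)`.
-/

set_option autoImplicit false

namespace Cfsg.Agent.SmallSimple.S1000.NumFive

open Cfsg.Agent.SmallSimple.S1000.NumSearch

/-- solve for all `nN`, `nM` -/
def all (a b : ℕ) (δ : ℤ) (P : ℕ → ℕ → List ℤ → Bool) : Bool :=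
  (List.range 4).all fun nN => (List.range 4).all fun nM =>
    decide (4 < nN + 1 + (nM + 1)) ||
      (sols 5 a b (4 - (nN + 1) - (nM + 1))
        (δ * ((nM + 1 : ℕ) * 3 ^ a - (nN + 1 : ℕ) * 2 ^ b) - 1)).all (P (nN + 1) (nM + 1))

theorem all_spec {a b : ℕ} {δ : ℤ} {P : ℕ → ℕ → List ℤ → Bool} (h : all a b δ P = true)
    {nN nM : ℕ} {K : List ℤ} (hN : 1 ≤ nN) (hM : 1 ≤ nM) (hc : nN + nM + K.length = 4)
    (hK : ∀ k ∈ K, IsK 5 a b k) (hsum : 1 + K.sum = δ * (nM * 3 ^ a - nN * 2 ^ b)) :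
    ∃ l : List ℤ, l.Perm K ∧ P nN nM l = true := by
  rw [all, List.all_eq_true] at h
  have h5 := h (nN - 1) (List.mem_range.2 (by omega))
  rw [List.all_eq_true] at h5
  have h6 := h5 (nM - 1) (List.mem_range.2 (by omega))
  rw [Nat.sub_add_cancel hN, Nat.sub_add_cancel hM, Bool.or_eq_true, decide_eq_true_eq] at h6
  rcases h6 with h6 | h6
  · omega
  · rw [List.all_eq_true] at h6
    obtain ⟨l, hl, hp⟩ := sols_spec (p := 5) (by norm_num) hK (n := 4 - nN - nM) (by omega)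
      (T := δ * (nM * 3 ^ a - nN * 2 ^ b) - 1) (by linarith)
    exact ⟨l, hp, h6 l hl⟩

/-- `(a, b) = (6, 8)`. -/
theorem sixEight {nN nM : ℕ} {K : List ℤ} {δ : ℤ} (hδ : δ = 1 ∨ δ = -1) (hN : 1 ≤ nN)
    (hM : 1 ≤ nM) (hc : nN + nM + K.length = 4) (hK : ∀ k ∈ K, IsK 5 6 8 k)
    (h2 : δ * 2 ^ 8 ≡ 1 [ZMOD 5]) (hsum : 1 + K.sum = δ * (nM * 3 ^ 6 - nN * 2 ^ 8)) :
    δ = 1 ∧ nN = 2 ∧ nM = 1 ∧ K = [216] := by
  rcases hδ with rfl | rfl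
  · obtain ⟨l, hl, hP⟩ := all_spec (a := 6) (b := 8) (δ := 1)
      (P := fun nN nM l => decide (nN = 2 ∧ nM = 1 ∧ l = [216])) (by decide +kernel) hN hM hc hK hsum
    rw [decide_eq_true_eq] at hP
    obtain ⟨h3, h4, rfl⟩ := hP
    exact ⟨rfl, h3, h4, List.perm_singleton.1 hl.symm⟩
  · exfalso; revert h2; decide

/-- `(a, b) = (4, 6)`. -/
theorem fourSix {nN nM : ℕ} {K : List ℤ} {δ : ℤ} (hδ : δ = 1 ∨ δ = -1) (hN : 1 ≤ nN)
    (hM : 1 ≤ nM) (hc : nN + nM + K.length = 4) (hK : ∀ k ∈ K, IsK 5 4 6 k)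
    (h2 : δ * 2 ^ 6 ≡ 1 [ZMOD 5]) (hsum : 1 + K.sum = δ * (nM * 3 ^ 4 - nN * 2 ^ 6)) :
    δ = -1 ∧ nN = 1 ∧ nM = 1 ∧ (K.Perm [6, -24] ∨ K.Perm [-54, 36]) := by
  rcases hδ with rfl | rfl
  · exfalso; revert h2; decide
  · obtain ⟨l, hl, hP⟩ := all_spec (a := 4) (b := 6) (δ := -1)
      (P := fun nN nM l => decide (nN = 1 ∧ nM = 1 ∧ (l = [6, -24] ∨ l = [-54, 36])))
      (by decide +kernel) hN hM hc hK hsum
    rw [decide_eq_true_eq] at hP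
    obtain ⟨h3, h4, rfl | rfl⟩ := hP
    · exact ⟨rfl, h3, h4, Or.inl hl.symm⟩
    · exact ⟨rfl, h3, h4, Or.inr hl.symm⟩

/-- `(a, b) = (2, 4)` contradicts the sum of squares. -/
theorem twoFour {nN nM : ℕ} {K : List ℤ} {δ : ℤ} (hδ : δ = 1 ∨ δ = -1) (hN : 1 ≤ nN)
    (hM : 1 ≤ nM) (hc : nN + nM + K.length = 4) (hK : ∀ k ∈ K, IsK 5 2 4 k)
    (h2 : δ * 2 ^ 4 ≡ 1 [ZMOD 5]) (hsum : 1 + K.sum = δ * (nM * 3 ^ 2 - nN * 2 ^ 4))
    (hsq : (1 + nN * 4 ^ 4 + nM * 9 ^ 2 + (K.map (· ^ 2)).sum : ℤ) ≤ 5 * 2 ^ 4 * 3 ^ 2) :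
    False := by
  rcases hδ with rfl | rfl
  · obtain ⟨l, hl, hP⟩ := all_spec (a := 2) (b := 4) (δ := 1)
      (P := fun nN nM l => decide (nN = 2 ∧ nM = 1 ∧ l = [-24]))
      (by decide +kernel) hN hM hc hK hsum
    rw [decide_eq_true_eq] at hP
    obtain ⟨rfl, rfl, rfl⟩ := hP
    rw [List.perm_singleton.1 hl.symm] at hsq
    norm_num at hsq
  · revert h2; decide

end Cfsg.Agent.SmallSimple.S1000.NumFive
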