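import Cfsg.Agent.SmallSimple.S1000.ThmDMain
import Cfsg.Agent.SmallSimple.InvolPairsData
import Cfsg.Agent.SmallSimple.InvolColumn
import Cfsg.Agent.SmallSimple.S1000.NumFive

/-!
# The involution column, and the exclusion of `|G| = 933120`

* `Hyp.pair_self` : `∑ ε χ(a)² / χ(1) - d Θ(a)² / Θ(1)` is `0` or `p |C(a)|² / |G|` for an
  involution `a`;
* `exists_sylow_invol` : an involution centralized by a Sylow `2`-subgroup;
* `no_sol` : `19 m² - 2 m + 91 = 32 * 9 ^ c` has no integer solution;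
* `false_of_degs` : the principal `5`-block of a group of order `933120` with self-centralizing
  Sylow `5`-subgroups does not have the signed degrees `1, 216, 256, 256, -729`.
-/

set_option autoImplicit false

open Cfsg
open scoped ComplexConjugate

namespace Cfsg.Agent.SmallSimple.S1000.Order933120

open Subgroup DegreeData Cfsg.Agent.Blocks.Basic CharSetup ThmD ThmDMain
open Cfsg.Agent.SmallSimple.InvolPairs Cfsg.Agent.SmallSimple.InvolPairsBlock

universe u

variable {G : Type u} [Group G] [Finite G] {p r m s n : ℕ} {M N : Ideal AlgInt} {P : Sylow p G}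
  {e t : ℕ}

namespace Hyp

/-- The pair identity for an involution with itself. -/
theorem pair_self (h : Hyp G p r m s n) [hpf : Fact p.Prime] (hp2 : p ≠ 2)
    (D : BlockData p M P e t) (hM : IsPModular p M) {Θ : IrrCharacter G} (hΘ : Θ ∈ D.X) {a : G}
    (ha : a * a = 1) :
    ((D.one :: D.l).map (fun χ => (D.ε χ : ℂ) *
      ((χ : G → ℂ) a * (χ : G → ℂ) a / (χ : G → ℂ) 1))).sum -
        D.d * ((Θ : G → ℂ) a * (Θ : G → ℂ) a / (Θ : G → ℂ) 1) = 0 ∨
    ((D.one :: D.l).map (fun χ => (D.ε χ : ℂ) *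
      ((χ : G → ℂ) a * (χ : G → ℂ) a / (χ : G → ℂ) 1))).sum -
        D.d * ((Θ : G → ℂ) a * (Θ : G → ℂ) a / (Θ : G → ℂ) 1) =
      (p * Nat.card (centralizer ({a} : Set G)) * Nat.card (centralizer ({a} : Set G)) : ℕ) /
        (Nat.card G : ℕ) := by
  classical
  have := Fintype.ofFinite G
  have hP := h.card_sylow P
  have hnt : Nontrivial P := by
    rw [← Finite.one_lt_card_iff_nontrivial, hP]; exact h.hp.one_lt
  obtain ⟨⟨x, hx⟩, hx0⟩ := exists_ne (1 : P)
  have hx1 : x ≠ 1 := fun h' => hx0 (Subtype.ext h')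
  obtain ⟨K, hK1, hK2, -⟩ := InvolPairsData.exists_centData hp2 P hP
  have hxo := h.orderOf_of_mem P hx hx1
  have hcd := hK1 x hx hx1
  have hK : K = ⊥ := by
    have h1 := InvolPairs.card_centralizer hcd
    rw [h.cent x hxo, Nat.card_zpowers, hxo] at h1
    have h2 : Nat.card K = 1 := by
      have := h.hp.pos
      nlinarith [Nat.card_pos (α := K)]
    exact Subgroup.eq_bot_of_card_eq K h2
  have hap : ¬ p ∣ orderOf a := by
    intro hd
    have h1 : orderOf a ∣ 2 := orderOf_dvd_of_pow_eq_one (by rw [pow_two]; exact ha)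
    exact hp2 ((Nat.prime_dvd_prime_iff_eq h.hp Nat.prime_two).1 (hd.trans h1))
  by_cases hno : ∀ c, IsConj a c → c * x * c⁻¹ ≠ x⁻¹
  · left
    rw [pair_sum_zero D hM hP hx hx1 hcd hΘ ha ha hap hap hno, sub_self]
  · right
    push Not at hno
    obtain ⟨c, hac, hc⟩ := hno
    have hcc : c * c = 1 := sq_of_isConj ha hac
    have hw := InvolPairsData.invData hP hK2 hx hx1 hcc hc
    have h1 := pair_sum_inv D hM hP hx hx1 hcd hw hΘ ha ha hap hap
    have h2 : (invSet K c a).card = 1 := by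
      rw [Finset.card_eq_one]
      refine ⟨c, ?_⟩
      ext g
      rw [mem_invSet, hK, mem_bot, Finset.mem_singleton]
      constructor
      · rintro ⟨-, h3⟩
        have : g = c⁻¹ := (inv_eq_of_mul_eq_one_right h3).symm
        rw [this, inv_of_sq hcc]
      · rintro rfl
        exact ⟨hac, hcc⟩
    have h3 : Nat.card K = 1 := by rw [hK]; simp
    rw [h1, h2, h3]
    simp

end Hyp

/-- An involution centralized by a Sylow `2`-subgroup. -/
theorem exists_sylow_invol (h2 : 2 ∣ Nat.card G) :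
    ∃ z : G, orderOf z = 2 ∧ ¬ 2 ∣ (centralizer ({z} : Set G)).index := by
  have hf2 : Fact (Nat.Prime 2) := ⟨Nat.prime_two⟩
  obtain ⟨S⟩ : Nonempty (Sylow 2 G) := inferInstance
  have hS : Nontrivial S := by
    rw [← Finite.one_lt_card_iff_nontrivial]
    have h1 : 2 ∣ Nat.card S := S.dvd_card_of_dvd_card h2
    have h3 : 0 < Nat.card S := Nat.card_pos
    exact lt_of_lt_of_le (by norm_num) (Nat.le_of_dvd h3 h1)
  have h1 : Nontrivial (center S) := S.2.center_nontrivial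
  have h3 : 2 ∣ Nat.card (center S) := by
    obtain ⟨n, hn0, hn⟩ := ((S.2.to_subgroup (center S)).nontrivial_iff_card).1 h1
    rw [hn]
    exact dvd_pow_self 2 hn0.ne'
  obtain ⟨w, hw⟩ := exists_prime_orderOf_dvd_card' 2 h3
  have hw2 : orderOf (((w : S) : G)) = 2 := by
    rw [Subgroup.orderOf_coe, Subgroup.orderOf_coe, hw]
  refine ⟨((w : S) : G), hw2, ?_⟩
  have hle : (S : Subgroup G) ≤ centralizer ({((w : S) : G)} : Set G) := by
    intro y hy
    rw [mem_centralizer_iff]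
    rintro _ rfl
    have := mem_center_iff.1 w.2 ⟨y, hy⟩
    exact (congrArg Subtype.val this).symm
  intro hd
  exact S.not_dvd_index (hd.trans (index_dvd_of_le hle))

/-- The diophantine equation. -/
theorem no_sol (m : ℤ) (c : ℕ) : 19 * m ^ 2 - 2 * m + 91 ≠ 32 * 9 ^ c := by
  intro h
  rcases c with _ | c
  · rw [pow_zero, mul_one] at h
    nlinarith [sq_nonneg (19 * m - 1)]
  · have h3 : m % 3 = 1 := by
      have h0 : (19 * m ^ 2 - 2 * m + 91) % 3 = 0 := by
        rw [h, pow_succ]; omega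
      have : m % 3 = 0 ∨ m % 3 = 1 ∨ m % 3 = 2 := by omega
      rcases this with h1 | h1 | h1
      · obtain ⟨k, rfl⟩ : ∃ k, m = 3 * k := ⟨m / 3, by omega⟩
        ring_nf at h0
        omega
      · exact h1
      · obtain ⟨k, rfl⟩ : ∃ k, m = 3 * k + 2 := ⟨m / 3, by omega⟩
        ring_nf at h0
        omega
    obtain ⟨r, rfl⟩ : ∃ r, m = 3 * r + 1 := ⟨m / 3, by omega⟩
    have h4 : 19 * r ^ 2 + 12 * r + 12 = 32 * 9 ^ c := by
      have h' : 9 * (19 * r ^ 2 + 12 * r + 12) = 9 * (32 * 9 ^ c) := by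
        rw [show (9 : ℤ) * (32 * 9 ^ c) = 32 * 9 ^ (c + 1) by ring, ← h]; ring
      exact mul_left_cancel₀ (by norm_num) h'
    rcases c with _ | c
    · rw [pow_zero, mul_one] at h4
      have h5 : r * (19 * r + 12) = 20 := by nlinarith
      have h6 : r ≤ 1 := by nlinarith
      have h7 : -2 ≤ r := by nlinarith
      have : r = -2 ∨ r = -1 ∨ r = 0 ∨ r = 1 := by omega
      rcases this with rfl | rfl | rfl | rfl <;> norm_num at h5
    · have h5 : (19 * r ^ 2 + 12 * r + 12) % 9 = 0 := by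
        rw [h4, pow_succ]; omega
      have : r % 3 = 0 ∨ r % 3 = 1 ∨ r % 3 = 2 := by omega
      rcases this with h1 | h1 | h1
      · obtain ⟨k, rfl⟩ : ∃ k, r = 3 * k := ⟨r / 3, by omega⟩
        ring_nf at h5
        omega
      · obtain ⟨k, rfl⟩ : ∃ k, r = 3 * k + 1 := ⟨r / 3, by omega⟩
        ring_nf at h5
        omega
      · obtain ⟨k, rfl⟩ : ∃ k, r = 3 * k + 2 := ⟨r / 3, by omega⟩
        ring_nf at h5
        omega

/-- **Exclusion of `933120`.** -/
theorem false_of_degs (h : Hyp G 5 2 8 3 6) {P : Sylow 5 G} (D : BlockData 5 M P 4 1)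
    (hM : IsPModular 5 M) (hdeg : (D.degs ++ [-D.dexc]).Perm [216, 256, 256, -729]) : False := by
  classical
  have hpf : Fact (Nat.Prime 5) := ⟨by norm_num⟩
  have hcard : Nat.card G = 933120 := by rw [h.card]; norm_num
  obtain ⟨Θ, hΘ⟩ := D.exists_X (by norm_num)
  obtain ⟨z, hz, hzi⟩ := exists_sylow_invol (G := G) (by rw [hcard]; norm_num)
  have hz1 : z ≠ 1 := by rintro rfl; rw [orderOf_one] at hz; omega
  have hzz : z * z = 1 := by rw [← pow_two, ← hz]; exact pow_orderOf_eq_one z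
  have hz5 : ¬ 5 ∣ orderOf z := by rw [hz]; norm_num
  -- the order of the centralizer
  obtain ⟨c, hc6, hC⟩ : ∃ c, c ≤ 6 ∧ Nat.card (centralizer ({z} : Set G)) = 2 ^ 8 * 3 ^ c := by
    set C := Nat.card (centralizer ({z} : Set G)) with hCdef
    have h1 : C * (centralizer ({z} : Set G)).index = 5 * 2 ^ 8 * 3 ^ 6 := by
      rw [hCdef, card_mul_index, h.card]
    have h2 : ¬ 5 ∣ C := h.not_dvd_centralizer hz1 hz5
    have h3 : 2 ^ 8 ∣ C := by
      have h4 : 2 ^ 8 ∣ C * (centralizer ({z} : Set G)).index := by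
        rw [h1]; norm_num
      exact (Nat.Coprime.pow_left 8 ((Nat.Prime.coprime_iff_not_dvd Nat.prime_two).2 hzi)).dvd_of_dvd_mul_right h4
    obtain ⟨k, hk⟩ := h3
    have h4 : k ∣ 5 * 3 ^ 6 := by
      refine ⟨(centralizer ({z} : Set G)).index, ?_⟩
      rw [hk] at h1
      nlinarith
    have h5 : ¬ 5 ∣ k := fun hd => h2 (hk ▸ hd.mul_left _)
    have h6 : k ∣ 3 ^ 6 :=
      (((Nat.Prime.coprime_iff_not_dvd (by norm_num : Nat.Prime 5)).2 h5).symm).dvd_of_dvd_mul_left h4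
    obtain ⟨c, hc, rfl⟩ := (Nat.dvd_prime_pow Nat.prime_three).1 h6
    exact ⟨c, hc, hk⟩
  -- the list of the nontrivial characters with signs
  set L : List (ℤ × IrrCharacter G) := D.l.map (fun χ => (D.ε χ, χ)) ++ [(-D.d, Θ)] with hL
  have hLdeg : L.map (fun y => y.1 * (charDegree (y.2 : G → ℂ) : ℤ)) = D.degs ++ [-D.dexc] := by
    rw [hL, List.map_append, List.map_map, BlockData.degs]
    congr 1
    simp only [List.map_cons, List.map_nil, List.cons.injEq, and_true]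
    rw [D.deg_X Θ hΘ, BlockData.dexc]
    ring
  have hLs : ∀ y ∈ L, y.1 = 1 ∨ y.1 = -1 := by
    intro y hy
    rw [hL, List.mem_append, List.mem_map, List.mem_singleton] at hy
    rcases hy with ⟨χ, hχ, rfl⟩ | rfl
    · exact D.ε_mem χ (List.mem_cons_of_mem _ hχ)
    · rcases D.d_mem with h1 | h1
      · right; simp [h1]
      · left; simp [h1]
  have hR1 : 1 + (L.map fun y => (y.1 : ℂ) * (y.2 : G → ℂ) z).sum = 0 := by
    have h1 := D.rel Θ hΘ z hz5
    rw [hL, List.map_append, List.map_map, List.sum_append]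
    simp only [List.map_cons, List.map_nil, List.sum_cons, List.sum_nil, add_zero]
    change 1 + ((D.l.map fun χ => (D.ε χ : ℂ) * (χ : G → ℂ) z).sum + _) = 0
    push_cast
    linear_combination h1
  have hR2 : 1 + (L.map fun y => (y.1 : ℂ) * ((y.2 : G → ℂ) z * (y.2 : G → ℂ) z /
      (y.2 : G → ℂ) 1)).sum = 0 ∨
      1 + (L.map fun y => (y.1 : ℂ) * ((y.2 : G → ℂ) z * (y.2 : G → ℂ) z /
      (y.2 : G → ℂ) 1)).sum = 2 ^ 8 * 9 ^ c / 729 := by
    have h1 := Hyp.pair_self h (by norm_num) D hM hΘ hzz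
    have h2 : ((D.one :: D.l).map (fun χ => (D.ε χ : ℂ) *
      ((χ : G → ℂ) z * (χ : G → ℂ) z / (χ : G → ℂ) 1))).sum -
        D.d * ((Θ : G → ℂ) z * (Θ : G → ℂ) z / (Θ : G → ℂ) 1) =
        1 + (L.map fun y => (y.1 : ℂ) * ((y.2 : G → ℂ) z * (y.2 : G → ℂ) z /
      (y.2 : G → ℂ) 1)).sum := by
      rw [hL, List.map_append, List.map_map, List.sum_append, List.map_cons, List.sum_cons, D.ε_one,
        D.coe_one]
      simp only [List.map_cons, List.map_nil, List.sum_cons, List.sum_nil, add_zero]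
      change _ = 1 + ((D.l.map fun χ => (D.ε χ : ℂ) * ((χ : G → ℂ) z * (χ : G → ℂ) z /
        (χ : G → ℂ) 1)).sum + _)
      simp only [Pi.one_apply]
      push_cast
      ring
    rw [h2] at h1
    rcases h1 with h1 | h1
    · exact Or.inl h1
    · right
      rw [h1, hC, hcard]
      have h3 : (9 : ℂ) ^ c = 3 ^ c * 3 ^ c := by rw [← mul_pow]; norm_num
      rw [h3]
      push_cast
      ring
  -- the four characters
  have hmul : Multiset.map (fun y : ℤ × IrrCharacter G => y.1 * (charDegree (y.2 : G → ℂ) : ℤ))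
      (L : Multiset (ℤ × IrrCharacter G)) = ((216 : ℤ) ::ₘ 256 ::ₘ 256 ::ₘ -729 ::ₘ 0) := by
    rw [Multiset.map_coe, hLdeg]
    exact Multiset.coe_eq_coe.2 hdeg
  obtain ⟨y₁, hy₁, hd₁, hmul⟩ := (Multiset.map_eq_cons _ _ _ _).2 hmul
  obtain ⟨y₂, hy₂, hd₂, hmul⟩ := (Multiset.map_eq_cons _ _ _ _).2 hmul
  obtain ⟨y₃, hy₃, hd₃, hmul⟩ := (Multiset.map_eq_cons _ _ _ _).2 hmul
  obtain ⟨y₄, hy₄, hd₄, hmul⟩ := (Multiset.map_eq_cons _ _ _ _).2 hmul
  have h0 := Multiset.map_eq_zero.1 hmul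
  have hLL : (L : Multiset (ℤ × IrrCharacter G)) = y₁ ::ₘ y₂ ::ₘ y₃ ::ₘ y₄ ::ₘ 0 := by
    rw [← Multiset.cons_erase hy₁, ← Multiset.cons_erase hy₂, ← Multiset.cons_erase hy₃,
      ← Multiset.cons_erase hy₄, h0]
  have hsum : ∀ F : ℤ × IrrCharacter G → ℂ, (L.map F).sum = F y₁ + F y₂ + F y₃ + F y₄ := by
    intro F
    have : (Multiset.map F (L : Multiset (ℤ × IrrCharacter G))).sum = (L.map F).sum := by
      rw [Multiset.map_coe, Multiset.sum_coe]
    rw [← this, hLL]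
    simp only [Multiset.map_cons, Multiset.map_zero, Multiset.sum_cons, Multiset.sum_zero]
    ring
  have hmem : ∀ y, (y ∈ (L : Multiset (ℤ × IrrCharacter G))) → y.1 = 1 ∨ y.1 = -1 :=
    fun y hy => hLs y (by simpa using hy)
  have hm₁ : y₁.1 = 1 ∨ y₁.1 = -1 := hmem _ (by rw [hLL]; simp)
  have hm₂ : y₂.1 = 1 ∨ y₂.1 = -1 := hmem _ (by rw [hLL]; simp)
  have hm₃ : y₃.1 = 1 ∨ y₃.1 = -1 := hmem _ (by rw [hLL]; simp)
  have hm₄ : y₄.1 = 1 ∨ y₄.1 = -1 := hmem _ (by rw [hLL]; simp)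
  obtain ⟨s₁, χ₁⟩ := y₁
  obtain ⟨s₂, χ₂⟩ := y₂
  obtain ⟨s₃, χ₃⟩ := y₃
  obtain ⟨s₄, χ₄⟩ := y₄
  simp only at hm₁ hm₂ hm₃ hm₄ hd₁ hd₂ hd₃ hd₄
  have e₁ : s₁ = 1 ∧ charDegree (χ₁ : G → ℂ) = 216 := by
    rcases hm₁ with rfl | rfl <;> constructor <;> omega
  have e₂ : s₂ = 1 ∧ charDegree (χ₂ : G → ℂ) = 256 := by
    rcases hm₂ with rfl | rfl <;> constructor <;> omega
  have e₃ : s₃ = 1 ∧ charDegree (χ₃ : G → ℂ) = 256 := by
    rcases hm₃ with rfl | rfl <;> constructor <;> omega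
  have e₄ : s₄ = -1 ∧ charDegree (χ₄ : G → ℂ) = 729 := by
    rcases hm₄ with rfl | rfl <;> constructor <;> omega
  obtain ⟨rfl, e₁⟩ := e₁
  obtain ⟨rfl, e₂⟩ := e₂
  obtain ⟨rfl, e₃⟩ := e₃
  obtain ⟨rfl, e₄⟩ := e₄
  -- the values at `z`
  have hz2 : z ^ 2 = 1 := by rw [pow_two]; exact hzz
  obtain ⟨-, z₁, -, hz₁, -, -⟩ := InvolColumn.exists_int_of_char
    (Characters.Core.isIrr_isCharacter χ₁.2) hz2
  obtain ⟨-, z₄, -, hz₄, -, -⟩ := InvolColumn.exists_int_of_char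
    (Characters.Core.isIrr_isCharacter χ₄.2) hz2
  have hz₂ : (χ₂ : G → ℂ) z = 0 :=
    vanish_of_dvd h.symm (by rw [e₂]; norm_num) (by rw [hz])
  have hz₃ : (χ₃ : G → ℂ) z = 0 :=
    vanish_of_dvd h.symm (by rw [e₃]; norm_num) (by rw [hz])
  have hdv := InvolColumn.dvd_index_mul χ₁.2 hz₁
  rw [e₁] at hdv
  have h8 : (8 : ℤ) ∣ z₁ := by
    have h1 : (8 : ℤ) ∣ ((centralizer ({z} : Set G)).index : ℤ) * z₁ := dvd_trans (by norm_num) hdv
    have h2 : IsCoprime (8 : ℤ) ((centralizer ({z} : Set G)).index : ℤ) := by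
      rw [Int.isCoprime_iff_gcd_eq_one]
      have : Nat.Coprime 8 (centralizer ({z} : Set G)).index :=
        Nat.Coprime.pow_left 3 ((Nat.Prime.coprime_iff_not_dvd Nat.prime_two).2 hzi)
      simpa [Int.gcd] using this
    exact h2.dvd_of_dvd_mul_left h1
  obtain ⟨m, rfl⟩ := h8
  have hone : ∀ χ : IrrCharacter G, (χ : G → ℂ) 1 = charDegree (χ : G → ℂ) := fun χ =>
    irr_one_eq_charDegree χ.2
  rw [hsum] at hR1 hR2
  simp only [hz₁, hz₂, hz₃, hz₄] at hR1 hR2
  have hr1 : z₄ = 8 * m + 1 := by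
    have : ((1 + (8 * m) - z₄ : ℤ) : ℂ) = 0 := by
      push_cast
      push_cast at hR1
      linear_combination hR1
    have := Int.cast_eq_zero.1 this
    omega
  subst hr1
  rw [hone, hone, hone, hone, e₁, e₂, e₃, e₄] at hR2
  have key : ∀ v : ℂ, (1 : ℂ) + (((1 : ℤ) : ℂ) * (((8 * m : ℤ) : ℂ) * ((8 * m : ℤ) : ℂ) / ((216 : ℕ) : ℂ)) +
      ((1 : ℤ) : ℂ) * ((0 : ℂ) * 0 / ((256 : ℕ) : ℂ)) +
      ((1 : ℤ) : ℂ) * ((0 : ℂ) * 0 / ((256 : ℕ) : ℂ)) +
      ((-1 : ℤ) : ℂ) * (((8 * m + 1 : ℤ) : ℂ) * ((8 * m + 1 : ℤ) : ℂ) / ((729 : ℕ) : ℂ))) = v →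
      (8 : ℂ) * (19 * m ^ 2 - 2 * m + 91) = 729 * v := by
    intro v hv
    rw [← hv]
    push_cast
    ring
  rcases hR2 with h1 | h1
  · have h2 := key _ h1
    have h3 : ((8 * (19 * m ^ 2 - 2 * m + 91) : ℤ) : ℂ) = ((0 : ℤ) : ℂ) := by
      push_cast; rw [h2]; ring
    have h4 := Int.cast_injective h3
    nlinarith [sq_nonneg (19 * m - 1)]
  · have h2 := key _ h1
    have h3 : ((8 * (19 * m ^ 2 - 2 * m + 91) : ℤ) : ℂ) = ((2 ^ 8 * 9 ^ c : ℤ) : ℂ) := by
      push_cast; rw [h2]; ring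
    have h4 := Int.cast_injective h3
    exact no_sol m c (by linarith)

/-- The same in the shape of the structure theorem: `(a, b) = (6, 8)` is impossible. -/
theorem false_of_933120 (h : Hyp G 5 2 8 3 6) {P : Sylow 5 G} (D : BlockData 5 M P 4 1)
    (hM : IsPModular 5 M) {nN nM : ℕ} {K : List ℤ} {δ : ℤ} (hδ : δ = 1 ∨ δ = -1) (hN : 1 ≤ nN)
    (hnM : 1 ≤ nM) (hK : ∀ k ∈ K, NumSearch.IsK 5 6 8 k)
    (h2 : δ * 2 ^ 8 ≡ 1 [ZMOD 5])
    (hperm : (D.degs ++ [-D.dexc]).Perm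
      (List.replicate nN (δ * 2 ^ 8) ++ (List.replicate nM (-(δ * 3 ^ 6)) ++ K))) : False := by
  have hpf : Fact (Nat.Prime 5) := ⟨by norm_num⟩
  have h1 := D.dexc_eq (by norm_num)
  have h3 := hperm.sum_eq
  have h4 := hperm.length_eq
  have h5 := D.length_degs
  rw [List.length_append, List.length_append, List.length_append, List.length_replicate,
    List.length_replicate, List.length_singleton] at h4
  rw [List.sum_append, List.sum_append, List.sum_append, List.sum_replicate, List.sum_replicate,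
    List.sum_singleton, nsmul_eq_mul, nsmul_eq_mul] at h3
  obtain ⟨rfl, rfl, rfl, rfl⟩ := NumFive.sixEight hδ hN hnM (by omega) hK h2 (by
    linear_combination (-1 : ℤ) * h3 + h1)
  refine false_of_degs h D hM (hperm.trans ?_)
  norm_num
  decide

end Cfsg.Agent.SmallSimple.S1000.Order933120
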