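import Cfsg.Agent.SmallSimple.S1000.Degrees
import Cfsg.Agent.SmallSimple.S1000.NumFive
import Cfsg.Agent.SmallSimple.S1000.Order933120

/-!
# S1000: the exponents for `p = 5`

`five` : `b ≤ 3` or `(a, b) = (4, 6)`.
-/

set_option autoImplicit false

open Cfsg

namespace Cfsg.Agent.SmallSimple.S1000.Five

open Subgroup DegreeData BlockTypes Structure StructureOne Setup Degrees Order933120

universe u

variable {G : Type u} [Group G] {a b : ℕ}

/-- **The exponents for `p = 5`.** -/
theorem five (h : Setup.Hyp G 5 a b) : b ≤ 3 ∨ (a = 4 ∧ b = 6) := by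
  have := h.finite
  have := h.simple
  have hp := Fact.mk h.prime
  have ha := a_ne_zero h
  have hb := b_ne_zero h
  obtain ⟨P⟩ : Nonempty (Sylow 5 G) := inferInstance
  obtain ⟨e, t, he, het, hcase⟩ := degrees h P
  have he4 : e ∣ 4 := ⟨t, het.symm⟩
  have he5 : e ≤ 4 := Nat.le_of_dvd (by norm_num) he4
  rcases hcase with ⟨rfl, -⟩ | ⟨ht1, hcase⟩
  · right
    have he4 : e = 4 := by omega
    subst he4
    obtain ⟨M, R, N, D, A, B, H, -⟩ := exists_both h P he het
    obtain ⟨δ, nN, nM, K, hδ, hN, hM, hl, hs, hK, h1, h2, -, -, h5, h6⟩ := caseOne' H rfl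
    push_cast at hs h1 h2 h5 h6
    have e3 : ((2 : ℤ) ^ b) ^ 2 = 4 ^ b := by rw [← pow_mul, mul_comm, pow_mul]; norm_num
    have e4 : ((3 : ℤ) ^ a) ^ 2 = 9 ^ a := by rw [← pow_mul, mul_comm, pow_mul]; norm_num
    rw [e3, e4] at h5
    have hK' : ∀ k ∈ K, NumSearch.IsK 5 a b k := fun k hk => isU_of_kProp (hK k hk)
    rcases ArithFive.five (Nat.one_le_iff_ne_zero.2 ha) (Nat.one_le_iff_ne_zero.2 hb) hδ hN hM
      (by omega) (fun k hk => isU_of_kProp (hK k hk)) h1 (by rwa [neg_mul]) hs with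
      ⟨rfl, rfl⟩ | h7 | ⟨rfl, rfl⟩
    · exact (NumFive.twoFour hδ hN hM (by omega) hK' h1 hs (by linarith)).elim
    · exact h7
    · exact (false_of_933120 H.h D H.hM hδ hN hM hK' h1 h6).elim
  · left
    have he1 : 1 < e := by
      rcases hcase with h1 | h1
      · exact one_lt_e h1
      · exact one_lt_e h1
    have he2 : e = 2 := by
      interval_cases e
      · rfl
      · omega
      · exact absurd (by omega) ht1
    subst he2
    exact e_two ha hb hcase

end Cfsg.Agent.SmallSimple.S1000.Five
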