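import Mathlib

/-!
# The rank `3` graph on `27` points: explicit model and automorphisms
-/

set_option autoImplicit false

namespace Cfsg.Agent.SmallSimple.S1000.Order25920Model

/-- The table of the five coordinates of the sixteen even vectors of length five. -/
def bitTbl : Fin 5 → ℕ
  | 0 => 0xAAAA
  | 1 => 0xCCCC
  | 2 => 0xF0F0
  | 3 => 0xFF00
  | 4 => 0x6996

/-- The `i`-th coordinate of the `n`-th even vector. -/
def bit (i : Fin 5) (n : Fin 16) : Bool := Nat.testBit (bitTbl i) n

/-- Two even vectors differ in exactly four coordinates. -/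
def D (n m : Fin 16) : Bool :=
  ((bit 0 n == bit 0 m).toNat + (bit 1 n == bit 1 m).toNat + (bit 2 n == bit 2 m).toNat +
    (bit 3 n == bit 3 m).toNat + (bit 4 n == bit 4 m).toNat) == 1

/-- The vertices of the graph. -/
abbrev V := Unit ⊕ (Fin 16 ⊕ (Fin 5 × Bool))

/-- The adjacency relation. -/
def T : V → V → Bool
  | .inl _, .inl _ => false
  | .inl _, .inr (.inl _) => false
  | .inl _, .inr (.inr _) => true
  | .inr (.inl _), .inl _ => false
  | .inr (.inl n), .inr (.inl m) => D n m
  | .inr (.inl n), .inr (.inr p) => bit p.1 n == p.2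
  | .inr (.inr _), .inl _ => true
  | .inr (.inr p), .inr (.inl n) => bit p.1 n == p.2
  | .inr (.inr p), .inr (.inr q) => p.1 == q.1 && p.2 != q.2

theorem bit_parity : ∀ n : Fin 16,
    (bit 0 n ^^ bit 1 n ^^ bit 2 n ^^ bit 3 n ^^ bit 4 n) = false := by decide

theorem sum_bit : ∀ (i : Fin 5) (c : Bool), (∑ n : Fin 16, if bit i n = c then 1 else 0) = 8 := by
  decide

theorem D_of_le : ∀ n m : Fin 16,
    (∑ p : Fin 5 × Bool, if bit p.1 n = p.2 ∧ bit p.1 m = p.2 then 1 else 0) ≤ 1 → D n m = true := by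
  decide +kernel

theorem sum_D : ∀ n : Fin 16, (∑ m : Fin 16, if D n m = true then 1 else 0) = 5 := by
  decide +kernel

theorem sum_bit' : ∀ n : Fin 16, (∑ p : Fin 5 × Bool, if bit p.1 n = p.2 then 1 else 0) = 5 := by
  decide +kernel

theorem bit_surj : ∀ a b c d : Bool, ∃ n : Fin 16, bit 0 n = a ∧ bit 1 n = b ∧ bit 2 n = c ∧
    bit 3 n = d := by
  decide

/-- An even vector with given different coordinates `i ≠ j`. -/
theorem exists_bit : ∀ i j : Fin 5, i ≠ j → ∃ n : Fin 16, bit i n = false ∧ bit j n = true := by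
  decide

end Cfsg.Agent.SmallSimple.S1000.Order25920Model
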