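import Mathlib
import Cfsg.Agent.SmallSimple.Embed
import Cfsg.Agent.SmallSimple.S1000.Order25920Model

/-!
# The automorphism group of the graph on `27` points
-/

set_option autoImplicit false

namespace Cfsg.Agent.SmallSimple.S1000.Order25920Aut

open Order25920Model

/-- The base points. -/
def base : Fin 7 → V
  | 0 => .inl ()
  | 1 => .inr (.inl 0)
  | 2 => .inr (.inr (0, false))
  | 3 => .inr (.inr (1, false))
  | 4 => .inr (.inr (2, false))
  | 5 => .inr (.inr (3, false))
  | 6 => .inr (.inr (4, false))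

set_option maxRecDepth 100000 in
theorem base_sep : ∀ a b : V, (∀ i, T (base i) a = T (base i) b ∧
    decide (base i = a) = decide (base i = b)) → a = b := by decide +kernel

set_option maxRecDepth 100000 in
theorem card_opp : ∀ a : V, Fintype.card {b : V // b ≠ a ∧ T a b = false} = 16 := by
  decide +kernel

set_option maxRecDepth 100000 in
theorem card_common : ∀ a b : V, b ≠ a → T a b = false →
    Fintype.card {c : V // T a c = true ∧ T b c = true} = 5 := by decide +kernel

theorem base_zero_ne : ∀ i : Fin 5, T (base 0) (.inr (.inr (i, false))) = true := by decide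

theorem base_one_ne : ∀ i : Fin 5, T (base 1) (.inr (.inr (i, false))) = true := by decide

/-- The automorphism group of the graph. -/
def A : Subgroup (Equiv.Perm V) where
  carrier := {f | ∀ a b, T (f a) (f b) = T a b}
  one_mem' := fun _ _ => rfl
  mul_mem' := by
    intro f g hf hg a b
    rw [Equiv.Perm.mul_apply, Equiv.Perm.mul_apply, hf, hg]
  inv_mem' := by
    intro f hf a b
    have h1 := hf (f⁻¹ a) (f⁻¹ b)
    have h2 : ∀ c, f (f⁻¹ c) = c := fun c => Equiv.apply_symm_apply f c
    rw [h2, h2] at h1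
    exact h1.symm

theorem mem_A {f : Equiv.Perm V} : f ∈ A ↔ ∀ a b, T (f a) (f b) = T a b := Iff.rfl

/-- The possible images of the base points. -/
abbrev Tgt := Σ a : V, Σ b : {b : V // b ≠ a ∧ T a b = false},
  (Fin 5 ↪ {c : V // T a c = true ∧ T b.1 c = true})

theorem card_Tgt : Fintype.card Tgt = 51840 := by
  rw [Fintype.card_sigma]
  have h1 : ∀ a : V, Fintype.card (Σ b : {b : V // b ≠ a ∧ T a b = false},
      (Fin 5 ↪ {c : V // T a c = true ∧ T b.1 c = true})) = 1920 := by
    intro a
    rw [Fintype.card_sigma]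
    have h2 : ∀ b : {b : V // b ≠ a ∧ T a b = false},
        Fintype.card (Fin 5 ↪ {c : V // T a c = true ∧ T b.1 c = true}) = 120 := by
      intro b
      rw [Fintype.card_embedding_eq, card_common a b.1 b.2.1 b.2.2, Fintype.card_fin]
      rfl
    simp only [h2, Finset.sum_const, Finset.card_univ, card_opp, smul_eq_mul]
  simp only [h1, Finset.sum_const, Finset.card_univ, smul_eq_mul]
  rfl

/-- The images of the base points. -/
def toTgt (f : A) : Tgt :=
  ⟨f.1 (base 0), ⟨⟨f.1 (base 1), fun h => by
      have h1 := f.1.injective h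
      revert h1
      decide, by
      rw [f.2]
      decide⟩,
    ⟨fun i => ⟨f.1 (.inr (.inr (i, false))), by
      rw [f.2, f.2]
      exact ⟨base_zero_ne i, base_one_ne i⟩⟩, by
      intro i j hij
      have h1 : f.1 (.inr (.inr (i, false))) = f.1 (.inr (.inr (j, false))) :=
        congrArg Subtype.val hij
      have h2 := f.1.injective h1
      simpa using h2⟩⟩⟩

theorem toTgt_injective : Function.Injective toTgt := by
  intro f g hfg
  have h0 : f.1 (base 0) = g.1 (base 0) := congrArg (fun s : Tgt => s.1) hfg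
  have h1 : f.1 (base 1) = g.1 (base 1) := congrArg (fun s : Tgt => (s.2.1 : V)) hfg
  have h2 : ∀ i : Fin 5, f.1 (.inr (.inr (i, false))) = g.1 (.inr (.inr (i, false))) := fun i =>
    congrArg (fun s : Tgt => (s.2.2 i : V)) hfg
  have h3 : ∀ i : Fin 7, f.1 (base i) = g.1 (base i) := by
    intro i
    fin_cases i
    · exact h0
    · exact h1
    · exact h2 0
    · exact h2 1
    · exact h2 2
    · exact h2 3
    · exact h2 4
  apply Subtype.ext
  apply Equiv.ext
  intro a
  have h4 : g.1⁻¹ (f.1 a) = a := by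
    symm
    have hmem : g.1⁻¹ * f.1 ∈ A := A.mul_mem (A.inv_mem g.2) f.2
    have hfix : ∀ i, (g.1⁻¹ * f.1) (base i) = base i := by
      intro i
      rw [Equiv.Perm.mul_apply, h3]
      exact Equiv.symm_apply_apply g.1 _
    apply base_sep
    intro i
    have h5 : T (base i) ((g.1⁻¹ * f.1) a) = T (base i) a := by
      have h6 := mem_A.1 hmem (base i) a
      rwa [hfix] at h6
    refine ⟨h5.symm, ?_⟩
    rw [decide_eq_decide]
    constructor
    · intro h6
      rw [← h6]
      exact (hfix i).symm
    · intro h6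
      apply (g.1⁻¹ * f.1).injective
      rw [hfix]
      exact h6
  rw [Equiv.Perm.inv_eq_iff_eq] at h4
  exact h4

theorem card_A_le : Nat.card A ≤ 51840 := by
  rw [← card_Tgt, ← Nat.card_eq_fintype_card]
  exact Nat.card_le_card_of_injective toTgt toTgt_injective

/-- Two simple subgroups of order `25920` coincide. -/
theorem le_of_card {H K : Subgroup (Equiv.Perm V)} (hH : H ≤ A) (hK : K ≤ A)
    (cH : Nat.card H = 25920) (cK : Nat.card K = 25920) [IsSimpleGroup K] : K ≤ H := by
  have h1 : H.relIndex A ≤ 2 := by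
    have h2 : Nat.card H * H.relIndex A = Nat.card A := by
      rw [← Subgroup.relIndex_bot_left, ← Subgroup.relIndex_bot_left]
      exact Subgroup.relIndex_mul_relIndex _ _ _ bot_le hH
    rw [cH] at h2
    have h3 := card_A_le
    omega
  have h2 : H.relIndex K ≤ 2 := by
    refine le_trans (Subgroup.relIndex_le_of_le_right hK ?_) h1
    exact Subgroup.index_ne_zero_of_finite
  have hnc : ¬ IsMulCommutative K := by
    apply Embed.not_comm_of_card_not_prime
    rw [cK]
    norm_num
  by_contra hne
  have h3 := Embed.five_le_index hnc (H.subgroupOf K) (fun h4 => hne (Subgroup.subgroupOf_eq_top.1 h4))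
  have h4 : (H.subgroupOf K).index ≤ 2 := h2
  omega

/-- Two simple groups of order `25920` acting on the graph are isomorphic. -/
theorem nonempty_mulEquiv {G₁ G₂ : Type*} [Group G₁] [Group G₂] [IsSimpleGroup G₁]
    [IsSimpleGroup G₂] (h₁ : Nat.card G₁ = 25920) (h₂ : Nat.card G₂ = 25920)
    (f₁ : G₁ →* Equiv.Perm V) (f₂ : G₂ →* Equiv.Perm V) (hf₁ : Function.Injective f₁)
    (hf₂ : Function.Injective f₂) (hA₁ : ∀ g, f₁ g ∈ A) (hA₂ : ∀ g, f₂ g ∈ A) :
    Nonempty (G₁ ≃* G₂) := by
  have e₁ := MonoidHom.ofInjective hf₁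
  have e₂ := MonoidHom.ofInjective hf₂
  have c₁ : Nat.card f₁.range = 25920 := by rw [← Nat.card_congr e₁.toEquiv, h₁]
  have c₂ : Nat.card f₂.range = 25920 := by rw [← Nat.card_congr e₂.toEquiv, h₂]
  have s₁ : IsSimpleGroup f₁.range := e₁.symm.isSimpleGroup
  have s₂ : IsSimpleGroup f₂.range := e₂.symm.isSimpleGroup
  have l₁ : f₁.range ≤ A := by
    rintro _ ⟨g, rfl⟩
    exact hA₁ g
  have l₂ : f₂.range ≤ A := by
    rintro _ ⟨g, rfl⟩
    exact hA₂ g
  have heq : f₁.range = f₂.range :=
    le_antisymm (le_of_card l₂ l₁ c₂ c₁) (le_of_card l₁ l₂ c₁ c₂)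
  exact ⟨e₁.trans ((MulEquiv.subgroupCongr heq).trans e₂.symm)⟩

end Cfsg.Agent.SmallSimple.S1000.Order25920Aut
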