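import Mathlib
import Cfsg.Agent.SmallSimple.S1000.Order25920Model

/-!
# The graph on the `27` points of a simple group of order `25920`
-/

set_option autoImplicit false

namespace Cfsg.Agent.SmallSimple.S1000.Order25920Graph

open Subgroup MulAction

section defs
variable (G : Type*) {X : Type*} [Group G] [MulAction G X]

/-- Two points are opposite if they are fixed by an element of order `5`. -/
def opp (a b : X) : Prop := a ≠ b ∧ ∃ y : G, orderOf y = 5 ∧ y • a = a ∧ y • b = b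

/-- Two points are adjacent if they are different and not opposite. -/
def adj (a b : X) : Prop := a ≠ b ∧ ¬ opp G a b

theorem opp_symm {a b : X} (h : opp G a b) : opp G b a :=
  ⟨h.1.symm, h.2.imp fun _ hy => ⟨hy.1, hy.2.2, hy.2.1⟩⟩

theorem adj_symm {a b : X} (h : adj G a b) : adj G b a :=
  ⟨h.1.symm, fun h1 => h.2 (opp_symm G h1)⟩

theorem opp_smul' {a b : X} (g : G) (h : opp G a b) : opp G (g • a) (g • b) := by
  obtain ⟨hne, y, hy, ha, hb⟩ := h
  refine ⟨fun h => hne (MulAction.injective g h), g * y * g⁻¹, ?_, ?_, ?_⟩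
  · have : g * y * g⁻¹ = MulAut.conj g y := rfl
    rw [this, MulEquiv.orderOf_eq, hy]
  · rw [mul_smul, mul_smul, inv_smul_smul, ha]
  · rw [mul_smul, mul_smul, inv_smul_smul, hb]

theorem opp_smul {a b : X} (g : G) : opp G (g • a) (g • b) ↔ opp G a b := by
  refine ⟨fun h => ?_, opp_smul' G g⟩
  have := opp_smul' G g⁻¹ h
  rwa [inv_smul_smul, inv_smul_smul] at this

theorem adj_smul {a b : X} (g : G) : adj G (g • a) (g • b) ↔ adj G a b := by
  unfold adj
  rw [opp_smul, (MulAction.injective g).ne_iff]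

end defs

variable {G X : Type*} [Group G] [MulAction G X]

/-- The local data of the group. -/
structure Conf (x : G) (α β : X) (Q : Subgroup G) : Prop where
  pre : ∀ a b : X, ∃ g : G, g • a = b
  cardX : Nat.card X = 27
  x5 : orderOf x = 5
  fix : ∀ ω : X, x • ω = ω ↔ ω = α ∨ ω = β
  ne : β ≠ α
  Q16 : Nat.card Q = 16
  comm : ∀ q ∈ Q, ∀ r ∈ Q, q * r = r * q
  sq : ∀ q ∈ Q, q * q = 1
  stab : ∀ g : G, g • α = α ↔ ∀ q, q ∈ Q ↔ g * q * g⁻¹ ∈ Q
  conj : ∀ y : G, orderOf y = 5 → y • α = α → ∃ m : G, m • α = α ∧ m * x * m⁻¹ ∈ zpowers y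
  cent : ∀ y : G, orderOf y = 5 → ∀ g, g * y = y * g → g ∈ zpowers y
  two : ∀ H : Subgroup G, IsPGroup 2 H → (∀ q ∈ H, x * q * x⁻¹ ∈ H) →
    Nat.card H = 1 ∨ Nat.card H = 16

namespace Conf

variable {x : G} {α β : X} {Q : Subgroup G} (h : Conf x α β Q)
include h

theorem xα : x • α = α := (h.fix α).2 (Or.inl rfl)

theorem xβ : x • β = β := (h.fix β).2 (Or.inr rfl)

theorem finX : Finite X := Nat.finite_of_card_ne_zero (by rw [h.cardX]; norm_num)

theorem finQ : Finite Q := Nat.finite_of_card_ne_zero (by rw [h.Q16]; norm_num)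

theorem Qα {q : G} (hq : q ∈ Q) : q • α = α := by
  rw [h.stab]
  intro r
  constructor
  · intro hr
    exact Q.mul_mem (Q.mul_mem hq hr) (Q.inv_mem hq)
  · intro hr
    have : r = q⁻¹ * (q * r * q⁻¹) * q := by group
    rw [this]
    exact Q.mul_mem (Q.mul_mem (Q.inv_mem hq) hr) hq

theorem conjQ {g : G} (hg : g • α = α) {q : G} (hq : q ∈ Q) : g * q * g⁻¹ ∈ Q :=
  ((h.stab g).1 hg q).1 hq

theorem conjQ' {g : G} (hg : g • α = α) {q : G} (hq : q ∈ Q) : g⁻¹ * q * g ∈ Q := by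
  rw [(h.stab g).1 hg]
  have : g * (g⁻¹ * q * g) * g⁻¹ = q := by group
  rwa [this]

theorem Q2 : IsPGroup 2 Q := IsPGroup.of_card (n := 4) (by rw [h.Q16]; norm_num)

theorem Qβ {q : G} (hq : q ∈ Q) (hqβ : q • β = β) : q = 1 := by
  have hfQ := h.finQ
  have hinv : ∀ r ∈ Q ⊓ stabilizer G β, x * r * x⁻¹ ∈ Q ⊓ stabilizer G β := by
    rintro r ⟨hr, hrβ⟩
    refine ⟨h.conjQ h.xα hr, ?_⟩
    have hrβ' : r • β = β := hrβ
    have hxβ' : x⁻¹ • β = β := by rw [inv_smul_eq_iff, h.xβ]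
    show (x * r * x⁻¹) • β = β
    rw [mul_smul, mul_smul, hxβ', hrβ', h.xβ]
  rcases h.two _ (h.Q2.to_le inf_le_left) hinv with h1 | h1
  · rw [Subgroup.card_eq_one] at h1
    have : q ∈ Q ⊓ stabilizer G β := ⟨hq, hqβ⟩
    rwa [h1, Subgroup.mem_bot] at this
  · exfalso
    have hle : Q ≤ stabilizer G β := by
      have := Subgroup.eq_of_le_of_card_ge (inf_le_left : Q ⊓ stabilizer G β ≤ Q)
        (by rw [h1, h.Q16])
      rw [← this]
      exact inf_le_right
    obtain ⟨g, hg⟩ := h.pre α β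
    have hg' : g⁻¹ • β = α := by rw [inv_smul_eq_iff, hg]
    set Q' := Q.comap (MulAut.conj g⁻¹).toMonoidHom with hQ'
    have hQ'mem : ∀ r, r ∈ Q' ↔ g⁻¹ * r * g ∈ Q := by
      intro r
      rw [hQ', Subgroup.mem_comap]
      show g⁻¹ * r * g⁻¹⁻¹ ∈ Q ↔ _
      rw [inv_inv]
    have hβn : ∀ m : G, m • β = β → ∀ r, r ∈ Q' ↔ m * r * m⁻¹ ∈ Q' := by
      intro m hm r
      rw [hQ'mem, hQ'mem]
      have hm' : (g⁻¹ * m * g) • α = α := by
        rw [mul_smul, mul_smul, hg, hm, hg']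
      rw [(h.stab _).1 hm']
      have : g⁻¹ * m * g * (g⁻¹ * r * g) * (g⁻¹ * m * g)⁻¹ = g⁻¹ * (m * r * m⁻¹) * g := by group
      rw [this]
    have hQ'2 : IsPGroup 2 Q' :=
      IsPGroup.comap_of_injective h.Q2 _ (MulAut.conj g⁻¹).injective
    have hQn : Q ≤ normalizer (Q' : Set G) := by
      intro m hm
      rw [Subgroup.mem_normalizer_iff]
      exact hβn m (hle hm)
    have hsup2 : IsPGroup 2 (Q ⊔ Q' : Subgroup G) :=
      IsPGroup.to_sup_of_normal_right' h.Q2 hQ'2 hQn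
    have hsupx : ∀ r ∈ Q ⊔ Q', x * r * x⁻¹ ∈ Q ⊔ Q' := by
      have hle2 : Q ⊔ Q' ≤ (Q ⊔ Q').comap (MulAut.conj x).toMonoidHom := by
        apply sup_le
        · intro r hr
          exact (le_sup_left : Q ≤ Q ⊔ Q') (h.conjQ h.xα hr)
        · intro r hr
          exact (le_sup_right : Q' ≤ Q ⊔ Q') ((hβn x h.xβ r).1 hr)
      intro r hr
      exact hle2 hr
    have hsup : Nat.card (Q ⊔ Q' : Subgroup G) = 16 := by
      refine (h.two _ hsup2 hsupx).resolve_left fun h2 => ?_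
      rw [Subgroup.card_eq_one] at h2
      have h3 : Q = ⊥ := le_bot_iff.1 (h2 ▸ le_sup_left)
      have h4 := h.Q16
      rw [h3, Subgroup.card_bot] at h4
      omega
    have hfs : Finite (Q ⊔ Q' : Subgroup G) :=
      Nat.finite_of_card_ne_zero (by rw [hsup]; norm_num)
    have heq : Q = Q ⊔ Q' :=
      Subgroup.eq_of_le_of_card_ge le_sup_left (by rw [hsup, h.Q16])
    have hQ'Q : Q' ≤ Q := by
      conv_rhs => rw [heq]
      exact le_sup_right
    have hgn : g ∈ normalizer (Q : Set G) := by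
      apply mem_normalizer_fintype
      intro s hs
      apply hQ'Q
      rw [hQ'mem]
      have : g⁻¹ * (g * s * g⁻¹) * g = s := by group
      rwa [this]
    have : g • α = α := (h.stab g).2 fun r => Subgroup.mem_normalizer_iff.1 hgn r
    exact h.ne (hg ▸ this)

theorem Qβ_inj {q r : G} (hq : q ∈ Q) (hr : r ∈ Q) (hqr : q • β = r • β) : q = r := by
  have h1 : (r⁻¹ * q) • β = β := by rw [mul_smul, hqr, inv_smul_smul]
  have h2 := h.Qβ (Q.mul_mem (Q.inv_mem hr) hq) h1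
  exact (inv_mul_eq_one.1 h2).symm

theorem opp_β {q : G} (hq : q ∈ Q) : opp G α (q • β) := by
  have h1 : opp G α β := ⟨h.ne.symm, x, h.x5, h.xα, h.xβ⟩
  have h2 := opp_smul' G q h1
  rwa [h.Qα hq] at h2

theorem opp_α_iff {ω : X} : opp G α ω ↔ ∃ q ∈ Q, q • β = ω := by
  constructor
  · rintro ⟨hne, y, hy, hyα, hyω⟩
    obtain ⟨m, hmα, hm⟩ := h.conj y hy hyα
    obtain ⟨k, hk⟩ := Subgroup.mem_zpowers_iff.1 hm
    have hmω : (m * x * m⁻¹) • ω = ω := by
      rw [← hk]
      exact zpow_smul_eq_iff_period_dvd.2 (by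
        rw [MulAction.period_eq_one_iff.2 hyω]
        exact one_dvd _)
    have hx1 : x • (m⁻¹ • ω) = m⁻¹ • ω := by
      rw [eq_inv_smul_iff, ← mul_smul, ← mul_smul]
      exact hmω
    rcases (h.fix _).1 hx1 with h1 | h1
    · exfalso
      apply hne
      rw [inv_smul_eq_iff, hmα] at h1
      exact h1.symm
    · rw [inv_smul_eq_iff] at h1
      subst h1
      by_contra hno
      push Not at hno
      have hfX := h.finX
      have hfQ := h.finQ
      let f : Q ⊕ Q → X := fun s => Sum.elim (fun q : Q => (q : G) • β)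
        (fun q : Q => (q : G) • m • β) s
      have hf : Function.Injective f := by
        have key : ∀ q r : Q, (q : G) • β ≠ (r : G) • m • β := by
          intro q r hqr
          apply hno ((r : G)⁻¹ * q) (Q.mul_mem (Q.inv_mem r.2) q.2)
          rw [mul_smul, hqr, inv_smul_smul]
        rintro (q | q) (r | r) hqr
        · exact congrArg Sum.inl (Subtype.ext (h.Qβ_inj q.2 r.2 hqr))
        · exact absurd hqr (key q r)
        · exact absurd hqr.symm (key r q)
        · have hqr' : (q : G) • m • β = (r : G) • m • β := hqr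
          apply congrArg Sum.inr
          apply Subtype.ext
          have h3 : (m⁻¹ * ((r : G)⁻¹ * q) * m) • β = β := by
            rw [mul_smul, mul_smul, mul_smul, hqr', inv_smul_smul, inv_smul_smul]
          have h4 := h.Qβ (h.conjQ' hmα (Q.mul_mem (Q.inv_mem r.2) q.2)) h3
          have h5 : (r : G)⁻¹ * q = 1 := by
            have : (r : G)⁻¹ * q = m * (m⁻¹ * ((r : G)⁻¹ * q) * m) * m⁻¹ := by group
            rw [this, h4]
            group
          exact (inv_mul_eq_one.1 h5).symm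
      have h6 := Nat.card_le_card_of_injective f hf
      rw [Nat.card_sum, h.Q16, h.cardX] at h6
      omega
  · rintro ⟨q, hq, rfl⟩
    exact h.opp_β hq

theorem exists_of_opp {a b : X} (hab : opp G a b) : ∃ g : G, g • α = a ∧ g • β = b := by
  obtain ⟨g, rfl⟩ := h.pre α a
  have h1 : opp G α (g⁻¹ • b) := by
    rw [← opp_smul G g, smul_inv_smul]
    exact hab
  obtain ⟨q, hq, hqb⟩ := h.opp_α_iff.1 h1
  refine ⟨g * q, ?_, ?_⟩
  · rw [mul_smul, h.Qα hq]
  · rw [mul_smul, hqb, smul_inv_smul]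

theorem ncard_opp_α : {ω : X | opp G α ω}.ncard = 16 := by
  have h1 : {ω : X | opp G α ω} = (fun q : G => q • β) '' (Q : Set G) := by
    ext ω
    rw [Set.mem_ofPred_eq, h.opp_α_iff]
    rfl
  rw [h1, Set.ncard_image_of_injOn]
  · exact h.Q16
  · intro q hq r hr hqr
    exact h.Qβ_inj hq hr hqr

theorem ncard_opp (ω : X) : {δ : X | opp G ω δ}.ncard = 16 := by
  obtain ⟨g, rfl⟩ := h.pre α ω
  have h1 : {δ : X | opp G (g • α) δ} = (fun δ => g • δ) '' {δ : X | opp G α δ} := by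
    ext δ
    constructor
    · intro hδ
      refine ⟨g⁻¹ • δ, ?_, smul_inv_smul _ _⟩
      rw [Set.mem_ofPred_eq, ← opp_smul G g, smul_inv_smul]
      exact hδ
    · rintro ⟨δ', hδ', rfl⟩
      exact opp_smul' G g hδ'
  rw [h1, Set.ncard_image_of_injective _ (MulAction.injective g), h.ncard_opp_α]

theorem ncard_adj (ω : X) : {δ : X | adj G ω δ}.ncard = 10 := by
  have hfX := h.finX
  have h1 : {δ : X | adj G ω δ} = (insert ω {δ : X | opp G ω δ})ᶜ := by
    ext δ
    simp only [Set.mem_ofPred_eq, Set.mem_compl_iff, Set.mem_insert_iff, adj]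
    constructor
    · rintro ⟨h2, h3⟩ (h4 | h4)
      · exact h2 h4.symm
      · exact h3 h4
    · intro h2
      push Not at h2
      exact ⟨h2.1.symm, h2.2⟩
  have h2 : (insert ω {δ : X | opp G ω δ}).ncard = 17 := by
    rw [Set.ncard_insert_of_notMem (fun h3 => h3.1 rfl), h.ncard_opp]
  have h3 := Set.ncard_add_ncard_compl (insert ω {δ : X | opp G ω δ})
  rw [h2, ← h1, h.cardX] at h3
  omega

theorem tri {a b : X} (hab : a ≠ b) (hn : ¬ adj G a b) : opp G a b := by
  by_contra h1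
  exact hn ⟨hab, h1⟩

/-- There is a common neighbour of `α` and `β`. -/
theorem exists_common : ∃ c : X, adj G α c ∧ adj G β c := by
  have hfX := h.finX
  by_contra hno
  push Not at hno
  have hno' : ∀ a b : X, opp G a b → ∀ c, adj G a c → ¬ adj G b c := by
    intro a b hab c hac hbc
    obtain ⟨g, rfl, rfl⟩ := h.exists_of_opp hab
    apply hno (g⁻¹ • c)
    · rw [← adj_smul G g, smul_inv_smul]
      exact hac
    · rw [← adj_smul G g, smul_inv_smul]
      exact hbc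
  let B : X → Set X := fun a => insert a {δ | adj G a δ}
  have hB : ∀ a, (B a).ncard = 11 := by
    intro a
    show (insert a {δ | adj G a δ}).ncard = 11
    rw [Set.ncard_insert_of_notMem (fun h3 => h3.1 rfl), h.ncard_adj]
  have hdis : ∀ a b : X, opp G a b → Disjoint (B a) (B b) := by
    intro a b hab
    rw [Set.disjoint_left]
    rintro c (rfl | hc) (rfl | hc')
    · exact hab.1 rfl
    · exact (adj_symm G hc').2 hab
    · exact hc.2 hab
    · exact hno' a b hab c hc hc'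
  have hαβ : opp G α β := by
    have := h.opp_β Q.one_mem
    rwa [one_smul] at this
  have h1 : (B α ∪ B β).ncard = 22 := by
    rw [Set.ncard_union_eq (hdis _ _ hαβ), hB, hB]
  have h2 : B α ∪ B β ≠ Set.univ := by
    intro h3
    rw [h3, Set.ncard_univ, h.cardX] at h1
    omega
  obtain ⟨c, hc⟩ := (Set.ne_univ_iff_exists_notMem _).1 h2
  rw [Set.mem_union, not_or] at hc
  obtain ⟨hc1, hc2⟩ := hc
  have hαc : opp G α c := by
    apply h.tri
    · rintro rfl
      exact hc1 (Set.mem_insert _ _)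
    · intro h3
      exact hc1 (Set.mem_insert_of_mem _ h3)
  have hβc : opp G β c := by
    apply h.tri
    · rintro rfl
      exact hc2 (Set.mem_insert _ _)
    · intro h3
      exact hc2 (Set.mem_insert_of_mem _ h3)
  have h3 : ((B α ∪ B β) ∪ B c).ncard = 33 := by
    rw [Set.ncard_union_eq (Set.disjoint_union_left.2 ⟨hdis _ _ hαc, hdis _ _ hβc⟩), h1, hB]
  have h4 := Set.ncard_le_ncard (Set.subset_univ ((B α ∪ B β) ∪ B c))
  rw [h3, Set.ncard_univ, h.cardX] at h4
  omega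

/-- A neighbour of `α` is not adjacent to all points opposite to `α`. -/
theorem not_all {c : X} (hc : adj G α c) : ¬ ∀ q ∈ Q, adj G (q • β) c := by
  have hfX := h.finX
  intro hall
  have h1 : insert α {δ : X | opp G α δ} ⊆ {δ : X | adj G c δ} := by
    rintro δ (rfl | hδ)
    · exact adj_symm G hc
    · obtain ⟨q, hq, rfl⟩ := h.opp_α_iff.1 hδ
      exact adj_symm G (hall q hq)
  have h2 := Set.ncard_le_ncard h1
  rw [Set.ncard_insert_of_notMem (fun h3 => h3.1 rfl), h.ncard_opp, h.ncard_adj] at h2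
  omega

/-- The key lemma. -/
theorem key {δ : X} (hδ : adj G α δ) {y : G} (hy : orderOf y = 5) (hyα : y • α = α) {q : G}
    (hq : q ∈ Q) : q • δ ≠ y • δ := by
  intro heq
  have hy5 : y ^ 5 = 1 := by rw [← hy]; exact pow_orderOf_eq_one y
  set z := q⁻¹ * y with hz
  have hzα : z • α = α := by
    rw [hz, mul_smul, hyα, h.Qα (Q.inv_mem hq)]
  have hzδ : z • δ = δ := by
    rw [hz, mul_smul, ← heq, inv_smul_smul]
  have hind : ∀ n : ℕ, z ^ n * (y ^ n)⁻¹ ∈ Q := by
    intro n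
    induction n with
    | zero => simpa using Q.one_mem
    | succ n ih =>
      have h1 : z ^ (n + 1) * (y ^ (n + 1))⁻¹ = q⁻¹ * (y * (z ^ n * (y ^ n)⁻¹) * y⁻¹) := by
        rw [pow_succ' z, pow_succ' y, hz]
        have h2 : (y * y ^ n)⁻¹ = (y ^ n)⁻¹ * y⁻¹ := mul_inv_rev _ _
        rw [h2]
        group
      rw [h1]
      exact Q.mul_mem (Q.inv_mem hq) (h.conjQ hyα ih)
  have hz5 : z ^ 5 ∈ Q := by
    have := hind 5
    rwa [hy5, inv_one, mul_one] at this
  have hcomm1 : z ^ 5 * y = y * z ^ 5 := by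
    have h1 : z ^ 5 * z = z * z ^ 5 := (pow_succ z 5).symm.trans (pow_succ' z 5)
    have h2 : z ^ 5 * q⁻¹ = q⁻¹ * z ^ 5 := h.comm _ hz5 _ (Q.inv_mem hq)
    have h3 : q⁻¹ * (z ^ 5 * y) = q⁻¹ * (y * z ^ 5) := by
      calc q⁻¹ * (z ^ 5 * y) = (q⁻¹ * z ^ 5) * y := by group
        _ = z ^ 5 * q⁻¹ * y := by rw [h2]
        _ = z ^ 5 * (q⁻¹ * y) := by group
        _ = (q⁻¹ * y) * z ^ 5 := h1
        _ = q⁻¹ * (y * z ^ 5) := by group
    exact mul_left_cancel h3
  have hz1 : z ^ 5 = 1 := by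
    obtain ⟨k, hk⟩ := Subgroup.mem_zpowers_iff.1 (h.cent y hy _ hcomm1)
    have h5 : (z ^ 5) ^ 5 = 1 := by
      rw [← hk, ← zpow_natCast, ← zpow_mul, mul_comm, zpow_mul, zpow_natCast, hy5, one_zpow]
    have h2 := h.sq _ hz5
    calc z ^ 5 = (z ^ 5) ^ 5 * ((z ^ 5 * z ^ 5) * (z ^ 5 * z ^ 5))⁻¹ := by group
      _ = 1 := by rw [h5, h2]; group
  have hzne : z ≠ 1 := by
    intro h1
    have h2 : q = y := inv_mul_eq_one.1 h1
    subst h2
    have h3 := h.sq _ hq
    have h4 : orderOf q ∣ 2 := orderOf_dvd_of_pow_eq_one (by rw [pow_two, h3])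
    rw [hy] at h4
    omega
  have hF : Fact (Nat.Prime 5) := ⟨by norm_num⟩
  exact hδ.2 ⟨hδ.1, z, orderOf_eq_prime hz1 hzne, hzα, hzδ⟩

theorem orderOf_zpow {z : ℤ} (hz : ¬ (5 : ℤ) ∣ z) : orderOf (x ^ z) = 5 := by
  have hF : Fact (Nat.Prime 5) := ⟨by norm_num⟩
  apply orderOf_eq_prime
  · rw [← zpow_natCast, ← zpow_mul, mul_comm, zpow_mul, zpow_natCast, ← h.x5, pow_orderOf_eq_one,
      one_zpow]
  · intro h1
    rw [← orderOf_dvd_iff_zpow_eq_one, h.x5] at h1
    exact hz h1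

theorem zpow_α (z : ℤ) : (x ^ z) • α = α :=
  zpow_smul_eq_iff_period_dvd.2 (by
    rw [MulAction.period_eq_one_iff.2 h.xα]
    exact one_dvd _)

theorem zpow_β (z : ℤ) : (x ^ z) • β = β :=
  zpow_smul_eq_iff_period_dvd.2 (by
    rw [MulAction.period_eq_one_iff.2 h.xβ]
    exact one_dvd _)

/-- Translates of the orbit of `c` are disjoint. -/
theorem orb {c : X} (hc : adj G α c) {z : ℤ} (hz : ¬ (5 : ℤ) ∣ z) {r s : G} (hr : r ∈ Q)
    (hs : s ∈ Q) : (x ^ z) • r • c ≠ s • c := by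
  intro heq
  have h1 : x ^ z * r * (x ^ z)⁻¹ ∈ Q := h.conjQ (h.zpow_α z) hr
  apply h.key hc (h.orderOf_zpow hz) (h.zpow_α z) (Q.mul_mem (Q.inv_mem h1) hs)
  rw [mul_smul, ← heq, inv_smul_eq_iff]
  simp only [← mul_smul]
  congr 1
  group

/-- The coordinates of the neighbours of `α`. -/
theorem exists_coord : ∃ c₀ : X, ∃ q₀ ∈ Q, adj G α c₀ ∧ adj G β c₀ ∧ q₀ • c₀ ≠ c₀ := by
  obtain ⟨c, hc, hc'⟩ := h.exists_common
  have h1 := h.not_all hc
  push Not at h1
  obtain ⟨q, hq, hqc⟩ := h1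
  refine ⟨c, q, hq, hc, hc', fun h2 => hqc ?_⟩
  rw [← h2, adj_smul]
  exact hc'

end Conf

/-- The local data together with a moved common neighbour `c₀` of `α` and `β`. -/
structure Conf' (x : G) (α β : X) (Q : Subgroup G) (c₀ : X) (q₀ : G) : Prop extends
    Conf x α β Q where
  q₀Q : q₀ ∈ Q
  c₀α : adj G α c₀
  c₀β : adj G β c₀
  q₀c₀ : q₀ • c₀ ≠ c₀

/-- The neighbours of `α`. -/
def pt (x : G) (c₀ : X) (q₀ : G) (z : ℤ) (b : Bool) : X := (x ^ z) • (if b then q₀ • c₀ else c₀)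

namespace Conf'

variable {x : G} {α β : X} {Q : Subgroup G} {c₀ : X} {q₀ : G} (h : Conf' x α β Q c₀ q₀)
include h

theorem adj_pt (z : ℤ) (b : Bool) : adj G α (pt x c₀ q₀ z b) := by
  have h1 : adj G α (if b then q₀ • c₀ else c₀) := by
    cases b
    · exact h.c₀α
    · have h2 := (adj_smul G q₀).2 h.c₀α
      rw [h.Qα h.q₀Q] at h2
      exact h2
  have h2 := (adj_smul G (x ^ z)).2 h1
  rwa [h.zpow_α] at h2

theorem exists_rep (b : Bool) : ∃ r ∈ Q, (if b then q₀ • c₀ else c₀) = r • c₀ := by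
  cases b
  · exact ⟨1, Q.one_mem, (one_smul _ _).symm⟩
  · exact ⟨q₀, h.q₀Q, rfl⟩

theorem pt_ne {z w : ℤ} (hzw : ¬ (5 : ℤ) ∣ z - w) (b b' : Bool) :
    pt x c₀ q₀ z b ≠ pt x c₀ q₀ w b' := by
  intro heq
  obtain ⟨r, hr, hr'⟩ := h.exists_rep b
  obtain ⟨s, hs, hs'⟩ := h.exists_rep b'
  unfold pt at heq
  rw [hr', hs'] at heq
  apply h.orb h.c₀α hzw hr hs
  rw [sub_eq_neg_add, zpow_add, mul_smul, heq, ← mul_smul, ← zpow_add, neg_add_cancel, zpow_zero,
    one_smul]

theorem pt_inj_right (z : ℤ) {b b' : Bool} (hb : pt x c₀ q₀ z b = pt x c₀ q₀ z b') : b = b' := by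
  have h1 := MulAction.injective (x ^ z) hb
  have h2 := h.q₀c₀
  cases b <;> cases b'
  · rfl
  · exact absurd h1.symm h2
  · exact absurd h1 h2
  · rfl

/-- The ten neighbours. -/
theorem pt_injective : Function.Injective
    (fun p : Fin 5 × Bool => pt x c₀ q₀ ((p.1 : ℕ) : ℤ) p.2) := by
  rintro ⟨i, b⟩ ⟨j, b'⟩ heq
  have hij : i = j := by
    by_contra hne
    refine h.pt_ne ?_ b b' heq
    intro hd
    apply hne
    apply Fin.ext
    have := i.isLt
    have := j.isLt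
    show (i : ℕ) = (j : ℕ)
    have hd' : (5 : ℤ) ∣ ((i : ℕ) : ℤ) - ((j : ℕ) : ℤ) := hd
    omega
  subst hij
  have hb : b = b' := h.pt_inj_right _ heq
  rw [hb]

theorem exists_pt {δ : X} (hδ : adj G α δ) : ∃ (i : Fin 5) (b : Bool),
    pt x c₀ q₀ ((i : ℕ) : ℤ) b = δ := by
  have hfX := h.finX
  have h1 : Set.range (fun p : Fin 5 × Bool => pt x c₀ q₀ ((p.1 : ℕ) : ℤ) p.2) =
      {δ : X | adj G α δ} := by
    apply Set.eq_of_subset_of_ncard_le
    · rintro _ ⟨p, rfl⟩
      exact h.adj_pt _ _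
    · rw [h.ncard_adj, ← Set.image_univ, Set.ncard_image_of_injective _ h.pt_injective,
        Set.ncard_univ, Nat.card_eq_fintype_card]
      rfl
    · exact Set.toFinite _
  have h2 : δ ∈ Set.range (fun p : Fin 5 × Bool => pt x c₀ q₀ ((p.1 : ℕ) : ℤ) p.2) := by
    rw [h1]
    exact hδ
  obtain ⟨⟨i, b⟩, hp⟩ := h2
  exact ⟨i, b, hp⟩

theorem dichotomy {q : G} (hq : q ∈ Q) : q • c₀ = c₀ ∨ q • c₀ = q₀ • c₀ := by
  have h1 : adj G α (q • c₀) := by
    have h2 := (adj_smul G q).2 h.c₀α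
    rwa [h.Qα hq] at h2
  obtain ⟨i, b, hib⟩ := h.exists_pt h1
  by_cases hi : i = 0
  · subst hi
    have h3 : pt x c₀ q₀ (((0 : Fin 5) : ℕ) : ℤ) b = if b then q₀ • c₀ else c₀ := by
      show (x ^ (((0 : Fin 5) : ℕ) : ℤ)) • _ = _
      rw [show (((0 : Fin 5) : ℕ) : ℤ) = 0 from rfl, zpow_zero, one_smul]
    rw [h3] at hib
    cases b
    · exact Or.inl hib.symm
    · exact Or.inr hib.symm
  · exfalso
    obtain ⟨r, hr, hr'⟩ := h.exists_rep b
    unfold pt at hib
    rw [hr'] at hib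
    refine h.orb h.c₀α ?_ hr hq hib
    intro hd
    apply hi
    apply Fin.ext
    have := i.isLt
    show (i : ℕ) = 0
    omega

/-- Each pair is invariant under `Q`. -/
theorem smul_base {q : G} (hq : q ∈ Q) (b : Bool) :
    q • (if b then q₀ • c₀ else c₀) = c₀ ∨ q • (if b then q₀ • c₀ else c₀) = q₀ • c₀ := by
  obtain ⟨r, hr, hr'⟩ := h.exists_rep b
  rw [hr', ← mul_smul]
  exact h.dichotomy (Q.mul_mem hq hr)

theorem smul_pt' {q : G} (hq : q ∈ Q) (z : ℤ) (b : Bool) :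
    ∃ b', q • pt x c₀ q₀ z b = pt x c₀ q₀ z b' := by
  have h1 : q • pt x c₀ q₀ z b =
      (x ^ z) • ((x ^ z)⁻¹ * q * (x ^ z)) • (if b then q₀ • c₀ else c₀) := by
    unfold pt
    simp only [← mul_smul]
    congr 1
    group
  rcases h.smul_base (h.conjQ' (h.zpow_α z) hq) b with h2 | h2
  · exact ⟨false, by rw [h1, h2]; rfl⟩
  · exact ⟨true, by rw [h1, h2]; rfl⟩

end Conf'

open Classical in
/-- `ε z q` says whether `q` moves the pair number `z`. -/
noncomputable def ε (x : G) (c₀ : X) (z : ℤ) (q : G) : Bool :=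
  decide (q • (x ^ z) • c₀ ≠ (x ^ z) • c₀)

theorem ε_eq_false {x : G} {c₀ : X} {z : ℤ} {q : G} :
    ε x c₀ z q = false ↔ q • (x ^ z) • c₀ = (x ^ z) • c₀ := by
  unfold ε
  simp

namespace Conf'

variable {x : G} {α β : X} {Q : Subgroup G} {c₀ : X} {q₀ : G} (h : Conf' x α β Q c₀ q₀)
include h

theorem smul_pt {q : G} (hq : q ∈ Q) (z : ℤ) (b : Bool) :
    q • pt x c₀ q₀ z b = pt x c₀ q₀ z (b ^^ ε x c₀ z q) := by
  have h0 : ∀ z, (x ^ z) • c₀ = pt x c₀ q₀ z false := fun z => rfl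
  obtain ⟨b₁, hb₁⟩ := h.smul_pt' hq z false
  obtain ⟨b₂, hb₂⟩ := h.smul_pt' hq z true
  have hne : b₁ ≠ b₂ := by
    rintro rfl
    have h1 := MulAction.injective q (hb₁.trans hb₂.symm)
    have h2 := h.pt_inj_right z h1
    exact Bool.noConfusion h2
  have hε : ε x c₀ z q = b₁ := by
    cases b₁
    · rw [ε_eq_false, h0, hb₁]
    · have h3 : ¬ ε x c₀ z q = false := by
        rw [ε_eq_false, h0, hb₁]
        intro h4
        exact Bool.noConfusion (h.pt_inj_right z h4)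
      simpa using h3
  rw [hε]
  cases b
  · rw [hb₁, Bool.false_xor]
  · rw [hb₂, Bool.true_xor]
    congr 1
    cases b₁ <;> cases b₂ <;> simp_all

theorem ε_mul {q r : G} (hq : q ∈ Q) (hr : r ∈ Q) (z : ℤ) :
    ε x c₀ z (q * r) = (ε x c₀ z q ^^ ε x c₀ z r) := by
  have h1 := h.smul_pt (Q.mul_mem hq hr) z false
  rw [mul_smul, h.smul_pt hr, h.smul_pt hq] at h1
  have h2 := h.pt_inj_right z h1
  rw [Bool.false_xor, Bool.false_xor] at h2
  rw [← h2, Bool.xor_comm]

theorem ε_one (z : ℤ) : ε x c₀ z (1 : G) = false := by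
  rw [ε_eq_false, one_smul]

theorem zpow_add_five (z : ℤ) : x ^ (z + 5) = x ^ z := by
  have h5 : x ^ (5 : ℤ) = 1 := by
    have : x ^ 5 = 1 := by rw [← h.x5]; exact pow_orderOf_eq_one x
    exact_mod_cast this
  rw [zpow_add, h5, mul_one]

theorem ε_add_five (z : ℤ) (q : G) : ε x c₀ (z + 5) q = ε x c₀ z q := by
  unfold ε
  rw [h.zpow_add_five]

theorem ε_conj (z : ℤ) (q : G) : ε x c₀ z (x * q * x⁻¹) = ε x c₀ (z - 1) q := by
  have h1 : (x * q * x⁻¹) • (x ^ z) • c₀ = x • q • (x ^ (z - 1)) • c₀ := by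
    simp only [← mul_smul]
    congr 1
    group
  have h2 : (x ^ z) • c₀ = x • (x ^ (z - 1)) • c₀ := by
    simp only [← mul_smul]
    congr 1
    group
  have h3 : ε x c₀ z (x * q * x⁻¹) = false ↔ ε x c₀ (z - 1) q = false := by
    rw [ε_eq_false, ε_eq_false, h1, h2]
    exact ⟨fun h4 => MulAction.injective x h4, fun h4 => by rw [h4]⟩
  cases h4 : ε x c₀ (z - 1) q
  · exact h3.2 h4
  · rw [h4] at h3
    simpa using h3

/-- If the first five coordinates vanish, so do all. -/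
theorem ε_all {q : G} (h0 : ε x c₀ 0 q = false) (h1 : ε x c₀ 1 q = false)
    (h2 : ε x c₀ 2 q = false) (h3 : ε x c₀ 3 q = false) (h4 : ε x c₀ 4 q = false) (z : ℤ) :
    ε x c₀ z q = false := by
  have key : ∀ (k : ℤ) (w : ℤ), ε x c₀ (w + 5 * k) q = ε x c₀ w q := by
    intro k
    induction k using Int.induction_on with
    | zero => intro w; rw [mul_zero, add_zero]
    | succ n ih =>
      intro w
      rw [show w + 5 * ((n : ℤ) + 1) = (w + 5 * n) + 5 by ring, h.ε_add_five, ih]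
    | pred n ih =>
      intro w
      rw [← ih w, show w + 5 * (-(n : ℤ)) = (w + 5 * (-(n : ℤ) - 1)) + 5 by ring, h.ε_add_five]
  have hz : z = z % 5 + 5 * (z / 5) := (Int.emod_add_mul_ediv z 5).symm
  rw [hz, key]
  have h5 : z % 5 = 0 ∨ z % 5 = 1 ∨ z % 5 = 2 ∨ z % 5 = 3 ∨ z % 5 = 4 := by omega
  rcases h5 with h5 | h5 | h5 | h5 | h5 <;> rw [h5] <;> assumption

theorem eq_one_of_ε {q : G} (hq : q ∈ Q) (hz : ∀ z : ℤ, ε x c₀ z q = false) : q = 1 := by
  let K : Subgroup G :=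
    { carrier := {q | q ∈ Q ∧ ∀ z : ℤ, ε x c₀ z q = false}
      one_mem' := ⟨Q.one_mem, h.ε_one⟩
      mul_mem' := by
        rintro a b ⟨ha, ha'⟩ ⟨hb, hb'⟩
        exact ⟨Q.mul_mem ha hb, fun z => by rw [h.ε_mul ha hb, ha', hb']; rfl⟩
      inv_mem' := by
        rintro a ⟨ha, ha'⟩
        have h1 : a⁻¹ = a := (eq_inv_of_mul_eq_one_left (h.sq a ha)).symm
        simp only [h1]
        exact ⟨ha, ha'⟩ }
  have hKQ : K ≤ Q := fun q hq => hq.1
  have hKx : ∀ q ∈ K, x * q * x⁻¹ ∈ K := by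
    rintro q ⟨hq, hq'⟩
    exact ⟨h.conjQ h.xα hq, fun z => by rw [h.ε_conj]; exact hq' _⟩
  rcases h.two K (h.Q2.to_le hKQ) hKx with h1 | h1
  · rw [Subgroup.card_eq_one] at h1
    have h2 : q ∈ K := ⟨hq, hz⟩
    rwa [h1, Subgroup.mem_bot] at h2
  · exfalso
    have hfQ := h.finQ
    have h2 := Subgroup.eq_of_le_of_card_ge hKQ (by rw [h1, h.Q16])
    have h3 : q₀ ∈ K := by
      rw [h2]
      exact h.q₀Q
    have h4 := h3.2 0
    rw [ε_eq_false, zpow_zero, one_smul] at h4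
    exact h.q₀c₀ h4

end Conf'

/-- The parity of an element. -/
noncomputable def par (x : G) (c₀ : X) (q : G) : Bool :=
  ε x c₀ 0 q ^^ ε x c₀ 1 q ^^ ε x c₀ 2 q ^^ ε x c₀ 3 q ^^ ε x c₀ 4 q

namespace Conf'

variable {x : G} {α β : X} {Q : Subgroup G} {c₀ : X} {q₀ : G} (h : Conf' x α β Q c₀ q₀)
include h

theorem par_mul {q r : G} (hq : q ∈ Q) (hr : r ∈ Q) :
    par x c₀ (q * r) = (par x c₀ q ^^ par x c₀ r) := by
  unfold par
  simp only [h.ε_mul hq hr]
  generalize ε x c₀ 0 q = a0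
  generalize ε x c₀ 1 q = a1
  generalize ε x c₀ 2 q = a2
  generalize ε x c₀ 3 q = a3
  generalize ε x c₀ 4 q = a4
  generalize ε x c₀ 0 r = b0
  generalize ε x c₀ 1 r = b1
  generalize ε x c₀ 2 r = b2
  generalize ε x c₀ 3 r = b3
  generalize ε x c₀ 4 r = b4
  revert a0 a1 a2 a3 a4 b0 b1 b2 b3 b4
  decide

theorem par_conj (q : G) : par x c₀ (x * q * x⁻¹) = par x c₀ q := by
  unfold par
  simp only [h.ε_conj]
  have h1 : ε x c₀ (0 - 1) q = ε x c₀ 4 q := by
    rw [← h.ε_add_five (0 - 1)]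
    norm_num
  rw [h1]
  norm_num
  generalize ε x c₀ 0 q = a0
  generalize ε x c₀ 1 q = a1
  generalize ε x c₀ 2 q = a2
  generalize ε x c₀ 3 q = a3
  generalize ε x c₀ 4 q = a4
  revert a0 a1 a2 a3 a4
  decide

theorem par_eq {q : G} (hq : q ∈ Q) : par x c₀ q = false := by
  have hfQ := h.finQ
  let P : Subgroup G :=
    { carrier := {q | q ∈ Q ∧ par x c₀ q = false}
      one_mem' := ⟨Q.one_mem, by unfold par; simp only [h.ε_one]; rfl⟩
      mul_mem' := by
        rintro a b ⟨ha, ha'⟩ ⟨hb, hb'⟩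
        exact ⟨Q.mul_mem ha hb, by rw [h.par_mul ha hb, ha', hb']; rfl⟩
      inv_mem' := by
        rintro a ⟨ha, ha'⟩
        have h1 : a⁻¹ = a := (eq_inv_of_mul_eq_one_left (h.sq a ha)).symm
        simp only [h1]
        exact ⟨ha, ha'⟩ }
  have hPQ : P ≤ Q := fun q hq => hq.1
  have hPx : ∀ q ∈ P, x * q * x⁻¹ ∈ P := by
    rintro q ⟨hq, hq'⟩
    exact ⟨h.conjQ h.xα hq, by rw [h.par_conj]; exact hq'⟩
  rcases h.two P (h.Q2.to_le hPQ) hPx with h1 | h1
  · exfalso
    rw [Subgroup.card_eq_one] at h1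
    have hinj : Function.Injective (fun q : Q => par x c₀ (q : G)) := by
      intro q r hqr
      have hqr' : par x c₀ (q : G) = par x c₀ (r : G) := hqr
      have h2 : (q : G) * r ∈ P := ⟨Q.mul_mem q.2 r.2, by
        rw [h.par_mul q.2 r.2, hqr', Bool.xor_self]⟩
      rw [h1, Subgroup.mem_bot] at h2
      have h3 := h.sq r r.2
      exact Subtype.ext (mul_right_cancel (h2.trans h3.symm))
    have h2 := Nat.card_le_card_of_injective _ hinj
    rw [h.Q16, Nat.card_eq_fintype_card, Fintype.card_bool] at h2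
    omega
  · have h2 := Subgroup.eq_of_le_of_card_ge hPQ (by rw [h1, h.Q16])
    have h3 : q ∈ P := by
      rw [h2]
      exact hq
    exact h3.2

theorem coord_injective {q r : G} (hq : q ∈ Q) (hr : r ∈ Q) (h0 : ε x c₀ 0 q = ε x c₀ 0 r)
    (h1 : ε x c₀ 1 q = ε x c₀ 1 r) (h2 : ε x c₀ 2 q = ε x c₀ 2 r)
    (h3 : ε x c₀ 3 q = ε x c₀ 3 r) : q = r := by
  have h4 : ε x c₀ 4 q = ε x c₀ 4 r := by
    have h5 := h.par_eq hq
    have h6 := h.par_eq hr
    unfold par at h5 h6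
    rw [h0, h1, h2, h3] at h5
    revert h5 h6
    generalize ε x c₀ 0 r = a0
    generalize ε x c₀ 1 r = a1
    generalize ε x c₀ 2 r = a2
    generalize ε x c₀ 3 r = a3
    generalize ε x c₀ 4 r = a4
    generalize ε x c₀ 4 q = b4
    revert a0 a1 a2 a3 a4 b4
    decide
  have h5 : ∀ z, ε x c₀ z (q * r) = (ε x c₀ z q ^^ ε x c₀ z r) := h.ε_mul hq hr
  have h6 := h.eq_one_of_ε (Q.mul_mem hq hr)
    (h.ε_all (by rw [h5, h0, Bool.xor_self]) (by rw [h5, h1, Bool.xor_self])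
      (by rw [h5, h2, Bool.xor_self]) (by rw [h5, h3, Bool.xor_self])
      (by rw [h5, h4, Bool.xor_self]))
  exact mul_right_cancel (h6.trans (h.sq r hr).symm)

theorem exists_coord_eq (a b c d : Bool) : ∃ q ∈ Q, ε x c₀ 0 q = a ∧ ε x c₀ 1 q = b ∧
    ε x c₀ 2 q = c ∧ ε x c₀ 3 q = d := by
  have hfQ := h.finQ
  let f : Q → Bool × Bool × Bool × Bool := fun q =>
    (ε x c₀ 0 (q : G), ε x c₀ 1 (q : G), ε x c₀ 2 (q : G), ε x c₀ 3 (q : G))
  have hf : Function.Injective f := by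
    intro q r hqr
    have h0 : ε x c₀ 0 (q : G) = ε x c₀ 0 (r : G) := congrArg (fun t => t.1) hqr
    have h1 : ε x c₀ 1 (q : G) = ε x c₀ 1 (r : G) := congrArg (fun t => t.2.1) hqr
    have h2 : ε x c₀ 2 (q : G) = ε x c₀ 2 (r : G) := congrArg (fun t => t.2.2.1) hqr
    have h3 : ε x c₀ 3 (q : G) = ε x c₀ 3 (r : G) := congrArg (fun t => t.2.2.2) hqr
    exact Subtype.ext (h.coord_injective q.2 r.2 h0 h1 h2 h3)
  have hfb : Function.Bijective f := by
    rw [Nat.bijective_iff_injective_and_card]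
    refine ⟨hf, ?_⟩
    rw [h.Q16, Nat.card_eq_fintype_card]
    rfl
  obtain ⟨q, hq⟩ := hfb.2 (a, b, c, d)
  exact ⟨q, q.2, congrArg (fun t => t.1) hq, congrArg (fun t => t.2.1) hq,
    congrArg (fun t => t.2.2.1) hq, congrArg (fun t => t.2.2.2) hq⟩

open Order25920Model in
/-- The element with given even vector of coordinates. -/
theorem exists_bit_eq (n : Fin 16) : ∃ q ∈ Q, ∀ i : Fin 5, ε x c₀ ((i : ℕ) : ℤ) q = bit i n := by
  obtain ⟨q, hq, h0, h1, h2, h3⟩ := h.exists_coord_eq (bit 0 n) (bit 1 n) (bit 2 n) (bit 3 n)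
  refine ⟨q, hq, ?_⟩
  have h4 : ε x c₀ 4 q = bit 4 n := by
    have h5 := h.par_eq hq
    have h6 := bit_parity n
    unfold par at h5
    rw [h0, h1, h2, h3] at h5
    revert h5 h6
    generalize bit 0 n = a0
    generalize bit 1 n = a1
    generalize bit 2 n = a2
    generalize bit 3 n = a3
    generalize bit 4 n = a4
    generalize ε x c₀ 4 q = b4
    revert a0 a1 a2 a3 a4 b4
    decide
  intro i
  fin_cases i
  · exact h0
  · exact h1
  · exact h2
  · exact h3
  · exact h4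

theorem not_adj_β_pt (z : ℤ) : ¬ adj G β (pt x c₀ q₀ z true) := by
  intro h1
  have h2 : adj G β (q₀ • c₀) := by
    rw [← adj_smul G (x ^ z), h.zpow_β]
    exact h1
  apply h.not_all h.c₀α
  intro q hq
  rw [← adj_smul G q⁻¹, inv_smul_smul]
  rcases h.dichotomy (Q.inv_mem hq) with h3 | h3
  · rw [h3]
    exact h.c₀β
  · rw [h3]
    exact h2

theorem adj_β_pt (z : ℤ) : adj G β (pt x c₀ q₀ z false) := by
  have h1 := (adj_smul G (x ^ z)).2 h.c₀β
  rwa [h.zpow_β] at h1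

theorem adj_β_pt_iff (z : ℤ) (b : Bool) : adj G β (pt x c₀ q₀ z b) ↔ b = false := by
  cases b
  · exact ⟨fun _ => rfl, fun _ => h.adj_β_pt z⟩
  · exact ⟨fun h1 => absurd h1 (h.not_adj_β_pt z), fun h1 => Bool.noConfusion h1⟩

theorem adj_smul_β_pt_iff {q : G} (hq : q ∈ Q) (z : ℤ) (b : Bool) :
    adj G (q • β) (pt x c₀ q₀ z b) ↔ ε x c₀ z q = b := by
  have h1 : q⁻¹ = q := (eq_inv_of_mul_eq_one_left (h.sq q hq)).symm
  rw [← adj_smul G q⁻¹, inv_smul_smul, h1, h.smul_pt hq, h.adj_β_pt_iff]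
  cases b <;> cases ε x c₀ z q <;> simp

end Conf'

open Order25920Model

/-- The element of `Q` with coordinates given by `n`. -/
noncomputable def qn {x : G} {α β : X} {Q : Subgroup G} {c₀ : X} {q₀ : G}
    (h : Conf' x α β Q c₀ q₀) (n : Fin 16) : G := (h.exists_bit_eq n).choose

/-- The numbering of the points. -/
noncomputable def num {x : G} {α β : X} {Q : Subgroup G} {c₀ : X} {q₀ : G}
    (h : Conf' x α β Q c₀ q₀) : V → X
  | .inl _ => α
  | .inr (.inl n) => qn h n • β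
  | .inr (.inr p) => pt x c₀ q₀ ((p.1 : ℕ) : ℤ) p.2

section
variable {x : G} {α β : X} {Q : Subgroup G} {c₀ : X} {q₀ : G} (h : Conf' x α β Q c₀ q₀)

theorem qn_mem (n : Fin 16) : qn h n ∈ Q := (h.exists_bit_eq n).choose_spec.1

theorem ε_qn (n : Fin 16) (i : Fin 5) : ε x c₀ ((i : ℕ) : ℤ) (qn h n) = bit i n :=
  (h.exists_bit_eq n).choose_spec.2 i

theorem bit_ext : ∀ n m : Fin 16, (∀ i, bit i n = bit i m) → n = m := by decide +kernel

theorem num_injective : Function.Injective (num h) := by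
  have hα1 : ∀ n, α ≠ qn h n • β := fun n => (h.opp_β (qn_mem h n)).1
  have hα2 : ∀ p : Fin 5 × Bool, α ≠ pt x c₀ q₀ ((p.1 : ℕ) : ℤ) p.2 := fun p =>
    (h.adj_pt _ _).1
  have hβ : ∀ (n) (p : Fin 5 × Bool), qn h n • β ≠ pt x c₀ q₀ ((p.1 : ℕ) : ℤ) p.2 := by
    intro n p heq
    have h1 := h.opp_β (qn_mem h n)
    rw [heq] at h1
    exact (h.adj_pt _ _).2 h1
  rintro (a | n | p) (b | m | r) heq
  · rfl
  · exact absurd heq (hα1 m)
  · exact absurd heq (hα2 r)
  · exact absurd heq.symm (hα1 n)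
  · have h1 : qn h n = qn h m := h.Qβ_inj (qn_mem h n) (qn_mem h m) heq
    have h2 : n = m := by
      apply bit_ext
      intro i
      rw [← ε_qn h n i, ← ε_qn h m i, h1]
    rw [h2]
  · exact absurd heq (hβ n r)
  · exact absurd heq.symm (hα2 p)
  · exact absurd heq.symm (hβ m p)
  · have h1 : p = r := h.pt_injective heq
    rw [h1]

theorem num_bijective : Function.Bijective (num h) := by
  have hfX := h.finX
  rw [Nat.bijective_iff_injective_and_card]
  refine ⟨num_injective h, ?_⟩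
  rw [h.cardX, Nat.card_eq_fintype_card]
  rfl

theorem sum_num (p : X → Prop) [DecidablePred p] :
    (∑ b : V, if p (num h b) then 1 else 0) = {δ : X | p δ}.ncard := by
  rw [← Finset.card_filter]
  have h1 : {δ : X | p δ} = num h '' ((Finset.univ.filter fun b => p (num h b) : Finset V) : Set V) := by
    ext δ
    constructor
    · intro hδ
      obtain ⟨b, rfl⟩ := (num_bijective h).2 δ
      exact ⟨b, by simpa using hδ, rfl⟩
    · rintro ⟨b, hb, rfl⟩
      simpa using hb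
  rw [h1, Set.ncard_image_of_injective _ (num_injective h), Set.ncard_coe_finset]

open Classical in
theorem sum_adj (a : X) : (∑ b : V, if adj G a (num h b) then 1 else 0) = 10 := by
  rw [sum_num h, h.ncard_adj]

theorem adj_pt_α (p : Fin 5 × Bool) : adj G (num h (.inr (.inr p))) α :=
  adj_symm G (h.adj_pt _ _)

theorem adj_pt_qn (p : Fin 5 × Bool) (n : Fin 16) :
    adj G (num h (.inr (.inr p))) (num h (.inr (.inl n))) ↔ bit p.1 n = p.2 := by
  have h1 := h.adj_smul_β_pt_iff (qn_mem h n) ((p.1 : ℕ) : ℤ) p.2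
  rw [ε_qn] at h1
  exact ⟨fun h2 => h1.1 (adj_symm G h2), fun h2 => adj_symm G (h1.2 h2)⟩

open Classical in
/-- Each neighbour of `α` has one common neighbour with `α`. -/
theorem sum_pt (p : Fin 5 × Bool) :
    (∑ r : Fin 5 × Bool, if adj G (num h (.inr (.inr p))) (num h (.inr (.inr r))) then 1 else 0)
      = 1 := by
  have h1 := sum_adj h (num h (.inr (.inr p)))
  rw [Fintype.sum_sum_type, Fintype.sum_sum_type] at h1
  simp only [adj_pt_qn h] at h1
  rw [sum_bit] at h1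
  have h2 : (∑ b : Unit, if adj G (num h (.inr (.inr p))) (num h (.inl b)) then 1 else 0) = 1 := by
    rw [Fintype.sum_eq_single ()]
    · exact if_pos (adj_pt_α h p)
    · intro b hb
      exact absurd rfl hb
  rw [h2] at h1
  omega

include h in
theorem ncard_common_α {δ : X} (hδ : adj G α δ) : {ω : X | adj G α ω ∧ adj G δ ω}.ncard = 1 := by
  classical
  obtain ⟨i, b, hib⟩ := h.exists_pt hδ
  have hp : δ = num h (.inr (.inr (i, b))) := hib.symm
  rw [← sum_num h, Fintype.sum_sum_type, Fintype.sum_sum_type]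
  have h1 : (∑ a : Unit, if adj G α (num h (.inl a)) ∧ adj G δ (num h (.inl a)) then 1 else 0)
      = 0 := by
    apply Finset.sum_eq_zero
    intro a _
    exact if_neg fun h2 => h2.1.1 rfl
  have h2 : (∑ n : Fin 16, if adj G α (num h (.inr (.inl n))) ∧ adj G δ (num h (.inr (.inl n)))
      then 1 else 0) = 0 := by
    apply Finset.sum_eq_zero
    intro n _
    exact if_neg fun h2 => h2.1.2 (h.opp_β (qn_mem h n))
  have h4 : ∀ r : Fin 5 × Bool, adj G α (num h (.inr (.inr r))) := fun r => h.adj_pt _ _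
  rw [h1, h2, zero_add, zero_add, hp]
  simp only [h4, true_and]
  exact sum_pt h (i, b)

include h in
theorem ncard_common {a b : X} (hab : adj G a b) : {ω : X | adj G a ω ∧ adj G b ω}.ncard = 1 := by
  obtain ⟨g, rfl⟩ := h.pre α a
  have h1 : adj G α (g⁻¹ • b) := by
    rw [← adj_smul G g, smul_inv_smul]
    exact hab
  have h0 : {ω : X | adj G (g • α) ω ∧ adj G b ω} =
      (fun ω => g • ω) '' {ω : X | adj G α ω ∧ adj G (g⁻¹ • b) ω} := by
   ext ω
   constructor
   · rintro ⟨h2, h3⟩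
     refine ⟨g⁻¹ • ω, ⟨?_, ?_⟩, smul_inv_smul _ _⟩
     · rw [← adj_smul G g, smul_inv_smul]
       exact h2
     · rw [adj_smul]
       exact h3
   · rintro ⟨ω', ⟨h2, h3⟩, rfl⟩
     refine ⟨(adj_smul G g).2 h2, ?_⟩
     rw [← adj_smul G g, smul_inv_smul] at h3
     exact h3
  rw [h0, Set.ncard_image_of_injective _ (MulAction.injective g), ncard_common_α h h1]

include h in
theorem eq_of_common {a b c d : X} (hab : adj G a b) (h1 : adj G a c) (h2 : adj G b c)
    (h3 : adj G a d) (h4 : adj G b d) : c = d := by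
  obtain ⟨ω, hω⟩ := Set.ncard_eq_one.1 (ncard_common h hab)
  have h5 : c ∈ {ω : X | adj G a ω ∧ adj G b ω} := ⟨h1, h2⟩
  have h6 : d ∈ {ω : X | adj G a ω ∧ adj G b ω} := ⟨h3, h4⟩
  rw [hω] at h5 h6
  exact h5.trans h6.symm

theorem adj_pt_pt (p r : Fin 5 × Bool) :
    adj G (num h (.inr (.inr p))) (num h (.inr (.inr r))) ↔ p.1 = r.1 ∧ p.2 ≠ r.2 := by
  classical
  have key : ∀ p r : Fin 5 × Bool, adj G (num h (.inr (.inr p))) (num h (.inr (.inr r))) →
      p.1 = r.1 := by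
    rintro ⟨i, b⟩ ⟨j, b'⟩ hadj
    by_contra hij
    obtain ⟨n, hn1, hn2⟩ := exists_bit i j hij
    have h1 := (adj_smul G (qn h n)).2 hadj
    have h2 : qn h n • num h (.inr (.inr (i, b))) = num h (.inr (.inr (i, b))) := by
      show qn h n • pt x c₀ q₀ ((i : ℕ) : ℤ) b = pt x c₀ q₀ ((i : ℕ) : ℤ) b
      rw [h.smul_pt (qn_mem h n), ε_qn, hn1, Bool.xor_false]
    have h3 : qn h n • num h (.inr (.inr (j, b'))) = num h (.inr (.inr (j, !b'))) := by
      show qn h n • pt x c₀ q₀ ((j : ℕ) : ℤ) b' = pt x c₀ q₀ ((j : ℕ) : ℤ) (!b')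
      rw [h.smul_pt (qn_mem h n), ε_qn, hn2, Bool.xor_true]
    rw [h2, h3] at h1
    have h4 : adj G α (num h (.inr (.inr (i, b)))) := h.adj_pt _ _
    have h5 := eq_of_common h h4 (h.adj_pt _ _) hadj (h.adj_pt _ _) h1
    have h6 := h.pt_inj_right _ h5
    cases b' <;> simp at h6
  constructor
  · intro hadj
    refine ⟨key p r hadj, fun h2 => hadj.1 ?_⟩
    have h3 : p = r := Prod.ext (key p r hadj) h2
    rw [h3]
  · rintro ⟨h1, h2⟩
    have h3 := sum_pt h p
    have h4 : ∃ s, adj G (num h (.inr (.inr p))) (num h (.inr (.inr s))) := by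
      by_contra hno
      push Not at hno
      rw [Finset.sum_eq_zero (fun s _ => if_neg (hno s))] at h3
      omega
    obtain ⟨s, hs⟩ := h4
    have h5 := key p s hs
    have h6 : p.2 ≠ s.2 := by
      intro h7
      apply hs.1
      have h8 : p = s := Prod.ext h5 h7
      rw [h8]
    have h7 : s = r := by
      apply Prod.ext
      · rw [← h5, h1]
      · revert h2 h6
        generalize p.2 = a
        generalize s.2 = b
        generalize r.2 = c
        revert a b c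
        decide
    rwa [h7] at hs

theorem adj_qn_pt (n : Fin 16) (p : Fin 5 × Bool) :
    adj G (num h (.inr (.inl n))) (num h (.inr (.inr p))) ↔ bit p.1 n = p.2 := by
  rw [← adj_pt_qn h]
  exact ⟨adj_symm G, adj_symm G⟩

theorem D_of_adj {n m : Fin 16} (hadj : adj G (num h (.inr (.inl n))) (num h (.inr (.inl m)))) :
    D n m = true := by
  classical
  apply D_of_le
  have h1 := ncard_common h hadj
  rw [← sum_num h, Fintype.sum_sum_type, Fintype.sum_sum_type] at h1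
  simp only [adj_qn_pt h] at h1
  omega

theorem adj_qn_qn (n m : Fin 16) :
    adj G (num h (.inr (.inl n))) (num h (.inr (.inl m))) ↔ D n m = true := by
  classical
  refine ⟨D_of_adj h, ?_⟩
  have h1 := sum_adj h (num h (.inr (.inl n)))
  rw [Fintype.sum_sum_type, Fintype.sum_sum_type] at h1
  simp only [adj_qn_pt h] at h1
  rw [sum_bit'] at h1
  have h2 : (∑ b : Unit, if adj G (num h (.inr (.inl n))) (num h (.inl b)) then 1 else 0) = 0 := by
    apply Finset.sum_eq_zero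
    intro b _
    exact if_neg fun h3 => (adj_symm G h3).2 (h.opp_β (qn_mem h n))
  rw [h2] at h1
  have h3 : (∑ m : Fin 16, if adj G (num h (.inr (.inl n))) (num h (.inr (.inl m))) then 1 else 0) =
      ∑ m : Fin 16, if D n m = true then 1 else 0 := by
    rw [sum_D]
    omega
  rw [Finset.sum_eq_sum_iff_of_le] at h3
  · intro h4
    have h5 := h3 m (Finset.mem_univ m)
    rw [if_pos h4] at h5
    by_contra h6
    rw [if_neg h6] at h5
    omega
  · intro m _
    by_cases h4 : adj G (num h (.inr (.inl n))) (num h (.inr (.inl m)))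
    · rw [if_pos h4, if_pos (D_of_adj h h4)]
    · rw [if_neg h4]
      exact Nat.zero_le _

/-- The graph is the explicit graph. -/
theorem adj_iff (a b : V) : adj G (num h a) (num h b) ↔ T a b = true := by
  rcases a with a | n | p <;> rcases b with b | m | r
  · exact ⟨fun h1 => absurd rfl h1.1, fun h1 => Bool.noConfusion h1⟩
  · exact ⟨fun h1 => absurd (h.opp_β (qn_mem h m)) h1.2, fun h1 => Bool.noConfusion h1⟩
  · exact ⟨fun _ => rfl, fun _ => h.adj_pt _ _⟩
  · exact ⟨fun h1 => absurd (h.opp_β (qn_mem h n)) (adj_symm G h1).2,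
      fun h1 => Bool.noConfusion h1⟩
  · exact adj_qn_qn h n m
  · rw [adj_qn_pt]
    show _ ↔ (bit r.1 n == r.2) = true
    rw [beq_iff_eq]
  · exact ⟨fun _ => rfl, fun _ => adj_pt_α h p⟩
  · rw [adj_pt_qn]
    show _ ↔ (bit p.1 m == p.2) = true
    rw [beq_iff_eq]
  · rw [adj_pt_pt]
    show _ ↔ (p.1 == r.1 && p.2 != r.2) = true
    rw [Bool.and_eq_true, beq_iff_eq, bne_iff_ne]

end

/-- **The graph theorem.** -/
theorem exists_model {x : G} {α β : X} {Q : Subgroup G} (h : Conf x α β Q) :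
    ∃ f : V → X, Function.Bijective f ∧ ∀ a b, adj G (f a) (f b) ↔ T a b = true := by
  obtain ⟨c₀, q₀, hq₀, h1, h2, h3⟩ := h.exists_coord
  have h' : Conf' x α β Q c₀ q₀ := { toConf := h, q₀Q := hq₀, c₀α := h1, c₀β := h2, q₀c₀ := h3 }
  exact ⟨num h', num_bijective h', adj_iff h'⟩

end Cfsg.Agent.SmallSimple.S1000.Order25920Graph
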