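import Mathlib
import Cfsg.Agent.SmallSimple.S1000.Order25920Local
import Cfsg.Agent.SmallSimple.S1000.Order25920Graph
import Cfsg.Agent.SmallSimple.S1000.Order25920Aut

/-!
# Simple groups of order `25920` with a nonsolvable `2`-local subgroup are isomorphic
-/

set_option autoImplicit false

namespace Cfsg.Agent.SmallSimple.S1000.Order25920Hom

open Subgroup MulAction Order25920Model Order25920Aut Order25920Graph Order25920Local

/-- The action on the cosets of the normalizer. -/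
theorem exists_conf {G : Type*} [Group G] [Finite G] [IsSimpleGroup G] (hG : Nat.card G = 25920)
    (Q : Subgroup G) (hQ2 : IsPGroup 2 Q) (hne : Q ≠ ⊥)
    (hns : ¬ Group.IsSolvable (normalizer (Q : Set G))) :
    ∃ (x : G) (β : G ⧸ normalizer (Q : Set G)),
      Conf x ((1 : G) : G ⧸ normalizer (Q : Set G)) β Q := by
  obtain ⟨x, hx, hxM, hQ16, hel, hM, hfix⟩ := local_structure hG Q hQ2 hne hns
  have hidx : (normalizer (Q : Set G)).index = 27 :=
    index_eq hG hM (by norm_num) (by norm_num)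
  have hα : ((1 : G) : G ⧸ normalizer (Q : Set G)) ∈
      fixedBy (G ⧸ normalizer (Q : Set G)) x := by
    rw [FixCount.mk_mem_fixedBy_iff, inv_one, one_mul, mul_one]
    exact hxM
  have hfix' : (fixedBy (G ⧸ normalizer (Q : Set G)) x).ncard = 2 := hfix
  obtain ⟨a, b, hab, hset⟩ := Set.ncard_eq_two.1 hfix'
  have hβ : ∃ β : G ⧸ normalizer (Q : Set G), β ≠ ((1 : G) : G ⧸ normalizer (Q : Set G)) ∧
      fixedBy (G ⧸ normalizer (Q : Set G)) x = {((1 : G) : G ⧸ normalizer (Q : Set G)), β} := by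
    rw [hset] at hα
    rcases hα with h1 | h1
    · exact ⟨b, by rw [h1]; exact hab.symm, by rw [hset, h1]⟩
    · have h2 : ((1 : G) : G ⧸ normalizer (Q : Set G)) = b := h1
      exact ⟨a, by rw [h2]; exact hab, by rw [hset, h2, Set.pair_comm]⟩
  obtain ⟨β, hβne, hβset⟩ := hβ
  have hstab : ∀ g : G, g • ((1 : G) : G ⧸ normalizer (Q : Set G)) =
      ((1 : G) : G ⧸ normalizer (Q : Set G)) ↔ g ∈ normalizer (Q : Set G) := by
    intro g
    have h1 := FixCount.mk_mem_fixedBy_iff (normalizer (Q : Set G)) g 1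
    rw [inv_one, one_mul, mul_one] at h1
    exact h1
  refine ⟨x, β, ?_⟩
  refine
    { pre := MulAction.exists_smul_eq G
      cardX := hidx
      x5 := hx
      fix := ?_
      ne := hβne
      Q16 := hQ16
      comm := fun q hq r hr => (hel q hq).1 r hr
      sq := fun q hq => (hel q hq).2
      stab := fun g => (hstab g).trans Subgroup.mem_normalizer_iff
      conj := ?_
      cent := ?_
      two := fun H hH hx' => card_two_group hG hx H hx' hH }
  · intro ω
    have h1 : ω ∈ fixedBy (G ⧸ normalizer (Q : Set G)) x ↔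
        ω ∈ ({((1 : G) : G ⧸ normalizer (Q : Set G)), β} : Set (G ⧸ normalizer (Q : Set G))) := by
      rw [hβset]
    exact h1
  · intro y hy hyα
    rw [hstab] at hyα
    obtain ⟨m, hm⟩ := conj_into (L := normalizer (Q : Set G)) (by rw [hM]; norm_num)
      (x := ⟨x, hxM⟩) (y := ⟨y, hyα⟩) (by rw [Subgroup.orderOf_mk, hx])
      (by rw [Subgroup.orderOf_mk, hy])
    obtain ⟨k, hk⟩ := Subgroup.mem_zpowers_iff.1 hm
    refine ⟨m, (hstab _).2 m.2, Subgroup.mem_zpowers_iff.2 ⟨k, ?_⟩⟩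
    exact congrArg Subtype.val hk
  · intro y hy g hg
    rw [← self_cent hG hy, Subgroup.mem_centralizer_singleton_iff]
    exact hg

/-- The group acts faithfully on the graph. -/
theorem exists_hom {G : Type*} [Group G] [Finite G] [IsSimpleGroup G] (hG : Nat.card G = 25920)
    (Q : Subgroup G) (hQ2 : IsPGroup 2 Q) (hne : Q ≠ ⊥)
    (hns : ¬ Group.IsSolvable (normalizer (Q : Set G))) :
    ∃ f : G →* Equiv.Perm V, Function.Injective f ∧ ∀ g, f g ∈ A := by
  obtain ⟨x, β, h⟩ := exists_conf hG Q hQ2 hne hns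
  obtain ⟨F, hF, hadj⟩ := exists_model h
  let e : V ≃ G ⧸ normalizer (Q : Set G) := Equiv.ofBijective F hF
  let f : G →* Equiv.Perm V :=
    (Equiv.permCongrHom e.symm).toMonoidHom.comp (toPermHom G (G ⧸ normalizer (Q : Set G)))
  have hf : ∀ g v, e (f g v) = g • e v := by
    intro g v
    show e (e.symm (g • e.symm.symm v)) = g • e v
    rw [Equiv.apply_symm_apply, Equiv.symm_symm]
  refine ⟨f, ?_, ?_⟩
  · rw [injective_iff_map_eq_one]
    intro g hg
    by_contra hg1
    have h1 := FixCount.card_fixedBy_lt (X := G ⧸ normalizer (Q : Set G))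
      (by rw [h.cardX]; norm_num) hg1
    have h2 : fixedBy (G ⧸ normalizer (Q : Set G)) g = Set.univ := by
      ext ω
      simp only [Set.mem_univ, iff_true, mem_fixedBy]
      have h3 := hf g (e.symm ω)
      rw [hg, Equiv.Perm.one_apply, Equiv.apply_symm_apply] at h3
      exact h3.symm
    rw [h2, Nat.card_univ] at h1
    exact lt_irrefl _ h1
  · intro g a b
    have h1 : ∀ a b : V, adj G (e a) (e b) ↔ T a b = true := hadj
    have h2 : T (f g a) (f g b) = true ↔ T a b = true := by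
      rw [← h1, ← h1, hf, hf, adj_smul]
    exact Bool.eq_iff_iff.2 h2

/-- **Uniqueness.** -/
theorem unique {G₁ G₂ : Type*} [Group G₁] [Group G₂] [Finite G₁] [Finite G₂] [IsSimpleGroup G₁]
    [IsSimpleGroup G₂] (h₁ : Nat.card G₁ = 25920) (h₂ : Nat.card G₂ = 25920)
    (Q₁ : Subgroup G₁) (hQ₁ : IsPGroup 2 Q₁) (hne₁ : Q₁ ≠ ⊥)
    (hns₁ : ¬ Group.IsSolvable (normalizer (Q₁ : Set G₁)))
    (Q₂ : Subgroup G₂) (hQ₂ : IsPGroup 2 Q₂) (hne₂ : Q₂ ≠ ⊥)
    (hns₂ : ¬ Group.IsSolvable (normalizer (Q₂ : Set G₂))) : Nonempty (G₁ ≃* G₂) := by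
  obtain ⟨f₁, hf₁, hA₁⟩ := exists_hom h₁ Q₁ hQ₁ hne₁ hns₁
  obtain ⟨f₂, hf₂, hA₂⟩ := exists_hom h₂ Q₂ hQ₂ hne₂ hns₂
  exact Order25920Aut.nonempty_mulEquiv h₁ h₂ f₁ f₂ hf₁ hf₂ hA₁ hA₂

end Cfsg.Agent.SmallSimple.S1000.Order25920Hom
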