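import Mathlib
import Cfsg.Prelude.Def_Classical
import Cfsg.Agent.S0270
import Cfsg.Agent.S0822
import Cfsg.Agent.SmallSimple.S1000.Order25920Hom
import Cfsg.Agent.SmallSimple.S1000.Order25920PSp

/-!
# The simple group of order `25920`
-/

set_option autoImplicit false

namespace Cfsg.Agent.SmallSimple.S1000.Order25920

open Subgroup
open Cfsg.Agent.Lib.FieldThree (F3)

/-- A simple group of order `25920` with a nonsolvable `2`-local subgroup is `PSp 2 F3`. -/
theorem nonempty_mulEquiv_F3 {G : Type*} [Group G] [Finite G] [IsSimpleGroup G]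
    (hG : Nat.card G = 25920) (Q : Subgroup G) (hQ2 : IsPGroup 2 Q) (hne : Q ≠ ⊥)
    (hns : ¬ Group.IsSolvable (normalizer (Q : Set G))) : Nonempty (G ≃* Cfsg.PSp 2 F3) := by
  have hs : IsSimpleGroup (Cfsg.PSp 2 F3) := Cfsg.Agent.S0270.result 2 le_rfl (fun _ => le_rfl)
  exact Order25920Hom.unique hG Cfsg.Agent.S0822.card_PSp Q hQ2 hne hns Order25920PSp.Q0
    Order25920PSp.Q0_two Order25920PSp.Q0_ne_bot Order25920PSp.not_solvable

/-- A simple group of order `25920` with a nonsolvable `2`-local subgroup is the projective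
symplectic group of dimension four over a field with three elements. -/
theorem nonempty_mulEquiv {G : Type*} [Group G] [Finite G] [IsSimpleGroup G]
    (hG : Nat.card G = 25920) (Q : Subgroup G) (hQ2 : IsPGroup 2 Q) (hne : Q ≠ ⊥)
    (hns : ¬ Group.IsSolvable (normalizer (Q : Set G))) :
    ∃ (F : Type) (_ : Field F) (_ : Fintype F), Fintype.card F = 3 ∧
      Nonempty (G ≃* Cfsg.PSp 2 F) :=
  ⟨F3, inferInstance, inferInstance, rfl, nonempty_mulEquiv_F3 hG Q hQ2 hne hns⟩

end Cfsg.Agent.SmallSimple.S1000.Order25920
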