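import Mathlib
import Cfsg.Prelude.Def_Classical
import Cfsg.Agent.LieClassical.FieldTransfer

/-!
# A noncyclic abelian subgroup of order 9 of `PSU₃(3)`
-/

set_option autoImplicit false

namespace Cfsg.Agent.SmallSimple.S1000.PSUFacts

open Cfsg Subgroup Matrix

variable {F : Type*} [Field F]

/-- `1 + t J`. -/
def mU (t : F) : Matrix (Fin 3) (Fin 3) F := !![1 + t, t, t; t, 1 + t, t; t, t, 1 + t]

theorem det_mU (h3 : (3 : F) = 0) (t : F) : (mU t).det = 1 := by
  rw [mU, Matrix.det_fin_three]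
  simp
  linear_combination t * h3

def eU (h3 : (3 : F) = 0) (t : F) : SpecialLinearGroup (Fin 3) F := ⟨mU t, det_mU h3 t⟩

def mP : Matrix (Fin 3) (Fin 3) F := !![0, 0, 1; 1, 0, 0; 0, 1, 0]

def eP : SpecialLinearGroup (Fin 3) F := ⟨mP, by rw [mP, Matrix.det_fin_three]; simp⟩

def mD : Matrix (Fin 3) (Fin 3) F := !![-1, 0, 0; 0, -1, 0; 0, 0, 1]

def eD : SpecialLinearGroup (Fin 3) F := ⟨mD, by rw [mD, Matrix.det_fin_three]; simp⟩

theorem hermForm_three (u v : Fin 3 → F) :
    hermForm 3 F 3 u v = u 0 * v 0 ^ 3 + u 1 * v 1 ^ 3 + u 2 * v 2 ^ 3 := by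
  rw [hermForm, Fin.sum_univ_three]

theorem eP_mem : (eP : SpecialLinearGroup (Fin 3) F) ∈ SU 3 F 3 := by
  rw [LieClassical.FieldTransfer.mem_SU_iff]
  intro u v
  rw [hermForm_three, hermForm_three]
  simp [eP, mP, Matrix.mulVec, dotProduct, Fin.sum_univ_three]
  ring

theorem eD_mem : (eD : SpecialLinearGroup (Fin 3) F) ∈ SU 3 F 3 := by
  rw [LieClassical.FieldTransfer.mem_SU_iff]
  intro u v
  rw [hermForm_three, hermForm_three]
  simp [eD, mD, Matrix.mulVec, dotProduct, Fin.sum_univ_three]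
  ring

theorem eU_mem [CharP F 3] (h3 : (3 : F) = 0) {t : F} (ht : t ^ 3 = -t) : eU h3 t ∈ SU 3 F 3 := by
  have hf : Fact (Nat.Prime 3) := ⟨Nat.prime_three⟩
  rw [LieClassical.FieldTransfer.mem_SU_iff]
  intro u v
  rw [hermForm_three, hermForm_three]
  simp only [eU, mU, Matrix.mulVec, dotProduct, Fin.sum_univ_three]
  simp
  have hc : ∀ a b c : F, (a + b + c) ^ 3 = a ^ 3 + b ^ 3 + c ^ 3 := fun a b c => by
    rw [add_pow_char, add_pow_char]
  have h1 : ∀ a : F, ((1 + t) * a) ^ 3 = (1 - t) * a ^ 3 := fun a => by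
    rw [mul_pow, add_pow_char, one_pow, ht]; ring
  have h2 : ∀ a : F, (t * a) ^ 3 = - t * a ^ 3 := fun a => by rw [mul_pow, ht]
  simp only [hc, h1, h2]
  linear_combination (-(t ^ 2) * (u 0 + u 1 + u 2) * (v 0 ^ 3 + v 1 ^ 3 + v 2 ^ 3)) * h3

theorem eU_mul (h3 : (3 : F) = 0) (s t : F) : eU h3 s * eU h3 t = eU h3 (s + t) := by
  apply Subtype.ext
  show mU s * mU t = mU (s + t)
  rw [mU, mU, mU, Matrix.mul_fin_three]
  ext i j
  fin_cases i <;> fin_cases j <;> simp <;> linear_combination (s * t) * h3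

theorem eU_eP (h3 : (3 : F) = 0) (t : F) : eU h3 t * eP = eP * eU h3 t := by
  apply Subtype.ext
  show mU t * mP = mP * mU t
  rw [mU, mP, Matrix.mul_fin_three, Matrix.mul_fin_three]
  ext i j
  fin_cases i <;> fin_cases j <;> simp

theorem eP_cube : (eP : SpecialLinearGroup (Fin 3) F) ^ 3 = 1 := by
  apply Subtype.ext
  rw [pow_succ, pow_two]
  show mP * mP * mP = 1
  rw [mP, Matrix.mul_fin_three, Matrix.mul_fin_three]
  ext i j
  fin_cases i <;> fin_cases j <;> simp

theorem eU_zero (h3 : (3 : F) = 0) : eU h3 0 = 1 := by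
  apply Subtype.ext
  show mU 0 = 1
  rw [mU]
  ext i j
  fin_cases i <;> fin_cases j <;> simp

/-- `(1 + t J) P` does not commute with `D`. -/
theorem not_comm (h3 : (3 : F) = 0) {t : F} (ht : 1 + t ≠ 0) :
    eU h3 t * eP * eD ≠ eD * (eU h3 t * eP) := by
  intro h
  have h1 : mU t * mP * mD = mD * (mU t * mP) := congrArg Subtype.val h
  rw [mU, mP, mD, Matrix.mul_fin_three, Matrix.mul_fin_three, Matrix.mul_fin_three] at h1
  have h2 := congrFun (congrFun h1 0) 2
  simp at h2
  apply ht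
  have h4 : (1 + t) * 3 = 1 + t := by
    linear_combination h2
  rw [h3, mul_zero] at h4
  exact h4.symm

theorem not_comm' (h3 : (3 : F) = 0) {t : F} (ht : t ≠ 0) :
    eU h3 t * eD ≠ eD * eU h3 t := by
  intro h
  have h1 : mU t * mD = mD * mU t := congrArg Subtype.val h
  rw [mU, mD, Matrix.mul_fin_three, Matrix.mul_fin_three] at h1
  have h2 := congrFun (congrFun h1 0) 2
  simp at h2
  apply ht
  have h4 : t * 3 = t := by
    linear_combination h2
  rw [h3, mul_zero] at h4
  exact h4.symm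

/-- `PSU₃(3)` has a noncyclic abelian subgroup of order 9. -/
theorem psu_three_three [Fintype F] (hF : Fintype.card F = 9) : ∃ u v : PSU 3 F 3,
    orderOf u = 3 ∧ orderOf v = 3 ∧ u * v = v * u ∧ v ∉ zpowers u := by
  have hf : Fact (Nat.Prime 3) := ⟨Nat.prime_three⟩
  have h3 : (3 : F) = 0 := by
    have h9 : ((9 : ℕ) : F) = 0 := by rw [← hF, Nat.cast_card_eq_zero]
    have h9' : (3 : F) * 3 = 0 := by
      rw [← h9]; norm_num
    rcases mul_eq_zero.mp h9' with h | h <;> exact h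
  have hchar : CharP F 3 := by
    refine (CharP.charP_iff_prime_eq_zero Nat.prime_three).mpr ?_
    exact_mod_cast h3
  obtain ⟨i, hi⟩ : IsSquare (-1 : F) := by
    rw [FiniteField.isSquare_neg_one_iff, hF]
    norm_num
  have hi0 : i ≠ 0 := by
    rintro rfl
    rw [mul_zero] at hi
    exact one_ne_zero (neg_eq_zero.mp hi)
  have hi3 : i ^ 3 = -i := by
    calc i ^ 3 = (i * i) * i := by ring
      _ = -i := by rw [← hi]; ring
  have h1i : ∀ k : ℤ, (1 : F) + k * i ≠ 0 := by
    intro k h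
    have h5 : (k : F) * i = -1 := by linear_combination h
    have h6 : (k : F) ^ 2 * (-1) = 1 := by
      calc (k : F) ^ 2 * (-1) = (k * i) * (k * i) := by rw [hi]; ring
        _ = 1 := by rw [h5]; ring
    have h7 : (k : F) = 0 ∨ (k : F) = 1 ∨ (k : F) = -1 := by
      have h8 : k % 3 = 0 ∨ k % 3 = 1 ∨ k % 3 = 2 := by omega
      have h9 : (k : F) = ((k % 3 : ℤ) : F) := by
        conv_lhs => rw [← Int.mul_ediv_add_emod k 3]
        push_cast
        rw [h3, zero_mul, zero_add]
      rcases h8 with h | h | h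
      · left; rw [h9, h]; simp
      · right; left; rw [h9, h]; simp
      · right; right; rw [h9, h]; push_cast; linear_combination h3
    have h8 : (1 : F) + 1 ≠ 0 := by
      intro h8
      have : (1 : F) = 0 := by linear_combination h3 - h8
      exact one_ne_zero this
    rcases h7 with h | h | h
    · rw [h] at h6
      exact one_ne_zero (by linear_combination -h6)
    · rw [h] at h6
      exact h8 (by linear_combination -h6)
    · rw [h] at h6
      exact h8 (by linear_combination -h6)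
  let u : SU 3 F 3 := ⟨eU h3 i, eU_mem h3 hi3⟩
  let v : SU 3 F 3 := ⟨eP, eP_mem⟩
  let d : SU 3 F 3 := ⟨eD, eD_mem⟩
  have hmul : ∀ n : ℕ, eU h3 i ^ n = eU h3 (n * i) := by
    intro n
    induction n with
    | zero => rw [pow_zero, Nat.cast_zero, zero_mul, eU_zero]
    | succ n ih =>
      rw [pow_succ, ih, eU_mul]
      congr 1
      push_cast
      ring
  have hu3 : u ^ 3 = 1 := by
    apply Subtype.ext
    show eU h3 i ^ 3 = 1
    rw [hmul]
    have : ((3 : ℕ) : F) * i = 0 := by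
      rw [Nat.cast_ofNat, h3, zero_mul]
    rw [this, eU_zero]
  have hzpow : ∀ k : ℤ, eU h3 i ^ k = eU h3 (k * i) := by
    intro k
    cases k with
    | ofNat n => rw [Int.ofNat_eq_natCast, zpow_natCast, hmul]; norm_cast
    | negSucc n =>
      rw [zpow_negSucc, hmul, inv_eq_iff_mul_eq_one, eU_mul]
      have : ((n + 1 : ℕ) : F) * i + ((Int.negSucc n : ℤ) : F) * i = 0 := by
        push_cast
        ring
      rw [this, eU_zero]
  have hv3 : v ^ 3 = 1 := Subtype.ext eP_cube
  have huv : u * v = v * u := Subtype.ext (eU_eP h3 i)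
  have hz : ∀ k : ℤ, u ^ k * v ∉ center (SU 3 F 3) := by
    intro k hk
    have h4 := (mem_center_iff.mp hk d)
    apply not_comm h3 (h1i k)
    have h5 : eD * (eU h3 i ^ k * eP) = eU h3 i ^ k * eP * eD := congrArg Subtype.val h4
    rw [hzpow] at h5
    exact h5.symm
  have hu1 : (QuotientGroup.mk u : PSU 3 F 3) ≠ 1 := by
    rw [Ne, QuotientGroup.eq_one_iff]
    intro hu
    have h4 := mem_center_iff.mp hu d
    exact not_comm' h3 hi0 (congrArg Subtype.val h4).symm
  have hv1 : (QuotientGroup.mk v : PSU 3 F 3) ≠ 1 := by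
    rw [Ne, QuotientGroup.eq_one_iff]
    intro hv
    apply hz 0
    rwa [zpow_zero, one_mul]
  refine ⟨QuotientGroup.mk u, QuotientGroup.mk v,
    orderOf_eq_prime (by rw [← QuotientGroup.mk_pow, hu3, QuotientGroup.mk_one]) hu1,
    orderOf_eq_prime (by rw [← QuotientGroup.mk_pow, hv3, QuotientGroup.mk_one]) hv1,
    by rw [← QuotientGroup.mk_mul, huv, QuotientGroup.mk_mul], ?_⟩
  rintro ⟨k, hk⟩
  have hk' : (QuotientGroup.mk (u ^ k) : PSU 3 F 3) = QuotientGroup.mk v := by
    rw [QuotientGroup.mk_zpow]; exact hk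
  rw [QuotientGroup.eq] at hk'
  apply hz (-k)
  rw [_root_.zpow_neg]
  exact hk'

end Cfsg.Agent.SmallSimple.S1000.PSUFacts
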