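import Mathlib
import Cfsg.Agent.SmallSimple.S1000.Setup
import Cfsg.Agent.SmallSimple.S1000.LocalStructure
import Cfsg.Agent.OddOrderLocal.RankOneCyclic
import Cfsg.Agent.Lib.CoprimeHyperplane
import Cfsg.Agent.S0120

/-!
# S1000, thin case: two basic facts

Let `m_{2,3}(G) ≤ 1` (`M23LE 1 G`) and `Loc G`.

* `eq_of_commute`: two commuting involutions of `C_G(w)`, `w` of order 3, are equal;
* `card_le_two_mul`: `|R| ≤ 2 |O₂(X)|` for the 2-subgroups `R` of a `{2,3}`-group `X` whose elementary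
  abelian 3-subgroups have order at most 3 (for instance `X = C_G(U)`, `U ≠ 1` a 2-group).
-/

set_option autoImplicit false

namespace Cfsg.Agent.SmallSimple.S1000.ThinBasic

open Subgroup Cfsg Cfsg.Agent.ZN Cfsg.Agent.MinSimple.Basic Cfsg.Agent.MinSimple.VModule
open Cfsg.Agent.SmallSimple.S1000.Setup
open Cfsg.Agent.OddOrderLocal

universe u

/-! ### T2 -/

/-- The rank of a quotient by a `p'`-group is not bigger. -/
theorem pRankLE_quotient {K : Type*} [Group K] [Finite K] {p k : ℕ} [Fact p.Prime]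
    (N : Subgroup K) [N.Normal] (hN : ¬ p ∣ Nat.card N) (h : PRankLE p k K) :
    PRankLE p k (K ⧸ N) := by
  obtain ⟨P⟩ : Nonempty (Sylow p K) := inferInstance
  rw [← Rank.pRankLE_sylow (P.mapSurjective (QuotientGroup.mk'_surjective N))]
  refine Rank.pRankLE_of_injective
    (G := P) (H := ↥((P : Subgroup K).map (QuotientGroup.mk' N))) ?_ ?_ (Rank.pRankLE_subgroup h)
  · refine (MulEquiv.ofBijective (((QuotientGroup.mk' N).subgroupMap (P : Subgroup K)))
      ⟨?_, MonoidHom.subgroupMap_surjective _ _⟩).symm.toMonoidHom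
    rw [injective_iff_map_eq_one]
    intro x hx
    have h1 : (x : K) ∈ N := by
      have h2 : (QuotientGroup.mk' N) (x : K) = 1 := congrArg Subtype.val hx
      exact (QuotientGroup.eq_one_iff _).mp h2
    by_contra hne
    have h3 : orderOf x ∣ Nat.card N := by
      have h4 := orderOf_dvd_natCard (⟨(x : K), h1⟩ : N)
      rwa [Subgroup.orderOf_mk, Subgroup.orderOf_coe] at h4
    obtain ⟨n, hn⟩ := P.isPGroup' x
    have h5 : orderOf x ∣ p ^ n := orderOf_dvd_of_pow_eq_one hn
    obtain ⟨m, -, hm⟩ := (Nat.dvd_prime_pow Fact.out).mp h5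
    rcases Nat.eq_zero_or_pos m with rfl | hm0
    · rw [pow_zero] at hm
      exact hne (orderOf_eq_one_iff.mp hm)
    · exact hN ((hm ▸ dvd_pow_self p hm0.ne').trans h3)
  · exact (MulEquiv.ofBijective _ _).symm.injective

/-- A `{2,3}`-group of 3-rank at most 1: 2-subgroups have order at most `2 |O₂|`. -/
theorem card_le_of_rank {K : Type u} [Group K] [Finite K] {i j : ℕ}
    (hK : Nat.card K = 2 ^ i * 3 ^ j) (hr : PRankLE 3 1 K) (R : Subgroup K) (hR : IsPGroup 2 R) :
    Nat.card R ≤ 2 * Nat.card (pCore 2 K) := by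
  have hf2 : Fact (Nat.Prime 2) := ⟨Nat.prime_two⟩
  have hf3 : Fact (Nat.Prime 3) := ⟨Nat.prime_three⟩
  set N := pCore 2 K with hN
  have hNn : N.Normal := Lib.Cores.pCore_normal 2
  have hsol : Group.IsSolvable K := Cfsg.Agent.S0144.result 2 3 i j Nat.prime_two Nat.prime_three hK
  have hsolq : Group.IsSolvable (K ⧸ N) := inferInstance
  have hN2 : IsPGroup 2 N := Lib.Cores.pCore_isPGroup 2
  have hN3 : ¬ 3 ∣ Nat.card N := by
    obtain ⟨n, hn⟩ := IsPGroup.iff_card.mp hN2
    rw [hn]
    intro h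
    have := Nat.Prime.dvd_of_dvd_pow Nat.prime_three h
    omega
  have hbot : pCore 2 (K ⧸ N) = ⊥ := Lib.Cores.pCore_quotient_pCore 2
  have hcardq : ∃ k l : ℕ, Nat.card (K ⧸ N) = 2 ^ k * 3 ^ l := by
    apply exists_of_dvd (i := i) (j := j)
    rw [← hK]
    exact Subgroup.card_quotient_dvd_card N
  -- `O_{3'}(K/N) = 1`
  have h3' : pPrimeCore 3 (K ⧸ N) = ⊥ := by
    rw [← le_bot_iff, ← hbot]
    refine Lib.Cores.le_pCore inferInstance ?_
    have hc := Lib.Cores.pPrimeCore_coprime (G := K ⧸ N) 3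
    obtain ⟨k, l, hkl⟩ := hcardq
    obtain ⟨k', l', h2⟩ := exists_of_dvd (i := k) (j := l)
      (hkl ▸ card_subgroup_dvd_card (pPrimeCore 3 (K ⧸ N)))
    rcases Nat.eq_zero_or_pos l' with rfl | hl
    · exact IsPGroup.of_card (by rw [h2, pow_zero, mul_one])
    · exfalso
      have h3 : 3 ∣ Nat.card (pPrimeCore 3 (K ⧸ N)) :=
        h2 ▸ Dvd.dvd.mul_left (dvd_pow_self 3 hl.ne') _
      have := Nat.dvd_gcd h3 (dvd_refl 3)
      rw [hc] at this
      omega
  have hcen := Lib.HallHigman.centralizer_pCore_le_of_solvable 3 h3'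
  set D := pCore 3 (K ⧸ N) with hD
  have hDn : D.Normal := Lib.Cores.pCore_normal 3
  have hD3 : IsPGroup 3 D := Lib.Cores.pCore_isPGroup 3
  have hDc : IsCyclic D := RankOneCyclic.isCyclic_of_pRankLE_one (by norm_num) hD3
    (Rank.pRankLE_subgroup (pRankLE_quotient N hN3 hr))
  -- `R̄` embeds in `Aut(D)`
  set Rb := R.map (QuotientGroup.mk' N) with hRb
  have hRb2 : IsPGroup 2 Rb := hR.map _
  have hinj : Function.Injective ((MulAut.conjNormal (H := D)).comp Rb.subtype) := by
    rw [injective_iff_map_eq_one]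
    intro x hx
    have h1 : (x : K ⧸ N) ∈ centralizer (D : Set (K ⧸ N)) := by
      rw [mem_centralizer_iff]
      intro d hd
      have h2 := congrArg (fun f : MulAut D => ((f ⟨d, hd⟩ : D) : K ⧸ N)) hx
      simp only [MonoidHom.comp_apply, MulAut.conjNormal_apply, MulAut.one_apply,
        Subgroup.subtype_apply] at h2
      rw [← h2]
      simp only [inv_mul_cancel_right]
      rw [h2]
    have h2 : (x : K ⧸ N) ∈ Rb ⊓ D := ⟨x.2, hcen h1⟩
    have h3 : Rb ⊓ D = ⊥ := (IsPGroup.disjoint_of_ne 2 3 (by norm_num) Rb D hRb2 hD3).eq_bot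
    rw [h3, mem_bot] at h2
    exact Subtype.ext h2
  have hdvd : Nat.card Rb ∣ Nat.card (MulAut D) := by
    rw [Nat.card_congr (MonoidHom.ofInjective hinj).toEquiv]
    exact card_subgroup_dvd_card _
  have hRb_le : Nat.card Rb ≤ 2 := by
    obtain ⟨n, hn⟩ := IsPGroup.iff_card.mp hRb2
    obtain ⟨m, hm⟩ := IsPGroup.iff_card.mp hD3
    rw [IsCyclic.card_mulAut, hm, hn] at hdvd
    rcases Nat.eq_zero_or_pos m with rfl | hm0
    · rw [pow_zero, Nat.totient_one] at hdvd
      rw [hn]
      exact (Nat.le_of_dvd one_pos hdvd).trans (by norm_num)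
    · rw [Nat.totient_prime_pow Nat.prime_three hm0] at hdvd
      have hco : Nat.Coprime (2 ^ n) (3 ^ (m - 1)) :=
        Nat.Coprime.pow _ _ (by norm_num)
      have h2 : 2 ^ n ∣ 2 := by
        have := hco.dvd_of_dvd_mul_left hdvd
        simpa using this
      rw [hn]
      exact Nat.le_of_dvd two_pos h2
  -- count
  have h1 : Nat.card R ≤ Nat.card Rb * Nat.card N := by
    have h2 : R ≤ Rb.comap (QuotientGroup.mk' N) := le_comap_map _ _
    have h3 : Nat.card (Rb.comap (QuotientGroup.mk' N)) = Nat.card Rb * Nat.card N := by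
      rw [LocalStructure.card_comap, mul_comm]
    rw [← h3]
    exact Nat.card_le_card_of_injective _ (Subgroup.inclusion_injective h2)
  calc Nat.card R ≤ Nat.card Rb * Nat.card N := h1
    _ ≤ 2 * Nat.card N := Nat.mul_le_mul_right _ hRb_le

/-- **T2**: `|R| ≤ 2 |O₂(X)|` for the 2-subgroups `R` of a `{2,3}`-group `X` that normalizes a 2-group
`U ≠ 1`, in the thin case. -/
theorem card_le_two_mul {G : Type u} [Group G] [Finite G] (ht : M23LE 1 G) {U X : Subgroup G}
    (hU : IsPGroup 2 U) (hU1 : U ≠ ⊥) (hXU : X ≤ normalizer (U : Set G)) (hX : TT X)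
    {R : Subgroup G} (hR : IsPGroup 2 R) (hRX : R ≤ X) : Nat.card R ≤ 2 * Nat.card (o2 X) := by
  have hf3 : Fact (Nat.Prime 3) := ⟨Nat.prime_three⟩
  obtain ⟨i, j, hij⟩ := hX
  have h1 : PRankLE 3 1 X := by
    rw [Rank.pRankLE_iff]
    intro A hAX hA
    exact ht A U hA hU hU1 (hAX.trans hXU)
  have h2 := card_le_of_rank hij h1 (R.subgroupOf X) (hR.comap_of_injective _ X.subtype_injective)
  rwa [Nat.card_congr (Subgroup.subgroupOfEquivOfLe hRX).toEquiv,
    ← Subgroup.card_map_of_injective (K := pCore 2 X) X.subtype_injective] at h2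

/-! ### T1 -/

/-- In the thin case: a 3-element of order 3 in `C_G(w) ∩ C_G(U)` lies in `⟨w⟩`. -/
theorem mem_zpowers_of_commute {G : Type u} [Group G] [Finite G] (ht : M23LE 1 G) {w y : G}
    (hw : orderOf w = 3) (hy : y ^ 3 = 1) (hyw : y * w = w * y) {U : Subgroup G}
    (hU : IsPGroup 2 U) (hU1 : U ≠ ⊥) (hwU : w ∈ normalizer (U : Set G))
    (hyU : y ∈ normalizer (U : Set G)) : y ∈ zpowers w := by
  have hf3 : Fact (Nat.Prime 3) := ⟨Nat.prime_three⟩
  have hw3 : w ^ 3 = 1 := by rw [← hw, pow_orderOf_eq_one]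
  have hE : IsElementaryAbelian 3 (zpowers w ⊔ zpowers y) := by
    refine Rank.elemAb_sup (Rank.elemAb_zpowers hw3) (Rank.elemAb_zpowers hy) ?_
    rintro _ ⟨m, rfl⟩ _ ⟨n, rfl⟩
    exact ((show Commute w y from hyw.symm).zpow_zpow m n)
  have h1 := ht (zpowers w ⊔ zpowers y) U hE hU hU1
    (sup_le (by rw [zpowers_le]; exact hwU) (by rw [zpowers_le]; exact hyU))
  have h2 : Nat.card (zpowers w) = 3 := by rw [Nat.card_zpowers, hw]
  have h3 : zpowers w = zpowers w ⊔ zpowers y :=
    Subgroup.eq_of_le_of_card_ge le_sup_left (by rw [h2]; simpa using h1)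
  have h4 : y ∈ zpowers w ⊔ zpowers y := mem_sup_right (mem_zpowers y)
  rwa [← h3] at h4

/-- **T1**: in the thin case, two commuting involutions that centralize an element `w` of order 3 are
equal. -/
theorem eq_of_commute {G : Type u} [Group G] [Finite G] (h : Loc G) (ht : M23LE 1 G) {w a b : G}
    (hw : orderOf w = 3) (haw : a * w = w * a) (hbw : b * w = w * b) (hab : a * b = b * a)
    (ha : a * a = 1) (hb : b * b = 1) (ha1 : a ≠ 1) (hb1 : b ≠ 1) : a = b := by
  have hf2 : Fact (Nat.Prime 2) := ⟨Nat.prime_two⟩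
  have hf3 : Fact (Nat.Prime 3) := ⟨Nat.prime_three⟩
  by_contra hne
  set A : Subgroup G := zpowers a ⊔ zpowers b with hA
  have hAel : IsElementaryAbelian 2 A := by
    refine Rank.elemAb_sup (Rank.elemAb_zpowers (by rw [pow_two, ha]))
      (Rank.elemAb_zpowers (by rw [pow_two, hb])) ?_
    rintro _ ⟨m, rfl⟩ _ ⟨n, rfl⟩
    exact ((show Commute a b from hab).zpow_zpow m n)
  have haA : a ∈ A := mem_sup_left (mem_zpowers a)
  have hbA : b ∈ A := mem_sup_right (mem_zpowers b)
  have hA2 : IsPGroup 2 A := Rank.elemAb_isPGroup hAel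
  have hA1 : A ≠ ⊥ := by
    intro h0
    rw [h0, mem_bot] at haA
    exact ha1 haA
  have hAw : A ≤ centralizer ({w} : Set G) := by
    refine sup_le ?_ ?_
    · rw [zpowers_le, mem_centralizer_iff]
      rintro _ rfl
      exact haw.symm
    · rw [zpowers_le, mem_centralizer_iff]
      rintro _ rfl
      exact hbw.symm
  set R := o3 (centralizer ({w} : Set G)) with hR
  have hR3 : IsPGroup 3 R := o3_isPGroup _
  have hRw : R ≤ centralizer ({w} : Set G) := o3_le _
  have hAR : A ≤ normalizer (R : Set G) := hAw.trans (le_normalizer_o3 _)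
  have hR2 : ¬ 2 ∣ Nat.card R := by
    obtain ⟨n, hn⟩ := IsPGroup.iff_card.mp hR3
    rw [hn]
    intro h
    have := Nat.Prime.dvd_of_dvd_pow Nat.prime_two h
    omega
  have hkey : R ≤ centralizer (A : Set G) := by
    have hgen := Lib.CoprimeHyperplane.iSup_centralizer_hyperplane hAel hA1 hR2 hAR
    rw [← hgen]
    refine iSup_le ?_
    rintro ⟨B, hBA, hBi⟩
    -- `B ≠ 1`
    have hB1 : B ≠ ⊥ := by
      rintro rfl
      rw [relIndex_bot_left] at hBi
      -- |A| = 2 impossible
      have h1 : Nat.card (zpowers a) = 2 := by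
        rw [Nat.card_zpowers]
        exact orderOf_eq_prime (by rw [pow_two, ha]) ha1
      have h2 : zpowers a = A := Subgroup.eq_of_le_of_card_ge le_sup_left (by rw [h1, hBi])
      rw [← h2, mem_zpowers_iff] at hbA
      obtain ⟨k, hk⟩ := hbA
      rcases Int.even_or_odd' k with ⟨l, rfl | rfl⟩
      · rw [zpow_mul, zpow_ofNat, pow_two, ha, one_zpow] at hk
        exact hb1 hk.symm
      · rw [zpow_add, zpow_mul, zpow_ofNat, pow_two, ha, one_zpow, one_mul, zpow_one] at hk
        exact hne hk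
    have hB2 : IsPGroup 2 B := hA2.to_le hBA
    set D := R ⊓ centralizer (B : Set G) with hD
    have hAB : A ≤ centralizer (B : Set G) := by
      intro x hx
      rw [mem_centralizer_iff]
      intro y hy
      have := hAel.1
      exact congrArg Subtype.val (this.is_comm.comm (⟨y, hBA hy⟩ : A) ⟨x, hx⟩)
    have hAD : A ≤ normalizer (D : Set G) := by
      intro x hx
      rw [mem_normalizer_iff]
      intro y
      have h1 := (mem_normalizer_iff.mp (hAR hx) y)
      have h2 := (mem_normalizer_iff.mp (centralizer_le_normalizer _ |>.trans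
        (normalizer_le_normalizer_centralizer B) <| hAB hx) y)
      exact ⟨fun hy => ⟨h1.mp hy.1, h2.mp hy.2⟩, fun hy => ⟨h1.mpr hy.1, h2.mpr hy.2⟩⟩
    have hD3 : IsPGroup 3 D := hR3.to_le inf_le_left
    intro y hy
    rw [mem_centralizer_iff]
    intro x hx
    have h4 : Lib.CoprimeHyperplane.conjHom hAD ⟨x, hx⟩ = 1 := by
      refine Cfsg.Agent.S0120.result (p := 3) (by norm_num) hD3 _ ?_ ?_
      · have h5 : orderOf (Lib.CoprimeHyperplane.conjHom hAD ⟨x, hx⟩) ∣ 2 := by
          apply orderOf_dvd_of_pow_eq_one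
          rw [← map_pow]
          have : (⟨x, hx⟩ : A) ^ 2 = 1 := Subtype.ext (hAel.2 x hx)
          rw [this, map_one]
        exact Nat.Coprime.coprime_dvd_left h5 (by norm_num)
      · intro z hz
        have hz3 : (z : G) ^ 3 = 1 := congrArg Subtype.val hz
        have hzw : (z : G) ∈ zpowers w := by
          refine mem_zpowers_of_commute ht hw hz3 ?_ hB2 hB1 ?_ ?_
          · exact ((mem_centralizer_iff.mp (hRw z.2.1)) w rfl).symm
          · refine centralizer_le_normalizer _ ?_
            rw [mem_centralizer_iff]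
            intro y hy
            exact (mem_centralizer_iff.mp (hAw (hBA hy)) w rfl).symm
          · exact centralizer_le_normalizer _ z.2.2
        apply Subtype.ext
        rw [Lib.CoprimeHyperplane.conjHom_apply]
        change x * (z : G) * x⁻¹ = z
        obtain ⟨n, hn⟩ := hzw
        have hxw : Commute x w := ((mem_centralizer_iff.mp (hAw hx)) w rfl).symm
        have h6 : x * (z : G) = z * x := by
          rw [← hn]
          exact hxw.zpow_right n
        rw [h6, mul_inv_cancel_right]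
    have h7 := congrArg (fun f : MulAut D => ((f ⟨y, hy⟩ : D) : G)) h4
    simp only [Lib.CoprimeHyperplane.conjHom_apply, MulAut.one_apply] at h7
    rw [mul_inv_eq_iff_eq_mul] at h7
    exact h7
  have h8 : A ≤ R := by
    intro x hx
    refine h.char_three' hw ⟨hAw hx, mem_centralizer_iff.mpr fun y hy => ?_⟩
    exact (mem_centralizer_iff.mp (hkey hy) x hx).symm
  have h9 : A ⊓ R = ⊥ := (IsPGroup.disjoint_of_ne 2 3 (by norm_num) A R hA2 hR3).eq_bot
  rw [inf_eq_left.mpr h8] at h9
  exact hA1 h9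

end Cfsg.Agent.SmallSimple.S1000.ThinBasic
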