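import Mathlib

/-!
# A group inducing all of `GL₃(2)` on an elementary abelian group of order 8

`V` is elementary abelian of order 8, `H` normalises `V`, `C_H(V) = Q` and `|H : Q| = 168`.  Then `H` is
transitive on the bases of `V` (`Plane.exists_conj`).  A `Frame` consists of a basis of `V` and elements of
`H` inducing the standard root elements and reflections.
-/

set_option autoImplicit false

namespace Cfsg.Agent.SmallSimple.S1000.ThinPlane

open Subgroup

variable {G : Type*} [Group G]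

/-- `a`, `b`, `c` is a basis of `V` (when `V` is elementary abelian of order 8). -/
structure Bas (V : Subgroup G) (a b c : G) : Prop where
  aV : a ∈ V
  bV : b ∈ V
  cV : c ∈ V
  a1 : a ≠ 1
  b1 : b ≠ 1
  ba : b ≠ a
  c1 : c ≠ 1
  ca : c ≠ a
  cb : c ≠ b
  cab : c ≠ a * b

structure Plane (H Q V : Subgroup G) : Prop where
  QH : Q ≤ H
  HV : H ≤ normalizer (V : Set G)
  card_V : Nat.card V = 8
  sq : ∀ v ∈ V, v * v = 1
  QV : Q ≤ centralizer (V : Set G)
  cent : H ⊓ centralizer (V : Set G) ≤ Q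
  card_H : Nat.card H = 168 * Nat.card Q

theorem comm_of_sq {V : Subgroup G} (h : ∀ v ∈ V, v * v = 1) {a b : G} (ha : a ∈ V) (hb : b ∈ V) :
    a * b = b * a := by
  have h1 := h _ (V.mul_mem ha hb)
  have h2 := h a ha
  have h3 := h b hb
  have h1' := inv_eq_of_mul_eq_one_right h1
  have h2' := inv_eq_of_mul_eq_one_right h2
  have h3' := inv_eq_of_mul_eq_one_right h3
  rw [← h1', mul_inv_rev, h2', h3']

theorem conj_mem {H V : Subgroup G} (hV : H ≤ normalizer (V : Set G)) {g v : G} (hg : g ∈ H)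
    (hv : v ∈ V) : g * v * g⁻¹ ∈ V := (mem_normalizer_iff.mp (hV hg) v).mp hv

/-- The elements of `V`. -/
theorem Bas.cases {V : Subgroup G} (hV : Nat.card V = 8) (hsq : ∀ v ∈ V, v * v = 1) {a b c : G}
    (h : Bas V a b c) {v : G} (hv : v ∈ V) :
    v = 1 ∨ v = a ∨ v = b ∨ v = a * b ∨ v = c ∨ v = c * a ∨ v = c * b ∨ v = c * (a * b) := by
  classical
  have hfin : Finite V := Nat.finite_of_card_ne_zero (by rw [hV]; norm_num)
  have := Fintype.ofFinite V
  have hcard : Fintype.card V = 8 := by rw [← Nat.card_eq_fintype_card, hV]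
  obtain ⟨haV, hbV, hcV, ha1, hb1, hba, hc1, hca, hcb, hcab⟩ := h
  set A : V := ⟨a, haV⟩ with hA
  set B : V := ⟨b, hbV⟩ with hB
  set C : V := ⟨c, hcV⟩ with hC
  have sq : ∀ x : V, x * x = 1 := fun x => Subtype.ext (hsq x x.2)
  have cm : ∀ x y : V, x * y = y * x := fun x y => Subtype.ext (comm_of_sq hsq x.2 y.2)
  have hA1 : A ≠ 1 := fun h => ha1 (congrArg Subtype.val h)
  have hB1 : B ≠ 1 := fun h => hb1 (congrArg Subtype.val h)
  have hBA : B ≠ A := fun h => hba (congrArg Subtype.val h)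
  have hC1 : C ≠ 1 := fun h => hc1 (congrArg Subtype.val h)
  have hCA : C ≠ A := fun h => hca (congrArg Subtype.val h)
  have hCB : C ≠ B := fun h => hcb (congrArg Subtype.val h)
  have hCAB : C ≠ A * B := fun h => hcab (congrArg Subtype.val h)
  have hAB1 : A * B ≠ 1 := fun h => hBA (by
    calc B = (A * A) * B := by rw [sq, one_mul]
      _ = A * (A * B) := by rw [mul_assoc]
      _ = A := by rw [h, mul_one])
  let W : Finset V := {1, A, B, A * B}
  have hWmem : ∀ x, x ∈ W ↔ x = 1 ∨ x = A ∨ x = B ∨ x = A * B := by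
    intro x; simp [W]
  have hW4 : W.card = 4 := by
    rw [Finset.card_insert_of_notMem, Finset.card_insert_of_notMem, Finset.card_insert_of_notMem,
      Finset.card_singleton]
    · simp only [Finset.mem_singleton]
      intro h
      exact hA1 (mul_right_cancel (b := B) (by rw [one_mul]; exact h.symm))
    · simp only [Finset.mem_insert, Finset.mem_singleton, not_or]
      refine ⟨hBA.symm, fun h => hB1 (mul_left_cancel (a := A) (by rw [mul_one]; exact h.symm))⟩
    · simp only [Finset.mem_insert, Finset.mem_singleton, not_or]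
      exact ⟨hA1.symm, hB1.symm, hAB1.symm⟩
  have hWmul : ∀ x ∈ W, ∀ y ∈ W, x * y ∈ W := by
    intro x hx y hy
    rw [hWmem] at hx hy ⊢
    rcases hx with rfl | rfl | rfl | rfl <;> rcases hy with rfl | rfl | rfl | rfl
    · simp
    · simp
    · simp
    · simp
    · simp
    · simp [sq]
    · simp
    · right; right; left; rw [← mul_assoc, sq, one_mul]
    · simp
    · right; right; right; exact cm _ _
    · simp [sq]
    · right; left; rw [cm A B, ← mul_assoc, sq, one_mul]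
    · simp
    · right; right; left; rw [cm A B, mul_assoc, sq, mul_one]
    · right; left; rw [mul_assoc, sq, mul_one]
    · left; exact sq _
  have hCW : C ∉ W := by
    rw [hWmem]
    rintro (h | h | h | h)
    · exact hC1 h
    · exact hCA h
    · exact hCB h
    · exact hCAB h
  have hdisj : Disjoint W (W.image (fun x => C * x)) := by
    rw [Finset.disjoint_left]
    intro x hx hx'
    obtain ⟨y, hy, rfl⟩ := Finset.mem_image.mp hx'
    apply hCW
    have := hWmul _ hx _ hy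
    rwa [mul_assoc, sq, mul_one] at this
  have huniv : W ∪ W.image (fun x => C * x) = Finset.univ := by
    apply Finset.eq_univ_of_card
    rw [Finset.card_union_of_disjoint hdisj, Finset.card_image_of_injective _ (mul_right_injective C),
      hW4, hcard]
  have hmem : (⟨v, hv⟩ : V) ∈ W ∪ W.image (fun x => C * x) := by
    rw [huniv]; exact Finset.mem_univ _
  rw [Finset.mem_union, Finset.mem_image] at hmem
  rcases hmem with h | ⟨y, hy, h⟩
  · rcases (hWmem _).mp h with h | h | h | h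
    · exact Or.inl (congrArg Subtype.val h)
    · exact Or.inr (Or.inl (congrArg Subtype.val h))
    · exact Or.inr (Or.inr (Or.inl (congrArg Subtype.val h)))
    · exact Or.inr (Or.inr (Or.inr (Or.inl (congrArg Subtype.val h))))
  · have hvy : v = c * (y : G) := (congrArg Subtype.val h).symm
    rcases (hWmem _).mp hy with h | h | h | h
    · right; right; right; right; left
      rw [hvy, h]; exact mul_one c
    · right; right; right; right; right; left
      rw [hvy, h]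
    · right; right; right; right; right; right; left
      rw [hvy, h]
    · right; right; right; right; right; right; right
      rw [hvy, h]; rfl

/-- Every nontrivial element of `V` is part of a basis. -/
theorem exists_bas {V : Subgroup G} (hV : Nat.card V = 8) (hsq : ∀ v ∈ V, v * v = 1) {a : G}
    (ha : a ∈ V) (ha1 : a ≠ 1) : ∃ b c : G, Bas V a b c := by
  classical
  have hfin : Finite V := Nat.finite_of_card_ne_zero (by rw [hV]; norm_num)
  have := Fintype.ofFinite V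
  have hcard : Fintype.card V = 8 := by rw [← Nat.card_eq_fintype_card, hV]
  have hex : ∀ S : Finset V, S.card < 8 → ∃ y : V, y ∉ S := by
    intro S hS
    by_contra hcon
    push Not at hcon
    have : S = Finset.univ := Finset.eq_univ_iff_forall.mpr hcon
    rw [this, Finset.card_univ, hcard] at hS
    omega
  obtain ⟨b, hb⟩ := hex {1, ⟨a, ha⟩} (lt_of_le_of_lt (Finset.card_le_two) (by norm_num))
  obtain ⟨c, hc⟩ := hex {1, ⟨a, ha⟩, b, ⟨a, ha⟩ * b}
    (lt_of_le_of_lt (Finset.card_le_four) (by norm_num))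
  simp only [Finset.mem_insert, Finset.mem_singleton, not_or] at hb hc
  refine ⟨b, c, ha, b.2, c.2, ha1, fun h => hb.1 (Subtype.ext h), fun h => hb.2 (Subtype.ext h),
    fun h => hc.1 (Subtype.ext h), fun h => hc.2.1 (Subtype.ext h), fun h => hc.2.2.1 (Subtype.ext h),
    fun h => hc.2.2.2 (Subtype.ext h)⟩

/-- There are at most 168 bases. -/
theorem card_bas_le {V : Subgroup G} (hV : Nat.card V = 8) (hsq : ∀ v ∈ V, v * v = 1) :
    Nat.card {p : V × V × V // Bas V (p.1 : G) p.2.1 p.2.2} ≤ 168 := by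
  classical
  have hfin : Finite V := Nat.finite_of_card_ne_zero (by rw [hV]; norm_num)
  have := Fintype.ofFinite V
  have hcard : Fintype.card V = 8 := by rw [← Nat.card_eq_fintype_card, hV]
  let S : Type _ := Σ a : {a : V // a ≠ 1}, Σ b : {b : V // b ≠ 1 ∧ b ≠ a},
    {c : V // c ≠ 1 ∧ c ≠ a ∧ c ≠ b ∧ c ≠ a * b}
  let f : {p : V × V × V // Bas V (p.1 : G) p.2.1 p.2.2} → S := fun p =>
    ⟨⟨p.1.1, fun h => p.2.a1 (congrArg Subtype.val h)⟩,
     ⟨p.1.2.1, fun h => p.2.b1 (congrArg Subtype.val h), fun h => p.2.ba (congrArg Subtype.val h)⟩,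
     ⟨p.1.2.2, fun h => p.2.c1 (congrArg Subtype.val h), fun h => p.2.ca (congrArg Subtype.val h),
      fun h => p.2.cb (congrArg Subtype.val h), fun h => p.2.cab (congrArg Subtype.val h)⟩⟩
  let g : S → V × V × V := fun s => (s.1.1, s.2.1.1, s.2.2.1)
  have hf : Function.Injective f := by
    intro p q h
    have := congrArg g h
    exact Subtype.ext this
  refine (Nat.card_le_card_of_injective f hf).trans ?_
  rw [Nat.card_eq_fintype_card, Fintype.card_sigma]
  have h3 : ∀ a : {a : V // a ≠ 1}, ∀ b : {b : V // b ≠ 1 ∧ b ≠ a},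
      Fintype.card {c : V // c ≠ 1 ∧ c ≠ a ∧ c ≠ b ∧ c ≠ a * b} ≤ 4 := by
    intro a b
    rw [Fintype.card_subtype]
    have h4 : (Finset.univ.filter (fun c : V => c ≠ 1 ∧ c ≠ a ∧ c ≠ b ∧ c ≠ a * b)) ⊆
        Finset.univ \ ({1, a.1, b.1, a.1 * b.1} : Finset V) := by
      intro c hc
      simp only [Finset.mem_filter, Finset.mem_univ, true_and] at hc
      simp only [Finset.mem_sdiff, Finset.mem_univ, true_and, Finset.mem_insert,
        Finset.mem_singleton, not_or]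
      exact hc
    refine (Finset.card_le_card h4).trans ?_
    rw [Finset.card_sdiff_of_subset (Finset.subset_univ _), Finset.card_univ, hcard]
    have : ({1, a.1, b.1, a.1 * b.1} : Finset V).card = 4 := by
      have sq : ∀ x : V, x * x = 1 := fun x => Subtype.ext (hsq x x.2)
      rw [Finset.card_insert_of_notMem, Finset.card_insert_of_notMem, Finset.card_insert_of_notMem,
        Finset.card_singleton]
      · simp only [Finset.mem_singleton]
        intro h
        exact a.2 (mul_right_cancel (b := b.1) (by rw [one_mul]; exact h.symm))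
      · simp only [Finset.mem_insert, Finset.mem_singleton, not_or]
        refine ⟨b.2.2.symm, fun h => b.2.1 (mul_left_cancel (a := a.1) (by rw [mul_one]; exact h.symm))⟩
      · simp only [Finset.mem_insert, Finset.mem_singleton, not_or]
        refine ⟨a.2.symm, b.2.1.symm, fun h => b.2.2 ?_⟩
        calc b.1 = (a.1 * a.1) * b.1 := by rw [sq, one_mul]
          _ = a.1 * (a.1 * b.1) := by rw [mul_assoc]
          _ = a.1 := by rw [← h, mul_one]
    omega
  have h2 : ∀ a : {a : V // a ≠ 1},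
      Fintype.card (Σ b : {b : V // b ≠ 1 ∧ b ≠ a}, {c : V // c ≠ 1 ∧ c ≠ a ∧ c ≠ b ∧ c ≠ a * b})
        ≤ 24 := by
    intro a
    rw [Fintype.card_sigma]
    refine (Finset.sum_le_card_nsmul _ _ 4 fun b _ => h3 a b).trans ?_
    have h5 : Fintype.card {b : V // b ≠ 1 ∧ b ≠ a} ≤ 6 := by
      rw [Fintype.card_subtype]
      have h4 : (Finset.univ.filter (fun c : V => c ≠ 1 ∧ c ≠ a)) ⊆
          Finset.univ \ ({1, a.1} : Finset V) := by
        intro c hc
        simp only [Finset.mem_filter, Finset.mem_univ, true_and] at hc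
        simp only [Finset.mem_sdiff, Finset.mem_univ, true_and, Finset.mem_insert,
          Finset.mem_singleton, not_or]
        exact hc
      refine (Finset.card_le_card h4).trans ?_
      rw [Finset.card_sdiff_of_subset (Finset.subset_univ _), Finset.card_univ, hcard]
      have : ({1, a.1} : Finset V).card = 2 := Finset.card_pair a.2.symm
      omega
    rw [Finset.card_univ, smul_eq_mul]
    omega
  refine (Finset.sum_le_card_nsmul _ _ 24 fun a _ => h2 a).trans ?_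
  have h5 : Fintype.card {a : V // a ≠ 1} ≤ 7 := by
    rw [Fintype.card_subtype]
    have h4 : (Finset.univ.filter (fun c : V => c ≠ 1)) ⊆ Finset.univ \ ({1} : Finset V) := by
      intro c hc
      simp only [Finset.mem_filter, Finset.mem_univ, true_and] at hc
      simp only [Finset.mem_sdiff, Finset.mem_univ, true_and, Finset.mem_singleton]
      exact hc
    refine (Finset.card_le_card h4).trans ?_
    rw [Finset.card_sdiff_of_subset (Finset.subset_univ _), Finset.card_univ, hcard,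
      Finset.card_singleton]
  rw [Finset.card_univ, smul_eq_mul]
  omega

namespace Plane

variable {H Q V : Subgroup G}

/-- An element of `H` centralising a basis lies in `Q`. -/
theorem mem_Q (h : Plane H Q V) {a b c : G} (hb : Bas V a b c) {g : G} (hg : g ∈ H)
    (ha' : g * a * g⁻¹ = a) (hb' : g * b * g⁻¹ = b) (hc' : g * c * g⁻¹ = c) : g ∈ Q := by
  refine h.cent ⟨hg, mem_centralizer_iff.mpr fun v hv => ?_⟩
  have h1 : ∀ y : G, g * y * g⁻¹ = y → y ∈ centralizer ({g} : Set G) := fun y hy => by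
    rw [mem_centralizer_singleton_iff]
    calc y * g = (g * y * g⁻¹) * g := by rw [hy]
      _ = g * y := by group
  have h2 : v ∈ centralizer ({g} : Set G) := by
    have ha := h1 a ha'
    have hb := h1 b hb'
    have hc := h1 c hc'
    rcases Bas.cases h.card_V h.sq ‹_› hv with rfl | rfl | rfl | rfl | rfl | rfl | rfl | rfl
    · exact one_mem _
    · exact ha
    · exact hb
    · exact mul_mem ha hb
    · exact hc
    · exact mul_mem hc ha
    · exact mul_mem hc hb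
    · exact mul_mem hc (mul_mem ha hb)
  exact mem_centralizer_singleton_iff.mp h2

/-- `H` is transitive on the bases of `V`. -/
theorem exists_conj [Finite G] (h : Plane H Q V) {a b c a' b' c' : G} (hb : Bas V a b c)
    (hb' : Bas V a' b' c') :
    ∃ g ∈ H, g * a * g⁻¹ = a' ∧ g * b * g⁻¹ = b' ∧ g * c * g⁻¹ = c' := by
  classical
  have hinj : ∀ g x y : G, g * x * g⁻¹ = g * y * g⁻¹ → x = y := fun g x y hxy => by
    have := congrArg (fun z => g⁻¹ * z * g) hxy
    simpa [mul_assoc] using this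
  have hbas : ∀ g ∈ H, Bas V (g * a * g⁻¹) (g * b * g⁻¹) (g * c * g⁻¹) := by
    intro g hg
    refine ⟨conj_mem h.HV hg hb.aV, conj_mem h.HV hg hb.bV, conj_mem h.HV hg hb.cV, ?_, ?_, ?_, ?_, ?_,
      ?_, ?_⟩
    · exact fun h' => hb.a1 (hinj g _ _ (by rw [h']; group))
    · exact fun h' => hb.b1 (hinj g _ _ (by rw [h']; group))
    · exact fun h' => hb.ba (hinj g _ _ h')
    · exact fun h' => hb.c1 (hinj g _ _ (by rw [h']; group))
    · exact fun h' => hb.ca (hinj g _ _ h')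
    · exact fun h' => hb.cb (hinj g _ _ h')
    · exact fun h' => hb.cab (hinj g _ _ (by rw [h']; group))
  let T := {p : V × V × V // Bas V (p.1 : G) p.2.1 p.2.2}
  let F : H ⧸ Q.subgroupOf H → T := fun q =>
    ⟨(⟨_, (hbas q.out q.out.2).aV⟩, ⟨_, (hbas q.out q.out.2).bV⟩, ⟨_, (hbas q.out q.out.2).cV⟩),
      hbas q.out q.out.2⟩
  have hF : Function.Injective F := by
    intro q q' hqq
    have e1 : (q.out : G) * a * (q.out : G)⁻¹ = q'.out * a * (q'.out : G)⁻¹ :=
      congrArg (fun t : T => (t.1.1 : G)) hqq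
    have e2 : (q.out : G) * b * (q.out : G)⁻¹ = q'.out * b * (q'.out : G)⁻¹ :=
      congrArg (fun t : T => (t.1.2.1 : G)) hqq
    have e3 : (q.out : G) * c * (q.out : G)⁻¹ = q'.out * c * (q'.out : G)⁻¹ :=
      congrArg (fun t : T => (t.1.2.2 : G)) hqq
    have key : ∀ y : G, (q.out : G) * y * (q.out : G)⁻¹ = q'.out * y * (q'.out : G)⁻¹ →
        ((q.out : G)⁻¹ * q'.out) * y * ((q.out : G)⁻¹ * q'.out)⁻¹ = y := fun y hy => by
      calc ((q.out : G)⁻¹ * q'.out) * y * ((q.out : G)⁻¹ * q'.out)⁻¹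
          = (q.out : G)⁻¹ * (q'.out * y * (q'.out : G)⁻¹) * q.out := by group
        _ = y := by rw [← hy]; group
    have h1 : (q.out : G)⁻¹ * q'.out ∈ Q :=
      h.mem_Q hb (H.mul_mem (H.inv_mem q.out.2) q'.out.2) (key a e1) (key b e2) (key c e3)
    rw [← Quotient.out_eq' q, ← Quotient.out_eq' q']
    refine QuotientGroup.eq.mpr ?_
    exact h1
  have hcardq : Nat.card (H ⧸ Q.subgroupOf H) = 168 := by
    have h1 : Nat.card (Q.subgroupOf H) = Nat.card Q :=
      Nat.card_congr (subgroupOfEquivOfLe h.QH).toEquiv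
    have h2 := Subgroup.card_mul_index (Q.subgroupOf H)
    rw [h1, h.card_H, mul_comm] at h2
    exact Nat.eq_of_mul_eq_mul_right Nat.card_pos h2
  have hT : Nat.card T ≤ 168 := card_bas_le h.card_V h.sq
  have hbij : Function.Bijective F := hF.bijective_of_nat_card_le (by rw [hcardq]; exact hT)
  obtain ⟨q, hq⟩ := hbij.2 ⟨(⟨a', hb'.aV⟩, ⟨b', hb'.bV⟩, ⟨c', hb'.cV⟩), hb'⟩
  exact ⟨q.out, q.out.2, congrArg (fun t : T => (t.1.1 : G)) hq,
    congrArg (fun t : T => (t.1.2.1 : G)) hq, congrArg (fun t : T => (t.1.2.2 : G)) hq⟩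

end Plane

/-- A basis `e₁`, `e₂`, `e₃` of `V` and elements of `H` inducing the standard root elements
`x₁`, `x₂`, `x₃` and reflections `s₁`, `s₂`. -/
structure Frame (H V : Subgroup G) (e₁ e₂ e₃ x₁ x₂ x₃ s₁ s₂ : G) : Prop where
  bas : Bas V e₁ e₂ e₃
  x₁H : x₁ ∈ H
  x₂H : x₂ ∈ H
  x₃H : x₃ ∈ H
  s₁H : s₁ ∈ H
  s₂H : s₂ ∈ H
  x11 : x₁ * e₁ * x₁⁻¹ = e₁
  x12 : x₁ * e₂ * x₁⁻¹ = e₁ * e₂
  x13 : x₁ * e₃ * x₁⁻¹ = e₃
  x21 : x₂ * e₁ * x₂⁻¹ = e₁
  x22 : x₂ * e₂ * x₂⁻¹ = e₂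
  x23 : x₂ * e₃ * x₂⁻¹ = e₂ * e₃
  x31 : x₃ * e₁ * x₃⁻¹ = e₁
  x32 : x₃ * e₂ * x₃⁻¹ = e₂
  x33 : x₃ * e₃ * x₃⁻¹ = e₁ * e₃
  s11 : s₁ * e₁ * s₁⁻¹ = e₂
  s12 : s₁ * e₂ * s₁⁻¹ = e₁
  s13 : s₁ * e₃ * s₁⁻¹ = e₃
  s21 : s₂ * e₁ * s₂⁻¹ = e₁
  s22 : s₂ * e₂ * s₂⁻¹ = e₃
  s23 : s₂ * e₃ * s₂⁻¹ = e₂

/-- Conjugation. -/
def cj (g v : G) : G := g * v * g⁻¹

theorem cj_def (g v : G) : cj g v = g * v * g⁻¹ := rfl

theorem cj_mul (g h v : G) : cj (g * h) v = cj g (cj h v) := by
  simp only [cj]; group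

theorem cj_map (g a b : G) : cj g (a * b) = cj g a * cj g b := by
  simp only [cj]; group

theorem cj_one (g : G) : cj g 1 = 1 := by simp [cj]

theorem one_cj (v : G) : cj 1 v = v := by simp [cj]

theorem mul_ne {V : Subgroup G} (hsq : ∀ v ∈ V, v * v = 1) {a b : G} (ha : a ∈ V) (hab : b ≠ a) :
    a * b ≠ 1 := fun h => hab (by
  calc b = (a * a) * b := by rw [hsq a ha, one_mul]
    _ = a * (a * b) := by rw [mul_assoc]
    _ = a := by rw [h, mul_one])

namespace Plane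

variable {H Q V : Subgroup G}

/-- Frames exist over every basis. -/
theorem exists_frame [Finite G] (h : Plane H Q V) {e₁ e₂ e₃ : G} (hb : Bas V e₁ e₂ e₃) :
    ∃ x₁ x₂ x₃ s₁ s₂ : G, Frame H V e₁ e₂ e₃ x₁ x₂ x₃ s₁ s₂ := by
  obtain ⟨h1, h2, h3, a1, b1, ba, c1, ca, cb, cab⟩ := id hb
  have sq := h.sq
  have cm : ∀ a ∈ V, ∀ b ∈ V, a * b = b * a := fun a ha b hb => comm_of_sq h.sq ha hb
  have cancel : ∀ a ∈ V, ∀ b, a * (a * b) = b := fun a ha b => by rw [← mul_assoc, sq a ha, one_mul]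
  have n12 : e₁ * e₂ ≠ 1 := mul_ne sq h1 ba
  have n23 : e₂ * e₃ ≠ 1 := mul_ne sq h2 cb
  have n13 : e₁ * e₃ ≠ 1 := mul_ne sq h1 ca
  have c12 := cm _ h1 _ h2
  have c13 := cm _ h1 _ h3
  have c23 := cm _ h2 _ h3
  -- x₁
  obtain ⟨x₁, hx₁, p1, p2, p3⟩ := h.exists_conj hb (a' := e₁) (b' := e₁ * e₂) (c' := e₃)
    ⟨h1, V.mul_mem h1 h2, h3, a1, n12, fun h => b1 (mul_left_cancel (a := e₁) (by rw [mul_one]; exact h)),
      c1, ca, cab, by rw [cancel _ h1]; exact cb⟩
  obtain ⟨x₂, hx₂, q1, q2, q3⟩ := h.exists_conj hb (a' := e₁) (b' := e₂) (c' := e₂ * e₃)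
    ⟨h1, h2, V.mul_mem h2 h3, a1, b1, ba, n23,
      fun h => cab (by rw [← h, mul_assoc, ← c23, cancel _ h2]),
      fun h => c1 (mul_left_cancel (a := e₂) (by rw [mul_one]; exact h)),
      fun h => ca (mul_left_cancel (a := e₂) (by rw [h, c12]))⟩
  obtain ⟨x₃, hx₃, r1, r2, r3⟩ := h.exists_conj hb (a' := e₁) (b' := e₂) (c' := e₁ * e₃)
    ⟨h1, h2, V.mul_mem h1 h3, a1, b1, ba, n13,
      fun h => c1 (mul_left_cancel (a := e₁) (by rw [mul_one]; exact h)),
      fun h => cab (by rw [← h, cancel _ h1]),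
      fun h => cb (mul_left_cancel (a := e₁) h)⟩
  obtain ⟨s₁, hs₁, t1, t2, t3⟩ := h.exists_conj hb (a' := e₂) (b' := e₁) (c' := e₃)
    ⟨h2, h1, h3, b1, a1, ba.symm, c1, cb, ca, by rw [← c12]; exact cab⟩
  obtain ⟨s₂, hs₂, u1, u2, u3⟩ := h.exists_conj hb (a' := e₁) (b' := e₃) (c' := e₂)
    ⟨h1, h3, h2, a1, c1, ca, b1, ba, cb.symm, fun h => cab (by rw [h, cancel _ h1])⟩
  exact ⟨x₁, x₂, x₃, s₁, s₂, hb, hx₁, hx₂, hx₃, hs₁, hs₂, p1, p2, p3, q1, q2, q3, r1, r2, r3,
    t1, t2, t3, u1, u2, u3⟩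

/-- Two elements of `H` acting in the same way on a basis are congruent modulo `Q`. -/
theorem inv_mul_mem (h : Plane H Q V) {a b c : G} (hb : Bas V a b c) {g g' : G} (hg : g ∈ H)
    (hg' : g' ∈ H) (ha : cj g a = cj g' a) (hb' : cj g b = cj g' b) (hc : cj g c = cj g' c) :
    g⁻¹ * g' ∈ Q := by
  have key : ∀ y : G, cj g y = cj g' y → (g⁻¹ * g') * y * (g⁻¹ * g')⁻¹ = y := fun y hy => by
    simp only [cj] at hy
    calc (g⁻¹ * g') * y * (g⁻¹ * g')⁻¹ = g⁻¹ * (g' * y * g'⁻¹) * g := by group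
      _ = y := by rw [← hy]; group
  exact h.mem_Q hb (H.mul_mem (H.inv_mem hg) hg') (key a ha) (key b hb') (key c hc)

end Plane

namespace Frame

variable {H Q V : Subgroup G} {e₁ e₂ e₃ x₁ x₂ x₃ s₁ s₂ : G}

/-- The relations of `L₃(2)` modulo `Q`. -/
structure RelMod (Q : Subgroup G) (x₁ x₂ x₃ s₁ s₂ : G) : Prop where
  x1 : (x₁ * x₁)⁻¹ * 1 ∈ Q
  x2 : (x₂ * x₂)⁻¹ * 1 ∈ Q
  x3 : (x₃ * x₃)⁻¹ * 1 ∈ Q
  s1 : (s₁ * s₁)⁻¹ * 1 ∈ Q
  s2 : (s₂ * s₂)⁻¹ * 1 ∈ Q
  x12 : (x₁ * x₂)⁻¹ * (x₂ * x₁ * x₃) ∈ Q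
  x13 : (x₁ * x₃)⁻¹ * (x₃ * x₁) ∈ Q
  x23 : (x₂ * x₃)⁻¹ * (x₃ * x₂) ∈ Q
  sx1 : (s₁ * x₂)⁻¹ * (x₃ * s₁) ∈ Q
  sx1' : (x₂ * s₁)⁻¹ * (s₁ * x₃) ∈ Q
  sx2 : (s₂ * x₁)⁻¹ * (x₃ * s₂) ∈ Q
  br1 : (s₁ * x₁ * s₁)⁻¹ * (x₁ * s₁ * x₁) ∈ Q
  br2 : (s₂ * x₂ * s₂)⁻¹ * (x₂ * s₂ * x₂) ∈ Q

theorem relMod (h : Plane H Q V) (f : Frame H V e₁ e₂ e₃ x₁ x₂ x₃ s₁ s₂) :
    RelMod Q x₁ x₂ x₃ s₁ s₂ := by
  have hb := f.bas
  have sq := h.sq
  have c21 := comm_of_sq sq hb.bV hb.aV
  have c31 := comm_of_sq sq hb.cV hb.aV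
  have c32 := comm_of_sq sq hb.cV hb.bV
  have q1 := sq _ hb.aV
  have q2 := sq _ hb.bV
  have q3 := sq _ hb.cV
  have d21 : ∀ y, e₂ * (e₁ * y) = e₁ * (e₂ * y) := fun y => by rw [← mul_assoc, c21, mul_assoc]
  have d31 : ∀ y, e₃ * (e₁ * y) = e₁ * (e₃ * y) := fun y => by rw [← mul_assoc, c31, mul_assoc]
  have d32 : ∀ y, e₃ * (e₂ * y) = e₂ * (e₃ * y) := fun y => by rw [← mul_assoc, c32, mul_assoc]
  have r1 : ∀ y, e₁ * (e₁ * y) = y := fun y => by rw [← mul_assoc, q1, one_mul]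
  have r2 : ∀ y, e₂ * (e₂ * y) = y := fun y => by rw [← mul_assoc, q2, one_mul]
  have r3 : ∀ y, e₃ * (e₃ * y) = y := fun y => by rw [← mul_assoc, q3, one_mul]
  have x11 : cj x₁ e₁ = _ := f.x11
  have x12 : cj x₁ e₂ = _ := f.x12
  have x13 : cj x₁ e₃ = _ := f.x13
  have x21 : cj x₂ e₁ = _ := f.x21
  have x22 : cj x₂ e₂ = _ := f.x22
  have x23 : cj x₂ e₃ = _ := f.x23
  have x31 : cj x₃ e₁ = _ := f.x31
  have x32 : cj x₃ e₂ = _ := f.x32
  have x33 : cj x₃ e₃ = _ := f.x33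
  have s11 : cj s₁ e₁ = _ := f.s11
  have s12 : cj s₁ e₂ = _ := f.s12
  have s13 : cj s₁ e₃ = _ := f.s13
  have s21 : cj s₂ e₁ = _ := f.s21
  have s22 : cj s₂ e₂ = _ := f.s22
  have s23 : cj s₂ e₃ = _ := f.s23
  have X1 := f.x₁H
  have X2 := f.x₂H
  have X3 := f.x₃H
  have S1 := f.s₁H
  have S2 := f.s₂H
  constructor
  all_goals
    refine h.inv_mul_mem hb ?_ ?_ ?_ ?_ ?_
    · first | exact H.mul_mem (H.mul_mem ‹_› ‹_›) ‹_› | exact H.mul_mem ‹_› ‹_›
    · first | exact H.one_mem | exact H.mul_mem (H.mul_mem ‹_› ‹_›) ‹_› | exact H.mul_mem ‹_› ‹_›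
    all_goals
      simp only [cj_mul, cj_map, one_cj, cj_one, x11, x12, x13, x21, x22, x23, x31, x32, x33, s11, s12,
        s13, s21, s22, s23, mul_assoc, c21, c31, c32, d21, d31, d32, q1, q2, q3, r1, r2, r3, mul_one]

end Frame

end Cfsg.Agent.SmallSimple.S1000.ThinPlane
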