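import Mathlib
import Cfsg.Agent.S0016
import Cfsg.Agent.S1545
import Cfsg.Agent.OddOrderCharacters.Wielandt
import Cfsg.Agent.SmallSimple.S1000.ThinPlane

/-!
# 2-locals of type `L₃(2)` on `2^3` with elements of order 3 of 2-rank one: basic facts

`Thin H Q V x w`: `H` acts on `V = 2^3` as `GL₃(2)` with kernel `Q`, `x` has order 7 and acts without
fixed points on `Q`, `w` has order 3 and normalises `⟨x⟩`, and the centraliser of `w` in `Q` has at most one
involution.
-/

set_option autoImplicit false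

namespace Cfsg.Agent.SmallSimple.S1000.ThinCube

open Subgroup Cfsg.Agent.SmallSimple.S1000.ThinPlane

variable {G : Type*} [Group G]

structure Thin (H Q V : Subgroup G) (x w : G) : Prop where
  pl : Plane H Q V
  two : IsPGroup 2 Q
  HQ : H ≤ normalizer (Q : Set G)
  VQ : V ≤ Q
  xH : x ∈ H
  wH : w ∈ H
  x7 : orderOf x = 7
  w3 : orderOf w = 3
  wx : w * x * w⁻¹ ∈ zpowers x
  wxn : w * x ≠ x * w
  cx : ∀ q ∈ Q, x * q = q * x → q = 1
  rank : ∀ a ∈ Q, ∀ b ∈ Q, a * a = 1 → b * b = 1 → a ≠ 1 → b ≠ 1 → a * w = w * a → b * w = w * b →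
    a * b = b * a → a = b

theorem mem_centralizer_zpowers {g a : G} : a ∈ centralizer (zpowers g : Set G) ↔ a * g = g * a := by
  constructor
  · intro h
    exact (mem_centralizer_iff.mp h g (mem_zpowers g)).symm
  · intro h
    rw [mem_centralizer_iff]
    rintro _ ⟨k, rfl⟩
    have h1 : Commute a g := h
    exact (h1.zpow_right k).symm

/-- A 2-group with at most one involution, modulo a normal subgroup with elementary abelian quotient. -/
theorem index_le_four {R : Type*} [Group R] [Finite R] (hR : IsPGroup 2 R)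
    (hu : ∀ a b : R, a * a = 1 → b * b = 1 → a ≠ 1 → b ≠ 1 → a = b) (N : Subgroup R) [hN : N.Normal]
    (hsq : ∀ r : R, r * r ∈ N) : N.index ≤ 4 := by
  have h2 : Fact (Nat.Prime 2) := ⟨Nat.prime_two⟩
  have hcard2 : ∀ K : Subgroup R, Nat.card K = 2 → ∃ k ∈ K, k ≠ 1 ∧ k * k = 1 ∧ ∀ y ∈ K, y = 1 ∨ y = k := by
    intro K hK
    have hnt : Nontrivial K := Finite.one_lt_card_iff_nontrivial.mp (by rw [hK]; norm_num)
    obtain ⟨k, hk⟩ := exists_ne (1 : K)
    have hk2 : (k : R) * k = 1 := by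
      have := pow_card_eq_one' (x := k)
      rw [hK, pow_two] at this
      exact congrArg Subtype.val this
    refine ⟨k, k.2, fun h => hk (Subtype.ext h), hk2, fun y hy => ?_⟩
    by_contra hcon
    push Not at hcon
    have h3 : ({1, (k : R), y} : Set R) ⊆ (K : Set R) := by
      intro z hz
      rcases hz with rfl | rfl | rfl
      · exact K.one_mem
      · exact k.2
      · exact hy
    have h4 := Set.ncard_le_ncard h3 (Set.toFinite _)
    have h5 : (K : Set R).ncard = 2 := hK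
    have h6 : ({1, (k : R), y} : Set R).ncard = 3 := by
      rw [Set.ncard_eq_three]
      exact ⟨1, k, y, fun h => hk (Subtype.ext h.symm), hcon.1.symm, hcon.2.symm, rfl⟩
    omega
  have huniq : ∀ H K : Subgroup R, Nat.card H = 2 → Nat.card K = 2 → H = K := by
    intro H K hH hK
    obtain ⟨a, ha, ha1, ha2, haa⟩ := hcard2 H hH
    obtain ⟨b, hb, hb1, hb2, hbb⟩ := hcard2 K hK
    have hab := hu a b ha2 hb2 ha1 hb1
    ext y
    constructor
    · intro hy
      rcases haa y hy with rfl | rfl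
      · exact K.one_mem
      · rw [hab]; exact hb
    · intro hy
      rcases hbb y hy with rfl | rfl
      · exact H.one_mem
      · rw [← hab]; exact ha
  -- two generators
  obtain ⟨g, h, hgh⟩ : ∃ g h : R, ∀ r : R, ∃ i j : ℕ, r = h ^ j * g ^ i := by
    rcases Cfsg.Agent.S0016.result 2 hR huniq with hc | ⟨-, n, ⟨e⟩⟩
    · obtain ⟨g, hg⟩ := hc.exists_generator
      refine ⟨g, 1, fun r => ?_⟩
      obtain ⟨i, hi⟩ := (mem_powers_iff_mem_zpowers.mpr (hg r))
      exact ⟨i, 0, by rw [pow_zero, one_mul]; exact hi.symm⟩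
    · refine ⟨e.symm (QuaternionGroup.a 1), e.symm (QuaternionGroup.xa 0), fun r => ?_⟩
      have hne : NeZero (2 ^ n) := ⟨pow_ne_zero _ two_ne_zero⟩
      rcases hr : e r with i | i
      · refine ⟨i.val, 0, ?_⟩
        rw [pow_zero, one_mul, ← map_pow, QuaternionGroup.a_one_pow]
        rw [← e.symm_apply_apply r, hr]
        congr 2
        exact (ZMod.natCast_zmod_val i).symm
      · refine ⟨i.val, 1, ?_⟩
        rw [pow_one, ← map_pow, ← map_mul, QuaternionGroup.a_one_pow, QuaternionGroup.xa_mul_a, zero_add]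
        rw [← e.symm_apply_apply r, hr]
        congr 2
        exact (ZMod.natCast_zmod_val i).symm
  -- the quotient
  let π := QuotientGroup.mk' N
  have hπ : ∀ r, π r * π r = 1 := fun r => by
    rw [← map_mul]
    exact (QuotientGroup.eq_one_iff _).mpr (hsq r)
  have hpow : ∀ y : R ⧸ N, y * y = 1 → ∀ k : ℕ, y ^ k = y ^ (k % 2) := by
    intro y hy k
    conv_lhs => rw [← Nat.div_add_mod k 2]
    rw [pow_add, pow_mul, pow_two, hy, one_pow, one_mul]
  let F : Fin 2 × Fin 2 → R ⧸ N := fun p => π h ^ (p.2 : ℕ) * π g ^ (p.1 : ℕ)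
  have hF : Function.Surjective F := by
    intro y
    obtain ⟨r, rfl⟩ := QuotientGroup.mk'_surjective N y
    obtain ⟨i, j, rfl⟩ := hgh r
    refine ⟨(⟨i % 2, Nat.mod_lt _ (by norm_num)⟩, ⟨j % 2, Nat.mod_lt _ (by norm_num)⟩), ?_⟩
    show π h ^ (j % 2) * π g ^ (i % 2) = π (h ^ j * g ^ i)
    rw [map_mul, map_pow, map_pow, hpow _ (hπ h) j, hpow _ (hπ g) i]
  have h4 := Nat.card_le_card_of_surjective F hF
  have h5 : Nat.card (Fin 2 × Fin 2) = 4 := by
    rw [Nat.card_prod, Nat.card_eq_fintype_card, Fintype.card_fin]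
  rw [h5] at h4
  exact h4

/-- order of a product `HN` with `H` normalizing `N` -/
theorem card_sup_dvd (H N : Subgroup G) (h : H ≤ normalizer (N : Set G)) :
    Nat.card ↥(H ⊔ N) ∣ Nat.card H * Nat.card N := by
  let _ := Subgroup.normal_subgroupOf_of_le_normalizer h
  let _ := Subgroup.normal_subgroupOf_sup_of_le_normalizer h
  have e := (QuotientGroup.quotientInfEquivProdNormalizerQuotient H N h).toEquiv
  have h1 : (N.subgroupOf H).index = (N.subgroupOf (H ⊔ N)).index := Nat.card_congr e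
  have h2 := Subgroup.card_mul_index (N.subgroupOf (H ⊔ N))
  rw [Nat.card_congr (Subgroup.subgroupOfEquivOfLe (le_sup_right : N ≤ H ⊔ N)).toEquiv, ← h1] at h2
  rw [← h2, mul_comm]
  exact Nat.mul_dvd_mul (Subgroup.index_dvd_card _) dvd_rfl

theorem exists_mul_of_mem_sup {H K : Subgroup G} (hc : ∀ x ∈ H, ∀ y ∈ K, x * y = y * x) {x : G}
    (hx : x ∈ H ⊔ K) : ∃ h ∈ H, ∃ k ∈ K, x = h * k := by
  rw [sup_eq_closure] at hx
  induction hx using closure_induction with
  | mem x hx =>
    rcases hx with hx | hx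
    · exact ⟨x, hx, 1, K.one_mem, by group⟩
    · exact ⟨1, H.one_mem, x, hx, by group⟩
  | one => exact ⟨1, H.one_mem, 1, K.one_mem, by group⟩
  | mul x y _ _ hx hy =>
    obtain ⟨h, hh, k, hk, rfl⟩ := hx
    obtain ⟨h', hh', k', hk', rfl⟩ := hy
    refine ⟨h * h', H.mul_mem hh hh', k * k', K.mul_mem hk hk', ?_⟩
    calc h * k * (h' * k') = h * (k * h') * k' := by group
      _ = h * (h' * k) * k' := by rw [hc h' hh' k hk]
      _ = h * h' * (k * k') := by group
  | inv x _ hx =>
    obtain ⟨h, hh, k, hk, rfl⟩ := hx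
    refine ⟨h⁻¹, H.inv_mem hh, k⁻¹, K.inv_mem hk, ?_⟩
    rw [hc h hh k hk]
    group

theorem zpowers_eq_of_prime [Finite G] {p : ℕ} (hp : p.Prime) {x u : G} (hx : orderOf x = p)
    (hu : u ∈ zpowers x) (hu1 : u ≠ 1) : zpowers u = zpowers x := by
  refine Subgroup.eq_of_le_of_card_ge (by rw [zpowers_le]; exact hu) ?_
  rw [Nat.card_zpowers, Nat.card_zpowers, hx]
  have h1 : orderOf u ∣ p := by
    rw [← hx]
    have := orderOf_dvd_natCard (⟨u, hu⟩ : zpowers x)
    rwa [orderOf_mk, Nat.card_zpowers] at this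
  rcases (Nat.dvd_prime hp).mp h1 with h2 | h2
  · exact absurd (orderOf_eq_one_iff.mp h2) hu1
  · exact h2.ge

namespace Thin

variable {H Q V : Subgroup G} {x w : G}

theorem QH (h : Thin H Q V x w) : Q ≤ H := h.pl.QH

theorem VH (h : Thin H Q V x w) : V ≤ H := h.VQ.trans h.QH

/-- The Frobenius group formula: `|B| = |C_B(w)|³` for all `⟨x, w⟩`-invariant subgroups `B` of `Q`. -/
theorem card_eq_cube [Finite G] (h : Thin H Q V x w) {B : Subgroup G} (hBQ : B ≤ Q)
    (hx : x ∈ normalizer (B : Set G)) (hw : w ∈ normalizer (B : Set G)) :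
    Nat.card B = Nat.card ↥(B ⊓ centralizer (zpowers w : Set G)) ^ 3 := by
  have h2 : Fact (Nat.Prime 2) := ⟨Nat.prime_two⟩
  have h7 : Nat.card (zpowers x) = 7 := by rw [Nat.card_zpowers, h.x7]
  have h3 : Nat.card (zpowers w) = 3 := by rw [Nat.card_zpowers, h.w3]
  have hwn : zpowers w ≤ normalizer (zpowers x : Set G) := by
    rw [zpowers_le]
    apply mem_normalizer_fintype
    rintro _ ⟨k, rfl⟩
    show w * x ^ k * w⁻¹ ∈ zpowers x
    rw [← conj_zpow]
    exact zpow_mem h.wx k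
  have hBn : zpowers x ⊔ zpowers w ≤ normalizer (B : Set G) :=
    sup_le (by rw [zpowers_le]; exact hx) (by rw [zpowers_le]; exact hw)
  have hcard : Nat.card ↥(zpowers x ⊔ zpowers w) ∣ 21 := by
    have := card_sup_dvd _ _ hwn
    rw [h3, h7, sup_comm] at this
    exact this
  have hcop : Nat.Coprime (Nat.card B) (Nat.card ↥(zpowers x ⊔ zpowers w)) := by
    obtain ⟨n, hn⟩ := (h.two.to_le hBQ).exists_card_eq
    rw [hn]
    exact Nat.Coprime.pow_left _ (Nat.Coprime.coprime_dvd_right hcard (by norm_num))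
  have hdisj : B ⊓ (zpowers x ⊔ zpowers w) = ⊥ :=
    (Subgroup.disjoint_of_coprime_natCard hcop).eq_bot
  have hsolv : Group.IsSolvable B := by
    have := (h.two.to_le hBQ).isNilpotent
    infer_instance
  have key := Cfsg.Agent.S1545.result (zpowers x) (zpowers w) B
    (fun hb => by
      have := Subgroup.card_bot (G := G)
      rw [← hb, h7] at this
      omega)
    (fun hb => by
      have := Subgroup.card_bot (G := G)
      rw [← hb, h3] at this
      omega)
    (Subgroup.disjoint_of_coprime_natCard (by rw [h7, h3]; norm_num)).eq_bot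
    (fun e he u hu => (mem_normalizer_iff.mp (hwn he) u).mp hu)
    (by
      intro e he he1 u hu heu
      by_contra hu1
      have h4 := zpowers_eq_of_prime (by norm_num) h.x7 hu hu1
      have h5 := zpowers_eq_of_prime (by norm_num) h.w3 he he1
      apply h.wxn
      have h6 : Commute e u := heu
      obtain ⟨i, hi⟩ : w ∈ zpowers e := h5 ▸ mem_zpowers w
      obtain ⟨j, hj⟩ : x ∈ zpowers u := h4 ▸ mem_zpowers x
      have h7 : Commute (e ^ i) (u ^ j) := (h6.zpow_left i).zpow_right j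
      have hi' : e ^ i = w := hi
      have hj' : u ^ j = x := hj
      rw [hi', hj'] at h7
      exact h7)
    (fun g hg b hb => (mem_normalizer_iff.mp (hBn hg) b).mp hb) hdisj hsolv hcop
  have hU : B ⊓ centralizer (zpowers x : Set G) = ⊥ := by
    rw [eq_bot_iff]
    rintro b ⟨hb, hbx⟩
    rw [mem_bot]
    exact h.cx b (hBQ hb) (mem_centralizer_zpowers.mp hbx).symm
  have hUE : B ⊓ centralizer ((zpowers x ⊔ zpowers w : Subgroup G) : Set G) = ⊥ := by
    rw [eq_bot_iff, ← hU]
    exact inf_le_inf_left _ (centralizer_le (SetLike.coe_subset_coe.2 le_sup_left))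
  rw [hU, hUE, Subgroup.card_bot, one_pow, one_mul, mul_one, h3] at key
  exact key

/-- Elementary abelian `⟨x, w⟩`-invariant subgroups of `Q` lie in `V`. -/
theorem le_V [Finite G] (h : Thin H Q V x w) {E : Subgroup G} (hEQ : E ≤ Q)
    (hx : x ∈ normalizer (E : Set G)) (hw : w ∈ normalizer (E : Set G))
    (hsq : ∀ a ∈ E, a * a = 1) : E ≤ V := by
  have hcom : ∀ a ∈ E, ∀ b ∈ E, a * b = b * a := fun a ha b hb => comm_of_sq hsq ha hb
  have hcomV : ∀ a ∈ V, ∀ b ∈ V, a * b = b * a := fun a ha b hb => comm_of_sq h.pl.sq ha hb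
  have hEV : ∀ a ∈ E, ∀ v ∈ V, a * v = v * a := fun a ha v hv =>
    (mem_centralizer_iff.mp (h.pl.QV (hEQ ha)) v hv).symm
  -- `W = E V`
  set W := E ⊔ V with hW
  have hWmem : ∀ y ∈ W, ∃ a ∈ E, ∃ v ∈ V, y = a * v := by
    intro y hy
    exact exists_mul_of_mem_sup hEV hy
  have hWQ : W ≤ Q := sup_le hEQ h.VQ
  have hWsq : ∀ y ∈ W, y * y = 1 := by
    intro y hy
    obtain ⟨a, ha, v, hv, rfl⟩ := hWmem y hy
    calc a * v * (a * v) = a * (v * a) * v := by group
      _ = a * (a * v) * v := by rw [hEV a ha v hv]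
      _ = (a * a) * (v * v) := by group
      _ = 1 := by rw [hsq a ha, h.pl.sq v hv, one_mul]
  have hxV : x ∈ normalizer (V : Set G) := h.pl.HV h.xH
  have hwV : w ∈ normalizer (V : Set G) := h.pl.HV h.wH
  have hnW : ∀ g ∈ normalizer (E : Set G), g ∈ normalizer (V : Set G) → g ∈ normalizer (W : Set G) := by
    intro g hg hgV
    apply mem_normalizer_fintype
    intro y hy
    obtain ⟨a, ha, v, hv, rfl⟩ := hWmem y hy
    have e : g * (a * v) * g⁻¹ = (g * a * g⁻¹) * (g * v * g⁻¹) := by group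
    rw [e]
    exact W.mul_mem (mem_sup_left ((mem_normalizer_iff.mp hg a).mp ha))
      (mem_sup_right ((mem_normalizer_iff.mp hgV v).mp hv))
  have hc := h.card_eq_cube hWQ (hnW x hx hxV) (hnW w hw hwV)
  have hc2 : Nat.card ↥(W ⊓ centralizer (zpowers w : Set G)) ≤ 2 := by
    by_contra hlt
    push Not at hlt
    -- two different involutions
    set C := W ⊓ centralizer (zpowers w : Set G) with hC
    have hnt : Nontrivial C := Finite.one_lt_card_iff_nontrivial.mp (by omega)
    obtain ⟨a, ha⟩ := exists_ne (1 : C)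
    obtain ⟨b, hb1, hba⟩ : ∃ b : C, b ≠ 1 ∧ b ≠ a := by
      by_contra hcon
      push Not at hcon
      have h3 : (Set.univ : Set C) ⊆ {1, a} := by
        intro b _
        by_cases hb : b = 1
        · exact Or.inl hb
        · exact Or.inr (hcon b hb)
      have h4 := Set.ncard_le_ncard h3 (Set.toFinite _)
      rw [Set.ncard_univ, Set.ncard_pair (Ne.symm ha)] at h4
      omega
    refine hba (Subtype.ext (h.rank b (hWQ b.2.1) a (hWQ a.2.1) (hWsq _ b.2.1) (hWsq _ a.2.1)
      (fun h => hb1 (Subtype.ext h)) (fun h => ha (Subtype.ext h))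
      (mem_centralizer_zpowers.mp b.2.2) (mem_centralizer_zpowers.mp a.2.2)
      (comm_of_sq hWsq b.2.1 a.2.1)))
  have h8 : Nat.card W ≤ 8 := by
    rw [hc]
    calc _ ≤ 2 ^ 3 := Nat.pow_le_pow_left hc2 3
      _ = 8 := by norm_num
  have hVW : V = W := Subgroup.eq_of_le_of_card_ge le_sup_right (by rw [h.pl.card_V]; exact h8)
  rw [hVW]
  exact le_sup_left

/-- The centraliser of `w` in `V` has order 2. -/
theorem card_fix [Finite G] (h : Thin H Q V x w) :
    Nat.card ↥(V ⊓ centralizer (zpowers w : Set G)) = 2 := by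
  have := h.card_eq_cube h.VQ (h.pl.HV h.xH) (h.pl.HV h.wH)
  rw [h.pl.card_V] at this
  have h1 : (2 : ℕ) ^ 3 = Nat.card ↥(V ⊓ centralizer (zpowers w : Set G)) ^ 3 := by
    rw [← this]; norm_num
  exact (Nat.pow_left_injective (by norm_num : 3 ≠ 0) h1).symm

/-- A coset of an invariant subgroup fixed by `x` is trivial. -/
theorem mem_of_fix [Finite G] (h : Thin H Q V x w) {A : Subgroup G} (hAQ : A ≤ Q)
    (hx : x ∈ normalizer (A : Set G)) {q : G} (hq : q ∈ Q) (hf : x * q * x⁻¹ * q⁻¹ ∈ A) : q ∈ A := by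
  have h2 : Fact (Nat.Prime 2) := ⟨Nat.prime_two⟩
  have hxQ : x ∈ normalizer (Q : Set G) := h.HQ h.xH
  have hcop : (Nat.card (zpowers x)).Coprime (Nat.card Q) := by
    obtain ⟨n, hn⟩ := h.two.exists_card_eq
    rw [hn, Nat.card_zpowers, h.x7]
    exact Nat.Coprime.pow_right _ (by norm_num)
  have hsolv : Group.IsSolvable Q := by
    have := h.two.isNilpotent
    infer_instance
  have hall : ∀ a ∈ zpowers x, a * q * a⁻¹ * q⁻¹ ∈ A := by
    intro a ha
    -- the elements `a` normalising `A` and fixing `q A`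
    let K : Subgroup G :=
      { carrier := {a | a ∈ normalizer (A : Set G) ∧ a * q * a⁻¹ * q⁻¹ ∈ A}
        one_mem' := ⟨one_mem _, by simp⟩
        mul_mem' := by
          rintro a b ⟨ha, ha'⟩ ⟨hb, hb'⟩
          refine ⟨mul_mem ha hb, ?_⟩
          have e : a * b * q * (a * b)⁻¹ * q⁻¹ =
              (a * (b * q * b⁻¹ * q⁻¹) * a⁻¹) * (a * q * a⁻¹ * q⁻¹) := by group
          rw [e]
          exact A.mul_mem ((mem_normalizer_iff.mp ha _).mp hb') ha'
        inv_mem' := by
          rintro a ⟨ha, ha'⟩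
          refine ⟨inv_mem ha, ?_⟩
          have e : a⁻¹ * q * a⁻¹⁻¹ * q⁻¹ = a⁻¹ * (a * q * a⁻¹ * q⁻¹)⁻¹ * a⁻¹⁻¹ := by group
          rw [e]
          exact (mem_normalizer_iff.mp (inv_mem ha) _).mp (A.inv_mem ha') }
    have hK : zpowers x ≤ K := by
      rw [zpowers_le]
      exact ⟨hx, hf⟩
    exact (hK ha).2
  obtain ⟨n, hn, hnc⟩ := Cfsg.Agent.OddOrderCharacters.Wielandt.exists_mem_centralizer (zpowers x) Q A
    (by rw [zpowers_le]; exact hxQ) (by rw [zpowers_le]; exact hx) hAQ hcop hsolv hq hall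
  have h1 : n * q = 1 := h.cx _ (Q.mul_mem (hAQ hn) hq) (mem_centralizer_zpowers.mp hnc).symm
  have h3 : q = n⁻¹ := eq_inv_of_mul_eq_one_right h1
  rw [h3]
  exact A.inv_mem hn

/-- `H` is transitive on the nontrivial elements of `V`. -/
theorem exists_conj_one [Finite G] (h : Thin H Q V x w) {u v : G} (hu : u ∈ V) (hu1 : u ≠ 1)
    (hv : v ∈ V) (hv1 : v ≠ 1) : ∃ g ∈ H, g * u * g⁻¹ = v := by
  obtain ⟨b, c, hb⟩ := exists_bas h.pl.card_V h.pl.sq hu hu1
  obtain ⟨b', c', hb'⟩ := exists_bas h.pl.card_V h.pl.sq hv hv1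
  obtain ⟨g, hg, h1, -, -⟩ := h.pl.exists_conj hb hb'
  exact ⟨g, hg, h1⟩

end Thin

end Cfsg.Agent.SmallSimple.S1000.ThinCube
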