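import Mathlib
import Cfsg.Agent.S1545
import Cfsg.Agent.SmallSimple.S1000.Local
import Cfsg.Agent.SmallSimple.S1000.BigPrimes
import Cfsg.Agent.SmallSimple.S1000.Consequences
import Cfsg.Agent.SmallSimple.S1000.PSUFacts
import Cfsg.Agent.SmallSimple.S1000.ThinBasic
import Cfsg.Agent.SmallSimple.S1000.ThinCube
import Cfsg.Agent.SmallSimple.S1000.FrameAut

/-!
# The thin case for `p = 7`: the structure of `M / O₂(M)`
-/

set_option autoImplicit false

namespace Cfsg.Agent.SmallSimple.S1000.SevenCases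

open Subgroup Cfsg Cfsg.Agent.ZN Cfsg.Agent.MinSimple.Basic Cfsg.Agent.MinSimple.VModule
open Cfsg.Agent.SmallSimple.S1000.Setup Cfsg.Agent.SmallSimple.S1000.TwoModule
open Cfsg.Agent.SmallSimple.S1000.Local

universe u

/-! ### A group with a self-centralising subgroup of order `p` -/

section general

set_option linter.unusedSectionVars false

variable {X : Type*} [Group X] [Finite X] {p : ℕ} {x : X}

theorem isPGroup_zpowers (hp : p.Prime) (hx : orderOf x = p) : IsPGroup p (zpowers x) :=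
  have := Fact.mk hp
  IsPGroup.of_card (n := 1) (by rw [Nat.card_zpowers, hx, pow_one])

theorem not_dvd_index (hx : orderOf x = p) (hpp : ¬ p ^ 2 ∣ Nat.card X) :
    ¬ p ∣ (zpowers x).index := by
  intro hd
  apply hpp
  rw [← (zpowers x).card_mul_index, Nat.card_zpowers, hx, pow_two]
  exact Nat.mul_dvd_mul_left _ hd

omit [Finite X] in
theorem cent_eq (hcx : ∀ g, x * g = g * x → g ∈ zpowers x) :
    centralizer (zpowers x : Set X) = zpowers x := by
  apply le_antisymm
  · intro g hg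
    exact hcx g (mem_centralizer_iff.mp hg x (mem_zpowers x))
  · intro g hg
    rw [mem_centralizer_iff]
    rintro _ ⟨k, rfl⟩
    obtain ⟨m, rfl⟩ := hg
    show x ^ k * x ^ m = x ^ m * x ^ k
    rw [← zpow_add, ← zpow_add, add_comm]

/-- `|N(⟨x⟩)| = p e` with `e ∣ p - 1`. -/
theorem card_normalizer (hp : p.Prime) (hx : orderOf x = p)
    (hcx : ∀ g, x * g = g * x → g ∈ zpowers x) :
    ∃ e, e ∣ p - 1 ∧ Nat.card (normalizer (zpowers x : Set X)) = p * e := by
  refine ⟨Nat.card ((zpowers x).normalizerMonoidHom).range, ?_, ?_⟩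
  · have h1 : Nat.card (MulAut (zpowers x)) = p - 1 := by
      rw [IsCyclic.card_mulAut, Nat.card_zpowers, hx, Nat.totient_prime hp]
    rw [← h1]
    exact card_subgroup_dvd_card _
  · have h1 : Nat.card ((zpowers x).normalizerMonoidHom).ker = p := by
      rw [normalizerMonoidHom_ker, cent_eq hcx]
      rw [Nat.card_congr (subgroupOfEquivOfLe (le_normalizer (H := zpowers x))).toEquiv,
        Nat.card_zpowers, hx]
    rw [← index_ker, ← h1, card_mul_index]

/-- The Sylow count. -/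
theorem exists_modEq (hp : p.Prime) (hx : orderOf x = p) (hpp : ¬ p ^ 2 ∣ Nat.card X) :
    ∃ n, Nat.card X = Nat.card (normalizer (zpowers x : Set X)) * n ∧ n % p = 1 % p := by
  have hf : Fact p.Prime := ⟨hp⟩
  let P : Sylow p X := (isPGroup_zpowers hp hx).toSylow (not_dvd_index hx hpp)
  refine ⟨Nat.card (Sylow p X), ?_, card_sylow_modEq_one p X⟩
  rw [P.card_eq_index_normalizer]
  exact ((normalizer (zpowers x : Set X)).card_mul_index).symm

/-- Frattini. -/
theorem card_normalizer_eq (hp : p.Prime) (hx : orderOf x = p) (hpp : ¬ p ^ 2 ∣ Nat.card X)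
    (L : Subgroup X) [L.Normal] (hxL : x ∈ L) : Nat.card (normalizer (zpowers x : Set X)) =
      Nat.card (L ⊓ normalizer (zpowers x : Set X) : Subgroup X) * L.index := by
  have hf : Fact p.Prime := ⟨hp⟩
  have h3 := Sylow.normalizer_sup_eq_top' ((isPGroup_zpowers hp hx).toSylow
    (not_dvd_index hx hpp)) (N := L) (show zpowers x ≤ L from (zpowers_le).mpr hxL)
  have h4 := relIndex_sup_right (normalizer (zpowers x : Set X)) L
  have h5 : normalizer (zpowers x : Set X) ⊔ L = ⊤ := h3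
  rw [h5, relIndex_top_right] at h4
  rw [h4, ← inf_relIndex_right]
  exact (Lib.HallHigman.card_mul_relIndex' inf_le_right).symm

omit [Finite X] in
theorem mem_normalizer_of_fin [Finite X] {g : X} (hg : g * x * g⁻¹ ∈ zpowers x) :
    g ∈ normalizer (zpowers x : Set X) := by
  apply mem_normalizer_fintype
  rintro _ ⟨k, rfl⟩
  show g * x ^ k * g⁻¹ ∈ zpowers x
  rw [← conj_zpow]
  exact zpow_mem hg k

theorem card_normalizer_sub (L : Subgroup X) (hxL : x ∈ L) :
    Nat.card (normalizer (zpowers (⟨x, hxL⟩ : L) : Set L)) =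
      Nat.card (L ⊓ normalizer (zpowers x : Set X) : Subgroup X) := by
  have h1 : (normalizer (zpowers (⟨x, hxL⟩ : L) : Set L)).map L.subtype =
      L ⊓ normalizer (zpowers x : Set X) := by
    have hz : ∀ g : X, ∀ hg : g ∈ L, (⟨g, hg⟩ : L) ∈ zpowers (⟨x, hxL⟩ : L) ↔ g ∈ zpowers x := by
      intro g hg
      constructor
      · rintro ⟨k, hk⟩
        exact ⟨k, congrArg Subtype.val hk⟩
      · rintro ⟨k, hk⟩
        exact ⟨k, Subtype.ext hk⟩
    ext g
    constructor
    · rintro ⟨g, hg, rfl⟩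
      refine ⟨g.2, ?_⟩
      apply mem_normalizer_of_fin
      rw [SetLike.mem_coe, mem_normalizer_iff] at hg
      have h2 := (hg ⟨x, hxL⟩).mp (mem_zpowers _)
      exact (hz _ (g * ⟨x, hxL⟩ * g⁻¹).2).mp h2
    · rintro ⟨hgL, hg⟩
      refine ⟨⟨g, hgL⟩, ?_, rfl⟩
      rw [SetLike.mem_coe]
      apply mem_normalizer_of_fin
      exact (hz _ (mul_mem (mul_mem hgL hxL) (inv_mem hgL))).mpr
        ((mem_normalizer_iff.mp hg x).mp (mem_zpowers x))
  rw [← h1, card_map_of_injective L.subtype_injective]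

/-- The data for `L ⊴ X`. -/
theorem exists_data (hp : p.Prime) (hx : orderOf x = p)
    (hcx : ∀ g, x * g = g * x → g ∈ zpowers x) (hpp : ¬ p ^ 2 ∣ Nat.card X)
    (L : Subgroup X) [L.Normal] (hxL : x ∈ L) : ∃ e e' n,
      e ∣ p - 1 ∧ e' ∣ p - 1 ∧ Nat.card (normalizer (zpowers x : Set X)) = p * e ∧
      Nat.card (L ⊓ normalizer (zpowers x : Set X) : Subgroup X) = p * e' ∧
      e = e' * L.index ∧ Nat.card L = p * e' * n ∧ n % p = 1 % p := by
  obtain ⟨e, he, hN⟩ := card_normalizer hp hx hcx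
  have hxo : orderOf (⟨x, hxL⟩ : L) = p := by rw [Subgroup.orderOf_mk, hx]
  have hppL : ¬ p ^ 2 ∣ Nat.card L := fun hd => hpp (hd.trans (card_subgroup_dvd_card L))
  obtain ⟨e', he', hN'⟩ := card_normalizer (x := (⟨x, hxL⟩ : L)) hp hxo (by
    intro g hg
    obtain ⟨k, hk⟩ := hcx g (congrArg Subtype.val hg)
    exact ⟨k, Subtype.ext hk⟩)
  obtain ⟨n, hn, hn1⟩ := exists_modEq hp hxo hppL
  have h1 := card_normalizer_eq hp hx hpp L hxL
  refine ⟨e, e', n, he, he', hN, ?_, ?_, ?_, hn1⟩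
  · rw [← card_normalizer_sub L hxL, hN']
  · rw [hN, ← card_normalizer_sub L hxL, hN', mul_assoc] at h1
    exact Nat.eq_of_mul_eq_mul_left hp.pos h1
  · rw [hn, hN']

/-- If elements of order 3 that commute generate the same subgroup then a normal subgroup of order
divisible by 3 contains all elements of order 3. -/
theorem mem_of_three (hr : ∀ u v : X, orderOf u = 3 → orderOf v = 3 → u * v = v * u →
    v ∈ zpowers u) (L : Subgroup X) [hL : L.Normal] (h3 : 3 ∣ Nat.card L) {s : X}
    (hs : orderOf s = 3) : s ∈ L := by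
  have hf : Fact (Nat.Prime 3) := ⟨Nat.prime_three⟩
  obtain ⟨T, hT⟩ := (isPGroup_zpowers Nat.prime_three hs).exists_le_sylow
  have hsT : s ∈ (T : Subgroup X) := hT (mem_zpowers s)
  have hT1 : (T : Subgroup X) ≠ ⊥ := by
    intro h
    rw [h, mem_bot] at hsT
    rw [hsT, orderOf_one] at hs
    omega
  obtain ⟨u, huT, hu, hTu⟩ := exists_orderOf_eq T.isPGroup' hT1
  obtain ⟨l, hl⟩ := exists_prime_orderOf_dvd_card' (G := L) 3 h3
  have hlo : orderOf (l : X) = 3 := by rw [Subgroup.orderOf_coe, hl]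
  obtain ⟨g, hg⟩ := Seventeen.Sev.exists_conj_mem Nat.prime_three T.isPGroup' T.not_dvd_index hlo
  have hlo' : orderOf (g * l * g⁻¹) = 3 := by
    rw [← hlo]
    exact (MulAut.conj g).orderOf_eq l
  have h1 : u ∈ zpowers (g * l * g⁻¹) := by
    refine hr _ _ hlo' hu ?_
    exact (mem_centralizer_iff.mp (hTu hg) u rfl).symm
  have h2 : s ∈ zpowers u := by
    refine hr _ _ hu hs ?_
    exact mem_centralizer_iff.mp (hTu hsT) u rfl
  have h3 : zpowers (g * l * g⁻¹) ≤ L := by
    rw [zpowers_le]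
    exact hL.conj_mem l l.2 g
  have h4 : zpowers u ≤ L := by
    rw [zpowers_le]
    exact h3 h1
  exact h4 h2

end general

/-! ### Lifting normalizing elements -/

theorem exists_lift_normalizer {H : Type*} [Group H] [Finite H] {p : ℕ} (hp : p.Prime)
    (N : Subgroup H) [hNn : N.Normal] (hN : ¬ p ∣ Nat.card N) {x : H} (hx : orderOf x = p)
    {w : H ⧸ N} (hw : w * x * w⁻¹ ∈ zpowers (x : H ⧸ N)) :
    ∃ g : H, (g : H ⧸ N) = w ∧ g * x * g⁻¹ ∈ zpowers x := by
  obtain ⟨g₀, rfl⟩ := QuotientGroup.mk_surjective w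
  set K : Subgroup H := (zpowers (x : H ⧸ N)).comap (QuotientGroup.mk' N) with hK
  have hxK : x ∈ K := by
    rw [hK, mem_comap]
    exact mem_zpowers _
  have hgK : g₀ * x * g₀⁻¹ ∈ K := by
    rw [hK, mem_comap]
    exact hw
  have hcK : Nat.card K = Nat.card N * p := by
    rw [hK, LocalStructure.card_comap, Nat.card_zpowers, LocalStructure.orderOf_quotient hp N hN hx]
  have hxo : orderOf (⟨x, hxK⟩ : K) = p := by rw [Subgroup.orderOf_mk, hx]
  have hind : ¬ p ∣ (zpowers (⟨x, hxK⟩ : K)).index := by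
    have h1 := (zpowers (⟨x, hxK⟩ : K)).card_mul_index
    rw [Nat.card_zpowers, hxo, hcK, mul_comm (Nat.card N)] at h1
    rw [Nat.eq_of_mul_eq_mul_left hp.pos h1]
    exact hN
  obtain ⟨k, hk⟩ := Seventeen.Sev.exists_conj_mem hp (isPGroup_zpowers hp hxo) hind
    (s := (⟨g₀ * x * g₀⁻¹, hgK⟩ : K)) (by
      rw [Subgroup.orderOf_mk, ← hx]
      exact (MulAut.conj g₀).orderOf_eq x)
  have hk' : (k : H) * (g₀ * x * g₀⁻¹) * (k : H)⁻¹ ∈ zpowers x := by
    obtain ⟨m, hm⟩ := hk
    exact ⟨m, congrArg Subtype.val hm⟩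
  have hkm : ((k : H) : H ⧸ N) ∈ zpowers (x : H ⧸ N) := k.2
  obtain ⟨m, hm⟩ := hkm
  have hm : (x : H ⧸ N) ^ m = (k : H) := hm
  refine ⟨x ^ (-m) * k * g₀, ?_, ?_⟩
  · rw [QuotientGroup.mk_mul, QuotientGroup.mk_mul, ← hm, QuotientGroup.mk_zpow, ← zpow_add,
      neg_add_cancel, zpow_zero, one_mul]
  · have e : x ^ (-m) * (k : H) * g₀ * x * (x ^ (-m) * (k : H) * g₀)⁻¹ =
        x ^ (-m) * ((k : H) * (g₀ * x * g₀⁻¹) * (k : H)⁻¹) * (x ^ (-m))⁻¹ := by group
    rw [e]
    exact mul_mem (mul_mem (zpow_mem (mem_zpowers x) _) hk')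
      (inv_mem (zpow_mem (mem_zpowers x) _))

/-- The Frobenius group formula for `7 : 3` acting on a 2-group. -/
theorem card_eq_cube {G : Type*} [Group G] [Finite G] {B : Subgroup G} {x w : G}
    (hB : IsPGroup 2 B) (x7 : orderOf x = 7) (w3 : orderOf w = 3) (wx : w * x * w⁻¹ ∈ zpowers x)
    (wxn : w * x ≠ x * w) (hx : x ∈ normalizer (B : Set G)) (hw : w ∈ normalizer (B : Set G))
    (cx : ∀ q ∈ B, x * q = q * x → q = 1) :
    Nat.card B = Nat.card ↥(B ⊓ centralizer (zpowers w : Set G)) ^ 3 := by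
  have h2 : Fact (Nat.Prime 2) := ⟨Nat.prime_two⟩
  have h7 : Nat.card (zpowers x) = 7 := by rw [Nat.card_zpowers, x7]
  have h3 : Nat.card (zpowers w) = 3 := by rw [Nat.card_zpowers, w3]
  have hwn : zpowers w ≤ normalizer (zpowers x : Set G) := by
    rw [zpowers_le]
    exact mem_normalizer_of_fin wx
  have hBn : zpowers x ⊔ zpowers w ≤ normalizer (B : Set G) :=
    sup_le (by rw [zpowers_le]; exact hx) (by rw [zpowers_le]; exact hw)
  have hcard : Nat.card ↥(zpowers x ⊔ zpowers w) ∣ 21 := by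
    have := ThinCube.card_sup_dvd _ _ hwn
    rw [h3, h7, sup_comm] at this
    exact this
  have hcop : Nat.Coprime (Nat.card B) (Nat.card ↥(zpowers x ⊔ zpowers w)) := by
    obtain ⟨n, hn⟩ := hB.exists_card_eq
    rw [hn]
    exact Nat.Coprime.pow_left _ (Nat.Coprime.coprime_dvd_right hcard (by norm_num))
  have hdisj : B ⊓ (zpowers x ⊔ zpowers w) = ⊥ :=
    (Subgroup.disjoint_of_coprime_natCard hcop).eq_bot
  have hsolv : Group.IsSolvable B := by
    have := hB.isNilpotent
    infer_instance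
  have key := Cfsg.Agent.S1545.result (zpowers x) (zpowers w) B
    (fun hb => by
      have := Subgroup.card_bot (G := G)
      rw [← hb, h7] at this
      omega)
    (fun hb => by
      have := Subgroup.card_bot (G := G)
      rw [← hb, h3] at this
      omega)
    (Subgroup.disjoint_of_coprime_natCard (by rw [h7, h3]; norm_num)).eq_bot
    (fun e he u hu => (mem_normalizer_iff.mp (hwn he) u).mp hu)
    (by
      intro e he he1 u hu heu
      by_contra hu1
      have h4 := ThinCube.zpowers_eq_of_prime (by norm_num) x7 hu hu1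
      have h5 := ThinCube.zpowers_eq_of_prime (by norm_num) w3 he he1
      apply wxn
      have h6 : Commute e u := heu
      obtain ⟨i, hi⟩ : w ∈ zpowers e := h5 ▸ mem_zpowers w
      obtain ⟨j, hj⟩ : x ∈ zpowers u := h4 ▸ mem_zpowers x
      have h7 : Commute (e ^ i) (u ^ j) := (h6.zpow_left i).zpow_right j
      have hi' : e ^ i = w := hi
      have hj' : u ^ j = x := hj
      rw [hi', hj'] at h7
      exact h7)
    (fun g hg b hb => (mem_normalizer_iff.mp (hBn hg) b).mp hb) hdisj hsolv hcop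
  have hU : B ⊓ centralizer (zpowers x : Set G) = ⊥ := by
    rw [eq_bot_iff]
    rintro b ⟨hb, hbx⟩
    rw [mem_bot]
    exact cx b hb (ThinCube.mem_centralizer_zpowers.mp hbx).symm
  have hUE : B ⊓ centralizer ((zpowers x ⊔ zpowers w : Subgroup G) : Set G) = ⊥ := by
    rw [eq_bot_iff, ← hU]
    exact inf_le_inf_left _ (centralizer_le (SetLike.coe_subset_coe.2 le_sup_left))
  rw [hU, hUE, Subgroup.card_bot, one_pow, one_mul, mul_one, h3] at key
  exact key

/-! ### `M / O₂(M)` -/

variable {G : Type u} [Group G] {a b : ℕ}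

theorem rank_one {p : ℕ} (h : Hyp G p a b) {M : Subgroup G} (hM : MaxLocal M) (ht : M23LE 1 G)
    (u v : M ⧸ pCore 2 ↥M) (hu : orderOf u = 3) (hv : orderOf v = 3) (huv : u * v = v * u) :
    v ∈ zpowers u := by
  by_contra hne
  exact BigPrimes.not_M23LE h hM hu hv huv hne ht

/-- `C_{O₂(M)}(x) = 1`. -/
theorem eq_one_of_commute {p : ℕ} (h : Hyp G p a b) {M : Subgroup G} {x : G} (hx : orderOf x = p)
    {q : G} (hq : q ∈ o2 M) (hxq : x * q = q * x) : q = 1 := by
  have hfin := h.finite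
  have h1 : q ∈ centralizer ({x} : Set G) := by
    rw [mem_centralizer_iff]
    rintro _ rfl
    exact hxq
  rw [h.cent _ hx] at h1
  obtain ⟨k, hk⟩ := o2_isPGroup M ⟨q, hq⟩
  have hk' : q ^ 2 ^ k = 1 := congrArg Subtype.val hk
  have h2 : orderOf q ∣ p := by
    have := orderOf_dvd_natCard (⟨q, h1⟩ : zpowers x)
    rwa [Subgroup.orderOf_mk, Nat.card_zpowers, hx] at this
  have h3 : orderOf q ∣ 2 ^ k := orderOf_dvd_of_pow_eq_one hk'
  have h5 := h.five_le
  have hcop : Nat.Coprime p (2 ^ k) := by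
    apply Nat.Coprime.pow_right
    exact (Nat.coprime_primes h.prime Nat.prime_two).mpr (by omega)
  exact orderOf_eq_one_iff.mp (Nat.eq_one_of_dvd_coprimes hcop h2 h3)

/-- The socle of `M / O₂(M)` is `PSL₂(7)` or `PSL₂(8)` in the thin case. -/
theorem not_psu (h : Hyp G 7 a b) {M : Subgroup G} (hM : MaxLocal M) (ht : M23LE 1 G)
    {L : Subgroup (M ⧸ pCore 2 ↥M)} {F : Type} [Field F] [Fintype F] (hF : Fintype.card F = 9)
    (e : L ≃* Cfsg.PSU 3 F 3) : False := by
  obtain ⟨u, v, hu, hv, huv, hne⟩ := PSUFacts.psu_three_three hF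
  set f : Cfsg.PSU 3 F 3 →* (M ⧸ pCore 2 ↥M) := L.subtype.comp e.symm.toMonoidHom with hf
  have hfi : Function.Injective f := L.subtype_injective.comp e.symm.injective
  have hfo : ∀ g, orderOf (f g) = orderOf g := orderOf_injective f hfi
  obtain ⟨k, hk⟩ := rank_one h hM ht (f u) (f v) ((hfo u).trans hu) ((hfo v).trans hv)
    (by rw [← map_mul, huv, map_mul])
  apply hne
  refine ⟨k, hfi ?_⟩
  rw [map_zpow]
  exact hk

/-- **The structure of `M / O₂(M)` in the thin case, `p = 7`.** -/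
theorem cases [Finite G] (h : Hyp G 7 a b) (hl : Loc G) (ind : Ind G) (ht : M23LE 1 G)
    {M : Subgroup G} (hM : MaxLocal M) :
    (∃ (F : Type) (_ : Field F) (_ : Fintype F), Fintype.card F = 8 ∧
      Nonempty ((M ⧸ pCore 2 ↥M) ≃* Matrix.ProjectiveSpecialLinearGroup (Fin 2) F)) ∨
    ∃ x w : G, ThinCube.Thin M (o2 M) (V M) x w := by
  let _ := commGroup M
  have hNn : (pCore 2 ↥M).Normal := Lib.Cores.pCore_normal 2
  have hp7 : Nat.Prime 7 := by norm_num
  obtain ⟨L, hLn, hLs, hLc, hpL, hcL, -⟩ := hM.exists_simple h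
  obtain ⟨c, d, hcd, hK⟩ := hM.known h ind L hLs hLc hpL
  obtain ⟨x, hx⟩ := hM.exists_orderOf h
  obtain ⟨ho, hfix, hinj⟩ := act_facts h hM hx
  have hcx := LocalStructure.mem_zpowers_quotient h.prime (by decide) hx (MaxLocal.mem_zpowers h hx)
  have hpp := BigPrimes.nsq_quotient h M
  have hxL : (x : M ⧸ pCore 2 ↥M) ∈ L := mem_of_dvd hp7 hpp L hpL ho
  have hr := rank_one h hM ht
  obtain ⟨e, e', n, he, he', hN, hLN, hee, hcL', hn⟩ := exists_data hp7 ho hcx hpp L hxL
  have he6 : e ≤ 6 := Nat.le_of_dvd (by norm_num) he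
  have he'6 : e' ≤ 6 := Nat.le_of_dvd (by norm_num) he'
  rcases Consequences.socle_seven hK hcd with ⟨hc, F, _, _, hF, ⟨i⟩⟩ | ⟨hc, F, _, _, hF, ⟨i⟩⟩ |
    ⟨hc, F, _, _, hF, ⟨i⟩⟩
  · -- `PSL₂(7)`
    right
    have h3 : e' = 3 := by
      rw [hc] at hcL'
      interval_cases e' <;> omega
    -- an element of order 3 normalizing `⟨x⟩`
    have hf3 : Fact (Nat.Prime 3) := ⟨Nat.prime_three⟩
    obtain ⟨w₀, hw₀⟩ := exists_prime_orderOf_dvd_card'
      (G := (L ⊓ normalizer (zpowers (x : M ⧸ pCore 2 ↥M) : Set (M ⧸ pCore 2 ↥M)) :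
        Subgroup (M ⧸ pCore 2 ↥M))) 3 (by rw [hLN, h3]; norm_num)
    have hw₀o : orderOf (w₀ : M ⧸ pCore 2 ↥M) = 3 := by rw [Subgroup.orderOf_coe, hw₀]
    have hw₀x : (w₀ : M ⧸ pCore 2 ↥M) * x * (w₀ : M ⧸ pCore 2 ↥M)⁻¹ ∈
        zpowers (x : M ⧸ pCore 2 ↥M) := (mem_normalizer_iff.mp w₀.2.2 x).mp (mem_zpowers _)
    obtain ⟨w₁, hw₁, hw₁x⟩ := exists_lift_normalizer hp7 (pCore 2 ↥M)
      (LocalStructure.not_dvd_card_pCore hp7 (by norm_num)) hx hw₀x
    rw [← hw₁] at hw₀o
    obtain ⟨k, hk, hko⟩ := BigPrimes.exists_pow_lift (pCore 2 ↥M) (Lib.Cores.pCore_isPGroup 2)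
      (by decide) hw₀o
    set w : M := w₁ ^ k with hw
    have hwx : w * x * w⁻¹ ∈ zpowers x := by
      have h1 : w₁ ∈ normalizer (zpowers x : Set M) := mem_normalizer_of_fin hw₁x
      have h2 : w ∈ normalizer (zpowers x : Set M) := pow_mem h1 k
      exact (mem_normalizer_iff.mp h2 x).mp (mem_zpowers x)
    have hx7 : orderOf (x : G) = 7 := by rw [Subgroup.orderOf_coe, hx]
    have hw3 : orderOf (w : G) = 3 := by rw [Subgroup.orderOf_coe, hko]
    have hwxG : (w : G) * x * (w : G)⁻¹ ∈ zpowers (x : G) := by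
      obtain ⟨m, hm⟩ := hwx
      exact ⟨m, congrArg Subtype.val hm⟩
    have hwxn : (w : G) * x ≠ x * w := by
      intro hcomm
      have h1 : (w : G) ∈ centralizer ({(x : G)} : Set G) := by
        rw [mem_centralizer_iff]
        rintro _ rfl
        exact hcomm.symm
      rw [h.cent _ hx7] at h1
      have h2 := orderOf_dvd_natCard (⟨w, h1⟩ : zpowers (x : G))
      rw [Subgroup.orderOf_mk, Nat.card_zpowers, hx7, hw3] at h2
      exact absurd h2 (by norm_num)
    have hcxQ : ∀ q ∈ o2 M, (x : G) * q = q * x → q = 1 := fun q hq hxq =>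
      eq_one_of_commute h hx7 hq hxq
    have hrank : ∀ a ∈ o2 M, ∀ b ∈ o2 M, a * a = 1 → b * b = 1 → a ≠ 1 → b ≠ 1 →
        a * (w : G) = w * a → b * (w : G) = w * b → a * b = b * a → a = b :=
      fun a _ b _ ha hb ha1 hb1 haw hbw hab =>
        ThinBasic.eq_of_commute hl ht hw3 haw hbw hab ha hb ha1 hb1
    have hVQ : V M ≤ o2 M := zc_le _
    have hV2 : IsPGroup 2 (V M) := (o2_isPGroup M).to_le hVQ
    have hcube := card_eq_cube hV2 hx7 hw3 hwxG hwxn (le_normalizer_V M x.2)
      (le_normalizer_V M w.2) (fun q hq => hcxQ q (hVQ hq))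
    have hCV : Nat.card ↥(V M ⊓ centralizer (zpowers (w : G) : Set G)) ≤ 2 := by
      by_contra hlt
      push Not at hlt
      set C := V M ⊓ centralizer (zpowers (w : G) : Set G) with hC
      have hnt : Nontrivial C := Finite.one_lt_card_iff_nontrivial.mp (by omega)
      obtain ⟨a, ha⟩ := exists_ne (1 : C)
      obtain ⟨b, hb1, hba⟩ : ∃ b : C, b ≠ 1 ∧ b ≠ a := by
        by_contra hcon
        push Not at hcon
        have h3 : (Set.univ : Set C) ⊆ {1, a} := by
          intro b _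
          by_cases hb : b = 1
          · exact Or.inl hb
          · exact Or.inr (hcon b hb)
        have h4 := Set.ncard_le_ncard h3 (Set.toFinite _)
        rw [Set.ncard_univ, Set.ncard_pair (Ne.symm ha)] at h4
        omega
      have hsq : ∀ v ∈ V M, v * v = 1 := fun v hv => by
        rw [← pow_two]; exact zc_sq (o2 M) v hv
      exact hba (Subtype.ext (hrank b (hVQ b.2.1) a (hVQ a.2.1) (hsq _ b.2.1) (hsq _ a.2.1)
        (fun h => hb1 (Subtype.ext h)) (fun h => ha (Subtype.ext h))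
        (ThinCube.mem_centralizer_zpowers.mp b.2.2) (ThinCube.mem_centralizer_zpowers.mp a.2.2)
        (zc_comm (o2 M) b b.2.1 a a.2.1)))
    have hV8 : Nat.card (V M) = 8 := by
      obtain ⟨m, hm1, hm, hpm⟩ := Consequences.card_V_sub_one h hM
      have h8 : Nat.card (V M) ≤ 8 := by
        rw [hcube]
        calc _ ≤ 2 ^ 3 := Nat.pow_le_pow_left hCV 3
          _ = 8 := by norm_num
      rw [hm] at h8 ⊢
      have h9 : m < 4 := by
        by_contra hlt
        have : 2 ^ 4 ≤ 2 ^ m := Nat.pow_le_pow_right (by norm_num) (by omega)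
        omega
      interval_cases m
      · exact absurd hpm (by norm_num)
      · exact absurd hpm (by norm_num)
      · rfl
    have hX : Nat.card (M ⧸ pCore 2 ↥M) = 168 := by
      apply le_antisymm
      · have h1 := FrameAut.card_mulAut (V_sq M) hV8
        have h2 : Finite (MulAut (V M)) := Nat.finite_of_card_ne_zero (by rw [h1]; norm_num)
        rw [← h1]
        exact Nat.card_le_card_of_injective _ hinj
      · rw [← hc]
        exact card_le_card_group L
    refine ⟨x, w,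
      { pl :=
          { QH := o2_le M
            HV := le_normalizer_V M
            card_V := hV8
            sq := fun v hv => by rw [← pow_two]; exact zc_sq (o2 M) v hv
            QV := le_centralizer_iff.mp (zc_le_centralizer (o2 M))
            cent := ?_
            card_H := ?_ }
        two := o2_isPGroup M
        HQ := le_normalizer_o2 M
        VQ := hVQ
        xH := x.2
        wH := w.2
        x7 := hx7
        w3 := hw3
        wx := hwxG
        wxn := hwxn
        cx := hcxQ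
        rank := hrank }⟩
    · rintro m ⟨hmM, hmV⟩
      have h1 : act M ((⟨m, hmM⟩ : M) : M ⧸ pCore 2 ↥M) = 1 := by
        apply MulEquiv.ext
        intro v
        apply Subtype.ext
        rw [act_apply]
        show m * (v : G) * m⁻¹ = v
        rw [← mem_centralizer_iff.mp hmV v v.2, mul_inv_cancel_right]
      have h2 : ((⟨m, hmM⟩ : M) : M ⧸ pCore 2 ↥M) = 1 := hinj (by rw [h1, map_one])
      rw [QuotientGroup.eq_one_iff] at h2
      exact ⟨⟨m, hmM⟩, h2, rfl⟩
    · rw [← MaxLocal.card_mul_card M, hX, mul_comm]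
  · -- `PSL₂(8)`
    left
    have h2 : e' = 2 := by
      rw [hc] at hcL'
      interval_cases e' <;> omega
    have h3 : L.index = 1 := by
      have h4 : L.index ≠ 0 := index_ne_zero_of_finite
      rw [h2] at hee
      have h5 : e = 2 ∨ e = 6 := by
        have : e = 2 * L.index := hee
        interval_cases e <;> omega
      rcases h5 with rfl | rfl
      · omega
      · exfalso
        have hf3 : Fact (Nat.Prime 3) := ⟨Nat.prime_three⟩
        obtain ⟨s, hs⟩ := exists_prime_orderOf_dvd_card'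
          (G := (normalizer (zpowers (x : M ⧸ pCore 2 ↥M) : Set (M ⧸ pCore 2 ↥M)) :
            Subgroup (M ⧸ pCore 2 ↥M))) 3 (by rw [hN]; norm_num)
        have hso : orderOf (s : M ⧸ pCore 2 ↥M) = 3 := by rw [Subgroup.orderOf_coe, hs]
        have hsL := mem_of_three hr L (by rw [hc]; norm_num) hso
        set s' : (L ⊓ normalizer (zpowers (x : M ⧸ pCore 2 ↥M) : Set (M ⧸ pCore 2 ↥M)) :
            Subgroup (M ⧸ pCore 2 ↥M)) := ⟨s, hsL, s.2⟩ with hs'
        have hso' : orderOf s' = 3 := by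
          rw [← Subgroup.orderOf_coe]
          exact hso
        have h6 := orderOf_dvd_natCard s'
        rw [hso', hLN, h2] at h6
        exact absurd h6 (by norm_num)
    have h4 : L = ⊤ := index_eq_one.mp h3
    subst h4
    exact ⟨F, inferInstance, inferInstance, hF, ⟨Subgroup.topEquiv.symm.trans i⟩⟩
  · exact (not_psu h hM ht hF i).elim

end Cfsg.Agent.SmallSimple.S1000.SevenCases
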