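import Mathlib
import Cfsg.Agent.SmallSimple.S1000.PSLFacts

/-!
# Explicit elements of `PSL(2, 8)` (for `ThinEight`)
-/

set_option autoImplicit false

namespace Cfsg.Agent.SmallSimple.S1000.EightFacts

open Matrix Subgroup

section field

variable {F : Type*} [Field F] [Fintype F]

theorem two_eq_zero (hF : Fintype.card F = 8) : (2 : F) = 0 := by
  have h : ((Fintype.card F : ℕ) : F) = 0 := Nat.cast_card_eq_zero F
  rw [hF] at h
  have h2 : (2 : F) ^ 3 = 0 := by
    rw [← h]; norm_num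
  exact pow_eq_zero_iff (by norm_num) |>.mp h2

theorem exists_theta (hF : Fintype.card F = 8) : ∃ θ : F, θ ^ 3 = θ + 1 := by
  classical
  have h2 := two_eq_zero hF
  obtain ⟨x, hx0, hx1⟩ : ∃ x : F, x ≠ 0 ∧ x ≠ 1 := by
    by_contra hcon
    push Not at hcon
    have hsub : (Finset.univ : Finset F) ⊆ {0, 1} := by
      intro x _
      by_cases h0 : x = 0
      · simp [h0]
      · simp [hcon x h0]
    have h3 := Finset.card_le_card hsub
    rw [Finset.card_univ, hF] at h3
    have h4 : ({0, 1} : Finset F).card ≤ 2 := Finset.card_le_two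
    omega
  have h7 : x ^ 7 = 1 := by
    have h := FiniteField.pow_card_sub_one_eq_one x hx0
    rwa [hF] at h
  have hprod : (x ^ 3 - (x + 1)) * (x ^ 3 - (x ^ 2 + 1)) = 0 := by
    have h1 : (x - 1) * ((x ^ 3 - (x + 1)) * (x ^ 3 - (x ^ 2 + 1))) = 0 := by
      linear_combination h7 + (-x ^ 6 + x ^ 3) * h2
    rcases mul_eq_zero.mp h1 with h | h
    · exact absurd (sub_eq_zero.mp h) hx1
    · exact h
  rcases mul_eq_zero.mp hprod with h | h
  · exact ⟨x, sub_eq_zero.mp h⟩
  · refine ⟨x⁻¹, ?_⟩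
    have h' := sub_eq_zero.mp h
    field_simp
    linear_combination h' - x ^ 3 * h2 + h2

end field

section sl

variable {F : Type*} [Field F]

local notation "SL2" => Matrix.SpecialLinearGroup (Fin 2) F
local notation "PSL2" => Matrix.ProjectiveSpecialLinearGroup (Fin 2) F

/-- Cayley–Hamilton in characteristic 2. -/
theorem sq_eq (h2 : (2 : F) = 0) (x : SL2) :
    (x : Matrix (Fin 2) (Fin 2) F) * x = (x 0 0 + x 1 1) • (x : Matrix (Fin 2) (Fin 2) F) + 1 := by
  have hd : x 0 0 * x 1 1 - x 0 1 * x 1 0 = 1 := by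
    have := x.det_coe
    rwa [Matrix.det_fin_two] at this
  ext i j
  fin_cases i <;> fin_cases j
  · simp [Matrix.mul_apply, Fin.sum_univ_two]
    linear_combination -hd - h2
  · simp [Matrix.mul_apply, Fin.sum_univ_two]
    ring
  · simp [Matrix.mul_apply, Fin.sum_univ_two]
    ring
  · simp [Matrix.mul_apply, Fin.sum_univ_two]
    linear_combination -hd - h2

theorem trace_one (h2 : (2 : F) = 0) : (1 : SL2) 0 0 + (1 : SL2) 1 1 = 0 := by
  simp [one_add_one_eq_two, h2]

theorem cube_eq_one (h2 : (2 : F) = 0) (x : SL2) (h : x 0 0 + x 1 1 = 1) : x ^ 3 = 1 := by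
  have h1 := sq_eq h2 x
  rw [h, one_smul] at h1
  have h22 : (1 : Matrix (Fin 2) (Fin 2) F) + 1 = 0 := by
    rw [← one_smul F (1 : Matrix (Fin 2) (Fin 2) F), ← add_smul, one_add_one_eq_two, h2, zero_smul]
  have hxx : (x : Matrix (Fin 2) (Fin 2) F) + x = 0 := by
    have := congrArg (fun m => (x : Matrix (Fin 2) (Fin 2) F) * m) h22
    simpa [mul_add] using this
  apply Subtype.ext
  rw [Matrix.SpecialLinearGroup.coe_pow, pow_three, h1, mul_add, h1, mul_one,
    Matrix.SpecialLinearGroup.coe_one, add_right_comm, hxx, zero_add]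

theorem orderOf_three (h2 : (2 : F) = 0) (x : SL2) (h : x 0 0 + x 1 1 = 1) : orderOf x = 3 := by
  apply orderOf_eq_prime (cube_eq_one h2 x h)
  rintro rfl
  rw [trace_one h2] at h
  exact zero_ne_one h

theorem orderOf_seven (h2 : (2 : F) = 0) (x : SL2) (t : F) (ht : t ^ 3 = t ^ 2 + 1)
    (h : x 0 0 + x 1 1 = t) : orderOf x = 7 := by
  have h1 := sq_eq h2 x
  rw [h] at h1
  have : Fact (Nat.Prime 7) := ⟨by norm_num⟩
  set X : Matrix (Fin 2) (Fin 2) F := (x : Matrix (Fin 2) (Fin 2) F) with hX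
  have h3 : X ^ 3 = (t ^ 2 + 1) • X + t • 1 := by
    rw [pow_three, h1, mul_add, mul_smul_comm, h1, mul_one]
    module
  have h6 : X ^ 6 = ((t ^ 2 + 1) ^ 2 * t) • X + ((t ^ 2 + 1) ^ 2 + t ^ 2) • (1 : Matrix (Fin 2) (Fin 2) F)
      + (2 * t * (t ^ 2 + 1)) • X := by
    have : X ^ 6 = X ^ 3 * X ^ 3 := by rw [← pow_add]
    rw [this, h3, add_mul, mul_add, mul_add, smul_mul_assoc, mul_smul_comm, h1]
    simp only [smul_mul_assoc, mul_smul_comm, mul_one, one_mul]
    module
  have h7 : x ^ 7 = 1 := by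
    apply Subtype.ext
    rw [Matrix.SpecialLinearGroup.coe_pow, Matrix.SpecialLinearGroup.coe_one, ← hX]
    have h7' : X ^ 7 = ((t ^ 2 + 1) ^ 2 * t * t + ((t ^ 2 + 1) ^ 2 + t ^ 2) + 2 * t * (t ^ 2 + 1) * t) • X
        + ((t ^ 2 + 1) ^ 2 * t + 2 * t * (t ^ 2 + 1)) • (1 : Matrix (Fin 2) (Fin 2) F) := by
      have : X ^ 7 = X * X ^ 6 := by rw [← pow_succ']
      rw [this, h6, mul_add, mul_add, mul_smul_comm, mul_smul_comm, mul_smul_comm, h1, mul_one]
      module
    have e1 : (t ^ 2 + 1) ^ 2 * t + 2 * t * (t ^ 2 + 1) = 1 := by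
      linear_combination (t ^ 2 + t + 1) * ht + (t ^ 3 + t ^ 2 + t) * h2 + t * (t ^ 2 + 1) * h2
    have e2 : (t ^ 2 + 1) ^ 2 * t * t + ((t ^ 2 + 1) ^ 2 + t ^ 2) + 2 * t * (t ^ 2 + 1) * t = 0 := by
      have e3 : t ^ 4 + t ^ 2 + t + 1 = 0 := by
        linear_combination (t + 1) * ht + (t ^ 2 + t + 1) * h2
      linear_combination t * e1 + e3 + t ^ 2 * h2
    rw [h7', e1, e2, zero_smul, one_smul, zero_add]
  apply orderOf_eq_prime h7
  rintro rfl
  rw [trace_one h2] at h
  subst h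
  norm_num at ht

theorem orderOf_nine (h2 : (2 : F) = 0) (x : SL2) (t : F) (ht : t ^ 3 = t + 1)
    (h : x 0 0 + x 1 1 = t) : orderOf x = 9 := by
  have h1 := sq_eq h2 x
  rw [h] at h1
  set X : Matrix (Fin 2) (Fin 2) F := (x : Matrix (Fin 2) (Fin 2) F) with hX
  have h3 : X ^ 3 = (t ^ 2 + 1) • X + t • 1 := by
    rw [pow_three, h1, mul_add, mul_smul_comm, h1, mul_one]
    module
  have htr : (x ^ 3) 0 0 + (x ^ 3) 1 1 = 1 := by
    have h4 : ∀ i, (x ^ 3) i i = (t ^ 2 + 1) * x i i + t := by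
      intro i
      have h5 : (x ^ 3) i i = (X ^ 3) i i := by
        rw [hX, ← Matrix.SpecialLinearGroup.coe_pow]
      rw [h5, h3]
      simp [hX]
    rw [h4, h4]
    linear_combination (t ^ 2 + 1) * h + ht + (1 + t) * h2 - h2 + t * h2
  have h33 := cube_eq_one h2 (x ^ 3) htr
  rw [← pow_mul] at h33
  have hn : ¬ x ^ 3 = 1 := by
    intro h4
    rw [h4, trace_one h2] at htr
    exact zero_ne_one htr
  have : Fact (Nat.Prime 3) := ⟨Nat.prime_three⟩
  exact orderOf_eq_prime_pow (p := 3) (n := 1) (by simpa using hn) (by simpa using h33)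

/-- In characteristic 2 the projection `SL₂ → PSL₂` is injective. -/
theorem mk_injective (h2 : (2 : F) = 0) :
    Function.Injective (QuotientGroup.mk' (center SL2) : SL2 →* PSL2) := by
  rw [injective_iff_map_eq_one]
  intro x hx
  rw [QuotientGroup.mk'_apply, QuotientGroup.eq_one_iff, Matrix.SpecialLinearGroup.mem_center_iff] at hx
  obtain ⟨r, hr, hx⟩ := hx
  have hr2 : r ^ 2 = 1 := by simpa using hr
  have hr1 : r = 1 := by
    have h3 : (r - 1) ^ 2 = 0 := by
      linear_combination hr2 + (1 - r) * h2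
    exact sub_eq_zero.mp (pow_eq_zero_iff (by norm_num) |>.mp h3)
  apply Subtype.ext
  rw [← hx, hr1]
  simp

theorem orderOf_mk (h2 : (2 : F) = 0) (x : SL2) :
    orderOf (QuotientGroup.mk' (center SL2) x : PSL2) = orderOf x :=
  orderOf_injective _ (mk_injective h2) x

theorem mk_surj (y : PSL2) : ∃ x : SL2, (QuotientGroup.mk' (center SL2) x : PSL2) = y :=
  QuotientGroup.mk'_surjective _ y

end sl

section el

variable {F : Type*} [Field F]

local notation "SL2" => Matrix.SpecialLinearGroup (Fin 2) F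
local notation "PSL2" => Matrix.ProjectiveSpecialLinearGroup (Fin 2) F
/-- the element with rows `(a, b)`, `(c, d)` -/
def el (a b c d : F) (h : a * d - b * c = 1) : SL2 :=
  ⟨!![a, b; c, d], by rw [Matrix.det_fin_two_of]; exact h⟩

@[simp] theorem el_00 (a b c d : F) (h : a * d - b * c = 1) : (el a b c d h) 0 0 = a := rfl
@[simp] theorem el_01 (a b c d : F) (h : a * d - b * c = 1) : (el a b c d h) 0 1 = b := rfl
@[simp] theorem el_10 (a b c d : F) (h : a * d - b * c = 1) : (el a b c d h) 1 0 = c := rfl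
@[simp] theorem el_11 (a b c d : F) (h : a * d - b * c = 1) : (el a b c d h) 1 1 = d := rfl

theorem mul_ij (x y : SL2) (i j : Fin 2) : (x * y) i j = x i 0 * y 0 j + x i 1 * y 1 j := by
  rw [Matrix.SpecialLinearGroup.coe_mul, Matrix.mul_apply, Fin.sum_univ_two]

theorem inv_00 (x : SL2) : (x⁻¹) 0 0 = x 1 1 := by
  rw [Matrix.SpecialLinearGroup.SL2_inv_expl]; rfl
theorem inv_01 (x : SL2) : (x⁻¹) 0 1 = - x 0 1 := by
  rw [Matrix.SpecialLinearGroup.SL2_inv_expl]; rfl
theorem inv_10 (x : SL2) : (x⁻¹) 1 0 = - x 1 0 := by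
  rw [Matrix.SpecialLinearGroup.SL2_inv_expl]; rfl
theorem inv_11 (x : SL2) : (x⁻¹) 1 1 = x 0 0 := by
  rw [Matrix.SpecialLinearGroup.SL2_inv_expl]; rfl

theorem ext_sl {x y : SL2} (h0 : x 0 0 = y 0 0) (h1 : x 0 1 = y 0 1) (h2 : x 1 0 = y 1 0)
    (h3 : x 1 1 = y 1 1) : x = y := by
  apply Subtype.ext
  ext i j
  fin_cases i <;> fin_cases j <;> assumption

end el

section eight

variable {F : Type*} [Field F] [Fintype F]

local notation "SL2" => Matrix.SpecialLinearGroup (Fin 2) F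
local notation "PSL2" => Matrix.ProjectiveSpecialLinearGroup (Fin 2) F
local notation "π" => (QuotientGroup.mk' (center (Matrix.SpecialLinearGroup (Fin 2) F)) :
  Matrix.SpecialLinearGroup (Fin 2) F →* Matrix.ProjectiveSpecialLinearGroup (Fin 2) F)

theorem card (hF : Fintype.card F = 8) : Nat.card PSL2 = 504 :=
  PSLFacts.card_psl_two_eight hF

theorem triple (hF : Fintype.card F = 8) : ∃ g h k : PSL2, orderOf g = 3 ∧ orderOf h = 3 ∧
    orderOf k = 3 ∧ orderOf (g * h * k) = 3 ∧ orderOf (k * h * g * k⁻¹ * h⁻¹ * g⁻¹) = 7 := by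
  have h2 := two_eq_zero hF
  obtain ⟨θ, hθ⟩ := exists_theta hF
  have hg : (0 : F) * 1 - 1 * 1 = 1 := by linear_combination -h2
  have hh : (0 : F) * 1 - θ * (θ ^ 2 + 1) = 1 := by
    linear_combination (-1) * hθ + (-1 - θ) * h2
  have hk : (0 : F) * 1 - (θ + 1) * (θ ^ 2 + θ) = 1 := by
    linear_combination (-1) * hθ + (-1 - θ - θ ^ 2) * h2
  refine ⟨π (el 0 1 1 1 hg), π (el 0 θ (θ ^ 2 + 1) 1 hh), π (el 0 (θ + 1) (θ ^ 2 + θ) 1 hk),
    ?_, ?_, ?_, ?_, ?_⟩
  · rw [orderOf_mk h2]; exact orderOf_three h2 _ (by simp)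
  · rw [orderOf_mk h2]; exact orderOf_three h2 _ (by simp)
  · rw [orderOf_mk h2]; exact orderOf_three h2 _ (by simp)
  · rw [← map_mul, ← map_mul, orderOf_mk h2]
    refine orderOf_three h2 _ ?_
    simp only [mul_ij, el_00, el_01, el_10, el_11]
    linear_combination hθ + (1 + 2 * θ + θ ^ 2) * h2
  · rw [← map_mul, ← map_mul, ← map_inv, ← map_inv, ← map_inv, ← map_mul, ← map_mul, ← map_mul,
      orderOf_mk h2]
    refine orderOf_seven h2 _ (1 + θ + θ ^ 2) ?_ ?_
    · linear_combination (9 + 6 * θ + 3 * θ ^ 2 + θ ^ 3) * hθ + (4 + 8 * θ + 6 * θ ^ 2) * h2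
    · simp only [mul_ij, inv_00, inv_01, inv_10, inv_11, el_00, el_01, el_10, el_11]
      linear_combination (-13 - 5 * θ - 4 * θ ^ 2 - 2 * θ ^ 3) * hθ + (-7 - 8 * θ - 7 * θ ^ 2) * h2

theorem invol (hF : Fintype.card F = 8) (t : PSL2) (ht : orderOf t = 2) :
    ∃ w, orderOf w = 3 ∧ t * w * t⁻¹ = w⁻¹ := by
  have h2 := two_eq_zero hF
  obtain ⟨x, rfl⟩ := mk_surj t
  rw [orderOf_mk h2] at ht
  have hxx : x * x = 1 := by
    have h3 := pow_orderOf_eq_one x
    rwa [ht, pow_two] at h3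
  have hx1 : x ≠ 1 := by rintro rfl; simp at ht
  have hxi : x⁻¹ = x := inv_eq_of_mul_eq_one_left hxx
  have key : ∀ s : SL2, s * s = 1 → (x * s) 0 0 + (x * s) 1 1 = 1 →
      ∃ w : PSL2, orderOf w = 3 ∧ π x * w * (π x)⁻¹ = w⁻¹ := by
    intro s hs htr
    refine ⟨π (x * s), ?_, ?_⟩
    · rw [orderOf_mk h2]; exact orderOf_three h2 _ htr
    · rw [← map_inv, ← map_mul, ← map_mul, ← map_inv]
      congr 1
      rw [_root_.mul_inv_rev, hxi, inv_eq_of_mul_eq_one_left hs, ← mul_assoc, hxx, one_mul]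
  have e0 := inv_00 x
  have e1 := inv_01 x
  have e2 := inv_10 x
  rw [hxi] at e0 e1 e2
  have hd : x 0 0 * x 1 1 - x 0 1 * x 1 0 = 1 := by
    have := x.det_coe
    rwa [Matrix.det_fin_two] at this
  have hone : ∀ c : F, (el 1 0 c 1 (by ring)) * (el 1 0 c 1 (by ring)) = 1 := by
    intro c
    apply ext_sl <;> simp [mul_ij, ← two_mul, h2]
  have hone' : ∀ c : F, (el 1 c 0 1 (by ring)) * (el 1 c 0 1 (by ring)) = 1 := by
    intro c
    apply ext_sl <;> simp [mul_ij, ← two_mul, h2]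
  by_cases hb : x 0 1 = 0
  · have ha : x 0 0 = 1 := by
      rw [← e0, hb] at hd
      have h3 : (x 0 0 - 1) ^ 2 = 0 := by
        linear_combination hd + (1 - x 0 0) * h2
      exact sub_eq_zero.mp (pow_eq_zero_iff (by norm_num) |>.mp h3)
    have hc : x 1 0 ≠ 0 := by
      intro hc
      apply hx1
      apply ext_sl
      · simpa using ha
      · simpa using hb
      · simpa using hc
      · rw [← e0, ha]; simp
    refine key (el 1 (x 1 0)⁻¹ 0 1 (by ring)) (hone' _) ?_
    simp only [mul_ij, el_00, el_01, el_10, el_11, ← e0, ha, hb]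
    field_simp
    linear_combination h2
  · refine key (el 1 0 (x 0 1)⁻¹ 1 (by ring)) (hone _) ?_
    simp only [mul_ij, el_00, el_01, el_10, el_11, ← e0]
    field_simp
    linear_combination (x 0 0) * h2

theorem dihedral (hF : Fintype.card F = 8) : ∃ t h : PSL2, orderOf t = 2 ∧ orderOf h = 7 ∧
    t * h * t⁻¹ = h⁻¹ := by
  have h2 := two_eq_zero hF
  obtain ⟨θ, hθ⟩ := exists_theta hF
  have ht : (0 : F) * 0 - 1 * 1 = 1 := by linear_combination -h2
  have hh : θ * (θ ^ 2 + 1) - 0 * 0 = 1 := by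
    linear_combination hθ + θ * h2
  have htt : el 0 1 1 0 ht * el 0 1 1 0 ht = 1 := by
    apply ext_sl <;> simp [mul_ij]
  refine ⟨π (el 0 1 1 0 ht), π (el θ 0 0 (θ ^ 2 + 1) hh), ?_, ?_, ?_⟩
  · rw [orderOf_mk h2]
    apply orderOf_eq_prime (by rw [pow_two, htt])
    intro h
    have := congrArg (fun z : SL2 => z 0 0) h
    simp at this
  · rw [orderOf_mk h2]
    refine orderOf_seven h2 _ (1 + θ + θ ^ 2) ?_ (by simp; ring)
    linear_combination (9 + 6 * θ + 3 * θ ^ 2 + θ ^ 3) * hθ + (4 + 8 * θ + 6 * θ ^ 2) * h2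
  · rw [← map_mul, ← map_inv, ← map_inv, ← map_mul]
    congr 1
    apply ext_sl <;> simp [mul_ij, inv_00, inv_01, inv_10, inv_11]
    · linear_combination (-1 - θ ^ 2) * h2
    · linear_combination (-θ) * h2

theorem sylow9 (hF : Fintype.card F = 8) : ∃ u : PSL2, orderOf u = 9 := by
  have h2 := two_eq_zero hF
  obtain ⟨θ, hθ⟩ := exists_theta hF
  have ht : (0 : F) * θ - 1 * 1 = 1 := by linear_combination -h2
  refine ⟨π (el 0 1 1 θ ht), ?_⟩
  rw [orderOf_mk h2]
  exact orderOf_nine h2 _ θ hθ (by simp)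

/-- the upper unitriangular elements -/
def uni : Multiplicative F →* SL2 where
  toFun c := el 1 c.toAdd 0 1 (by ring)
  map_one' := by apply ext_sl <;> simp
  map_mul' a b := by
    apply ext_sl <;> simp [mul_ij, add_comm]

theorem borel (hF : Fintype.card F = 8) : ∃ (S : Sylow 2 PSL2) (h : PSL2), orderOf h = 7 ∧
    h ∈ normalizer ((S : Subgroup PSL2) : Set PSL2) := by
  have h2 := two_eq_zero hF
  obtain ⟨θ, hθ⟩ := exists_theta hF
  have hh : θ * (θ ^ 2 + 1) - 0 * 0 = 1 := by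
    linear_combination hθ + θ * h2
  have hθ0 : θ ≠ 0 := by
    rintro rfl
    norm_num at hθ
  set U : Subgroup PSL2 := ((π).comp (uni (F := F))).range with hU
  have hinj : Function.Injective ((π).comp (uni (F := F))) := by
    rw [MonoidHom.coe_comp]
    refine (mk_injective h2).comp ?_
    intro a b hab
    have := congrArg (fun z : SL2 => z 0 1) hab
    exact Multiplicative.toAdd.injective this
  have hcard : Nat.card U = 8 := by
    rw [hU, ← Nat.card_congr (MonoidHom.ofInjective hinj).toEquiv, Nat.card_congr Multiplicative.toAdd,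
      Nat.card_eq_fintype_card, hF]
  have hfac : Nat.card U = 2 ^ (Nat.card PSL2).factorization 2 := by
    rw [hcard, card hF]
    have : (504 : ℕ) = 2 ^ 3 * 63 := by norm_num
    rw [this, Nat.factorization_mul (by norm_num) (by norm_num), Nat.factorization_pow]
    have h63 : Nat.factorization 63 2 = 0 := Nat.factorization_eq_zero_of_not_dvd (by norm_num)
    simp [h63, Nat.prime_two.factorization_self]
  refine ⟨Sylow.ofCard U hfac, π (el θ 0 0 (θ ^ 2 + 1) hh), ?_, ?_⟩
  · rw [orderOf_mk h2]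
    refine orderOf_seven h2 _ (1 + θ + θ ^ 2) ?_ (by simp; ring)
    linear_combination (9 + 6 * θ + 3 * θ ^ 2 + θ ^ 3) * hθ + (4 + 8 * θ + 6 * θ ^ 2) * h2
  · rw [Sylow.coe_ofCard]
    rw [Subgroup.mem_normalizer_iff]
    intro y
    have hinv : θ * (θ ^ 2 + 1) = 1 := by simpa using hh
    constructor
    · rintro ⟨c, rfl⟩
      refine ⟨Multiplicative.ofAdd (θ * θ * c.toAdd), ?_⟩
      rw [MonoidHom.comp_apply, MonoidHom.comp_apply, ← map_mul, ← map_inv, ← map_mul]
      congr 1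
      apply ext_sl <;> simp [uni, mul_ij, inv_00, inv_01, inv_10, inv_11]
      · exact hinv.symm
      · ring
      · linear_combination -hinv
    · rintro ⟨c, hc⟩
      refine ⟨Multiplicative.ofAdd ((θ ^ 2 + 1) * (θ ^ 2 + 1) * c.toAdd), ?_⟩
      have hy : y = (π (el θ 0 0 (θ ^ 2 + 1) hh))⁻¹ * ((π).comp (uni (F := F)) c) *
          π (el θ 0 0 (θ ^ 2 + 1) hh) := by
        rw [hc]; group
      rw [hy, MonoidHom.comp_apply, MonoidHom.comp_apply, ← map_inv, ← map_mul, ← map_mul]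
      congr 1
      apply ext_sl <;> simp [uni, mul_ij, inv_00, inv_01, inv_10, inv_11]
      · linear_combination -hinv
      · ring
      · exact hinv.symm

end eight

end Cfsg.Agent.SmallSimple.S1000.EightFacts
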