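import Mathlib
import Cfsg.Agent.SmallSimple.S1000.LocalStructure
import Cfsg.Agent.Lib.CoprimeHyperplane

/-!
# S1000, thin case, `M/Q = L₂(8)`: elements of order 3 act fixed point freely

Setting: `π : H → L` is surjective, its kernel `Q` is a 2-group, the elements of order 7 of `H` act
fixed point freely on `Q`, `C_Q(w)` has 2-rank at most 1 for `w` of order 3, and some involution of `L`
inverts an element of order 7.

* `exists_card_eq_sq`: a dihedral group of twice odd order acts on an elementary abelian 2-group `U`; if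
  the odd elements act fixed point freely then `|U|` is a square;
* `fpf_three`: the elements of order 3 of `H` act fixed point freely on `Q`.
-/

set_option autoImplicit false

namespace Cfsg.Agent.SmallSimple.S1000.ThinEightFpf

open Subgroup Cfsg

/-- If the involutory automorphism `a` of the elementary abelian 2-group `U` inverts the automorphism `b`
of odd order, and `b` has no fixed points, then `|U|` is a square. -/
theorem exists_card_eq_sq {U : Type*} [Group U] [Finite U] (h2 : ∀ u : U, u * u = 1)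
    (a b : MulAut U) (ha : a * a = 1) (hab : a * b * a⁻¹ = b⁻¹) {n : ℕ} (hn : Odd n)
    (hbn : b ^ n = 1) (hb : ∀ u, b u = u → u = 1) :
    Nat.card U = (Nat.card (a.toMonoidHom.eqLocus (MonoidHom.id U))) ^ 2 := by
  have hinv : ∀ u : U, u⁻¹ = u := fun u => (eq_inv_of_mul_eq_one_left (h2 u)).symm
  have hcomm : ∀ x y : U, x * y = y * x := fun x y => by
    calc x * y = (x * y)⁻¹ := (hinv _).symm
      _ = y⁻¹ * x⁻¹ := mul_inv_rev x y
      _ = y * x := by rw [hinv, hinv]
  have hab' : ∀ u, a (b⁻¹ u) = b (a u) := by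
    intro u
    have h1 : a * b⁻¹ = b * a := by
      rw [← hab]
      have ha' : a⁻¹ = a := (eq_inv_of_mul_eq_one_left ha).symm
      calc a * (a * b * a⁻¹) = (a * a) * b * a⁻¹ := by group
        _ = b * a := by rw [ha, one_mul, ha']
    exact congrArg (fun x : MulAut U => x u) h1
  set C := a.toMonoidHom.eqLocus (MonoidHom.id U) with hC
  have hmem : ∀ u, u ∈ C ↔ a u = u := fun u => Iff.rfl
  -- the map `u ↦ u * a u`
  let f : U →* U :=
    { toFun := fun u => u * a u
      map_one' := by rw [map_one, mul_one]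
      map_mul' := fun x y => by
        rw [map_mul]
        calc x * y * (a x * a y) = x * (y * a x) * a y := by group
          _ = x * (a x * y) * a y := by rw [hcomm y (a x)]
          _ = x * a x * (y * a y) := by group }
  have hf : ∀ u, f u = u * a u := fun u => rfl
  have hker : f.ker = C := by
    ext u
    rw [MonoidHom.mem_ker, hf, hmem]
    constructor
    · intro h
      exact (eq_inv_of_mul_eq_one_right h).trans (hinv u)
    · intro h
      rw [h, h2]
  have hrange : f.range ≤ C := by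
    rintro _ ⟨u, rfl⟩
    rw [hmem, hf, map_mul]
    have h1 : a (a u) = u := congrArg (fun x : MulAut U => x u) ha
    rw [h1, hcomm]
  have hle : Nat.card U ≤ Nat.card C * Nat.card C := by
    have h1 := f.ker.card_mul_index
    rw [Subgroup.index_ker, hker] at h1
    rw [← h1]
    exact Nat.mul_le_mul_left _ (Nat.card_le_card_of_injective _ (Subgroup.inclusion_injective hrange))
  have hge : Nat.card C * Nat.card C ≤ Nat.card U := by
    rw [← Nat.card_prod]
    refine Nat.card_le_card_of_injective (fun x : C × C => (x.1 : U) * b x.2) ?_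
    rintro ⟨c, d⟩ ⟨c', d'⟩ h
    simp only at h
    -- `x = c'⁻¹ c = b (d' d⁻¹)`
    have h1 : (c' : U)⁻¹ * c = b (d' * (d : U)⁻¹) := by
      rw [map_mul, map_inv, inv_mul_eq_iff_eq_mul, ← mul_assoc, ← h, mul_inv_cancel_right]
    set x := (c' : U)⁻¹ * c with hx
    have hxC : a x = x := C.mul_mem (C.inv_mem c'.2) c.2
    have hyC : a (d' * (d : U)⁻¹) = d' * (d : U)⁻¹ := C.mul_mem d'.2 (C.inv_mem d.2)
    have hy : (d' * (d : U)⁻¹ : U) = b⁻¹ x := by
      rw [h1]
      exact (b.symm_apply_apply _).symm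
    rw [hy, hab', hxC] at hyC
    -- `b x = b⁻¹ x`
    have h3 : (b ^ 2) x = x := by
      rw [pow_two, MulAut.mul_apply, hyC]
      exact b.apply_symm_apply x
    obtain ⟨m, rfl⟩ := hn
    have h4 : ∀ k : ℕ, ((b ^ 2) ^ k) x = x := by
      intro k
      induction k with
      | zero => rfl
      | succ k ih => rw [pow_succ, MulAut.mul_apply, h3, ih]
    have h5 : b x = x := by
      have h6 : b ^ (2 * m + 1) = b * (b ^ 2) ^ m := by
        rw [← pow_mul, pow_succ']
      have h7 := congrArg (fun y : MulAut U => y x) (h6.symm.trans hbn)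
      simp only [MulAut.mul_apply, MulAut.one_apply, h4] at h7
      exact h7
    have hx1 : x = 1 := hb x h5
    have hc : c = c' := by
      rw [hx1] at hx
      exact Subtype.ext (inv_mul_eq_one.mp hx.symm).symm
    have hd : d = d' := by
      rw [hx1, map_one] at hy
      exact Subtype.ext (mul_inv_eq_one.mp hy).symm
    rw [hc, hd]
  rw [pow_two]
  exact le_antisymm hle hge

/-- Fixed points of an element of prime order on a normalized subgroup. -/
theorem card_modEq {H : Type*} [Group H] [Finite H] {p : ℕ} [hp : Fact p.Prime] {w : H}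
    (hw : orderOf w = p) (B : Subgroup H) (hB : w ∈ normalizer (B : Set H)) :
    Nat.card B ≡ Nat.card (B ⊓ centralizer ({w} : Set H) : Subgroup H) [MOD p] := by
  have hz : zpowers w ≤ normalizer (B : Set H) := by rw [zpowers_le]; exact hB
  let act : MulAction (zpowers w) B := MulAction.compHom B (Lib.CoprimeHyperplane.conjHom hz)
  have hact : ∀ (g : zpowers w) (x : B), ((g • x : B) : H) = g * x * (g : H)⁻¹ := fun g x => rfl
  have hpg : IsPGroup p (zpowers w) :=
    IsPGroup.of_card (n := 1) (by rw [Nat.card_zpowers, hw, pow_one])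
  have h1 := hpg.card_modEq_card_fixedPoints (α := B)
  have h2 : Nat.card (MulAction.fixedPoints (zpowers w) B) =
      Nat.card (B ⊓ centralizer ({w} : Set H) : Subgroup H) := by
    refine Nat.card_congr ⟨fun x => ⟨x.1, x.1.2, ?_⟩, fun x => ⟨⟨x.1, x.2.1⟩, ?_⟩,
      fun x => rfl, fun x => rfl⟩
    · show ((x : B) : H) ∈ centralizer ({w} : Set H)
      rw [mem_centralizer_iff]
      rintro _ rfl
      have h3 := x.2 ⟨_, mem_zpowers _⟩
      have h4 := congrArg (fun y : B => (y : H)) h3
      simp only [hact] at h4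
      rw [mul_inv_eq_iff_eq_mul] at h4
      exact h4
    · rintro ⟨g, k, rfl⟩
      apply Subtype.ext
      rw [hact]
      have h3 : Commute w (x : H) := (mem_centralizer_iff.mp x.2.2) w rfl
      have h4 : Commute (w ^ k) (x : H) := h3.zpow_left k
      change w ^ k * (x : H) * (w ^ k)⁻¹ = x
      rw [h4.eq, mul_inv_cancel_right]
  rwa [h2] at h1

/-- Elements of odd prime order lift through a surjection whose kernel is a 2-group. -/
theorem exists_lift {H L : Type*} [Group H] [Group L] [Finite H] (π : H →* L)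
    (hπ : Function.Surjective π) (hQ : IsPGroup 2 π.ker) {p : ℕ} (hp : p.Prime) (hp2 : p ≠ 2)
    {g : L} (hg : orderOf g = p) : ∃ x : H, π x = g ∧ orderOf x = p := by
  obtain ⟨y, rfl⟩ := hπ g
  have h1 : y ^ p ∈ π.ker := by
    rw [MonoidHom.mem_ker, map_pow, ← hg, pow_orderOf_eq_one]
  obtain ⟨k, hk⟩ := hQ ⟨y ^ p, h1⟩
  have hk' : (y ^ p) ^ 2 ^ k = 1 := congrArg Subtype.val hk
  have hco : Nat.Coprime (2 ^ k) p :=
    Nat.Coprime.pow_left k ((Nat.coprime_primes Nat.prime_two hp).mpr (Ne.symm hp2))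
  obtain ⟨c, hc0, hc1⟩ := Nat.chineseRemainder hco 0 1
  obtain ⟨d, hd⟩ := (Nat.modEq_zero_iff_dvd.mp hc0)
  have h2 : π (y ^ c) = π y := by
    rw [map_pow]
    have h3 : (π y) ^ c = (π y) ^ 1 := by
      rw [pow_eq_pow_iff_modEq, hg]
      exact hc1
    rw [h3, pow_one]
  refine ⟨y ^ c, h2, ?_⟩
  have h4 : (y ^ c) ^ p = 1 := by
    rw [hd, ← pow_mul, show 2 ^ k * d * p = p * 2 ^ k * d by ring, pow_mul, pow_mul, hk', one_pow]
  rcases (Nat.dvd_prime hp).mp (orderOf_dvd_of_pow_eq_one h4) with h5 | h5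
  · exfalso
    rw [orderOf_eq_one_iff] at h5
    rw [h5, map_one] at h2
    rw [← h2, orderOf_one] at hg
    exact hp.one_lt.ne hg
  · exact h5

section main

variable {H L : Type*} [Group H] [Group L] [Finite H] (π : H →* L)

/-- **The elements of order 3 act fixed point freely on `Q = ker π`.** -/
theorem fpf_three (hπ : Function.Surjective π) (hQ : IsPGroup 2 π.ker)
    (h7 : ∀ x : H, orderOf x = 7 → ∀ q ∈ π.ker, x * q = q * x → q = 1)
    (hr : ∀ w : H, orderOf w = 3 → ∀ a ∈ π.ker, ∀ b ∈ π.ker, a * w = w * a → b * w = w * b →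
      a * b = b * a → a * a = 1 → b * b = 1 → a ≠ 1 → b ≠ 1 → a = b)
    (hd : ∃ t h : L, orderOf t = 2 ∧ orderOf h = 7 ∧ t * h * t⁻¹ = h⁻¹)
    {w : H} (hw : orderOf w = 3) : ∀ q ∈ π.ker, w * q = q * w → q = 1 := by
  classical
  have hf2 : Fact (Nat.Prime 2) := ⟨Nat.prime_two⟩
  have hf3 : Fact (Nat.Prime 3) := ⟨Nat.prime_three⟩
  have hf7 : Fact (Nat.Prime 7) := ⟨by norm_num⟩
  -- orders of 2-groups
  have hodd : ∀ (K : Type _) [Group K] [Finite K], IsPGroup 2 K → ¬ 3 ∣ Nat.card K ∧
      ¬ 7 ∣ Nat.card K := by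
    intro K _ _ hK
    obtain ⟨n, hn⟩ := IsPGroup.iff_card.mp hK
    rw [hn]
    refine ⟨fun h => ?_, fun h => ?_⟩
    · have := Nat.Prime.dvd_of_dvd_pow Nat.prime_three h
      omega
    · have := Nat.Prime.dvd_of_dvd_pow (show Nat.Prime 7 by norm_num) h
      omega
  set Q := π.ker with hQdef
  have hQn : Q.Normal := MonoidHom.normal_ker π
  let s : Set (Subgroup H) := {A | A.Normal ∧ A ≤ Q ∧ ∀ a ∈ A, w * a = a * w → a = 1}
  obtain ⟨A, ⟨hAn, hAQ, hAw⟩, hmax⟩ := (Set.toFinite s).exists_maximal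
    ⟨⊥, inferInstance, bot_le, fun a ha _ => ha⟩
  by_cases hAQ' : A = Q
  · rw [← hAQ']
    exact hAw
  exfalso
  have hA2 : IsPGroup 2 A := hQ.to_le hAQ
  obtain ⟨hA3, hA7⟩ := hodd A hA2
  set σ := QuotientGroup.mk' A with hσ
  have hσs : Function.Surjective σ := QuotientGroup.mk'_surjective A
  have hσk : ∀ x, σ x = 1 ↔ x ∈ A := fun x => QuotientGroup.eq_one_iff x
  set Qb := Q.map σ with hQb
  have hQbn : Qb.Normal := hQn.map σ hσs
  have hQb2 : IsPGroup 2 Qb := hQ.map σ
  -- `U = Ω₁(Z(Q/A))`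
  let U : Subgroup (H ⧸ A) :=
    { carrier := {k | k ∈ Qb ∧ k * k = 1 ∧ ∀ q ∈ Qb, k * q = q * k}
      one_mem' := ⟨one_mem _, mul_one 1, fun q _ => by rw [one_mul, mul_one]⟩
      mul_mem' := by
        rintro x y ⟨hx, hx2, hxc⟩ ⟨hy, hy2, hyc⟩
        refine ⟨mul_mem hx hy, ?_, fun q hq => ?_⟩
        · calc x * y * (x * y) = x * (y * x) * y := by group
            _ = x * (x * y) * y := by rw [hxc y hy]
            _ = (x * x) * (y * y) := by group
            _ = 1 := by rw [hx2, hy2, mul_one]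
        · rw [mul_assoc, hyc q hq, ← mul_assoc, hxc q hq, mul_assoc]
      inv_mem' := by
        rintro x ⟨hx, hx2, hxc⟩
        have : x⁻¹ = x := (eq_inv_of_mul_eq_one_left hx2).symm
        rw [Set.mem_ofPred_eq, this]
        exact ⟨hx, hx2, hxc⟩ }
  have hUmem : ∀ k, k ∈ U ↔ k ∈ Qb ∧ k * k = 1 ∧ ∀ q ∈ Qb, k * q = q * k := fun k => Iff.rfl
  have hUn : U.Normal := by
    refine ⟨fun k hk g => ?_⟩
    obtain ⟨h1, h2, h3⟩ := hk
    refine ⟨hQbn.conj_mem k h1 g, ?_, fun q hq => ?_⟩
    · calc g * k * g⁻¹ * (g * k * g⁻¹) = g * (k * k) * g⁻¹ := by group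
        _ = 1 := by rw [h2]; group
    · have h4 := h3 (g⁻¹ * q * g) (by simpa using hQbn.conj_mem q hq g⁻¹)
      calc g * k * g⁻¹ * q = g * (k * (g⁻¹ * q * g)) * g⁻¹ := by group
        _ = q * (g * k * g⁻¹) := by rw [h4]; group
  have hUne : ∃ k ∈ U, k ≠ 1 := by
    have hne : Qb ≠ ⊥ := by
      intro h
      apply hAQ'
      refine le_antisymm hAQ fun q hq => ?_
      rw [← hσk]
      have : σ q ∈ Qb := ⟨q, hq, rfl⟩
      rwa [h, mem_bot] at this
    have : Nontrivial Qb := (nontrivial_iff_ne_bot Qb).mpr hne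
    have hz : Nontrivial (center ↥Qb) := hQb2.center_nontrivial
    have hp : IsPGroup 2 (center ↥Qb) := hQb2.to_subgroup _
    obtain ⟨n, hn, hc⟩ := (hp.nontrivial_iff_card).mp hz
    obtain ⟨⟨z, hzc⟩, hz⟩ := exists_prime_orderOf_dvd_card' (G := center ↥Qb) 2
      (hc ▸ dvd_pow_self 2 hn.ne')
    refine ⟨z, ⟨z.2, ?_, fun q hq => ?_⟩, ?_⟩
    · have h1 : (⟨z, hzc⟩ : center ↥Qb) ^ 2 = 1 := by rw [← hz, pow_orderOf_eq_one]
      rw [pow_two] at h1
      exact congrArg (fun x : center ↥Qb => ((x : Qb) : H ⧸ A)) h1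
    · exact (congrArg Subtype.val (mem_center_iff.mp hzc ⟨q, hq⟩)).symm
    · intro h
      have h1 : (⟨z, hzc⟩ : center ↥Qb) = 1 := Subtype.ext (Subtype.ext h)
      rw [h1, orderOf_one] at hz
      exact absurd hz (by norm_num)
  set B := U.comap σ with hB
  have hBn : B.Normal := hUn.comap σ
  have hAB : A ≤ B := by
    intro a ha
    change σ a ∈ U
    rw [(hσk a).mpr ha]
    exact one_mem _
  have hBQ : B ≤ Q := by
    intro b hb
    obtain ⟨q, hq, hqb⟩ := (show σ b ∈ U from hb).1
    have h1 : q⁻¹ * b ∈ A := by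
      rw [← hσk, map_mul, map_inv, hqb, inv_mul_cancel]
    have h2 := mul_mem hq (hAQ h1)
    rwa [mul_inv_cancel_left] at h2
  -- some element of `B` outside `A`
  obtain ⟨k₀, hk₀, hk₀1⟩ := hUne
  obtain ⟨b₀, rfl⟩ := hσs k₀
  have hb₀ : b₀ ∈ B := hk₀
  have hb₀A : b₀ ∉ A := fun h => hk₀1 ((hσk b₀).mpr h)
  -- hence `B ∉ s`
  have hBs : ¬ ∀ b ∈ B, w * b = b * w → b = 1 := fun h =>
    hb₀A (hmax (⟨hBn, hBQ, h⟩ : B ∈ s) hAB hb₀)
  push Not at hBs
  obtain ⟨b, hbB, hbw, hb1⟩ := hBs
  -- the centralizer of `w` in `B` is `{1, b}`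
  have hsq : ∀ x ∈ B, w * x = x * w → x * x = 1 := by
    intro x hx hxw
    apply hAw
    · rw [← hσk, map_mul]
      exact (show σ x ∈ U from hx).2.1
    · rw [← mul_assoc, hxw, mul_assoc, hxw, mul_assoc]
  have hcm : ∀ x ∈ B, ∀ y ∈ B, w * x = x * w → w * y = y * w → x * y = y * x := by
    intro x hx y hy hxw hyw
    have h1 : x * y * x⁻¹ * y⁻¹ = 1 := by
      apply hAw
      · rw [← hσk, map_mul, map_mul, map_mul, map_inv, map_inv,
          (show σ x ∈ U from hx).2.2 (σ y) (show σ y ∈ U from hy).1]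
        group
      · have e1 : Commute w x := hxw
        have e2 : Commute w y := hyw
        exact (((e1.mul_right e2).mul_right e1.inv_right).mul_right e2.inv_right).eq
    calc x * y = (x * y * x⁻¹ * y⁻¹) * (y * x) := by group
      _ = y * x := by rw [h1, one_mul]
  have hcent : Nat.card (B ⊓ centralizer ({w} : Set H) : Subgroup H) = 2 := by
    have hbC : b ∈ B ⊓ centralizer ({w} : Set H) := by
      refine ⟨hbB, mem_centralizer_iff.mpr ?_⟩
      rintro _ rfl
      exact hbw
    have h1 : (B ⊓ centralizer ({w} : Set H) : Subgroup H) = zpowers b := by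
      apply le_antisymm
      · rintro x ⟨hx, hxw⟩
        have hxw' : w * x = x * w := mem_centralizer_iff.mp hxw w rfl
        by_cases hx1 : x = 1
        · rw [hx1]
          exact one_mem _
        · have h2 := hr w hw x (hBQ hx) b (hBQ hbB) hxw'.symm hbw.symm
            (hcm x hx b hbB hxw' hbw) (hsq x hx hxw') (hsq b hbB hbw) hx1 hb1
          rw [h2]
          exact mem_zpowers b
      · rw [zpowers_le]
        exact hbC
    rw [h1, Nat.card_zpowers]
    exact orderOf_eq_prime (by rw [pow_two, hsq b hbB hbw]) hb1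
  have hwB : w ∈ normalizer (B : Set H) := by
    rw [normalizer_eq_top_iff.mpr hBn]
    exact mem_top w
  have hwA : w ∈ normalizer (A : Set H) := by
    rw [normalizer_eq_top_iff.mpr hAn]
    exact mem_top w
  have hmodB := card_modEq hw B hwB
  rw [hcent] at hmodB
  have hmodA := card_modEq hw A hwA
  have hcA : Nat.card (A ⊓ centralizer ({w} : Set H) : Subgroup H) = 1 := by
    rw [Subgroup.card_eq_one, eq_bot_iff]
    rintro x ⟨hx, hxw⟩
    exact hAw x hx (mem_centralizer_iff.mp hxw w rfl)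
  rw [hcA] at hmodA
  have hcardB : Nat.card B = Nat.card A * Nat.card U := LocalStructure.card_comap A U
  -- `|U|` is a square
  obtain ⟨t, h, ht, hh, hth⟩ := hd
  obtain ⟨t, rfl⟩ := hπ t
  obtain ⟨x, hx, hxo⟩ := exists_lift π hπ hQ (by norm_num) (by norm_num) hh
  have htriv : ∀ q ∈ Q, ∀ u ∈ U, σ q * u * (σ q)⁻¹ = u := by
    intro q hq u hu
    rw [← hu.2.2 (σ q) ⟨q, hq, rfl⟩, mul_inv_cancel_right]
  have hsquare : ∃ k, Nat.card U = k ^ 2 := by
    refine ⟨_, exists_card_eq_sq (U := U) (fun u => Subtype.ext u.2.2.1)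
      (MulAut.conjNormal (σ t)) (MulAut.conjNormal (σ x)) ?_ ?_ (n := 7) (by decide) ?_ ?_⟩
    · rw [← map_mul, ← map_mul]
      ext u
      rw [MulAut.conjNormal_apply, MulAut.one_apply]
      refine htriv (t * t) ?_ u u.2
      rw [hQdef, MonoidHom.mem_ker, map_mul, ← pow_two, ← ht, pow_orderOf_eq_one]
    · rw [← map_inv, ← map_inv, ← map_inv, ← map_inv, ← map_mul, ← map_mul, ← map_mul, ← map_mul,
        ← mul_inv_eq_one, ← map_inv, ← map_inv, ← map_mul, ← map_mul]
      ext u
      rw [MulAut.conjNormal_apply, MulAut.one_apply]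
      refine htriv _ ?_ u u.2
      rw [hQdef, MonoidHom.mem_ker, map_mul, map_mul, map_mul, map_inv, map_inv, map_inv, hx, hth]
      group
    · rw [← map_pow, ← map_pow, ← hxo, pow_orderOf_eq_one, map_one, map_one]
    · intro u hu
      have h1 : σ x * (u : H ⧸ A) * (σ x)⁻¹ = u := by
        have := congrArg Subtype.val hu
        rwa [MulAut.conjNormal_apply] at this
      obtain ⟨y, hy⟩ := hσs (u : H ⧸ A)
      rw [← hy] at h1
      obtain ⟨y', hy', hxy⟩ := LocalStructure.exists_commute_of_quotient (p := 7) (by norm_num) A hA7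
        hxo y (mul_inv_eq_iff_eq_mul.mp h1)
      have hy'' : σ y' = u := hy'.trans hy
      have hyB : y' ∈ B := by
        change σ y' ∈ U
        rw [hy'']
        exact u.2
      have h2 := h7 x hxo y' (hBQ hyB) hxy
      apply Subtype.ext
      rw [← hy'', h2, map_one]
      rfl
  obtain ⟨k, hk⟩ := hsquare
  rw [hcardB, hk] at hmodB
  have h5 : Nat.card A * k ^ 2 ≡ 1 * k ^ 2 [MOD 3] := hmodA.mul_right _
  have h6 : 1 * k ^ 2 ≡ 2 [MOD 3] := h5.symm.trans hmodB
  rw [one_mul, Nat.ModEq, Nat.pow_mod] at h6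
  have h7' : k % 3 < 3 := Nat.mod_lt _ (by norm_num)
  interval_cases hk3 : k % 3 <;> simp at h6

end main

end Cfsg.Agent.SmallSimple.S1000.ThinEightFpf
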