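import Mathlib
import Cfsg.Agent.SmallSimple.S1000.ThinEightFpf

/-!
# S1000, thin case, `M/Q = L₂(8)`: `Q` is abelian

Setting: `π : H → L` is surjective, its kernel `Q` is a 2-group, the elements of order 3 and 7 of `H` act
fixed point freely on `Q`.

* `comm`: `Q` is abelian if there are `g, h, k ∈ L` such that `g, h, k, ghk` have order 3 and
  `khgk⁻¹h⁻¹g⁻¹` has order 7;
* `card_eq_sq`: `|V| = |C_V(t)|²` for the normal subgroups `V ≤ Q` of `H` and the elements `t` whose image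
  in `L` is an involution that inverts an element of order 3.
-/

set_option autoImplicit false

namespace Cfsg.Agent.SmallSimple.S1000.ThinEightAb

open Subgroup Cfsg Cfsg.Agent.SmallSimple.S1000.ThinEightFpf

section three

variable {H : Type*} [Group H] {Q : Subgroup H} [Finite Q]

/-- `x · wxw⁻¹ · w²xw⁻² = 1` if `w` of order 3 acts fixed point freely. -/
theorem mul_conj_mul_conj {w : H} (hw3 : w ^ 3 = 1) (hwQ : w ∈ normalizer (Q : Set H))
    (hfpf : ∀ q ∈ Q, w * q = q * w → q = 1) {x : H} (hx : x ∈ Q) :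
    x * (w * x * w⁻¹) * (w⁻¹ * x * w) = 1 := by
  have hww : w * w = w⁻¹ := by
    rw [eq_inv_iff_mul_eq_one, ← pow_two, ← pow_succ, hw3]
  let φ : Q → Q := fun q => ⟨(q : H)⁻¹ * (w * q * w⁻¹),
    mul_mem (inv_mem q.2) ((mem_normalizer_iff.mp hwQ q).mp q.2)⟩
  have hφ : Function.Injective φ := by
    intro q r h
    have h1 : (q : H)⁻¹ * (w * q * w⁻¹) = (r : H)⁻¹ * (w * r * w⁻¹) := congrArg Subtype.val h
    have h2 : w * (r * (q : H)⁻¹) = (r * (q : H)⁻¹) * w := by
      have h3 : (r : H) * ((q : H)⁻¹ * (w * q * w⁻¹)) = w * r * w⁻¹ := by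
        rw [h1, mul_inv_cancel_left]
      calc w * (r * (q : H)⁻¹) = (w * r * w⁻¹) * w * (q : H)⁻¹ := by group
        _ = (r : H) * ((q : H)⁻¹ * (w * q * w⁻¹)) * w * (q : H)⁻¹ := by rw [h3]
        _ = (r * (q : H)⁻¹) * w := by group
    have h4 := hfpf _ (mul_mem r.2 (inv_mem q.2)) h2
    exact Subtype.ext (mul_inv_eq_one.mp h4).symm
  obtain ⟨q, hq⟩ := (Finite.surjective_of_injective hφ) ⟨x, hx⟩
  have hq' : x = (q : H)⁻¹ * (w * q * w⁻¹) := (congrArg Subtype.val hq).symm
  have e : w⁻¹ = w * w := hww.symm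
  calc x * (w * x * w⁻¹) * (w⁻¹ * x * w)
      = (q : H)⁻¹ * (w * w * q * (w * w)⁻¹) * (w⁻¹ * (q : H)⁻¹ * w) * q := by
        rw [hq']; group
    _ = 1 := by rw [hww]; group

/-- `x` commutes with `wxw⁻¹`. -/
theorem commute_conj {w : H} (hw3 : w ^ 3 = 1) (hwQ : w ∈ normalizer (Q : Set H))
    (hfpf : ∀ q ∈ Q, w * q = q * w → q = 1) {x : H} (hx : x ∈ Q) :
    x * (w * x * w⁻¹) = (w * x * w⁻¹) * x := by
  have h1 := mul_conj_mul_conj hw3 hwQ hfpf hx
  have h2 := mul_conj_mul_conj hw3 hwQ hfpf (inv_mem hx)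
  -- a b c = 1, a⁻¹ b⁻¹ c⁻¹ = 1
  have h3 : (w⁻¹ * x * w) * (w * x * w⁻¹) * x = 1 := by
    have := congrArg (fun y => y⁻¹) h2
    simp only [inv_one, mul_inv_rev, inv_inv] at this
    simpa only [mul_assoc] using this
  have h4 : x * (w * x * w⁻¹) = (w⁻¹ * x * w)⁻¹ := eq_inv_of_mul_eq_one_left h1
  have h5 : (w * x * w⁻¹) * x = (w⁻¹ * x * w)⁻¹ := by
    rw [mul_assoc] at h3
    exact eq_inv_of_mul_eq_one_right h3
  rw [h4, h5]

end three

section comm

variable {H L : Type*} [Group H] [Group L] [Finite H] (π : H →* L)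

theorem comm (hπ : Function.Surjective π) (hQ : IsPGroup 2 π.ker)
    (h7 : ∀ x : H, orderOf x = 7 → ∀ q ∈ π.ker, x * q = q * x → q = 1)
    (h3 : ∀ x : H, orderOf x = 3 → ∀ q ∈ π.ker, x * q = q * x → q = 1)
    (htr : ∃ g h k : L, orderOf g = 3 ∧ orderOf h = 3 ∧ orderOf k = 3 ∧ orderOf (g * h * k) = 3 ∧
      orderOf (k * h * g * k⁻¹ * h⁻¹ * g⁻¹) = 7) :
    ∀ a ∈ π.ker, ∀ b ∈ π.ker, a * b = b * a := by
  set Q := π.ker with hQdef
  have hQn : Q.Normal := MonoidHom.normal_ker π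
  have hker : ∀ x, x ∈ Q ↔ π x = 1 := fun x => MonoidHom.mem_ker
  have hnorm : ∀ x : H, x ∈ normalizer (Q : Set H) := fun x => by
    rw [normalizer_eq_top_iff.mpr hQn]
    exact mem_top x
  -- the centre
  let Z : Set H := {z | z ∈ Q ∧ ∀ q ∈ Q, z * q = q * z}
  have hZmul : ∀ {x y}, x ∈ Z → y ∈ Z → x * y ∈ Z := by
    rintro x y ⟨hx, hxc⟩ ⟨hy, hyc⟩
    refine ⟨mul_mem hx hy, fun q hq => ?_⟩
    rw [mul_assoc, hyc q hq, ← mul_assoc, hxc q hq, mul_assoc]
  have hZinv : ∀ {x}, x ∈ Z → x⁻¹ ∈ Z := by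
    rintro x ⟨hx, hxc⟩
    refine ⟨inv_mem hx, fun q hq => ?_⟩
    rw [inv_mul_eq_iff_eq_mul, ← mul_assoc, hxc q hq, mul_inv_cancel_right]
  have hZconj : ∀ {x} (g : H), x ∈ Z → g * x * g⁻¹ ∈ Z := by
    rintro x g ⟨hx, hxc⟩
    refine ⟨hQn.conj_mem x hx g, fun q hq => ?_⟩
    have h4 := hxc (g⁻¹ * q * g) (by simpa using hQn.conj_mem q hq g⁻¹)
    calc g * x * g⁻¹ * q = g * (x * (g⁻¹ * q * g)) * g⁻¹ := by group
      _ = q * (g * x * g⁻¹) := by rw [h4]; group
  -- the commutator with an element `e` of the second centre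
  let c : H → H → H := fun e q => e * q * e⁻¹ * q⁻¹
  have hc : ∀ e q, c e q = e * q * e⁻¹ * q⁻¹ := fun _ _ => rfl
  -- main claim
  have key : ∀ e ∈ Q, (∀ f : H, (∀ q ∈ Q, c (f * e * f⁻¹) q ∈ Z)) → ∀ q ∈ Q, c e q = 1 := by
    intro e he hZ q hq
    have hZe : ∀ q ∈ Q, c e q ∈ Z := by
      intro q hq
      have := hZ 1 q hq
      simpa using this
    have hmul : ∀ e, (∀ q ∈ Q, c e q ∈ Z) → ∀ q ∈ Q, ∀ r ∈ Q, c e (q * r) = c e q * c e r := by
      intro e hZe q hq r hr
      have h1 := (hZe r hr).2 q hq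
      calc c e (q * r) = (e * q * e⁻¹ * q⁻¹) * (q * (e * r * e⁻¹ * r⁻¹) * q⁻¹) := by
            rw [hc]; group
        _ = c e q * c e r := by
            rw [show q * (e * r * e⁻¹ * r⁻¹) * q⁻¹ = c e r by
              rw [← hc, ← h1, mul_inv_cancel_right]]
    -- elements of order 3
    have hone : ∀ w : H, orderOf w = 3 → ∀ q ∈ Q, c e (w * q * w⁻¹) = w⁻¹ * c e q * w := by
      intro w hw q hq
      have hw3 : w ^ 3 = 1 := by rw [← hw, pow_orderOf_eq_one]
      have hfp := h3 w hw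
      have hwn := hnorm w
      have hq' : w * q * w⁻¹ ∈ Q := hQn.conj_mem q hq w
      have hq'' : w⁻¹ * q * w ∈ Q := by simpa using hQn.conj_mem q hq w⁻¹
      have he' : w * e * w⁻¹ ∈ Q := hQn.conj_mem e he w
      have hcz := hZe q hq
      have hyz := hZe _ hq'
      have hez : c (w * e * w⁻¹) q ∈ Z := hZ w q hq
      -- `c e q' = c e' q`
      have h1 : c e (w * q * w⁻¹) = c (w * e * w⁻¹) q := by
        have k1 := commute_conj hw3 hwn hfp (mul_mem he hq)
        have k2 := commute_conj hw3 hwn hfp he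
        have k3 := commute_conj hw3 hwn hfp hq
        set e' := w * e * w⁻¹ with he'def
        set q' := w * q * w⁻¹ with hq'def
        have k4 : w * (e * q) * w⁻¹ = e' * q' := by rw [he'def, hq'def]; group
        rw [k4] at k1
        -- e q e' q' = e' q' e q
        have k5 : q * e' = (c e' q)⁻¹ * (e' * q) := by rw [hc]; group
        have k6 : q' * e = (c e q')⁻¹ * (e * q') := by rw [hc]; group
        have l1 : e * q * (e' * q') = (c e' q)⁻¹ * (e * e' * (q * q')) := by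
          calc e * q * (e' * q') = e * (q * e') * q' := by group
            _ = e * ((c e' q)⁻¹ * (e' * q)) * q' := by rw [k5]
            _ = (e * (c e' q)⁻¹) * (e' * q) * q' := by group
            _ = ((c e' q)⁻¹ * e) * (e' * q) * q' := by rw [(hZinv hez).2 e he]
            _ = _ := by group
        have l2 : e' * q' * (e * q) = (c e q')⁻¹ * (e * e' * (q * q')) := by
          calc e' * q' * (e * q) = e' * (q' * e) * q := by group
            _ = e' * ((c e q')⁻¹ * (e * q')) * q := by rw [k6]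
            _ = (e' * (c e q')⁻¹) * (e * q') * q := by group
            _ = ((c e q')⁻¹ * e') * (e * q') * q := by rw [(hZinv hyz).2 e' he']
            _ = (c e q')⁻¹ * ((e' * e) * (q' * q)) := by group
            _ = _ := by rw [← k2, ← k3]
        rw [l1, l2] at k1
        have k7 := mul_right_cancel k1
        exact (inv_injective k7).symm
      -- `c e' q = w (c e (w⁻¹ q w)) w⁻¹`
      have h2 : c (w * e * w⁻¹) q = w * c e (w⁻¹ * q * w) * w⁻¹ := by
        rw [hc, hc]; group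
      have h4 : w⁻¹ * q * w = (q * (w * q * w⁻¹))⁻¹ :=
        eq_inv_of_mul_eq_one_right (mul_conj_mul_conj hw3 hwn hfp hq)
      have h5 : c e (w⁻¹ * q * w) * (c e q * c e (w * q * w⁻¹)) = 1 := by
        rw [← hmul e hZe q hq _ hq', ← hmul e hZe _ hq'' _ (mul_mem hq hq'), h4,
          inv_mul_cancel, hc]
        group
      set y := c e (w * q * w⁻¹) with hy
      have h6 : y = w * (c e q * y)⁻¹ * w⁻¹ := by
        have h7 : c e (w⁻¹ * q * w) = (c e q * y)⁻¹ := eq_inv_of_mul_eq_one_left h5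
        calc y = c (w * e * w⁻¹) q := h1
          _ = w * c e (w⁻¹ * q * w) * w⁻¹ := h2
          _ = w * (c e q * y)⁻¹ * w⁻¹ := by rw [h7]
      have h8 : w⁻¹ * y * w = (c e q * y)⁻¹ := by
        have h9 : w⁻¹ * y * w = w⁻¹ * (w * (c e q * y)⁻¹ * w⁻¹) * w :=
          congrArg (fun z => w⁻¹ * z * w) h6
        rw [h9]
        group
      have h10 := mul_conj_mul_conj hw3 hwn hfp hyz.1
      -- `y (w y w⁻¹) (w⁻¹ y w) = 1`
      have h11 : w * y * w⁻¹ = c e q := by
        have hA : w * y * w⁻¹ ∈ Z := hZconj w hyz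
        have h12 : (w * y * w⁻¹) * y * (c e q * y)⁻¹ = 1 := by
          rw [hA.2 y hyz.1, ← h8]
          exact h10
        rw [mul_inv_eq_one] at h12
        exact mul_right_cancel h12
      rw [← h11]
      group
    -- elements that have order 3 modulo `Q`
    have hall : ∀ u : H, orderOf (π u) = 3 → ∀ q ∈ Q, c e (u * q * u⁻¹) = u⁻¹ * c e q * u := by
      intro u hu q hq
      obtain ⟨w, hwu, hw⟩ := exists_lift π hπ hQ Nat.prime_three (by norm_num) hu
      have hs : w⁻¹ * u ∈ Q := by rw [hker, map_mul, map_inv, hwu, inv_mul_cancel]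
      set s := w⁻¹ * u with hsdef
      have hus : u = w * s := by rw [hsdef, mul_inv_cancel_left]
      have hsq : s * q * s⁻¹ ∈ Q := hQn.conj_mem q hq s
      have h1 : c e (s * q * s⁻¹) = c e q := by
        rw [hmul e hZe _ (mul_mem hs hq) _ (inv_mem hs), hmul e hZe _ hs _ hq]
        have h2 : c e s * c e s⁻¹ = 1 := by
          rw [← hmul e hZe _ hs _ (inv_mem hs), mul_inv_cancel, hc]
          group
        rw [(hZe s hs).2 _ (hZe q hq).1, mul_assoc, h2, mul_one]
      have h2 : u * q * u⁻¹ = w * (s * q * s⁻¹) * w⁻¹ := by rw [hus]; group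
      rw [h2, hone w hw _ hsq, h1, hus]
      have h4 : w⁻¹ * c e q * w ∈ Z := by
        have := hZconj w⁻¹ (hZe q hq)
        simpa using this
      calc w⁻¹ * c e q * w = (w⁻¹ * c e q * w) * s⁻¹ * s := by group
        _ = s⁻¹ * (w⁻¹ * c e q * w) * s := by rw [h4.2 _ (inv_mem hs)]
        _ = (w * s)⁻¹ * c e q * (w * s) := by group
    obtain ⟨g, h, k, hg, hh, hk, hghk, hz⟩ := htr
    obtain ⟨g, rfl⟩ := hπ g
    obtain ⟨h, rfl⟩ := hπ h
    obtain ⟨k, rfl⟩ := hπ k
    rw [← map_mul, ← map_mul] at hghk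
    have e1 := hall (g * h * k) hghk q hq
    have e2 : c e (g * h * k * q * (g * h * k)⁻¹) = g⁻¹ * (h⁻¹ * (k⁻¹ * c e q * k) * h) * g := by
      have f1 : k * q * k⁻¹ ∈ Q := hQn.conj_mem q hq k
      have f2 : h * (k * q * k⁻¹) * h⁻¹ ∈ Q := hQn.conj_mem _ f1 h
      rw [← hall k hk q hq, ← hall h hh _ f1, ← hall g hg _ f2]
      congr 1
      group
    rw [e2] at e1
    set z := k * h * g * k⁻¹ * h⁻¹ * g⁻¹ with hzdef
    have hzc : z * c e q * z⁻¹ = c e q := by
      calc z * c e q * z⁻¹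
          = (k * h * g) * ((g * h * k)⁻¹ * c e q * (g * h * k)) * (k * h * g)⁻¹ := by
            rw [hzdef]; group
        _ = (k * h * g) * (g⁻¹ * (h⁻¹ * (k⁻¹ * c e q * k) * h) * g) * (k * h * g)⁻¹ := by rw [e1]
        _ = c e q := by group
    have hz7 : orderOf (π z) = 7 := by
      rw [hzdef, map_mul, map_mul, map_mul, map_mul, map_mul, map_inv, map_inv, map_inv]
      exact hz
    obtain ⟨x, hxz, hx⟩ := exists_lift π hπ hQ (by norm_num) (by norm_num) hz7
    have hs : x⁻¹ * z ∈ Q := by rw [hker, map_mul, map_inv, hxz, inv_mul_cancel]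
    apply h7 x hx _ (hZe q hq).1
    have h1 : (x⁻¹ * z) * c e q * (x⁻¹ * z)⁻¹ = c e q := by
      rw [← (hZe q hq).2 _ hs, mul_inv_cancel_right]
    have h2 : x⁻¹ * c e q * x = c e q := by
      calc x⁻¹ * c e q * x = x⁻¹ * (z * c e q * z⁻¹) * x := by rw [hzc]
        _ = (x⁻¹ * z) * c e q * (x⁻¹ * z)⁻¹ := by group
        _ = c e q := h1
    calc x * c e q = x * (x⁻¹ * c e q * x) := by rw [h2]
      _ = c e q * x := by group
  -- the second centre is the centre
  have hcen : center ↥Q = ⊤ := by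
    by_contra hne
    have h2 : Nontrivial (↥Q ⧸ center ↥Q) := by
      by_contra hnt
      rw [not_nontrivial_iff_subsingleton] at hnt
      exact hne (QuotientGroup.subgroup_eq_top_of_subsingleton _ hnt)
    have hp : IsPGroup 2 (↥Q ⧸ center ↥Q) := hQ.to_quotient _
    have hf : Fact (Nat.Prime 2) := ⟨Nat.prime_two⟩
    have hz : Nontrivial (center (↥Q ⧸ center ↥Q)) := hp.center_nontrivial
    obtain ⟨⟨z, hz⟩, hz1⟩ := exists_ne (1 : center (↥Q ⧸ center ↥Q))
    obtain ⟨z, rfl⟩ := QuotientGroup.mk_surjective z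
    apply hz1
    apply Subtype.ext
    change ((z : ↥Q) : ↥Q ⧸ center ↥Q) = 1
    rw [QuotientGroup.eq_one_iff, mem_center_iff]
    -- all conjugates of `z` have central commutators
    have hZ : ∀ f : H, ∀ q ∈ Q, c (f * z * f⁻¹) q ∈ Z := by
      intro f q hq
      have h5 : f⁻¹ * q * f ∈ Q := by simpa using hQn.conj_mem q hq f⁻¹
      have h6 : c (f * z * f⁻¹) q = f * c z (f⁻¹ * q * f) * f⁻¹ := by
        rw [hc, hc]; group
      rw [h6]
      apply hZconj
      have h7 := mem_center_iff.mp hz ((⟨_, h5⟩ : ↥Q) : ↥Q ⧸ center ↥Q)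
      have h8 : z * ⟨_, h5⟩ * z⁻¹ * (⟨_, h5⟩ : ↥Q)⁻¹ ∈ center ↥Q := by
        rw [← QuotientGroup.eq_one_iff]
        simp only [QuotientGroup.mk_mul, QuotientGroup.mk_inv]
        rw [← h7]
        group
      rw [mem_center_iff] at h8
      refine ⟨(z * ⟨_, h5⟩ * z⁻¹ * (⟨_, h5⟩ : ↥Q)⁻¹ : ↥Q).2, fun r hr => ?_⟩
      exact (congrArg Subtype.val (h8 ⟨r, hr⟩)).symm
    intro q
    have h9 := key z z.2 hZ q q.2
    apply Subtype.ext
    rw [hc, mul_inv_eq_one, mul_inv_eq_iff_eq_mul] at h9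
    exact h9.symm
  intro a ha b hb
  have h1 : (⟨b, hb⟩ : ↥Q) ∈ center ↥Q := by rw [hcen]; exact mem_top _
  exact congrArg Subtype.val (mem_center_iff.mp h1 ⟨a, ha⟩)

end comm

section square

/-- An abelian group `U` of order prime to 3 with automorphisms `a, b`, `a² = 1`, `aba⁻¹ = b⁻¹`,
`1 + b + b² = 0`: `|U| = |C_U(a)|²`. -/
theorem card_eq_sq_of_three {U : Type*} [Group U] [Finite U] (hcomm : ∀ x y : U, x * y = y * x)
    (hU3 : Nat.Coprime (Nat.card U) 3) (a b : MulAut U) (ha : a * a = 1)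
    (hab : a * b * a⁻¹ = b⁻¹) (hb3 : ∀ x, x * b x * b (b x) = 1) :
    Nat.card U = (Nat.card (a.toMonoidHom.eqLocus (MonoidHom.id U))) ^ 2 := by
  have hcube : ∀ x : U, x * x * x = 1 → x = 1 := by
    intro x hx
    have h1 : orderOf x ∣ 3 := orderOf_dvd_of_pow_eq_one (by rw [pow_succ, pow_two, hx])
    have h2 : orderOf x ∣ Nat.card U := orderOf_dvd_natCard x
    have h3 : orderOf x ∣ 1 := by
      rw [← hU3.gcd_eq_one]
      exact Nat.dvd_gcd h2 h1
    exact orderOf_eq_one_iff.mp (Nat.dvd_one.mp h3)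
  have hbbb : ∀ x, b (b (b x)) = x := by
    intro x
    have h1 := hb3 x
    have h2 := hb3 (b x)
    rw [mul_assoc] at h1
    have h3 : x = (b x * b (b x))⁻¹ := eq_inv_of_mul_eq_one_left h1
    calc b (b (b x)) = (b x * b (b x))⁻¹ := eq_inv_of_mul_eq_one_right h2
      _ = x := h3.symm
  have hfix : ∀ x, b x = x → x = 1 := by
    intro x hx
    have h1 := hb3 x
    rw [hx, hx] at h1
    exact hcube x h1
  have haa : ∀ x, a (a x) = x := fun x => congrArg (fun f : MulAut U => f x) ha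
  -- `a b = b² a`
  have hab' : ∀ x, a (b x) = b (b (a x)) := by
    intro x
    have h1 : b (a (b x)) = a x := by
      have h2 : b * a * b = a := by
        have h3 : b * (a * b * a⁻¹) = 1 := by rw [hab, mul_inv_cancel]
        calc b * a * b = b * (a * b * a⁻¹) * a := by group
          _ = a := by rw [h3, one_mul]
      exact congrArg (fun f : MulAut U => f x) h2
    calc a (b x) = b (b (b (a (b x)))) := (hbbb _).symm
      _ = b (b (a x)) := by rw [h1]
  set C := a.toMonoidHom.eqLocus (MonoidHom.id U) with hC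
  have hmem : ∀ u, u ∈ C ↔ a u = u := fun u => Iff.rfl
  have hge : Nat.card C * Nat.card C ≤ Nat.card U := by
    rw [← Nat.card_prod]
    refine Nat.card_le_card_of_injective (fun x : C × C => (x.1 : U) * b x.2) ?_
    rintro ⟨c, d⟩ ⟨c', d'⟩ h
    simp only at h
    have h1 : (c' : U)⁻¹ * c = b (d' * (d : U)⁻¹) := by
      rw [map_mul, map_inv, inv_mul_eq_iff_eq_mul, ← mul_assoc, ← h, mul_inv_cancel_right]
    set x := (c' : U)⁻¹ * c with hx
    set y := (d' : U) * (d : U)⁻¹ with hy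
    have hxC : a x = x := C.mul_mem (C.inv_mem c'.2) c.2
    have hyC : a y = y := C.mul_mem d'.2 (C.inv_mem d.2)
    have h2 := hab' y
    rw [hyC, ← h1, hxC] at h2
    have hx1 : x = 1 := hfix x h2.symm
    have hy1 : y = 1 := b.injective (by rw [← h1, hx1, map_one])
    have hc : c = c' := Subtype.ext (inv_mul_eq_one.mp hx1).symm
    have hd : d = d' := Subtype.ext (mul_inv_eq_one.mp hy1).symm
    rw [hc, hd]
  have hle : Nat.card U ≤ Nat.card C * Nat.card C := by
    rw [← Nat.card_prod]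
    refine Nat.card_le_card_of_surjective (fun x : C × C => (x.1 : U) * b x.2) ?_
    intro z
    -- cube root
    obtain ⟨x, hx⟩ := (powCoprime hU3).surjective z
    rw [powCoprime_apply] at hx
    -- `x' = x * (b x)⁻¹`, `u = x' * a x'`, `v = b x' * a (b x')`
    have hC1 : ∀ y, y * a y ∈ C := fun y => by
      rw [hmem, map_mul, haa, hcomm]
    set x' := x * (b x)⁻¹ with hx'
    refine ⟨(⟨x' * a x', hC1 x'⟩, ⟨(b x' * a (b x'))⁻¹, C.inv_mem (hC1 (b x'))⟩), ?_⟩
    simp only [map_inv, map_mul]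
    have h1 : b (a (b x')) = a x' := by rw [hab', hbbb]
    rw [h1]
    have h2 : b (b x') = (x' * b x')⁻¹ := eq_inv_of_mul_eq_one_right (hb3 x')
    have h3 : b x' = b x * (b (b x))⁻¹ := by rw [hx', map_mul, map_inv]
    have h4 : b (b x) = (x * b x)⁻¹ := eq_inv_of_mul_eq_one_right (hb3 x)
    rw [← hx, h2, h3, h4]
    have h5 : b x * ((x * b x)⁻¹)⁻¹ = x * b x * b x := by rw [inv_inv, hcomm]
    rw [h5]
    generalize a x' = A
    rw [hx']
    generalize b x = P
    calc x * P⁻¹ * A * ((x * P⁻¹ * (x * P * P))⁻¹ * A)⁻¹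
        = x * P⁻¹ * (x * P⁻¹ * (x * P * P)) := by
          simp only [mul_inv_rev, inv_inv, mul_assoc, mul_inv_cancel_left]
      _ = x * P⁻¹ * (x * (P⁻¹ * x) * P * P) := by simp only [mul_assoc]
      _ = x * P⁻¹ * (x * (x * P⁻¹) * P * P) := by rw [hcomm P⁻¹ x]
      _ = x * P⁻¹ * (x * x * P) := by simp only [mul_assoc, inv_mul_cancel_left]
      _ = x * P⁻¹ * (P * (x * x)) := by rw [hcomm (x * x) P]
      _ = x ^ 3 := by simp only [mul_assoc, inv_mul_cancel_left, pow_succ, pow_zero, one_mul]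
  rw [pow_two]
  exact le_antisymm hle hge

end square

section main

variable {H L : Type*} [Group H] [Group L] [Finite H] (π : H →* L)

/-- `|V| = |C_V(t)|²` for a normal subgroup `V` of `H` contained in the abelian group `Q = ker π` and an
element `t` inducing an involution of `L` that inverts an element of order 3. -/
theorem card_eq_sq (hπ : Function.Surjective π) (hQ : IsPGroup 2 π.ker)
    (h3 : ∀ x : H, orderOf x = 3 → ∀ q ∈ π.ker, x * q = q * x → q = 1)
    (hab : ∀ a ∈ π.ker, ∀ b ∈ π.ker, a * b = b * a)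
    {V : Subgroup H} (hV : V.Normal) (hVQ : V ≤ π.ker) {t : H} (ht : π t * π t = 1)
    (htw : ∃ w : L, orderOf w = 3 ∧ π t * w * (π t)⁻¹ = w⁻¹) :
    Nat.card V = (Nat.card (V ⊓ centralizer ({t} : Set H) : Subgroup H)) ^ 2 := by
  obtain ⟨w, hw, htw⟩ := htw
  obtain ⟨w, rfl, hwo⟩ := exists_lift π hπ hQ Nat.prime_three (by norm_num) hw
  have htriv : ∀ q ∈ π.ker, ∀ v ∈ V, q * v * q⁻¹ = v := by
    intro q hq v hv
    rw [hab q hq v (hVQ hv), mul_inv_cancel_right]
  have hw3 : w ^ 3 = 1 := by rw [← hwo, pow_orderOf_eq_one]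
  have hww : w * w = w⁻¹ := by
    rw [eq_inv_iff_mul_eq_one, ← pow_two, ← pow_succ, hw3]
  have h1 := card_eq_sq_of_three (U := V)
    (fun x y => Subtype.ext (hab x (hVQ x.2) y (hVQ y.2)))
    (by
      obtain ⟨n, hn⟩ := IsPGroup.iff_card.mp (hQ.to_le hVQ)
      rw [hn]
      exact Nat.Coprime.pow_left n (by norm_num))
    (MulAut.conjNormal t) (MulAut.conjNormal w)
    (by
      rw [← map_mul]
      ext u
      rw [MulAut.conjNormal_apply, MulAut.one_apply]
      exact htriv (t * t) (by rw [MonoidHom.mem_ker, map_mul, ht]) u u.2)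
    (by
      rw [← map_inv, ← map_inv, ← map_mul, ← map_mul, ← mul_inv_eq_one, ← map_inv, ← map_mul]
      ext u
      rw [MulAut.conjNormal_apply, MulAut.one_apply]
      refine htriv _ ?_ u u.2
      rw [MonoidHom.mem_ker, map_mul, map_mul, map_mul, map_inv, map_inv, map_inv, htw]
      group)
    (by
      intro x
      apply Subtype.ext
      have hker : (π.ker).Normal := MonoidHom.normal_ker π
      have h2 := mul_conj_mul_conj (Q := π.ker) hw3
        (by rw [normalizer_eq_top_iff.mpr hker]; exact mem_top w) (h3 w hwo) (hVQ x.2)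
      simp only [Subgroup.coe_mul, MulAut.conjNormal_apply, Subgroup.coe_one]
      rw [← h2]
      congr 1
      calc w * (w * (x : H) * w⁻¹) * w⁻¹ = (w * w) * (x : H) * (w * w)⁻¹ := by
            simp only [mul_inv_rev, mul_assoc]
        _ = w⁻¹ * x * w := by rw [hww, inv_inv])
  rw [h1]
  congr 1
  refine Nat.card_congr ⟨fun x => ⟨x.1, x.1.2, ?_⟩, fun x => ⟨⟨x.1, x.2.1⟩, ?_⟩,
    fun x => rfl, fun x => rfl⟩
  · show ((x : V) : H) ∈ centralizer ({t} : Set H)
    rw [mem_centralizer_iff]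
    rintro _ rfl
    have h2 : MulAut.conjNormal _ (x : V) = (x : V) := x.2
    have h4 := congrArg Subtype.val h2
    rw [MulAut.conjNormal_apply, mul_inv_eq_iff_eq_mul] at h4
    exact h4
  · change MulAut.conjNormal t (⟨x.1, x.2.1⟩ : V) = _
    apply Subtype.ext
    rw [MulAut.conjNormal_apply]
    change t * (x : H) * t⁻¹ = x
    rw [mul_inv_eq_iff_eq_mul]
    exact mem_centralizer_iff.mp x.2.2 t rfl

end main

end Cfsg.Agent.SmallSimple.S1000.ThinEightAb
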