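import Mathlib
import Cfsg.Prelude.Def_CaseTheorems
import Cfsg.Agent.MinSimple.Basic
import Cfsg.Agent.Involutions.BaerSuzuki
import Cfsg.Agent.PLocal.OffenderStep
import Cfsg.Agent.S0214

/-!
# A strongly embedded subgroup from a strongly closed TI-subgroup

`V ≠ 1` is a 2-subgroup of `G`, `V ≤ H ≤ N_G(V)`, and every `g` carrying some nontrivial element of `V`
into `H` lies in `H` (so `V` is a TI-subgroup, strongly closed in `H`, and `H = N_G(V)`).  If `G` is of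
characteristic 2 type and `H ≠ G`, then `H` is strongly embedded.

* `le_of_char2`: a subgroup `X` of characteristic 2 with `V ∩ X ≠ 1` is contained in `H`;
* `normalizer_le`: `N_G(X) ≤ H` for all 2-subgroups `X ≠ 1` of `H`;
* `stronglyEmbedded`.
-/

set_option autoImplicit false

namespace Cfsg.Agent.SmallSimple.S1000.ThinStrong

open Subgroup Cfsg Cfsg.Agent.ZN Cfsg.Agent.MinSimple.Basic Cfsg.Agent.MinSimple.VModule

variable {G : Type*} [Group G]

/-- A subgroup `X` of characteristic 2 with `V ∩ X ≠ 1` lies in `H`. -/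
theorem le_of_char2 [Finite G] {V H X : Subgroup G} (hV : IsPGroup 2 V) (hVH : V ≤ H)
    (hHV : H ≤ normalizer (V : Set G))
    (hF : ∀ g : G, ∀ v ∈ V, v ≠ 1 → g * v * g⁻¹ ∈ H → g ∈ H)
    (hX : X ⊓ centralizer (o2 X : Set G) ≤ o2 X) (hVX : V ⊓ X ≠ ⊥) : X ≤ H := by
  have hp2 : Fact (Nat.Prime 2) := ⟨Nat.prime_two⟩
  -- a maximal 2-subgroup `T` of `X ∩ H` containing `V ∩ X`
  let s : Set (Subgroup G) := {T | IsPGroup 2 T ∧ V ⊓ X ≤ T ∧ T ≤ X ∧ T ≤ H}
  obtain ⟨T, ⟨hT2, hVT, hTX, hTH⟩, hmax⟩ := (Set.toFinite s).exists_maximal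
    ⟨V ⊓ X, hV.to_le inf_le_left, le_rfl, inf_le_right, inf_le_left.trans hVH⟩
  have hVT' : V ⊓ T = V ⊓ X := le_antisymm (inf_le_inf_left _ hTX) (le_inf inf_le_left hVT)
  -- elements of `N_G(T)` lie in `H`
  have hNT : ∀ x ∈ normalizer (T : Set G), x ∈ H := by
    intro x hx
    obtain ⟨⟨v, hv⟩, hv1⟩ := (V ⊓ X).ne_bot_iff_exists_ne_one.mp hVX
    refine hF x v hv.1 (fun h => hv1 (Subtype.ext h)) ?_
    exact hTH ((mem_normalizer_iff.mp hx v).mp (hVT hv))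
  -- `O₂(X) ≤ T`
  have hoT : o2 X ≤ T := by
    set T' := T ⊔ o2 X with hT'
    have hT'2 : IsPGroup 2 T' := IsPGroup.to_sup_of_normal_right' hT2 (o2_isPGroup X)
      (hTX.trans (le_normalizer_o2 X))
    have hT'X : T' ≤ X := sup_le hTX (o2_le X)
    by_contra hnot
    have hlt : T < T' := lt_of_le_of_ne le_sup_left fun he => hnot (he ▸ le_sup_right)
    obtain ⟨x, hxT', hxT, hxN⟩ :=
      Cfsg.Agent.Involutions.BaerSuzuki.exists_mem_normalizer_of_lt hT'2 hlt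
    have hxH := hNT x hxN
    have hle : T ⊔ zpowers x ∈ s := by
      refine ⟨hT'2.to_le (sup_le hlt.le (by rw [zpowers_le]; exact hxT')), hVT.trans le_sup_left,
        sup_le hTX (by rw [zpowers_le]; exact hT'X hxT'), sup_le hTH (by rw [zpowers_le]; exact hxH)⟩
    exact hxT (hmax hle le_sup_left (mem_sup_right (mem_zpowers x)))
  -- `V ∩ O₂(X) ≠ 1`
  have hY : V ⊓ o2 X ≠ ⊥ := by
    intro hbot
    refine hVX (le_bot_iff.mp (le_trans ?_ hbot.le))
    refine le_inf inf_le_left ?_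
    intro v hv
    refine hX ⟨hv.2, mem_centralizer_iff.mpr fun q hq => ?_⟩
    -- `[v, q] ∈ V ∩ O₂(X) = 1`
    have h1 : q * v * q⁻¹ * v⁻¹ ∈ V := by
      refine V.mul_mem ?_ (V.inv_mem hv.1)
      exact (mem_normalizer_iff.mp (hHV (hTH (hoT hq))) v).mp hv.1
    have h2 : q * v * q⁻¹ * v⁻¹ ∈ o2 X := by
      have h3 : v * q⁻¹ * v⁻¹ ∈ o2 X :=
        (mem_normalizer_iff.mp (le_normalizer_o2 X hv.2) q⁻¹).mp ((o2 X).inv_mem hq)
      have h4 := (o2 X).mul_mem hq h3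
      have e : q * (v * q⁻¹ * v⁻¹) = q * v * q⁻¹ * v⁻¹ := by group
      rwa [e] at h4
    have h5 : q * v * q⁻¹ * v⁻¹ ∈ (⊥ : Subgroup G) := hbot ▸ ⟨h1, h2⟩
    rw [mem_bot] at h5
    calc q * v = (q * v * q⁻¹ * v⁻¹) * (v * q) := by group
      _ = v * q := by rw [h5, one_mul]
  obtain ⟨⟨v, hv⟩, hv1⟩ := (V ⊓ o2 X).ne_bot_iff_exists_ne_one.mp hY
  intro x hx
  refine hF x v hv.1 (fun h => hv1 (Subtype.ext h)) (hTH (hoT ?_))
  exact (mem_normalizer_iff.mp (le_normalizer_o2 X hx) v).mp hv.2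

/-- The normaliser of a nontrivial 2-subgroup of `H` lies in `H`. -/
theorem normalizer_le [Finite G] (hG : IsCharacteristicTwoType G) {V H X : Subgroup G}
    (hV : IsPGroup 2 V) (hV1 : V ≠ ⊥) (hVH : V ≤ H) (hHV : H ≤ normalizer (V : Set G))
    (hF : ∀ g : G, ∀ v ∈ V, v ≠ 1 → g * v * g⁻¹ ∈ H → g ∈ H)
    (hX : IsPGroup 2 X) (hX1 : X ≠ ⊥) (hXH : X ≤ H) : normalizer (X : Set G) ≤ H := by
  have hp2 : Fact (Nat.Prime 2) := ⟨Nat.prime_two⟩
  refine le_of_char2 hV hVH hHV hF (char2_normalizer hG hX hX1) fun hbot => ?_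
  refine Cfsg.Agent.PLocal.OffenderStep.inf_centralizer_ne_bot V X hV hX (hXH.trans hHV) hV1 ?_
  refine le_bot_iff.mp (le_trans (inf_le_inf_left _ ?_) hbot.le)
  exact centralizer_le_normalizer (X : Set G)

/-- `H` is strongly embedded. -/
theorem stronglyEmbedded [Finite G] (hG : IsCharacteristicTwoType G) {V H : Subgroup G}
    (hV : IsPGroup 2 V) (hV1 : V ≠ ⊥) (hVH : V ≤ H) (hHV : H ≤ normalizer (V : Set G))
    (hF : ∀ g : G, ∀ v ∈ V, v ≠ 1 → g * v * g⁻¹ ∈ H → g ∈ H) (hH : H ≠ ⊤) :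
    IsStronglyEmbedded H := by
  have hp2 : Fact (Nat.Prime 2) := ⟨Nat.prime_two⟩
  obtain ⟨P, hP⟩ : ∃ P : Sylow 2 H, V.subgroupOf H ≤ P :=
    (hV.comap_of_injective H.subtype H.subtype_injective).exists_le_sylow
  have hP1 : (P : Subgroup H) ≠ ⊥ := by
    obtain ⟨⟨v, hv⟩, hv1⟩ := V.ne_bot_iff_exists_ne_one.mp hV1
    intro h
    have h1 : (⟨v, hVH hv⟩ : H) ∈ (P : Subgroup H) := hP hv
    rw [h, mem_bot] at h1
    have h2 : v = 1 := congrArg Subtype.val h1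
    exact hv1 (Subtype.ext h2)
  refine (Cfsg.Agent.S0214.result H hH P hP1).mpr fun X hXP hX1 => ?_
  refine normalizer_le hG hV hV1 hVH hHV hF ((P.isPGroup'.to_le hXP).map H.subtype) ?_
    (map_subtype_le X)
  intro h
  exact hX1 ((map_eq_bot_iff_of_injective X H.subtype_injective).mp h)

end Cfsg.Agent.SmallSimple.S1000.ThinStrong
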