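import Mathlib
import Cfsg.Agent.SmallSimple.S1000.ThinBasic
import Cfsg.Agent.SmallSimple.S1000.ThinStrong
import Cfsg.Agent.SmallSimple.S1000.ThinEightFpf

/-!
# S1000, thin case, `M/Q = L₂(8)`: the local argument

`Ctx M Q V T x`: `M = N_G(Q)`, `Q` abelian, `V = Ω₁(Q)`, `T` a Sylow 2-subgroup of `M`, `x` of order 7 in
`N_M(T)`; `|W| = |C_W(t)|²` for the normal subgroups `W ≤ Q` of `M` and the elements `t` of `M` that are
involutions modulo `Q`.

* `card_Q`: `|Q| = 64` (otherwise `M` would be strongly embedded);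
* `sylow`: `T` is a Sylow 2-subgroup of `G`, `|T| = 2 ^ 9`.
-/

set_option autoImplicit false

namespace Cfsg.Agent.SmallSimple.S1000.ThinEightLocal

open Subgroup Cfsg Cfsg.Agent.ZN Cfsg.Agent.MinSimple.Basic Cfsg.Agent.MinSimple.VModule
open Cfsg.Agent.SmallSimple.S1000.Setup

universe u

variable {G : Type u} [Group G]

/-! ### Conjugates -/

/-- The conjugate `gQg⁻¹`. -/
def cj (g : G) (Q : Subgroup G) : Subgroup G := Q.map (MulAut.conj g).toMonoidHom

theorem mem_cj {g y : G} {Q : Subgroup G} : y ∈ cj g Q ↔ g⁻¹ * y * g ∈ Q := by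
  constructor
  · rintro ⟨q, hq, rfl⟩
    have e : g⁻¹ * (MulAut.conj g).toMonoidHom q * g = q := by
      change g⁻¹ * (g * q * g⁻¹) * g = q
      group
    rw [e]
    exact hq
  · intro h
    refine ⟨g⁻¹ * y * g, h, ?_⟩
    change g * (g⁻¹ * y * g) * g⁻¹ = y
    group

theorem conj_mem_cj {g y : G} {Q : Subgroup G} (hy : y ∈ Q) : g * y * g⁻¹ ∈ cj g Q := ⟨y, hy, rfl⟩

theorem card_cj (g : G) (Q : Subgroup G) : Nat.card (cj g Q) = Nat.card Q :=
  card_map_of_injective (MulAut.conj g).injective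

theorem isPGroup_cj {p : ℕ} {Q : Subgroup G} (hQ : IsPGroup p Q) (g : G) : IsPGroup p (cj g Q) :=
  hQ.map _

theorem cj_mono {g : G} {Q R : Subgroup G} (h : Q ≤ R) : cj g Q ≤ cj g R := map_mono h

theorem mem_normalizer_of_cj_eq {g : G} {Q : Subgroup G} (h : cj g Q = Q) :
    g ∈ normalizer (Q : Set G) := by
  rw [mem_normalizer_iff]
  intro y
  constructor
  · intro hy
    have := conj_mem_cj (g := g) hy
    rwa [h] at this
  · intro hy
    change g * y * g⁻¹ ∈ Q at hy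
    rw [← h, mem_cj] at hy
    have e : g⁻¹ * (g * y * g⁻¹) * g = y := by group
    rwa [e] at hy

theorem cj_eq_of_mem_normalizer {g : G} {Q : Subgroup G} (h : g ∈ normalizer (Q : Set G)) :
    cj g Q = Q := by
  ext y
  rw [mem_cj]
  have h1 := (mem_normalizer_iff.mp (inv_mem h)) y
  rw [inv_inv] at h1
  exact h1.symm

theorem cj_cj (g h : G) (Q : Subgroup G) : cj g (cj h Q) = cj (g * h) Q := by
  ext y
  rw [mem_cj, mem_cj, mem_cj]
  have e : h⁻¹ * (g⁻¹ * y * g) * h = (g * h)⁻¹ * y * (g * h) := by group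
  rw [e]

/-! ### The context -/

/-- The situation `M / Q = L₂(8)`. -/
structure Ctx (M Q V T : Subgroup G) (x : G) : Prop where
  norm : normalizer (Q : Set G) = M
  two : IsPGroup 2 Q
  ne : Q ≠ ⊥
  comm : ∀ a ∈ Q, ∀ b ∈ Q, a * b = b * a
  memV : ∀ v, v ∈ V ↔ v ∈ Q ∧ v * v = 1
  cent : centralizer (Q : Set G) ≤ Q
  sq : ∀ W : Subgroup G, W ≤ Q → M ≤ normalizer (W : Set G) → ∀ t ∈ M, t ∉ Q → t * t ∈ Q →
    Nat.card W = (Nat.card (W ⊓ centralizer ({t} : Set G) : Subgroup G)) ^ 2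
  fpf : ∀ q ∈ Q, x * q = q * x → q = 1
  twoT : IsPGroup 2 T
  QT : Q ≤ T
  TM : T ≤ M
  cardT : Nat.card T = 8 * Nat.card Q
  le8 : ∀ R : Subgroup G, R ≤ M → IsPGroup 2 R →
    Nat.card R ≤ 8 * Nat.card (R ⊓ Q : Subgroup G)
  conjT : ∀ R : Subgroup G, R ≤ M → IsPGroup 2 R → ∃ m ∈ M, R ≤ cj m T
  xM : x ∈ M
  xT : x ∈ normalizer (T : Set G)
  ox : orderOf x = 7

namespace Ctx

variable {M Q V T : Subgroup G} {x : G}

theorem QM (h : Ctx M Q V T x) : Q ≤ M := h.norm ▸ le_normalizer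

theorem VQ (h : Ctx M Q V T x) : V ≤ Q := fun v hv => ((h.memV v).mp hv).1

theorem MV (h : Ctx M Q V T x) : M ≤ normalizer (V : Set G) := by
  intro m hm
  rw [mem_normalizer_iff]
  intro v
  rw [← h.norm, mem_normalizer_iff] at hm
  rw [h.memV, h.memV, hm v]
  refine and_congr_right fun _ => ⟨fun h1 => ?_, fun h1 => ?_⟩
  · calc m * v * m⁻¹ * (m * v * m⁻¹) = m * (v * v) * m⁻¹ := by group
      _ = 1 := by rw [h1]; group
  · calc v * v = m⁻¹ * (m * v * m⁻¹ * (m * v * m⁻¹)) * m := by group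
      _ = 1 := by rw [h1]; group

/-- a 2-element outside `Q` has a power that is an involution modulo `Q`. -/
theorem exists_pow (_h : Ctx M Q V T x) {a : G} (ha : a ∉ Q) {n : ℕ} (hn : a ^ 2 ^ n = 1) :
    ∃ k : ℕ, a ^ k ∉ Q ∧ a ^ k * a ^ k ∈ Q := by
  induction n with
  | zero =>
    rw [pow_zero, pow_one] at hn
    rw [hn] at ha
    exact absurd (one_mem _) ha
  | succ n ih =>
    by_cases h1 : a ^ 2 ^ n = 1
    · exact ih h1
    · -- find the last power outside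
      classical
      have h2 : ∃ k, a ^ 2 ^ k ∈ Q := ⟨n + 1, hn ▸ one_mem _⟩
      have h3 := Nat.find_spec h2
      have h4 : Nat.find h2 ≠ 0 := by
        intro h0
        rw [h0, pow_zero, pow_one] at h3
        exact ha h3
      obtain ⟨m, hm⟩ := Nat.exists_eq_succ_of_ne_zero h4
      refine ⟨2 ^ m, Nat.find_min h2 (by omega), ?_⟩
      rw [hm, pow_succ, pow_mul, pow_two] at h3
      exact h3

variable [Finite G]

/-- `V ⊓ C(T)` has order at least 8. -/
theorem eight_le (h : Ctx M Q V T x) : 8 ≤ Nat.card (V ⊓ centralizer (T : Set G) : Subgroup G) := by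
  have hf2 : Fact (Nat.Prime 2) := ⟨Nat.prime_two⟩
  have hf7 : Fact (Nat.Prime 7) := ⟨by norm_num⟩
  have hV1 : V ≠ ⊥ := by
    obtain ⟨t, htQ, ht, -⟩ := exists_orderOf_eq h.two h.ne
    intro h0
    have h1 : t ∈ V := (h.memV t).mpr ⟨htQ, by rw [← pow_two, ← ht, pow_orderOf_eq_one]⟩
    rw [h0, mem_bot] at h1
    rw [h1, orderOf_one] at ht
    exact absurd ht (by norm_num)
  set W := V ⊓ centralizer (T : Set G) with hW
  have hW1 : W ≠ ⊥ := Cfsg.Agent.PLocal.OffenderStep.inf_centralizer_ne_bot V T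
    (h.two.to_le h.VQ) h.twoT (h.TM.trans h.MV) hV1
  have hxW : x ∈ normalizer (W : Set G) := by
    rw [mem_normalizer_iff]
    intro y
    have h1 := mem_normalizer_iff.mp (h.MV h.xM) y
    have h2 := mem_normalizer_iff.mp
      (normalizer_le_normalizer_centralizer T h.xT) y
    exact ⟨fun hy => ⟨h1.mp hy.1, h2.mp hy.2⟩, fun hy => ⟨h1.mpr hy.1, h2.mpr hy.2⟩⟩
  have h1 := ThinEightFpf.card_modEq h.ox W hxW
  have h2 : Nat.card (W ⊓ centralizer ({x} : Set G) : Subgroup G) = 1 := by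
    rw [Subgroup.card_eq_one, eq_bot_iff]
    rintro y ⟨hy, hyx⟩
    exact h.fpf y (h.VQ hy.1) (mem_centralizer_iff.mp hyx x rfl)
  rw [h2] at h1
  have h3 : 1 < Nat.card W := by
    rw [Finite.one_lt_card_iff_nontrivial]
    exact (nontrivial_iff_ne_bot W).mpr hW1
  have h4 : 7 ∣ Nat.card W - 1 := (Nat.modEq_iff_dvd' h3.le).mp h1.symm
  obtain ⟨k, hk⟩ := h4
  have : k ≠ 0 := by
    rintro rfl
    omega
  omega

/-- An element of `T` that is an involution modulo `Q`. -/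
theorem exists_t (h : Ctx M Q V T x) : ∃ t ∈ T, t ∉ Q ∧ t * t ∈ Q := by
  have h1 : ¬ T ≤ Q := by
    intro hle
    have h2 := h.cardT
    rw [le_antisymm hle h.QT] at h2
    have : 0 < Nat.card Q := Nat.card_pos
    omega
  obtain ⟨a, haT, haQ⟩ := SetLike.not_le_iff_exists.mp h1
  obtain ⟨n, hn⟩ := h.twoT ⟨a, haT⟩
  obtain ⟨k, hk1, hk2⟩ := h.exists_pow haQ (n := n) (congrArg Subtype.val hn)
  exact ⟨a ^ k, pow_mem haT k, hk1, hk2⟩

theorem card_V (h : Ctx M Q V T x) : 64 ≤ Nat.card V := by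
  obtain ⟨t, htT, htQ, htt⟩ := h.exists_t
  rw [h.sq V h.VQ h.MV t (h.TM htT) htQ htt]
  have h1 : 8 ≤ Nat.card (V ⊓ centralizer ({t} : Set G) : Subgroup G) := by
    refine h.eight_le.trans (Nat.card_le_card_of_injective _ (inclusion_injective
      (inf_le_inf_left _ (centralizer_le ?_))))
    rintro _ rfl
    exact htT
  calc 64 = 8 ^ 2 := by norm_num
    _ ≤ _ := Nat.pow_le_pow_left h1 2

theorem card_le_of_le {A B : Subgroup G} (h : A ≤ B) : Nat.card A ≤ Nat.card B :=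
  Nat.card_le_card_of_injective _ (inclusion_injective h)

/-! ### `|Q| > 64` -/

/-- `Q` is the only abelian subgroup of its order in the 2-subgroups of `M`. -/
theorem eq_Q (h : Ctx M Q V T x) (h64 : 64 < Nat.card Q) {A : Subgroup G} (hAM : A ≤ M)
    (hA2 : IsPGroup 2 A) (hAc : ∀ a ∈ A, ∀ b ∈ A, a * b = b * a) (hc : Nat.card Q ≤ Nat.card A) :
    A = Q := by
  by_cases hAQ : A ≤ Q
  · exact Subgroup.eq_of_le_of_card_ge hAQ hc
  exfalso
  obtain ⟨a, haA, haQ⟩ := SetLike.not_le_iff_exists.mp hAQ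
  obtain ⟨n, hn⟩ := hA2 ⟨a, haA⟩
  obtain ⟨k, hk1, hk2⟩ := h.exists_pow haQ (n := n) (congrArg Subtype.val hn)
  have h1 := h.le8 A hAM hA2
  have h2 : Nat.card (A ⊓ Q : Subgroup G) ≤
      Nat.card (Q ⊓ centralizer ({a ^ k} : Set G) : Subgroup G) := by
    refine card_le_of_le (le_inf inf_le_right ?_)
    rintro y ⟨hyA, -⟩
    rw [mem_centralizer_iff]
    rintro _ rfl
    exact hAc _ (pow_mem haA k) _ hyA
  have h3 := h.sq Q le_rfl h.norm.ge _ (hAM (pow_mem haA k)) hk1 hk2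
  set s := Nat.card (Q ⊓ centralizer ({a ^ k} : Set G) : Subgroup G)
  have h4 : s ^ 2 ≤ 8 * s := by
    rw [← h3]
    omega
  have h5 : s ≤ 8 := by nlinarith
  have h6 : s ^ 2 ≤ 8 ^ 2 := Nat.pow_le_pow_left h5 2
  omega

theorem cj_eq_Q (h : Ctx M Q V T x) (h64 : 64 < Nat.card Q) {g : G} (hg : cj g Q ≤ M) : g ∈ M := by
  rw [← h.norm]
  refine mem_normalizer_of_cj_eq (h.eq_Q h64 hg (isPGroup_cj h.two g) ?_ (card_cj g Q).ge)
  rintro _ ⟨a, ha, rfl⟩ _ ⟨b, hb, rfl⟩
  rw [← map_mul, ← map_mul, h.comm a ha b hb]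

/-- A 2-subgroup of `G` containing `Q` lies in `M`. -/
theorem le_M (h : Ctx M Q V T x) (h64 : 64 < Nat.card Q) {R : Subgroup G} (hR : IsPGroup 2 R)
    (hQR : Q ≤ R) : R ≤ M := by
  have hf2 : Fact (Nat.Prime 2) := ⟨Nat.prime_two⟩
  by_contra hnot
  have hlt : R ⊓ M < R := lt_of_le_of_ne inf_le_left fun he => hnot (inf_eq_left.mp he)
  obtain ⟨y, hyR, hyn, hyN⟩ :=
    Cfsg.Agent.Involutions.BaerSuzuki.exists_mem_normalizer_of_lt hR hlt
  apply hyn
  refine ⟨hyR, h.cj_eq_Q h64 ?_⟩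
  have h1 : cj y (R ⊓ M) = R ⊓ M := cj_eq_of_mem_normalizer hyN
  exact (cj_mono (le_inf hQR h.QM)).trans (h1.le.trans inf_le_right)

/-- `C_G(v) ≤ M` for `v ∈ Q`, `v ≠ 1`. -/
theorem centralizer_le_M (hL : Loc G) (ht : M23LE 1 G) (h : Ctx M Q V T x)
    (h64 : 64 < Nat.card Q) {v : G} (hv : v ∈ Q) (hv1 : v ≠ 1) :
    centralizer ({v} : Set G) ≤ M := by
  have hf2 : Fact (Nat.Prime 2) := ⟨Nat.prime_two⟩
  have hf3 : Fact (Nat.Prime 3) := ⟨Nat.prime_three⟩
  have hz2 : IsPGroup 2 (zpowers v) := h.two.to_le (by rw [zpowers_le]; exact hv)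
  have hz1 : zpowers v ≠ ⊥ := by rw [Ne, zpowers_eq_bot]; exact hv1
  have hTT := hL.tt_two hz2 hz1
  have hch := hL.char_two hz2 hz1
  rw [centralizer_zpowers_eq] at hTT hch
  set C := centralizer ({v} : Set G) with hC
  have hQC : Q ≤ C := by
    intro q hq
    rw [hC, mem_centralizer_iff]
    rintro _ rfl
    exact h.comm _ hv _ hq
  -- a Sylow 2-subgroup of `C` containing `Q`
  obtain ⟨P, hP⟩ : ∃ P : Sylow 2 C, Q.subgroupOf C ≤ P :=
    (h.two.comap_of_injective C.subtype C.subtype_injective).exists_le_sylow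
  set R := (P : Subgroup C).map C.subtype with hRdef
  have hR2 : IsPGroup 2 R := P.isPGroup'.map _
  have hRC : R ≤ C := map_subtype_le _
  have hQR : Q ≤ R := fun q hq => ⟨⟨q, hQC hq⟩, hP hq, rfl⟩
  have hoR : o2 C ≤ R := map_mono (Lib.Cores.pCore_le_sylow P)
  have hRM := h.le_M h64 hR2 hQR
  -- thinness
  have hT2 : Nat.card R ≤ 2 * Nat.card (o2 C) := by
    refine ThinBasic.card_le_two_mul ht hz2 hz1 ?_ hTT hR2 hRC
    rw [hC, ← centralizer_zpowers_eq]
    exact centralizer_le_normalizer _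
  have hQo : Nat.card Q ≤ 2 * Nat.card (Q ⊓ o2 C : Subgroup G) := by
    have h1 : Nat.card (Q ⊓ o2 C : Subgroup G) * (o2 C).relIndex Q = Nat.card Q := by
      rw [← inf_relIndex_left]
      exact Lib.HallHigman.card_mul_relIndex' inf_le_left
    have h2 : Nat.card (o2 C) * (o2 C).relIndex R = Nat.card R :=
      Lib.HallHigman.card_mul_relIndex' hoR
    have h3 : (o2 C).relIndex R ≤ 2 := by
      rw [← h2] at hT2
      have : 0 < Nat.card (o2 C) := Nat.card_pos
      nlinarith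
    have h4 : (o2 C).relIndex Q ≤ (o2 C).relIndex R := relIndex_le_of_le_right hQR (by
      have := Lib.HallHigman.card_mul_relIndex' hoR
      intro h0
      rw [h0, mul_zero] at this
      exact Nat.card_pos.ne this)
    nlinarith
  -- `Z(O₂(C)) ≤ Q`
  set Z := o2 C ⊓ centralizer (o2 C : Set G) with hZ
  have hZQ : Z ≤ Q := by
    intro z hz
    by_contra hzQ
    obtain ⟨n, hn⟩ := hR2 ⟨z, hoR hz.1⟩
    obtain ⟨k, hk1, hk2⟩ := h.exists_pow hzQ (n := n) (congrArg Subtype.val hn)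
    have h1 : Nat.card (Q ⊓ o2 C : Subgroup G) ≤
        Nat.card (Q ⊓ centralizer ({z ^ k} : Set G) : Subgroup G) := by
      refine card_le_of_le (le_inf inf_le_left ?_)
      rintro y ⟨-, hy⟩
      rw [mem_centralizer_iff]
      rintro _ rfl
      exact (mem_centralizer_iff.mp (pow_mem hz.2 k) y hy).symm
    have h2 := h.sq Q le_rfl h.norm.ge _ (hRM (hoR (pow_mem hz.1 k))) hk1 hk2
    set s := Nat.card (Q ⊓ centralizer ({z ^ k} : Set G) : Subgroup G)
    have h4 : s ^ 2 ≤ 2 * s := by omega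
    have h5 : s ≤ 2 := by nlinarith
    have h6 : s ^ 2 ≤ 2 ^ 2 := Nat.pow_le_pow_left h5 2
    omega
  -- `Y = C_C(Z)` is a 2-group
  set Y := C ⊓ centralizer (Z : Set G) with hY
  have hQY : Q ≤ Y := by
    refine le_inf hQC fun q hq => mem_centralizer_iff.mpr fun z hz => h.comm z (hZQ hz) q hq
  have hYC : C ≤ normalizer (Y : Set G) := by
    intro c hc
    have h0 : c ∈ normalizer (Z : Set G) := by
      rw [mem_normalizer_iff]
      intro y
      have h1 := mem_normalizer_iff.mp (le_normalizer_o2 C hc) y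
      have h2 := mem_normalizer_iff.mp
        (normalizer_le_normalizer_centralizer _ (le_normalizer_o2 C hc)) y
      exact ⟨fun hy => ⟨h1.mp hy.1, h2.mp hy.2⟩, fun hy => ⟨h1.mpr hy.1, h2.mpr hy.2⟩⟩
    rw [mem_normalizer_iff]
    intro y
    have h1 := mem_normalizer_iff.mp (le_normalizer (H := C) hc) y
    have h2 := mem_normalizer_iff.mp (normalizer_le_normalizer_centralizer _ h0) y
    exact ⟨fun hy => ⟨h1.mp hy.1, h2.mp hy.2⟩, fun hy => ⟨h1.mpr hy.1, h2.mpr hy.2⟩⟩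
  have hY3 : ¬ 3 ∣ Nat.card Y := by
    intro h3
    obtain ⟨w, hw⟩ := exists_prime_orderOf_dvd_card' (G := Y) 3 h3
    have hwo : orderOf (w : G) = 3 := by rw [Subgroup.orderOf_coe, hw]
    obtain ⟨m, hm, hRm⟩ := h.conjT R hRM hR2
    -- two different involutions in `V ⊓ C(T')`
    have h8 := h.eight_le
    obtain ⟨a, ha, ha1⟩ : ∃ a ∈ V ⊓ centralizer (T : Set G), a ≠ 1 := by
      by_contra hcon
      push Not at hcon
      have : V ⊓ centralizer (T : Set G) = ⊥ := by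
        rw [eq_bot_iff]
        exact fun y hy => hcon y hy
      rw [this, card_bot] at h8
      omega
    obtain ⟨b, hb, hb1, hab⟩ : ∃ b ∈ V ⊓ centralizer (T : Set G), b ≠ 1 ∧ b ≠ a := by
      by_contra hcon
      push Not at hcon
      have h1 : V ⊓ centralizer (T : Set G) ≤ zpowers a := by
        intro y hy
        by_cases hy1 : y = 1
        · rw [hy1]; exact one_mem _
        · rw [hcon y hy hy1]; exact mem_zpowers a
      have h2 := card_le_of_le h1
      rw [Nat.card_zpowers] at h2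
      have h3 : orderOf a ≤ 2 := orderOf_le_of_pow_eq_one two_pos
        (by rw [pow_two]; exact ((h.memV a).mp ha.1).2)
      omega
    have hmem : ∀ y ∈ V ⊓ centralizer (T : Set G), m * y * m⁻¹ ∈ Z ∧
        (m * y * m⁻¹) * (m * y * m⁻¹) = 1 ∧ (m * y * m⁻¹) * w = w * (m * y * m⁻¹) := by
      intro y hy
      have hyV : m * y * m⁻¹ ∈ V := (mem_normalizer_iff.mp (h.MV hm) y).mp hy.1
      have hyR : ∀ r ∈ R, r * (m * y * m⁻¹) = (m * y * m⁻¹) * r := by
        intro r hr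
        have h1 := mem_cj.mp (hRm hr)
        have h2 := mem_centralizer_iff.mp hy.2 _ h1
        calc r * (m * y * m⁻¹) = m * ((m⁻¹ * r * m) * y) * m⁻¹ := by group
          _ = (m * y * m⁻¹) * r := by rw [h2]; group
      have hyo : m * y * m⁻¹ ∈ o2 C := by
        refine hch ⟨hQC (h.VQ hyV), mem_centralizer_iff.mpr fun r hr => hyR r (hoR hr)⟩
      have hyZ : m * y * m⁻¹ ∈ Z := ⟨hyo, mem_centralizer_iff.mpr fun r hr => hyR r (hoR hr)⟩
      exact ⟨hyZ, ((h.memV _).mp hyV).2, mem_centralizer_iff.mp w.2.2 _ hyZ⟩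
    obtain ⟨ha1', ha2, ha3⟩ := hmem a ha
    obtain ⟨hb1', hb2, hb3⟩ := hmem b hb
    have hne : ∀ y : G, y ≠ 1 → m * y * m⁻¹ ≠ 1 := by
      intro y hy h1
      apply hy
      rw [mul_inv_eq_one] at h1
      exact mul_eq_left.mp h1
    have h9 := ThinBasic.eq_of_commute hL ht hwo ha3 hb3
      (h.comm _ (hZQ ha1') _ (hZQ hb1')) ha2 hb2 (hne a ha1) (hne b hb1)
    apply hab
    have h10 := mul_right_cancel h9
    exact (mul_left_cancel h10).symm
  have hY2 : IsPGroup 2 Y := by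
    refine isPGroup_of_tt_of_coprime (hTT.mono inf_le_left) ?_
    exact ((Nat.Prime.coprime_iff_not_dvd Nat.prime_three).mpr hY3).symm
  have hQo2 : Q ≤ o2 C := hQY.trans (le_o2 inf_le_left hY2 hYC)
  intro c hc
  refine h.cj_eq_Q h64 ((cj_mono hQo2).trans ?_)
  rw [cj_eq_of_mem_normalizer (le_normalizer_o2 C hc)]
  exact hoR.trans hRM

/-- `g ∈ M` if `g` carries an element of `Q`, different from 1, into `M`. -/
theorem mem_M (hL : Loc G) (ht : M23LE 1 G) (h : Ctx M Q V T x) (h64 : 64 < Nat.card Q) (g v : G)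
    (hv : v ∈ Q) (hv1 : v ≠ 1) (hgv : g * v * g⁻¹ ∈ M) : g ∈ M := by
  have hf2 : Fact (Nat.Prime 2) := ⟨Nat.prime_two⟩
  by_contra hg
  have hA1 : cj g Q ⊓ M ≠ ⊥ := by
    intro h0
    have h1 : g * v * g⁻¹ ∈ cj g Q ⊓ M := ⟨conj_mem_cj hv, hgv⟩
    rw [h0, mem_bot, mul_inv_eq_one] at h1
    exact hv1 (mul_eq_left.mp h1)
  have hA2 : IsPGroup 2 (cj g Q ⊓ M : Subgroup G) := (isPGroup_cj h.two g).to_le inf_le_left
  obtain ⟨a, ⟨haQ, haM⟩, ha, -⟩ := exists_orderOf_eq hA2 hA1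
  have haa : a * a = 1 := by rw [← pow_two, ← ha, pow_orderOf_eq_one]
  have ha1 : a ≠ 1 := by
    rintro rfl
    rw [orderOf_one] at ha
    exact absurd ha (by norm_num)
  have hcomm : ∀ y ∈ cj g Q, ∀ z ∈ cj g Q, y * z = z * y := by
    rintro _ ⟨a, ha, rfl⟩ _ ⟨b, hb, rfl⟩
    rw [← map_mul, ← map_mul, h.comm a ha b hb]
  -- elements of `Q ∩ Q^g` are trivial
  have hTI : ∀ y ∈ cj g Q, y ∈ Q → y = 1 := by
    intro y hyg hyQ
    by_contra hy1
    refine hg (h.cj_eq_Q h64 fun z hz => ?_)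
    refine h.centralizer_le_M hL ht h64 hyQ hy1 (mem_centralizer_iff.mpr ?_)
    rintro _ rfl
    exact hcomm _ hyg _ hz
  have haQ' : a ∉ Q := fun h1 => ha1 (hTI a haQ h1)
  have h1 := h.sq Q le_rfl h.norm.ge a haM haQ' (by rw [haa]; exact one_mem _)
  set D := Q ⊓ centralizer ({a} : Set G) with hD
  -- `g⁻¹ D g ≤ M`
  have hav : g⁻¹ * a * g ∈ Q := mem_cj.mp haQ
  have hav1 : g⁻¹ * a * g ≠ 1 := by
    intro h0
    apply ha1
    calc a = g * (g⁻¹ * a * g) * g⁻¹ := by group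
      _ = 1 := by rw [h0]; group
  have hDM : cj g⁻¹ D ≤ M := by
    intro y hy
    have h2 := mem_cj.mp hy
    rw [inv_inv] at h2
    refine h.centralizer_le_M hL ht h64 hav hav1 (mem_centralizer_iff.mpr ?_)
    rintro _ rfl
    have h3 := mem_centralizer_iff.mp h2.2 a rfl
    calc g⁻¹ * a * g * y = g⁻¹ * (a * (g * y * g⁻¹)) * g := by group
      _ = y * (g⁻¹ * a * g) := by rw [h3]; group
  have hD2 : IsPGroup 2 (cj g⁻¹ D) := isPGroup_cj (h.two.to_le inf_le_left) _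
  have h4 := h.le8 _ hDM hD2
  have h5 : cj g⁻¹ D ⊓ Q = ⊥ := by
    rw [eq_bot_iff]
    rintro y ⟨hy, hyQ⟩
    have h2 := mem_cj.mp hy
    rw [inv_inv] at h2
    have h6 : g * y * g⁻¹ = 1 := hTI _ (conj_mem_cj hyQ) h2.1
    rw [mem_bot]
    rw [mul_inv_eq_one] at h6
    exact mul_eq_left.mp h6
  rw [h5, card_bot, card_cj, mul_one] at h4
  have h6 : (Nat.card D) ^ 2 ≤ 8 ^ 2 := Nat.pow_le_pow_left h4 2
  omega

/-- `|Q| = 64`. -/
theorem card_Q (hL : Loc G) (ht : M23LE 1 G) (h : Ctx M Q V T x)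
    (hnse : ∀ H : Subgroup G, ¬ IsStronglyEmbedded H) (hM : M ≠ ⊤) : Nat.card Q = 64 := by
  have h1 := h.card_V
  have h2 := card_le_of_le h.VQ
  by_contra hne
  have h64 : 64 < Nat.card Q := by omega
  exact hnse M (ThinStrong.stronglyEmbedded hL.char2 h.two h.ne h.QM h.norm.ge
    (fun g v hv hv1 hg => h.mem_M hL ht h64 g v hv hv1 hg) hM)

/-! ### `|Q| = 64` -/

theorem V_eq_Q (h : Ctx M Q V T x) (hQ : Nat.card Q = 64) : V = Q :=
  Subgroup.eq_of_le_of_card_ge h.VQ (by rw [hQ]; exact h.card_V)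

theorem sq_Q (h : Ctx M Q V T x) (hQ : Nat.card Q = 64) {q : G} (hq : q ∈ Q) : q * q = 1 := by
  rw [← h.V_eq_Q hQ] at hq
  exact ((h.memV q).mp hq).2

omit [Finite G] in
theorem card_cent (h : Ctx M Q V T x) (hQ : Nat.card Q = 64) {t : G} (ht : t ∈ M) (htQ : t ∉ Q)
    (htt : t * t ∈ Q) : Nat.card (Q ⊓ centralizer ({t} : Set G) : Subgroup G) = 8 := by
  have h1 := h.sq Q le_rfl h.norm.ge t ht htQ htt
  rw [hQ] at h1
  have h2 : (8 : ℕ) ^ 2 = (Nat.card (Q ⊓ centralizer ({t} : Set G) : Subgroup G)) ^ 2 := by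
    rw [← h1]
    norm_num
  exact (Nat.pow_left_injective (n := 2) two_ne_zero h2).symm

/-- `T` is a maximal 2-subgroup of `M`. -/
theorem eq_T (h : Ctx M Q V T x) (hQ : Nat.card Q = 64) {R : Subgroup G} (hR : IsPGroup 2 R)
    (hRM : R ≤ M) (hTR : T ≤ R) : R = T := by
  refine (Subgroup.eq_of_le_of_card_ge hTR ?_).symm
  have h1 := h.le8 R hRM hR
  have h2 := card_le_of_le (inf_le_right : R ⊓ Q ≤ Q)
  rw [h.cardT, hQ]
  omega

/-- Elementary abelian subgroups `A ≠ Q` of `T` of order 64: `A ∩ Q = C_Q(a)` for all `a ∈ A ∖ Q`. -/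
theorem inf_eq (h : Ctx M Q V T x) (hQ : Nat.card Q = 64) {A : Subgroup G} (hAT : A ≤ T)
    (hA : ∀ a ∈ A, a * a = 1) (hAc : Nat.card A = 64) {a : G} (ha : a ∈ A)
    (haQ : a ∉ Q) : A ⊓ Q = Q ⊓ centralizer ({a} : Set G) := by
  have hcomm : ∀ y ∈ A, ∀ z ∈ A, y * z = z * y := by
    intro y hy z hz
    have e : ∀ w ∈ A, w⁻¹ = w := fun w hw => (eq_inv_of_mul_eq_one_left (hA w hw)).symm
    calc y * z = (y * z)⁻¹ := (e _ (mul_mem hy hz)).symm
      _ = z⁻¹ * y⁻¹ := mul_inv_rev y z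
      _ = z * y := by rw [e z hz, e y hy]
  have h1 := h.le8 A (hAT.trans h.TM) (h.twoT.to_le hAT)
  have h2 := h.card_cent hQ (h.TM (hAT ha)) haQ (by rw [hA a ha]; exact one_mem _)
  refine Subgroup.eq_of_le_of_card_ge ?_ ?_
  · rintro y ⟨hyA, hyQ⟩
    refine ⟨hyQ, mem_centralizer_iff.mpr ?_⟩
    rintro _ rfl
    exact hcomm _ ha _ hyA
  · rw [h2]
    omega

/-- There is at most one elementary abelian subgroup of order 64 of `T`, different from `Q`. -/
theorem unique (h : Ctx M Q V T x) (hQ : Nat.card Q = 64) {A B : Subgroup G} (hAT : A ≤ T)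
    (hBT : B ≤ T) (hA : ∀ a ∈ A, a * a = 1) (hB : ∀ a ∈ B, a * a = 1) (hAc : Nat.card A = 64)
    (hBc : Nat.card B = 64) (hAQ : A ≠ Q) (hBQ : B ≠ Q) : A = B := by
  have hne : ∀ C : Subgroup G, Nat.card C = 64 → C ≠ Q → ∃ c ∈ C, c ∉ Q := by
    intro C hC hCQ
    by_contra hcon
    push Not at hcon
    exact hCQ (Subgroup.eq_of_le_of_card_ge hcon (by rw [hC, hQ]))
  obtain ⟨b, hbB, hbQ⟩ := hne B hBc hBQ
  have hBQi := h.inf_eq hQ hBT hB hBc hbB hbQ
  have hBQ8 : Nat.card (B ⊓ Q : Subgroup G) = 8 := by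
    rw [hBQi]
    exact h.card_cent hQ (h.TM (hBT hbB)) hbQ (by rw [hB b hbB]; exact one_mem _)
  -- `T = B Q`
  have hTn : T ≤ normalizer (Q : Set G) := h.TM.trans h.norm.ge
  have hsup : B ⊔ Q = T := by
    refine Subgroup.eq_of_le_of_card_ge (sup_le hBT h.QT) ?_
    have h1 : Nat.card Q * Q.relIndex (B ⊔ Q) = Nat.card (B ⊔ Q : Subgroup G) :=
      Lib.HallHigman.card_mul_relIndex' le_sup_right
    have h2 : Q.relIndex B ≤ Q.relIndex (B ⊔ Q) := relIndex_le_of_le_right le_sup_left (by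
      intro h0
      rw [h0, mul_zero] at h1
      exact Nat.card_pos.ne h1)
    have h3 : Nat.card (B ⊓ Q : Subgroup G) * Q.relIndex B = Nat.card B := by
      rw [← inf_relIndex_left]
      exact Lib.HallHigman.card_mul_relIndex' inf_le_left
    rw [hBQ8, hBc] at h3
    rw [h.cardT, ← h1, hQ]
    omega
  have key : ∀ a ∈ A, a ∉ Q → a ∈ B := by
    intro a ha haQ
    have haT : a ∈ B ⊔ Q := by rw [hsup]; exact hAT ha
    obtain ⟨b', hb', q, hq, rfl⟩ : ∃ b' ∈ B, ∃ q ∈ Q, b' * q = a := by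
      have h1 : a ∈ ((B ⊔ Q : Subgroup G) : Set G) := haT
      rw [Subgroup.coe_mul_of_left_le_normalizer_right _ _ (hBT.trans hTn)] at h1
      obtain ⟨b', hb', q, hq, h2⟩ := h1
      exact ⟨b', hb', q, hq, h2⟩
    have hb'Q : b' ∉ Q := fun hb'' => haQ (mul_mem hb'' hq)
    have h1 := hA _ ha
    have h2 := hB _ hb'
    have h3 := h.sq_Q hQ hq
    -- `q` commutes with `b'`
    have h4 : b' * q = q * b' := by
      have e1 : (b' * q)⁻¹ = b' * q := (eq_inv_of_mul_eq_one_left h1).symm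
      have e2 : b'⁻¹ = b' := (eq_inv_of_mul_eq_one_left h2).symm
      have e3 : q⁻¹ = q := (eq_inv_of_mul_eq_one_left h3).symm
      rw [← e1, mul_inv_rev, e2, e3]
    have h5 : q ∈ B ⊓ Q := by
      rw [h.inf_eq hQ hBT hB hBc hb' hb'Q]
      refine ⟨hq, mem_centralizer_iff.mpr ?_⟩
      rintro _ rfl
      exact h4
    exact mul_mem hb' h5.1
  obtain ⟨a, haA, haQ⟩ := hne A hAc hAQ
  refine Subgroup.eq_of_le_of_card_ge (fun y hy => ?_) (by rw [hAc, hBc])
  by_cases hyQ : y ∈ Q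
  · have h1 : a * y ∉ Q := fun h1 => haQ (by
      have := mul_mem h1 (inv_mem hyQ)
      rwa [mul_inv_cancel_right] at this)
    have h2 := mul_mem (inv_mem (key a haA haQ)) (key _ (mul_mem haA hy) h1)
    rwa [inv_mul_cancel_left] at h2
  · exact key y hy hyQ

omit [Finite G] in
/-- Elements of order `p` are conjugate up to powers if `p²` does not divide the order. -/
theorem exists_conj_mem_zpowers {K : Type*} [Group K] [Finite K] {p : ℕ} [hp : Fact p.Prime]
    (hpp : ¬ p ^ 2 ∣ Nat.card K) {x y : K} (hx : orderOf x = p) (hy : orderOf y = p) :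
    ∃ k : K, k * y * k⁻¹ ∈ zpowers x := by
  have key : ∀ x : K, orderOf x = p → ∃ P : Sylow p K, (P : Subgroup K) = zpowers x := by
    intro x hx
    have h1 : IsPGroup p (zpowers x) :=
      IsPGroup.of_card (n := 1) (by rw [Nat.card_zpowers, hx, pow_one])
    obtain ⟨P, hP⟩ := h1.exists_le_sylow
    refine ⟨P, (Subgroup.eq_of_le_of_card_ge hP ?_).symm⟩
    obtain ⟨n, hn⟩ := IsPGroup.iff_card.mp P.isPGroup'
    have h2 : n < 2 := by
      by_contra h3
      apply hpp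
      exact (pow_dvd_pow p (not_lt.mp h3)).trans (hn ▸ card_subgroup_dvd_card (P : Subgroup K))
    rw [hn, Nat.card_zpowers, hx]
    calc p ^ n ≤ p ^ 1 := Nat.pow_le_pow_right hp.out.pos (by omega)
      _ = p := pow_one p
  obtain ⟨P, hP⟩ := key x hx
  obtain ⟨P', hP'⟩ := key y hy
  obtain ⟨k, hk⟩ := MulAction.exists_smul_eq K P' P
  refine ⟨k, ?_⟩
  rw [← hP, ← hk]
  have h1 : y ∈ (P' : Subgroup K) := by rw [hP']; exact mem_zpowers y
  exact ⟨y, h1, rfl⟩

/-- **`T` is a Sylow 2-subgroup of `G`**. -/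
theorem sylow (h : Ctx M Q V T x) (hQ : Nat.card Q = 64) (h49 : ¬ 7 ^ 2 ∣ Nat.card G)
    (hc7 : centralizer ({x} : Set G) = zpowers x) {R : Subgroup G} (hR : IsPGroup 2 R)
    (hTR : T ≤ R) : R = T := by
  have hf2 : Fact (Nat.Prime 2) := ⟨Nat.prime_two⟩
  have hf7 : Fact (Nat.Prime 7) := ⟨by norm_num⟩
  by_contra hne
  have hlt : T < R := lt_of_le_of_ne hTR (Ne.symm hne)
  obtain ⟨y, hyR, hyT, hyN⟩ :=
    Cfsg.Agent.Involutions.BaerSuzuki.exists_mem_normalizer_of_lt hR hlt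
  have hyM : y ∉ M := by
    intro hyM
    have h1 : T ⊔ zpowers y = T := by
      refine h.eq_T hQ (hR.to_le (sup_le hTR (by rw [zpowers_le]; exact hyR)))
        (sup_le h.TM (by rw [zpowers_le]; exact hyM)) le_sup_left
    exact hyT (h1 ▸ mem_sup_right (mem_zpowers y))
  -- all elements of `N(T) ∖ M` carry `Q` to the same subgroup
  have hall : ∀ g ∈ normalizer (T : Set G), g ∉ M → cj g Q = cj y Q := by
    have hcond : ∀ g ∈ normalizer (T : Set G), g ∉ M → cj g Q ≤ T ∧ (∀ a ∈ cj g Q, a * a = 1) ∧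
        Nat.card (cj g Q) = 64 ∧ cj g Q ≠ Q := by
      intro g hg hgM
      refine ⟨?_, ?_, ?_, ?_⟩
      · have := cj_mono (g := g) h.QT
        rwa [cj_eq_of_mem_normalizer hg] at this
      · rintro _ ⟨a, ha, rfl⟩
        rw [← map_mul, h.sq_Q hQ ha, map_one]
      · rw [card_cj, hQ]
      · intro h1
        apply hgM
        rw [← h.norm]
        exact mem_normalizer_of_cj_eq h1
    intro g hg hgM
    obtain ⟨h1, h2, h3, h4⟩ := hcond g hg hgM
    obtain ⟨k1, k2, k3, k4⟩ := hcond y hyN hyM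
    exact h.unique hQ h1 k1 h2 k2 h3 k3 h4 k4
  have hone : ∀ g : G, cj g Q = Q → g ∈ M := fun g hg => by
    rw [← h.norm]
    exact mem_normalizer_of_cj_eq hg
  have hcj1 : cj (1 : G) Q = Q := cj_eq_of_mem_normalizer (one_mem _)
  have hyM' : y⁻¹ ∉ M := fun h1 => hyM (by simpa using inv_mem h1)
  -- `y x y⁻¹ ∈ M`
  have hyx : y * x * y⁻¹ ∈ M := by
    apply hone
    rw [mul_assoc, ← cj_cj, ← cj_cj, hall y⁻¹ (inv_mem hyN) hyM', cj_cj x y,
      hall (x * y) (mul_mem h.xT hyN) (fun h1 => hyM (by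
        have := mul_mem (inv_mem h.xM) h1
        rwa [inv_mul_cancel_left] at this)),
      ← hall y⁻¹ (inv_mem hyN) hyM', cj_cj, mul_inv_cancel, hcj1]
  set K := normalizer (T : Set G) ⊓ M with hK
  have hK49 : ¬ 7 ^ 2 ∣ Nat.card K := fun h1 => h49 (h1.trans (card_subgroup_dvd_card K))
  have hxK : x ∈ K := mem_inf.mpr ⟨h.xT, h.xM⟩
  have hyK : y * x * y⁻¹ ∈ K :=
    mem_inf.mpr ⟨Subgroup.mul_mem _ (Subgroup.mul_mem _ hyN h.xT) (Subgroup.inv_mem _ hyN), hyx⟩
  have hyo : orderOf (y * x * y⁻¹) = 7 := by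
    rw [← h.ox]
    exact (MulAut.conj y).orderOf_eq x
  obtain ⟨k, hk⟩ := exists_conj_mem_zpowers (p := 7) hK49
    (x := (⟨x, hxK⟩ : K)) (y := (⟨y * x * y⁻¹, hyK⟩ : K))
    (by rw [Subgroup.orderOf_mk, h.ox])
    (by rw [Subgroup.orderOf_mk, hyo])
  set d := (k : G) * y with hd
  have hkK := mem_inf.mp k.2
  have hdM : d ∉ M := fun h1 => hyM (by
    have := M.mul_mem (M.inv_mem hkK.2) h1
    rwa [hd, inv_mul_cancel_left] at this)
  have hdN : d ∈ normalizer (T : Set G) := mul_mem hkK.1 hyN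
  have hdx : d * x * d⁻¹ ∈ zpowers x := by
    obtain ⟨n, hn⟩ := hk
    refine ⟨n, ?_⟩
    have h1 := congrArg Subtype.val hn
    simp only [Subgroup.coe_zpow, Subgroup.coe_mul, Subgroup.coe_inv] at h1
    change x ^ n = _
    rw [h1, hd]
    group
  have hdd : d * d ∈ M := by
    apply hone
    have h1 := hall d hdN hdM
    have h2 := hall d⁻¹ (inv_mem hdN) (fun h3 => hdM (by simpa using inv_mem h3))
    rw [← cj_cj, h1, ← h2, cj_cj, mul_inv_cancel, hcj1]
  -- the order of `d` is even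
  have hdo : Even (orderOf d) := by
    by_contra hodd
    rw [Nat.not_even_iff_odd] at hodd
    obtain ⟨m, hm⟩ := hodd
    apply hdM
    have h1 : (d * d) ^ (m + 1) = d := by
      rw [← pow_two, ← pow_mul, show 2 * (m + 1) = (2 * m + 1) + 1 by ring, pow_succ, ← hm,
        pow_orderOf_eq_one, one_mul]
    rw [← h1]
    exact pow_mem hdd _
  obtain ⟨m, hm⟩ := hdo
  set u := d ^ m with hu
  have hdpos : 0 < orderOf d := orderOf_pos d
  have huu : u * u = 1 := by rw [hu, ← pow_add, ← hm, pow_orderOf_eq_one]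
  have hu1 : u ≠ 1 := by
    intro h1
    have h2 := orderOf_dvd_of_pow_eq_one h1
    have := Nat.le_of_dvd (by omega) h2
    omega
  have huN : u ∈ normalizer (T : Set G) := pow_mem hdN m
  have hdz : d ∈ normalizer ((zpowers x : Subgroup G) : Set G) := by
    have h1 : cj d (zpowers x) = zpowers x := by
      refine Subgroup.eq_of_le_of_card_ge ?_ (card_cj _ _).ge
      rintro _ ⟨z, ⟨n, rfl⟩, rfl⟩
      change MulAut.conj d (x ^ n) ∈ zpowers x
      rw [map_zpow, MulAut.conj_apply]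
      exact zpow_mem hdx n
    exact mem_normalizer_of_cj_eq h1
  have huz : u ∈ normalizer ((zpowers x : Subgroup G) : Set G) := pow_mem hdz m
  have hx7 : x ^ 7 = 1 := by rw [← h.ox, pow_orderOf_eq_one]
  obtain ⟨n, hn⟩ : u * x * u⁻¹ ∈ zpowers x := (mem_normalizer_iff.mp huz x).mp (mem_zpowers x)
  change x ^ n = u * x * u⁻¹ at hn
  have huinv : u⁻¹ = u := (eq_inv_of_mul_eq_one_left huu).symm
  -- `n² = 1` modulo 7
  have hn2 : x ^ (n * n) = x := by
    have h1 : u * x ^ n * u⁻¹ = x := by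
      rw [hn]
      calc u * (u * x * u⁻¹) * u⁻¹ = (u * u) * x * (u * u)⁻¹ := by group
        _ = x := by rw [huu]; group
    have h2 : u * x ^ n * u⁻¹ = (u * x * u⁻¹) ^ n := (conj_zpow).symm
    rw [h2, ← hn, ← zpow_mul] at h1
    exact h1
  have h7d : (7 : ℤ) ∣ n * n - 1 := by
    have h1 : x ^ (n * n - 1) = 1 := by rw [zpow_sub, hn2, zpow_one, mul_inv_cancel]
    have := orderOf_dvd_iff_zpow_eq_one.mpr h1
    rwa [h.ox] at this
  have hinv : u * x * u⁻¹ = x⁻¹ := by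
    have h1 : (7 : ℤ) ∣ (n - 1) * (n + 1) := by
      have : (n - 1) * (n + 1) = n * n - 1 := by ring
      rw [this]
      exact h7d
    have hp7 : Prime (7 : ℤ) := by
      have : Nat.Prime 7 := by norm_num
      exact_mod_cast Nat.prime_iff_prime_int.mp this
    rcases hp7.dvd_or_dvd h1 with h2 | h2
    · exfalso
      have h3 : x ^ (n - 1) = 1 := by
        apply orderOf_dvd_iff_zpow_eq_one.mp
        rwa [h.ox]
      have h4 : x ^ n = x := by
        have : n = (n - 1) + 1 := by ring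
        rw [this, zpow_add, h3, one_mul, zpow_one]
      rw [h4] at hn
      have h5 : u ∈ centralizer ({x} : Set G) := by
        rw [mem_centralizer_iff]
        rintro _ rfl
        rw [eq_mul_inv_iff_mul_eq] at hn
        exact hn
      rw [hc7] at h5
      have h6 : orderOf u = 2 := orderOf_eq_prime (by rw [pow_two, huu]) hu1
      have h7 : orderOf u ∣ 7 := by
        have h8 := orderOf_dvd_natCard (⟨u, h5⟩ : zpowers x)
        rwa [Subgroup.orderOf_mk, Nat.card_zpowers, h.ox] at h8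
      rw [h6] at h7
      omega
    · have h3 : x ^ (n + 1) = 1 := by
        apply orderOf_dvd_iff_zpow_eq_one.mp
        rwa [h.ox]
      rw [zpow_add, zpow_one] at h3
      rw [← hn]
      exact eq_inv_of_mul_eq_one_left h3
  -- the action on `Z(T)`
  set Z := T ⊓ centralizer (T : Set G) with hZ
  have hNZ : normalizer (T : Set G) ≤ normalizer (Z : Set G) := by
    intro g hg
    rw [mem_normalizer_iff]
    intro z
    have h1 := mem_normalizer_iff.mp hg z
    have h2 := mem_normalizer_iff.mp (normalizer_le_normalizer_centralizer T hg) z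
    exact ⟨fun hy => ⟨h1.mp hy.1, h2.mp hy.2⟩, fun hy => ⟨h1.mpr hy.1, h2.mpr hy.2⟩⟩
  have hZQ : Z ≤ Q := fun z hz => h.cent (centralizer_le h.QT hz.2)
  have hZ8 : Nat.card Z = 8 := by
    apply le_antisymm
    · obtain ⟨t, htT, htQ, htt⟩ := h.exists_t
      rw [← h.card_cent hQ (h.TM htT) htQ htt]
      refine card_le_of_le (le_inf hZQ (inf_le_right.trans (centralizer_le ?_)))
      rintro _ rfl
      exact htT
    · refine h.eight_le.trans (card_le_of_le (le_inf ?_ inf_le_right))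
      exact inf_le_left.trans (h.VQ.trans h.QT)
  have h8 := ThinEightFpf.exists_card_eq_sq (U := Z) (n := 7)
    (fun z => Subtype.ext (h.sq_Q hQ (hZQ z.2)))
    (Lib.CoprimeHyperplane.conjHom hNZ ⟨u, huN⟩) (Lib.CoprimeHyperplane.conjHom hNZ ⟨x, h.xT⟩)
    (by
      rw [← map_mul]
      have : (⟨u, huN⟩ : normalizer (T : Set G)) * ⟨u, huN⟩ = 1 := Subtype.ext huu
      rw [this, map_one])
    (by
      rw [← map_inv, ← map_inv, ← map_mul, ← map_mul]
      congr 1
      exact Subtype.ext hinv)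
    (by decide)
    (by
      rw [← map_pow]
      have : (⟨x, h.xT⟩ : normalizer (T : Set G)) ^ 7 = 1 := Subtype.ext hx7
      rw [this, map_one])
    (by
      intro z hz
      apply Subtype.ext
      refine h.fpf z (hZQ z.2) ?_
      have h1 := congrArg Subtype.val hz
      rw [Lib.CoprimeHyperplane.conjHom_apply] at h1
      exact mul_inv_eq_iff_eq_mul.mp h1)
  rw [hZ8] at h8
  set c := Nat.card ((Lib.CoprimeHyperplane.conjHom hNZ ⟨u, huN⟩).toMonoidHom.eqLocus
    (MonoidHom.id Z))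
  rcases Nat.lt_or_ge c 3 with h9 | h9
  · have : c ^ 2 ≤ 2 ^ 2 := Nat.pow_le_pow_left (by omega) 2
    omega
  · have : 3 ^ 2 ≤ c ^ 2 := Nat.pow_le_pow_left h9 2
    omega

end Ctx

end Cfsg.Agent.SmallSimple.S1000.ThinEightLocal
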