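import Mathlib
import Cfsg.Agent.SmallSimple.S1000.Local
import Cfsg.Agent.SmallSimple.S1000.ThinBasic
import Cfsg.Agent.SmallSimple.S1000.ThinEightAb
import Cfsg.Agent.SmallSimple.S1000.ThinEightLocal
import Cfsg.Agent.SmallSimple.S1000.EightFacts

/-!
# S1000, thin case, `M/Q = L₂(8)`: `|S| = 2 ^ 9`
-/

set_option autoImplicit false

namespace Cfsg.Agent.SmallSimple.S1000.ThinEight

open Subgroup Cfsg Cfsg.Agent.ZN Cfsg.Agent.MinSimple.Basic Cfsg.Agent.MinSimple.VModule
open Cfsg.Agent.SmallSimple.S1000.Setup Cfsg.Agent.SmallSimple.S1000.Local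
open Cfsg.Agent.SmallSimple.S1000.ThinEightLocal

universe u

section aux

theorem card_comap_eq {H L : Type*} [Group H] [Group L] [Finite H] (π : H →* L)
    (hπ : Function.Surjective π) (S : Subgroup L) :
    Nat.card (S.comap π) = Nat.card π.ker * Nat.card S := by
  have hle : π.ker ≤ S.comap π := by
    intro y hy
    rw [mem_comap, MonoidHom.mem_ker.mp hy]
    exact one_mem _
  rw [← Lib.HallHigman.card_mul_relIndex' hle]
  congr 1
  rw [relIndex_ker, map_comap_eq_self_of_surjective hπ]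

theorem card_le_of_subgroup {H L : Type*} [Group H] [Group L] [Finite H] (π : H →* L)
    (hL : Nat.card L = 504) {R : Subgroup H} (hR : IsPGroup 2 R) :
    Nat.card R ≤ 8 * Nat.card (R ⊓ π.ker : Subgroup H) := by
  have hf2 : Fact (Nat.Prime 2) := ⟨Nat.prime_two⟩
  have hLf : Finite L := Nat.finite_of_card_ne_zero (by rw [hL]; norm_num)
  have h1 : Nat.card (R ⊓ π.ker : Subgroup H) * Nat.card (R.map π) = Nat.card R := by
    rw [← relIndex_ker, ← inf_relIndex_left]
    exact Lib.HallHigman.card_mul_relIndex' inf_le_left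
  have h2 : Nat.card (R.map π) ≤ 8 := by
    obtain ⟨n, hn⟩ := IsPGroup.iff_card.mp (hR.map π)
    have h3 : 2 ^ n ∣ 504 := by
      rw [← hn, ← hL]
      exact card_subgroup_dvd_card _
    have h4 : n < 4 := by
      by_contra h5
      have : 2 ^ 4 ∣ 504 := (pow_dvd_pow 2 (not_lt.mp h5)).trans h3
      omega
    rw [hn]
    calc 2 ^ n ≤ 2 ^ 3 := Nat.pow_le_pow_right two_pos (by omega)
      _ = 8 := by norm_num
  rw [← h1, mul_comm]
  exact Nat.mul_le_mul_right _ h2

end aux

variable {G : Type u} [Group G] [Finite G] {a b : ℕ} {M : Subgroup G}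

theorem eight_of_facts (h : Hyp G 7 a b) (hL : Loc G) (ht : M23LE 1 G) (hM : MaxLocal M)
    {L : Type*} [Group L] (π : M →* L) (hπ : Function.Surjective π) (hker : π.ker = pCore 2 ↥M)
    (hcard : Nat.card L = 504)
    (htr : ∃ g h k : L, orderOf g = 3 ∧ orderOf h = 3 ∧ orderOf k = 3 ∧ orderOf (g * h * k) = 3 ∧
      orderOf (k * h * g * k⁻¹ * h⁻¹ * g⁻¹) = 7)
    (hinv : ∀ t : L, orderOf t = 2 → ∃ w, orderOf w = 3 ∧ t * w * t⁻¹ = w⁻¹)
    (hdih : ∃ t h : L, orderOf t = 2 ∧ orderOf h = 7 ∧ t * h * t⁻¹ = h⁻¹)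
    (hbor : ∃ (S : Sylow 2 L) (h : L), orderOf h = 7 ∧ h ∈ normalizer ((S : Subgroup L) : Set L)) :
    b = 9 := by
  classical
  have hf2 : Fact (Nat.Prime 2) := ⟨Nat.prime_two⟩
  have hf7 : Fact (Nat.Prime 7) := ⟨by norm_num⟩
  have hLf : Finite L := Nat.finite_of_card_ne_zero (by rw [hcard]; norm_num)
  set Q := o2 M with hQdef
  have hmemQ : ∀ y : M, (y : G) ∈ Q ↔ y ∈ π.ker := by
    intro y
    rw [hker, hQdef, o2_def, mem_map]
    constructor
    · rintro ⟨z, hz, hzy⟩
      rwa [← Subtype.ext hzy]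
    · intro hy
      exact ⟨y, hy, rfl⟩
  have hQM : Q ≤ M := o2_le M
  have hK2 : IsPGroup 2 π.ker := by rw [hker]; exact Lib.Cores.pCore_isPGroup 2
  have hQ2 : IsPGroup 2 Q := o2_isPGroup M
  have hQn : normalizer (Q : Set G) = M := hM.normalizer_o2
  have hcardQ : Nat.card π.ker = Nat.card Q := by rw [hker]; exact MaxLocal.card_pCore M
  -- elements of order 7
  have h7' : ∀ x : G, orderOf x = 7 → ∀ q ∈ Q, x * q = q * x → q = 1 := by
    intro x hx q hq hxq
    have h1 : q ∈ centralizer ({x} : Set G) := by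
      rw [mem_centralizer_iff]
      rintro _ rfl
      exact hxq
    rw [h.cent x hx] at h1
    have h2 : orderOf q ∣ 7 := by
      have h3 := orderOf_dvd_natCard (⟨q, h1⟩ : zpowers x)
      rwa [Subgroup.orderOf_mk, Nat.card_zpowers, hx] at h3
    obtain ⟨n, hn⟩ := hQ2 ⟨q, hq⟩
    have hn' : q ^ 2 ^ n = 1 := congrArg Subtype.val hn
    have h3 : orderOf q ∣ 2 ^ n := orderOf_dvd_of_pow_eq_one hn'
    have h4 : orderOf q ∣ Nat.gcd 7 (2 ^ n) := Nat.dvd_gcd h2 h3
    rw [show Nat.gcd 7 (2 ^ n) = 1 from Nat.Coprime.pow_right n (by norm_num)] at h4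
    exact orderOf_eq_one_iff.mp (Nat.dvd_one.mp h4)
  have h7 : ∀ x : M, orderOf x = 7 → ∀ q ∈ π.ker, x * q = q * x → q = 1 := by
    intro x hx q hq hxq
    exact Subtype.ext (h7' x (by rw [Subgroup.orderOf_coe, hx]) q ((hmemQ q).mpr hq)
      (congrArg Subtype.val hxq))
  -- rank one
  have hr : ∀ w : M, orderOf w = 3 → ∀ a ∈ π.ker, ∀ b ∈ π.ker, a * w = w * a → b * w = w * b →
      a * b = b * a → a * a = 1 → b * b = 1 → a ≠ 1 → b ≠ 1 → a = b := by
    intro w hw a _ b _ haw hbw hab ha hb ha1 hb1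
    exact Subtype.ext (ThinBasic.eq_of_commute hL ht (by rw [Subgroup.orderOf_coe, hw])
      (congrArg Subtype.val haw) (congrArg Subtype.val hbw) (congrArg Subtype.val hab)
      (congrArg Subtype.val ha) (congrArg Subtype.val hb) (fun h1 => ha1 (Subtype.ext h1))
      (fun h1 => hb1 (Subtype.ext h1)))
  have h3 : ∀ w : M, orderOf w = 3 → ∀ q ∈ π.ker, w * q = q * w → q = 1 := fun w hw =>
    ThinEightFpf.fpf_three π hπ hK2 h7 hr hdih hw
  have hab := ThinEightAb.comm π hπ hK2 h7 h3 htr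
  have hcomm : ∀ a ∈ Q, ∀ b ∈ Q, a * b = b * a := by
    intro a ha b hb
    exact congrArg Subtype.val (hab ⟨a, hQM ha⟩ ((hmemQ _).mp ha) ⟨b, hQM hb⟩ ((hmemQ _).mp hb))
  let V : Subgroup G :=
    { carrier := {v | v ∈ Q ∧ v * v = 1}
      one_mem' := ⟨one_mem _, mul_one 1⟩
      mul_mem' := by
        rintro x y ⟨hx, hx2⟩ ⟨hy, hy2⟩
        refine ⟨mul_mem hx hy, ?_⟩
        calc x * y * (x * y) = x * (y * x) * y := by group
          _ = (x * x) * (y * y) := by rw [hcomm y hy x hx]; group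
          _ = 1 := by rw [hx2, hy2, mul_one]
      inv_mem' := by
        rintro x ⟨hx, hx2⟩
        have : x⁻¹ = x := (eq_inv_of_mul_eq_one_left hx2).symm
        rw [Set.mem_ofPred_eq, this]
        exact ⟨hx, hx2⟩ }
  -- the Sylow subgroup
  obtain ⟨S, g, hg, hgS⟩ := hbor
  obtain ⟨x, hxg, hx⟩ := ThinEightFpf.exists_lift π hπ hK2 (by norm_num) (by norm_num) hg
  have hS8 : Nat.card S = 8 := by
    obtain ⟨n, hn⟩ := IsPGroup.iff_card.mp S.isPGroup'
    have h1 : 2 ^ n ∣ 504 := by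
      rw [← hn, ← hcard]
      exact card_subgroup_dvd_card _
    have h2 : n < 4 := by
      by_contra h5
      have : 2 ^ 4 ∣ 504 := (pow_dvd_pow 2 (not_lt.mp h5)).trans h1
      omega
    have h3 : ¬ 2 ∣ (S : Subgroup L).index := S.not_dvd_index
    have h4 := (S : Subgroup L).card_mul_index
    rw [hn, hcard] at h4
    rw [hn]
    interval_cases n
    · exfalso; omega
    · exfalso; omega
    · exfalso; omega
    · norm_num
  set T' : Subgroup M := (S : Subgroup L).comap π with hT'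
  have hT'c : Nat.card T' = 8 * Nat.card Q := by
    rw [hT', card_comap_eq π hπ, hcardQ, hS8, mul_comm]
  set T : Subgroup G := T'.map M.subtype with hTdef
  have hTc : Nat.card T = 8 * Nat.card Q := by
    rw [hTdef, card_map_of_injective M.subtype_injective, hT'c]
  obtain ⟨nQ, hnQ⟩ := IsPGroup.iff_card.mp hQ2
  have hT'2 : IsPGroup 2 T' := IsPGroup.of_card (n := 3 + nQ) (by rw [hT'c, hnQ, pow_add]; norm_num)
  have hMcard : Nat.card M = 504 * Nat.card Q := by
    have h1 := π.ker.card_mul_index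
    rw [Subgroup.index_ker, MonoidHom.range_eq_top.mpr hπ, hcardQ] at h1
    rw [← h1, Subgroup.card_top, hcard, mul_comm]
  have hTidx : ¬ 2 ∣ T'.index := by
    have h1 := T'.card_mul_index
    rw [hT'c, hMcard] at h1
    have h2 : 0 < Nat.card Q := Nat.card_pos
    have h3 : T'.index = 63 := by
      have : (8 * Nat.card Q) * T'.index = (8 * Nat.card Q) * 63 := by rw [h1]; ring
      exact Nat.eq_of_mul_eq_mul_left (by omega) this
    rw [h3]
    norm_num
  have hctx : Ctx M Q V T (x : G) := by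
    refine
      { norm := hQn
        two := hQ2
        ne := hM.o2_ne_bot
        comm := hcomm
        memV := fun v => Iff.rfl
        cent := ?_
        sq := ?_
        fpf := fun q hq hxq => h7' x (by rw [Subgroup.orderOf_coe, hx]) q hq hxq
        twoT := hT'2.map _
        QT := ?_
        TM := map_subtype_le _
        cardT := hTc
        le8 := ?_
        conjT := ?_
        xM := x.2
        xT := ?_
        ox := by rw [Subgroup.orderOf_coe, hx] }
    · intro y hy
      refine hM.char2 h ⟨?_, hy⟩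
      rw [← hQn]
      exact centralizer_le_normalizer _ hy
    · intro W hWQ hMW t htM htQ htt
      have hWM : W ≤ M := hWQ.trans hQM
      have h1 := ThinEightAb.card_eq_sq π hπ hK2 h3 hab (V := W.subgroupOf M)
        ((normal_subgroupOf_iff_le_normalizer hWM).mpr hMW)
        (fun y hy => (hmemQ y).mp (hWQ hy)) (t := ⟨t, htM⟩)
        (by
          rw [← map_mul, ← MonoidHom.mem_ker, ← hmemQ]
          exact htt)
        (by
          apply hinv
          apply orderOf_eq_prime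
          · rw [pow_two, ← map_mul, ← MonoidHom.mem_ker, ← hmemQ]
            exact htt
          · intro h1
            exact htQ ((hmemQ ⟨t, htM⟩).mpr (MonoidHom.mem_ker.mpr h1)))
      rw [Nat.card_congr (subgroupOfEquivOfLe hWM).toEquiv] at h1
      rw [h1]
      congr 1
      refine Nat.card_congr ⟨fun y => ⟨(y : M), ⟨y.2.1, ?_⟩⟩,
        fun y => ⟨⟨y, hWM y.2.1⟩, ⟨y.2.1, ?_⟩⟩, fun y => rfl, fun y => rfl⟩
      · show ((y : M) : G) ∈ centralizer ({t} : Set G)
        rw [mem_centralizer_iff]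
        rintro _ rfl
        exact congrArg Subtype.val (mem_centralizer_iff.mp y.2.2 _ rfl)
      · show (⟨y, hWM y.2.1⟩ : M) ∈ centralizer ({⟨t, htM⟩} : Set M)
        rw [mem_centralizer_iff]
        rintro _ rfl
        exact Subtype.ext (mem_centralizer_iff.mp y.2.2 _ rfl)
    · intro q hq
      refine ⟨⟨q, hQM hq⟩, ?_, rfl⟩
      change π ⟨q, hQM hq⟩ ∈ (S : Subgroup L)
      rw [MonoidHom.mem_ker.mp ((hmemQ ⟨q, hQM hq⟩).mp hq)]
      exact one_mem _
    · intro R hRM hR
      have h1 := card_le_of_subgroup π hcard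
        (hR.comap_of_injective M.subtype M.subtype_injective)
      change Nat.card (R.subgroupOf M) ≤ _ at h1
      rw [Nat.card_congr (subgroupOfEquivOfLe hRM).toEquiv] at h1
      refine h1.trans (Nat.mul_le_mul_left _ ?_)
      refine Nat.card_le_card_of_injective
        (fun y => (⟨((y : M) : G), ⟨y.2.1, (hmemQ _).mpr y.2.2⟩⟩ : (R ⊓ Q : Subgroup G))) ?_
      intro y z hyz
      have h2 : ((y : M) : G) = ((z : M) : G) :=
        congrArg (fun w : (R ⊓ Q : Subgroup G) => (w : G)) hyz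
      exact Subtype.ext (Subtype.ext h2)
    · intro R hRM hR
      obtain ⟨P, hP⟩ := (hR.comap_of_injective M.subtype M.subtype_injective).exists_le_sylow
      obtain ⟨m, hm⟩ := MulAction.exists_smul_eq M (hT'2.toSylow hTidx) P
      refine ⟨m, m.2, fun y hy => ?_⟩
      rw [mem_cj]
      have h1 : (⟨y, hRM hy⟩ : M) ∈ (P : Subgroup M) := hP hy
      rw [← hm] at h1
      obtain ⟨z, hz, hzy⟩ := h1
      have hz' : z ∈ T' := hz
      refine ⟨z, hz', ?_⟩
      have h2 : m * z * m⁻¹ = ⟨y, hRM hy⟩ := hzy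
      have h3 := congrArg Subtype.val h2
      change (m : G) * z * (m : G)⁻¹ = y at h3
      change (z : G) = (m : G)⁻¹ * y * m
      rw [← h3]
      group
    · refine mem_normalizer_of_cj_eq (Subgroup.eq_of_le_of_card_ge ?_ (card_cj _ _).ge)
      rintro _ ⟨_, ⟨y, hy, rfl⟩, rfl⟩
      refine ⟨x * y * x⁻¹, ?_, rfl⟩
      change π (x * y * x⁻¹) ∈ (S : Subgroup L)
      rw [map_mul, map_mul, map_inv, hxg]
      exact (mem_normalizer_iff.mp hgS _).mp hy
  -- `M ≠ G`
  have hMtop : M ≠ ⊤ := by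
    intro hMt
    rw [hMt] at hQn
    have h1 : Q.Normal := normalizer_eq_top_iff.mp hQn
    have hs := h.simple
    rcases hs.eq_bot_or_eq_top_of_normal Q h1 with h2 | h2
    · exact hctx.ne h2
    · have h3 : Nat.card G = 2 ^ nQ := by rw [← hnQ, h2, Subgroup.card_top]
      rw [h.card] at h3
      have h4 : 7 ∣ 2 ^ nQ := by rw [← h3, mul_assoc]; exact Dvd.intro _ rfl
      have := Nat.Prime.dvd_of_dvd_pow (show Nat.Prime 7 by norm_num) h4
      omega
  have hQ64 := hctx.card_Q hL ht h.nse hMtop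
  have h49 : ¬ 7 ^ 2 ∣ Nat.card G := by
    have := MaxLocal.not_sq_dvd h (⊤ : Subgroup G)
    rwa [Subgroup.card_top] at this
  have hsyl : ∀ R : Subgroup G, IsPGroup 2 R → T ≤ R → R = T := fun R hR hTR =>
    hctx.sylow hQ64 h49 (h.cent _ hctx.ox) hR hTR
  obtain ⟨P, hP⟩ := hctx.twoT.exists_le_sylow
  have hPT := hsyl P P.isPGroup' hP
  have hidx : ¬ 2 ∣ T.index := by
    rw [← hPT]
    exact P.not_dvd_index
  have hci := T.card_mul_index
  rw [hTc, hQ64, h.card] at hci
  have hci' : 2 ^ 9 * T.index = 7 * 3 ^ a * 2 ^ b := by rw [← hci]; norm_num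
  have h9b : 2 ^ 9 ∣ 2 ^ b := by
    have h1 : 2 ^ 9 ∣ 7 * 3 ^ a * 2 ^ b := Dvd.intro _ hci'
    refine Nat.Coprime.dvd_of_dvd_mul_left ?_ h1
    exact Nat.Coprime.pow_left 9 (Nat.Coprime.mul_right (by norm_num)
      (Nat.Coprime.pow_right a (by norm_num)))
  have hb9 : 2 ^ b ∣ 2 ^ 9 := by
    have h1 : 2 ^ b ∣ 2 ^ 9 * T.index := by rw [hci']; exact Dvd.intro_left _ rfl
    refine Nat.Coprime.dvd_of_dvd_mul_right ?_ h1
    exact Nat.Coprime.pow_left b ((Nat.Prime.coprime_iff_not_dvd Nat.prime_two).mpr hidx)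
  exact le_antisymm ((Nat.pow_dvd_pow_iff_le_right (by norm_num)).mp hb9)
    ((Nat.pow_dvd_pow_iff_le_right (by norm_num)).mp h9b)

/-- **The thin case with `M/O₂(M) = L₂(8)`**: `b = 9`. -/
theorem eight (h : Hyp G 7 a b) (hL : Loc G) (ht : M23LE 1 G) (hM : MaxLocal M)
    {F : Type*} [Field F] [Fintype F] (hF : Fintype.card F = 8)
    (e : Nonempty ((↥M ⧸ pCore 2 ↥M) ≃* Matrix.ProjectiveSpecialLinearGroup (Fin 2) F)) :
    b = 9 := by
  classical
  obtain ⟨e⟩ := e
  refine eight_of_facts h hL ht hM (e.toMonoidHom.comp (QuotientGroup.mk' (pCore 2 ↥M)))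
    (e.surjective.comp (QuotientGroup.mk'_surjective _)) ?_ (EightFacts.card hF)
    (EightFacts.triple hF) (EightFacts.invol hF) (EightFacts.dihedral hF) (EightFacts.borel hF)
  ext y
  rw [MonoidHom.mem_ker, MonoidHom.comp_apply]
  constructor
  · intro h1
    have h2 : (QuotientGroup.mk' (pCore 2 ↥M)) y = 1 := e.injective (by rw [map_one]; exact h1)
    exact (QuotientGroup.eq_one_iff y).mp h2
  · intro h1
    have h2 : (QuotientGroup.mk' (pCore 2 ↥M)) y = 1 := (QuotientGroup.eq_one_iff y).mpr h1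
    rw [h2, map_one]

end Cfsg.Agent.SmallSimple.S1000.ThinEight
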