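import Mathlib
import Cfsg.Agent.SmallSimple.S1000.ThinPlane

/-!
# Coordinates on `V = 2^3`

`elt e₁ e₂ e₃ i j k` is the element of `V` with coordinates `i j k : Bool`.
-/

set_option autoImplicit false

namespace Cfsg.Agent.SmallSimple.S1000.ThinFrame

open Subgroup Cfsg.Agent.SmallSimple.S1000.ThinPlane

variable {G : Type*} [Group G]

/-- The element of `V` with given coordinates. -/
def elt (e₁ e₂ e₃ : G) (i j k : Bool) : G :=
  (bif i then e₁ else 1) * ((bif j then e₂ else 1) * (bif k then e₃ else 1))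

section bas

variable {V : Subgroup G} {e₁ e₂ e₃ : G}

theorem elt_mem (hb : Bas V e₁ e₂ e₃) (i j k : Bool) : elt e₁ e₂ e₃ i j k ∈ V := by
  have h1 := hb.aV
  have h2 := hb.bV
  have h3 := hb.cV
  have h0 := V.one_mem
  cases i <;> cases j <;> cases k <;> simp only [elt, cond_true, cond_false] <;>
    exact V.mul_mem ‹_› (V.mul_mem ‹_› ‹_›)

theorem elt_mul (hsq : ∀ v ∈ V, v * v = 1) (hb : Bas V e₁ e₂ e₃) (i j k i' j' k' : Bool) :
    elt e₁ e₂ e₃ i j k * elt e₁ e₂ e₃ i' j' k' = elt e₁ e₂ e₃ (xor i i') (xor j j') (xor k k') := by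
  have c21 := comm_of_sq hsq hb.bV hb.aV
  have c31 := comm_of_sq hsq hb.cV hb.aV
  have c32 := comm_of_sq hsq hb.cV hb.bV
  have q1 := hsq _ hb.aV
  have q2 := hsq _ hb.bV
  have q3 := hsq _ hb.cV
  have d21 : ∀ y, e₂ * (e₁ * y) = e₁ * (e₂ * y) := fun y => by rw [← mul_assoc, c21, mul_assoc]
  have d31 : ∀ y, e₃ * (e₁ * y) = e₁ * (e₃ * y) := fun y => by rw [← mul_assoc, c31, mul_assoc]
  have d32 : ∀ y, e₃ * (e₂ * y) = e₂ * (e₃ * y) := fun y => by rw [← mul_assoc, c32, mul_assoc]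
  have r1 : ∀ y, e₁ * (e₁ * y) = y := fun y => by rw [← mul_assoc, q1, one_mul]
  have r2 : ∀ y, e₂ * (e₂ * y) = y := fun y => by rw [← mul_assoc, q2, one_mul]
  cases i <;> cases j <;> cases k <;> cases i' <;> cases j' <;> cases k' <;>
    simp [elt, mul_assoc, c21, c31, c32, d21, d31, d32, q1, q2, q3, r1, r2]

theorem exists_elt (hV : Nat.card V = 8) (hsq : ∀ v ∈ V, v * v = 1) (hb : Bas V e₁ e₂ e₃) {v : G}
    (hv : v ∈ V) : ∃ i j k, v = elt e₁ e₂ e₃ i j k := by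
  have c31 := comm_of_sq hsq hb.cV hb.aV
  have c32 := comm_of_sq hsq hb.cV hb.bV
  rcases hb.cases hV hsq hv with rfl | rfl | rfl | rfl | rfl | rfl | rfl | rfl
  · exact ⟨false, false, false, by simp [elt]⟩
  · exact ⟨true, false, false, by simp [elt]⟩
  · exact ⟨false, true, false, by simp [elt]⟩
  · exact ⟨true, true, false, by simp [elt]⟩
  · exact ⟨false, false, true, by simp [elt]⟩
  · exact ⟨true, false, true, by simp [elt, c31]⟩
  · exact ⟨false, true, true, by simp [elt, c32]⟩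
  · exact ⟨true, true, true, by
      simp only [elt, cond_true]
      rw [← mul_assoc, c31, mul_assoc, c32]⟩

theorem elt_ne_one (hsq : ∀ v ∈ V, v * v = 1) (hb : Bas V e₁ e₂ e₃) {i j k : Bool}
    (h : elt e₁ e₂ e₃ i j k = 1) : i = false ∧ j = false ∧ k = false := by
  have q : ∀ a ∈ V, ∀ b, a * b = 1 → b = a := fun a ha b hab => by
    calc b = (a * a) * b := by rw [hsq a ha, one_mul]
      _ = a * (a * b) := by rw [mul_assoc]
      _ = a := by rw [hab, mul_one]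
  cases i <;> cases j <;> cases k <;> simp only [elt, cond_true, cond_false, one_mul, mul_one] at h
  · simp
  · exact absurd h hb.c1
  · exact absurd h hb.b1
  · exact absurd (q _ hb.bV _ h) hb.cb
  · exact absurd h hb.a1
  · exact absurd (q _ hb.aV _ h) hb.ca
  · exact absurd (q _ hb.aV _ h) hb.ba
  · rw [← mul_assoc] at h
    exact absurd (q _ (V.mul_mem hb.aV hb.bV) _ h) hb.cab

theorem elt_inj (hsq : ∀ v ∈ V, v * v = 1) (hb : Bas V e₁ e₂ e₃) {i j k i' j' k' : Bool}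
    (h : elt e₁ e₂ e₃ i j k = elt e₁ e₂ e₃ i' j' k') : i = i' ∧ j = j' ∧ k = k' := by
  have h1 : elt e₁ e₂ e₃ (xor i i') (xor j j') (xor k k') = 1 := by
    rw [← elt_mul hsq hb, h, hsq _ (elt_mem hb _ _ _)]
  have h2 := elt_ne_one hsq hb h1
  revert h2
  cases i <;> cases j <;> cases k <;> cases i' <;> cases j' <;> cases k' <;> simp

end bas

section frame

variable {H V : Subgroup G} {e₁ e₂ e₃ x₁ x₂ x₃ s₁ s₂ : G}

theorem e1_eq (e₁ e₂ e₃ : G) : e₁ = elt e₁ e₂ e₃ true false false := by simp [elt]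

theorem e2_eq (e₁ e₂ e₃ : G) : e₂ = elt e₁ e₂ e₃ false true false := by simp [elt]

theorem e3_eq (e₁ e₂ e₃ : G) : e₃ = elt e₁ e₂ e₃ false false true := by simp [elt]

theorem one_eq (e₁ e₂ e₃ : G) : 1 = elt e₁ e₂ e₃ false false false := by simp [elt]

theorem cj_bif (g e : G) (b : Bool) : cj g (bif b then e else 1) = bif b then cj g e else 1 := by
  cases b
  · exact cj_one g
  · rfl

theorem cj_elt (g : G) (i j k : Bool) : cj g (elt e₁ e₂ e₃ i j k) = elt (cj g e₁) (cj g e₂) (cj g e₃) i j k := by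
  simp only [elt, cj_map, cj_bif]

theorem elt_elt (hsq : ∀ v ∈ V, v * v = 1) (hb : Bas V e₁ e₂ e₃) (a b c a' b' c' a'' b'' c'' i j k : Bool) :
    elt (elt e₁ e₂ e₃ a b c) (elt e₁ e₂ e₃ a' b' c') (elt e₁ e₂ e₃ a'' b'' c'') i j k =
      elt e₁ e₂ e₃ (xor (i && a) (xor (j && a') (k && a''))) (xor (i && b) (xor (j && b') (k && b'')))
        (xor (i && c) (xor (j && c') (k && c''))) := by
  have h1 : ∀ (u : Bool) (a b c : Bool), (bif u then elt e₁ e₂ e₃ a b c else 1) =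
      elt e₁ e₂ e₃ (u && a) (u && b) (u && c) := by
    intro u a b c
    cases u
    · simp [elt]
    · simp
  rw [show elt (elt e₁ e₂ e₃ a b c) (elt e₁ e₂ e₃ a' b' c') (elt e₁ e₂ e₃ a'' b'' c'') i j k =
    (bif i then elt e₁ e₂ e₃ a b c else 1) * ((bif j then elt e₁ e₂ e₃ a' b' c' else 1) *
      (bif k then elt e₁ e₂ e₃ a'' b'' c'' else 1)) from rfl, h1, h1, h1, elt_mul hsq hb, elt_mul hsq hb]

variable (hsq : ∀ v ∈ V, v * v = 1) (f : Frame H V e₁ e₂ e₃ x₁ x₂ x₃ s₁ s₂)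
include hsq f

theorem cj_x1 (i j k : Bool) : cj x₁ (elt e₁ e₂ e₃ i j k) = elt e₁ e₂ e₃ (xor i j) j k := by
  have h1 : cj x₁ e₁ = elt e₁ e₂ e₃ true false false := f.x11.trans (e1_eq _ _ _)
  have h2 : cj x₁ e₂ = elt e₁ e₂ e₃ true true false := f.x12.trans (by simp [elt])
  have h3 : cj x₁ e₃ = elt e₁ e₂ e₃ false false true := f.x13.trans (e3_eq _ _ _)
  rw [cj_elt, h1, h2, h3, elt_elt hsq f.bas]
  cases i <;> cases j <;> cases k <;> rfl

theorem cj_x2 (i j k : Bool) : cj x₂ (elt e₁ e₂ e₃ i j k) = elt e₁ e₂ e₃ i (xor j k) k := by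
  have h1 : cj x₂ e₁ = elt e₁ e₂ e₃ true false false := f.x21.trans (e1_eq _ _ _)
  have h2 : cj x₂ e₂ = elt e₁ e₂ e₃ false true false := f.x22.trans (e2_eq _ _ _)
  have h3 : cj x₂ e₃ = elt e₁ e₂ e₃ false true true := f.x23.trans (by simp [elt])
  rw [cj_elt, h1, h2, h3, elt_elt hsq f.bas]
  cases i <;> cases j <;> cases k <;> rfl

theorem cj_x3 (i j k : Bool) : cj x₃ (elt e₁ e₂ e₃ i j k) = elt e₁ e₂ e₃ (xor i k) j k := by
  have h1 : cj x₃ e₁ = elt e₁ e₂ e₃ true false false := f.x31.trans (e1_eq _ _ _)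
  have h2 : cj x₃ e₂ = elt e₁ e₂ e₃ false true false := f.x32.trans (e2_eq _ _ _)
  have h3 : cj x₃ e₃ = elt e₁ e₂ e₃ true false true := f.x33.trans (by simp [elt])
  rw [cj_elt, h1, h2, h3, elt_elt hsq f.bas]
  cases i <;> cases j <;> cases k <;> rfl

theorem cj_s1 (i j k : Bool) : cj s₁ (elt e₁ e₂ e₃ i j k) = elt e₁ e₂ e₃ j i k := by
  have h1 : cj s₁ e₁ = elt e₁ e₂ e₃ false true false := f.s11.trans (e2_eq _ _ _)
  have h2 : cj s₁ e₂ = elt e₁ e₂ e₃ true false false := f.s12.trans (e1_eq _ _ _)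
  have h3 : cj s₁ e₃ = elt e₁ e₂ e₃ false false true := f.s13.trans (e3_eq _ _ _)
  rw [cj_elt, h1, h2, h3, elt_elt hsq f.bas]
  cases i <;> cases j <;> cases k <;> rfl

theorem cj_s2 (i j k : Bool) : cj s₂ (elt e₁ e₂ e₃ i j k) = elt e₁ e₂ e₃ i k j := by
  have h1 : cj s₂ e₁ = elt e₁ e₂ e₃ true false false := f.s21.trans (e1_eq _ _ _)
  have h2 : cj s₂ e₂ = elt e₁ e₂ e₃ false false true := f.s22.trans (e3_eq _ _ _)
  have h3 : cj s₂ e₃ = elt e₁ e₂ e₃ false true false := f.s23.trans (e2_eq _ _ _)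
  rw [cj_elt, h1, h2, h3, elt_elt hsq f.bas]
  cases i <;> cases j <;> cases k <;> rfl

/-- The stabiliser of a line fixes no nontrivial element of `V`. -/
theorem eq_one_of_fixed (hV : Nat.card V = 8) {v : G} (hv : v ∈ V) (h1 : cj x₁ v = v)
    (h2 : cj x₂ v = v) (h3 : cj s₁ v = v) : v = 1 := by
  obtain ⟨i, j, k, rfl⟩ := exists_elt hV hsq f.bas hv
  rw [cj_x1 hsq f] at h1
  rw [cj_x2 hsq f] at h2
  rw [cj_s1 hsq f] at h3
  have k1 := elt_inj hsq f.bas h1
  have k2 := elt_inj hsq f.bas h2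
  have k3 := elt_inj hsq f.bas h3
  rw [one_eq e₁ e₂ e₃]
  revert k1 k2 k3
  cases i <;> cases j <;> cases k <;> simp

/-- An endomorphism of `V` commuting with a maximal parabolic is a scalar. -/
theorem end_cases (hV : Nat.card V = 8) (φ : G → G) (hφV : ∀ v ∈ V, φ v ∈ V)
    (hφm : ∀ u ∈ V, ∀ v ∈ V, φ (u * v) = φ u * φ v)
    (h1 : ∀ v ∈ V, φ (cj x₁ v) = cj x₁ (φ v)) (h2 : ∀ v ∈ V, φ (cj x₂ v) = cj x₂ (φ v))
    (h3 : ∀ v ∈ V, φ (cj x₃ v) = cj x₃ (φ v))
    (hs : (∀ v ∈ V, φ (cj s₁ v) = cj s₁ (φ v)) ∨ (∀ v ∈ V, φ (cj s₂ v) = cj s₂ (φ v))) :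
    (∀ v ∈ V, φ v = 1) ∨ ∀ v ∈ V, φ v = v := by
  have hb := f.bas
  obtain ⟨a, b, c, ha⟩ := exists_elt hV hsq hb (hφV _ hb.aV)
  obtain ⟨a', b', c', ha'⟩ := exists_elt hV hsq hb (hφV _ hb.bV)
  obtain ⟨a'', b'', c'', ha''⟩ := exists_elt hV hsq hb (hφV _ hb.cV)
  have hφ1 : φ 1 = 1 := by
    have := hφm 1 V.one_mem 1 V.one_mem
    rw [mul_one] at this
    exact (mul_eq_left.mp this.symm)
  have hφe : ∀ i j k, φ (elt e₁ e₂ e₃ i j k) = elt (φ e₁) (φ e₂) (φ e₃) i j k := by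
    intro i j k
    have hbif : ∀ (u : Bool) (e : G), φ (bif u then e else 1) = bif u then φ e else 1 := by
      intro u e
      cases u
      · exact hφ1
      · rfl
    have hmem : ∀ (u : Bool) (e : G), e ∈ V → (bif u then e else 1) ∈ V := by
      intro u e he
      cases u
      · exact V.one_mem
      · exact he
    rw [elt, hφm _ (hmem _ _ hb.aV) _ (V.mul_mem (hmem _ _ hb.bV) (hmem _ _ hb.cV)),
      hφm _ (hmem _ _ hb.bV) _ (hmem _ _ hb.cV), hbif, hbif, hbif, elt]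
  have hφe' : ∀ i j k, φ (elt e₁ e₂ e₃ i j k) =
      elt e₁ e₂ e₃ (xor (i && a) (xor (j && a') (k && a''))) (xor (i && b) (xor (j && b') (k && b'')))
        (xor (i && c) (xor (j && c') (k && c''))) := by
    intro i j k
    rw [hφe, ha, ha', ha'', elt_elt hsq hb]
  -- coordinates
  have key : ∀ i j k, ∀ g : G, ∀ gi gj gk : Bool → Bool → Bool → Bool,
      (∀ i j k, cj g (elt e₁ e₂ e₃ i j k) = elt e₁ e₂ e₃ (gi i j k) (gj i j k) (gk i j k)) →
      (∀ v ∈ V, φ (cj g v) = cj g (φ v)) →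
      (xor (gi i j k && a) (xor (gj i j k && a') (gk i j k && a'')) =
        gi (xor (i && a) (xor (j && a') (k && a''))) (xor (i && b) (xor (j && b') (k && b'')))
        (xor (i && c) (xor (j && c') (k && c'')))) ∧
      (xor (gi i j k && b) (xor (gj i j k && b') (gk i j k && b'')) =
        gj (xor (i && a) (xor (j && a') (k && a''))) (xor (i && b) (xor (j && b') (k && b'')))
        (xor (i && c) (xor (j && c') (k && c'')))) ∧
      (xor (gi i j k && c) (xor (gj i j k && c') (gk i j k && c'')) =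
        gk (xor (i && a) (xor (j && a') (k && a''))) (xor (i && b) (xor (j && b') (k && b'')))
        (xor (i && c) (xor (j && c') (k && c'')))) := by
    intro i j k g gi gj gk hg hc
    have := hc _ (elt_mem hb i j k)
    rw [hg, hφe', hφe', hg] at this
    exact elt_inj hsq hb this
  have A1 := fun i j k => key i j k x₁ (fun i j _ => xor i j) (fun _ j _ => j) (fun _ _ k => k)
    (cj_x1 hsq f) h1
  have A2 := fun i j k => key i j k x₂ (fun i _ _ => i) (fun _ j k => xor j k) (fun _ _ k => k)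
    (cj_x2 hsq f) h2
  have A3 := fun i j k => key i j k x₃ (fun i _ k => xor i k) (fun _ j _ => j) (fun _ _ k => k)
    (cj_x3 hsq f) h3
  have fin : (a = false ∧ b = false ∧ c = false ∧ a' = false ∧ b' = false ∧ c' = false ∧ a'' = false ∧
      b'' = false ∧ c'' = false) ∨ (a = true ∧ b = false ∧ c = false ∧ a' = false ∧ b' = true ∧
      c' = false ∧ a'' = false ∧ b'' = false ∧ c'' = true) := by
    have B1 := A1 false true false
    have B1' := A1 false false true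
    have B1'' := A1 true false false
    have B2 := A2 false false true
    have B2' := A2 true false false
    have B2'' := A2 false true false
    have B3 := A3 false false true
    have B3' := A3 true false false
    have B3'' := A3 false true false
    rcases hs with hs | hs
    · have A4 := fun i j k => key i j k s₁ (fun _ j _ => j) (fun i _ _ => i) (fun _ _ k => k)
        (cj_s1 hsq f) hs
      have C1 := A4 true false false
      have C2 := A4 false true false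
      have C3 := A4 false false true
      clear A1 A2 A3 A4 key hφe' hφe ha ha' ha'' hs
      simp only [Bool.false_and, Bool.true_and, Bool.xor_false, Bool.false_xor, Bool.true_xor,
        Bool.not_false, Bool.not_true, Bool.xor_self] at B1 B1' B1'' B2 B2' B2'' B3 B3' B3'' C1 C2 C3
      obtain ⟨p1, p2, p3⟩ := B1
      obtain ⟨p4, p5, p6⟩ := B1'
      obtain ⟨p7, p8, p9⟩ := B1''
      obtain ⟨q1, q2, q3⟩ := B2
      obtain ⟨q4, q5, q6⟩ := B2'
      obtain ⟨q7, q8, q9⟩ := B2''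
      obtain ⟨r1, r2, r3⟩ := B3
      obtain ⟨r4, r5, r6⟩ := B3'
      obtain ⟨r7, r8, r9⟩ := B3''
      obtain ⟨t1, t2, t3⟩ := C1
      obtain ⟨t4, t5, t6⟩ := C2
      obtain ⟨t7, t8, t9⟩ := C3
      have e1 : b = false := by revert p7; cases a <;> cases b <;> decide
      have e2 : c = false := by revert r4; cases a <;> cases c <;> decide
      have e3 : a' = false := by revert q1; cases a' <;> cases a'' <;> decide
      have e4 : b'' = false := by revert p4; cases a'' <;> cases b'' <;> decide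
      have e5 : a'' = false := t7.trans e4
      have e6 : c' = false := t3.trans e2
      have e7 : b' = a := by
        rw [e3, Bool.xor_false, Bool.false_xor] at p1; exact p1.symm
      have e8 : c'' = a := by
        rw [e4, Bool.xor_false, Bool.false_xor, e7] at q2; exact q2.symm
      clear p1 p2 p3 p4 p5 p6 p7 p8 p9 q1 q2 q3 q4 q5 q6 q7 q8 q9 r1 r2 r3 r4 r5 r6 r7 r8 r9 t1 t2 t3 t4 t5 t6 t7 t8 t9
      subst e1 e2 e3 e4 e5 e6 e7 e8
      cases c'' <;> simp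
    · have A4 := fun i j k => key i j k s₂ (fun i _ _ => i) (fun _ _ k => k) (fun _ j _ => j)
        (cj_s2 hsq f) hs
      have C1 := A4 true false false
      have C2 := A4 false true false
      have C3 := A4 false false true
      clear A1 A2 A3 A4 key hφe' hφe ha ha' ha'' hs
      simp only [Bool.false_and, Bool.true_and, Bool.xor_false, Bool.false_xor, Bool.true_xor,
        Bool.not_false, Bool.not_true, Bool.xor_self] at B1 B1' B1'' B2 B2' B2'' B3 B3' B3'' C1 C2 C3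
      obtain ⟨p1, p2, p3⟩ := B1
      obtain ⟨p4, p5, p6⟩ := B1'
      obtain ⟨p7, p8, p9⟩ := B1''
      obtain ⟨q1, q2, q3⟩ := B2
      obtain ⟨q4, q5, q6⟩ := B2'
      obtain ⟨q7, q8, q9⟩ := B2''
      obtain ⟨r1, r2, r3⟩ := B3
      obtain ⟨r4, r5, r6⟩ := B3'
      obtain ⟨r7, r8, r9⟩ := B3''
      obtain ⟨t1, t2, t3⟩ := C1
      obtain ⟨t4, t5, t6⟩ := C2
      obtain ⟨t7, t8, t9⟩ := C3
      have e1 : b = false := by revert p7; cases a <;> cases b <;> decide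
      have e2 : c = false := by revert r4; cases a <;> cases c <;> decide
      have e3 : a' = false := by revert q1; cases a' <;> cases a'' <;> decide
      have e4 : b'' = false := by revert p4; cases a'' <;> cases b'' <;> decide
      have e5 : a'' = false := t4.trans e3
      have e6 : c' = false := t9.trans e4
      have e7 : b' = a := by
        rw [e3, Bool.xor_false, Bool.false_xor] at p1; exact p1.symm
      have e8 : c'' = a := by
        rw [e4, Bool.xor_false, Bool.false_xor, e7] at q2; exact q2.symm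
      clear p1 p2 p3 p4 p5 p6 p7 p8 p9 q1 q2 q3 q4 q5 q6 q7 q8 q9 r1 r2 r3 r4 r5 r6 r7 r8 r9 t1 t2 t3 t4 t5 t6 t7 t8 t9
      subst e1 e2 e3 e4 e5 e6 e7 e8
      cases c'' <;> simp
  rcases fin with ⟨rfl, rfl, rfl, rfl, rfl, rfl, rfl, rfl, rfl⟩ | ⟨rfl, rfl, rfl, rfl, rfl, rfl, rfl, rfl, rfl⟩
  · left
    intro v hv
    obtain ⟨i, j, k, rfl⟩ := exists_elt hV hsq hb hv
    rw [hφe', one_eq e₁ e₂ e₃]
    simp
  · right
    intro v hv
    obtain ⟨i, j, k, rfl⟩ := exists_elt hV hsq hb hv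
    rw [hφe']
    simp

/-- The parabolic `⟨x₁, x₂, x₃, s₂⟩` is transitive on `V ∖ ⟨e₁⟩`. -/
theorem exists_in_stab {K : Subgroup G} (hV : Nat.card V = 8) (h1 : x₁ ∈ K) (h2 : x₂ ∈ K)
    (h3 : x₃ ∈ K) (h4 : s₂ ∈ K) {v : G} (hv : v ∈ V) (hv1 : v ≠ 1) (hve : v ≠ e₁) :
    ∃ k ∈ K, k ∈ H ∧ cj k e₁ = e₁ ∧ cj k e₂ = v := by
  have c1 : ∀ g, cj g e₁ = cj g (elt e₁ e₂ e₃ true false false) := fun g =>
    congrArg (cj g) (e1_eq e₁ e₂ e₃)
  have c2 : ∀ g, cj g e₂ = cj g (elt e₁ e₂ e₃ false true false) := fun g =>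
    congrArg (cj g) (e2_eq e₁ e₂ e₃)
  have E1 : elt e₁ e₂ e₃ true false false = e₁ := (e1_eq e₁ e₂ e₃).symm
  obtain ⟨i, j, k, rfl⟩ := exists_elt hV hsq f.bas hv
  cases i <;> cases j <;> cases k
  · exact absurd (one_eq e₁ e₂ e₃).symm hv1
  · refine ⟨s₂, h4, f.s₂H, ?_, ?_⟩
    · rw [c1, cj_s2 hsq f, E1]
    · rw [c2, cj_s2 hsq f]
  · refine ⟨1, one_mem _, one_mem _, one_cj _, ?_⟩
    rw [one_cj]
    exact e2_eq e₁ e₂ e₃
  · refine ⟨x₂ * s₂, mul_mem h2 h4, mul_mem f.x₂H f.s₂H, ?_, ?_⟩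
    · rw [c1, cj_mul, cj_s2 hsq f, cj_x2 hsq f]
      exact E1
    · rw [c2, cj_mul, cj_s2 hsq f, cj_x2 hsq f]
      rfl
  · exact absurd (e1_eq e₁ e₂ e₃).symm hve
  · refine ⟨x₃ * s₂, mul_mem h3 h4, mul_mem f.x₃H f.s₂H, ?_, ?_⟩
    · rw [c1, cj_mul, cj_s2 hsq f, cj_x3 hsq f]
      exact E1
    · rw [c2, cj_mul, cj_s2 hsq f, cj_x3 hsq f]
      rfl
  · refine ⟨x₁, h1, f.x₁H, ?_, ?_⟩
    · rw [c1, cj_x1 hsq f]
      exact E1
    · rw [c2, cj_x1 hsq f]
      rfl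
  · refine ⟨x₃ * (x₂ * s₂), mul_mem h3 (mul_mem h2 h4), mul_mem f.x₃H (mul_mem f.x₂H f.s₂H), ?_, ?_⟩
    · rw [c1, cj_mul, cj_mul, cj_s2 hsq f, cj_x2 hsq f, cj_x3 hsq f]
      exact E1
    · rw [c2, cj_mul, cj_mul, cj_s2 hsq f, cj_x2 hsq f, cj_x3 hsq f]
      rfl

omit hsq f in
theorem cj_inj {g u v : G} (h : cj g u = cj g v) : u = v := by
  have := congrArg (fun z => g⁻¹ * z * g) h
  simpa [cj, mul_assoc] using this

omit hsq f in
theorem cj_inv_mul {k g u v : G} (h : cj k v = cj g u) : cj (k⁻¹ * g) u = v := by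
  apply cj_inj (g := k)
  rw [← cj_mul, mul_inv_cancel_left, h]

/-- The stabiliser of `e₁` is `⟨x₁, x₂, x₃, s₂⟩ Q`. -/
theorem stab_le {Q K : Subgroup G} (pl : Plane H Q V) (hQK : Q ≤ K) (h1 : x₁ ∈ K) (h2 : x₂ ∈ K)
    (h3 : x₃ ∈ K) (h4 : s₂ ∈ K) {g : G} (hg : g ∈ H) (hge : cj g e₁ = e₁) : g ∈ K := by
  have hV := pl.card_V
  have hb := f.bas
  have c1 : ∀ g, cj g e₁ = cj g (elt e₁ e₂ e₃ true false false) := fun g =>
    congrArg (cj g) (e1_eq e₁ e₂ e₃)
  have c2 : ∀ g, cj g e₂ = cj g (elt e₁ e₂ e₃ false true false) := fun g =>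
    congrArg (cj g) (e2_eq e₁ e₂ e₃)
  have c3 : ∀ g, cj g e₃ = cj g (elt e₁ e₂ e₃ false false true) := fun g =>
    congrArg (cj g) (e3_eq e₁ e₂ e₃)
  have E1 : elt e₁ e₂ e₃ true false false = e₁ := (e1_eq e₁ e₂ e₃).symm
  have E2 : elt e₁ e₂ e₃ false true false = e₂ := (e2_eq e₁ e₂ e₃).symm
  have hv : cj g e₂ ∈ V := conj_mem pl.HV hg hb.bV
  have hv1 : cj g e₂ ≠ 1 := fun h => hb.b1 (cj_inj (g := g) (h.trans (cj_one g).symm))
  have hve : cj g e₂ ≠ e₁ := fun h => hb.ba (cj_inj (g := g) (h.trans hge.symm))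
  obtain ⟨k, hkK, hkH, hk1, hk2⟩ := exists_in_stab hsq f hV h1 h2 h3 h4 hv hv1 hve
  set g' := k⁻¹ * g with hg'
  have hg'H : g' ∈ H := H.mul_mem (H.inv_mem hkH) hg
  have hg'1 : cj g' e₁ = e₁ := cj_inv_mul (hk1.trans hge.symm)
  have hg'2 : cj g' e₂ = e₂ := cj_inv_mul hk2
  have hg'3 : cj g' e₃ ∈ V := conj_mem pl.HV hg'H hb.cV
  obtain ⟨i, j, l, hijl⟩ := exists_elt hV hsq hb hg'3
  have hl : l = true := by
    cases l
    · exfalso
      have e : cj g' (elt e₁ e₂ e₃ i j false) = elt e₁ e₂ e₃ i j false := by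
        rw [cj_elt, hg'1, hg'2]
        simp [elt]
      have e' := cj_inj (hijl.trans e.symm)
      rw [e3_eq e₁ e₂ e₃] at e'
      have := elt_inj hsq hb (i := false) (j := false) (k := true) (i' := i) (j' := j) (k' := false)
        (by rw [← e3_eq e₁ e₂ e₃]; exact cj_inj (hijl.trans e.symm))
      simp at this
    · rfl
  subst hl
  obtain ⟨k', hk'K, hk'H, hk'1, hk'2, hk'3⟩ : ∃ k' ∈ K, k' ∈ H ∧ cj k' e₁ = e₁ ∧ cj k' e₂ = e₂ ∧
      cj k' e₃ = elt e₁ e₂ e₃ i j true := by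
    cases i <;> cases j
    · refine ⟨1, one_mem _, one_mem _, one_cj _, one_cj _, ?_⟩
      rw [one_cj]
      exact e3_eq e₁ e₂ e₃
    · refine ⟨x₂, h2, f.x₂H, ?_, ?_, ?_⟩
      · rw [c1, cj_x2 hsq f]; exact E1
      · rw [c2, cj_x2 hsq f]; exact E2
      · rw [c3, cj_x2 hsq f]; rfl
    · refine ⟨x₃, h3, f.x₃H, ?_, ?_, ?_⟩
      · rw [c1, cj_x3 hsq f]; exact E1
      · rw [c2, cj_x3 hsq f]; exact E2
      · rw [c3, cj_x3 hsq f]; rfl
    · refine ⟨x₂ * x₃, mul_mem h2 h3, mul_mem f.x₂H f.x₃H, ?_, ?_, ?_⟩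
      · rw [c1, cj_mul, cj_x3 hsq f, cj_x2 hsq f]; exact E1
      · rw [c2, cj_mul, cj_x3 hsq f, cj_x2 hsq f]; exact E2
      · rw [c3, cj_mul, cj_x3 hsq f, cj_x2 hsq f]; rfl
  have hq := pl.inv_mul_mem hb hk'H hg'H (hk'1.trans hg'1.symm) (hk'2.trans hg'2.symm)
    (hk'3.trans hijl.symm)
  have e1 : g' = k' * (k'⁻¹ * g') := by group
  have e2 : g = k * g' := by rw [hg']; group
  rw [e2, e1]
  exact K.mul_mem hkK (K.mul_mem hk'K (hQK hq))

end frame

end Cfsg.Agent.SmallSimple.S1000.ThinFrame
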