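import Mathlib

/-!
# Modules for `L₃(2)` in characteristic 2

`M` is an elementary abelian 2-group, `X₁`, `X₂`, `X₃`, `S₁`, `S₂` are automorphisms of `M` satisfying the
relations of the root elements and the two fundamental reflections of `L₃(2)`.  If `1 < |M| < 256` then some
`m ≠ 1` is fixed by `X₁`, `X₂`, `X₃` and one of `S₁`, `S₂` (the only irreducible module without this
property is the Steinberg module).
-/

set_option autoImplicit false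

namespace Cfsg.Agent.SmallSimple.S1000.ThinModule

/-- The relations of `L₃(2)`. -/
structure Rel {M : Type*} [Group M] (X₁ X₂ X₃ S₁ S₂ : MulAut M) : Prop where
  x1 : X₁ * X₁ = 1
  x2 : X₂ * X₂ = 1
  x3 : X₃ * X₃ = 1
  s1 : S₁ * S₁ = 1
  s2 : S₂ * S₂ = 1
  x12 : X₁ * X₂ = X₂ * X₁ * X₃
  x13 : X₁ * X₃ = X₃ * X₁
  x23 : X₂ * X₃ = X₃ * X₂
  sx1 : S₁ * X₂ = X₃ * S₁
  sx2 : S₂ * X₁ = X₃ * S₂
  br1 : S₁ * X₁ * S₁ = X₁ * S₁ * X₁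
  br2 : S₂ * X₂ * S₂ = X₂ * S₂ * X₂

/-- The relations are preserved by homomorphisms: relations of elements modulo the kernel. -/
theorem Rel.of_hom {L M : Type*} [Group L] [Group M] (ψ : L →* MulAut M) (x₁ x₂ x₃ s₁ s₂ : L)
    (h1 : ψ (x₁ * x₁) = ψ 1) (h2 : ψ (x₂ * x₂) = ψ 1) (h3 : ψ (x₃ * x₃) = ψ 1)
    (h4 : ψ (s₁ * s₁) = ψ 1) (h5 : ψ (s₂ * s₂) = ψ 1) (h6 : ψ (x₁ * x₂) = ψ (x₂ * x₁ * x₃))
    (h7 : ψ (x₁ * x₃) = ψ (x₃ * x₁)) (h8 : ψ (x₂ * x₃) = ψ (x₃ * x₂))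
    (h9 : ψ (s₁ * x₂) = ψ (x₃ * s₁)) (h10 : ψ (s₂ * x₁) = ψ (x₃ * s₂))
    (h11 : ψ (s₁ * x₁ * s₁) = ψ (x₁ * s₁ * x₁)) (h12 : ψ (s₂ * x₂ * s₂) = ψ (x₂ * s₂ * x₂)) :
    Rel (ψ x₁) (ψ x₂) (ψ x₃) (ψ s₁) (ψ s₂) := by
  simp only [map_mul, map_one] at *
  exact ⟨h1, h2, h3, h4, h5, h6, h7, h8, h9, h10, h11, h12⟩

variable {M : Type*} [CommGroup M]

/-- An involutory automorphism of a subgroup of exponent 2 has a nontrivial fixed point. -/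
theorem exists_fixed_one (h2 : ∀ m : M, m * m = 1) {Y : Subgroup M} (hY : Y ≠ ⊥) (t : MulAut M)
    (htY : ∀ y ∈ Y, t y ∈ Y) (ht : ∀ y ∈ Y, t (t y) = y) :
    ∃ y ∈ Y, y ≠ 1 ∧ t y = y := by
  obtain ⟨⟨y, hy⟩, hy1⟩ := Y.ne_bot_iff_exists_ne_one.mp hY
  by_cases h : y * t y = 1
  · refine ⟨y, hy, fun h' => hy1 (Subtype.ext h'), ?_⟩
    calc t y = (y * y) * t y := by rw [h2, one_mul]
      _ = y * (y * t y) := by rw [mul_assoc]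
      _ = y := by rw [h, mul_one]
  · refine ⟨y * t y, Y.mul_mem hy (htY y hy), h, ?_⟩
    rw [map_mul, ht y hy, mul_comm]

/-- The map `m ↦ m t(m)`. -/
def nrm (t : MulAut M) : M →* M where
  toFun m := m * t m
  map_one' := by simp
  map_mul' a b := by
    rw [map_mul]
    exact mul_mul_mul_comm a b (t a) (t b)

theorem nrm_apply (t : MulAut M) (m : M) : nrm t m = m * t m := rfl

/-- `|Y| ≥ |(1 + t) Y| ^ 2`. -/
theorem sq_card_le [Finite M] (h2 : ∀ m : M, m * m = 1) {Y : Subgroup M} (t : MulAut M)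
    (htY : ∀ y ∈ Y, t y ∈ Y) (ht : ∀ y ∈ Y, t (t y) = y) :
    Nat.card (Y.map (nrm t)) ^ 2 ≤ Nat.card Y := by
  set f := (nrm t).comp Y.subtype with hf
  have h3 : Nat.card f.ker * Nat.card f.range = Nat.card Y := by
    rw [← Subgroup.index_ker]
    exact Subgroup.card_mul_index _
  have h4 : f.range = Y.map (nrm t) := by
    ext m
    constructor
    · rintro ⟨y, rfl⟩
      exact ⟨y, y.2, rfl⟩
    · rintro ⟨y, hy, rfl⟩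
      exact ⟨⟨y, hy⟩, rfl⟩
  have h6 : ∀ z ∈ Y.map (nrm t), ∃ hz : z ∈ Y, (⟨z, hz⟩ : Y) ∈ f.ker := by
    rintro z ⟨y, hy, rfl⟩
    refine ⟨Y.mul_mem hy (htY y hy), ?_⟩
    rw [MonoidHom.mem_ker]
    show nrm t (nrm t y) = 1
    rw [nrm_apply, nrm_apply, map_mul, ht y hy, mul_comm (t y) y]
    exact h2 _
  have h5 : Nat.card (Y.map (nrm t)) ≤ Nat.card f.ker := by
    refine Nat.card_le_card_of_injective
      (fun y => ⟨⟨(y : M), (h6 y y.2).choose⟩, (h6 y y.2).choose_spec⟩) ?_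
    intro a b hab
    have := congrArg (fun z : f.ker => ((z : Y) : M)) hab
    exact Subtype.ext this
  rw [h4] at h3
  rw [← h3, pow_two]
  exact Nat.mul_le_mul_right _ h5

variable {X₁ X₂ X₃ S₁ S₂ : MulAut M}

theorem Rel.a (a b : MulAut M) (h : a * b = 1) (m : M) : a (b m) = m := by
  have := congrArg (fun f : MulAut M => f m) h
  exact this

theorem Rel.app {a b : MulAut M} (h : a = b) (m : M) : a m = b m := by rw [h]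

theorem exists_fixed [Finite M] (h2 : ∀ m : M, m * m = 1) (h1 : 1 < Nat.card M)
    (h256 : Nat.card M < 256) (r : Rel X₁ X₂ X₃ S₁ S₂) :
    ∃ m : M, m ≠ 1 ∧ X₁ m = m ∧ X₂ m = m ∧ X₃ m = m ∧ (S₁ m = m ∨ S₂ m = m) := by
  have x1 : ∀ m, X₁ (X₁ m) = m := fun m => Rel.app r.x1 m
  have x2 : ∀ m, X₂ (X₂ m) = m := fun m => Rel.app r.x2 m
  have x3 : ∀ m, X₃ (X₃ m) = m := fun m => Rel.app r.x3 m
  have s1 : ∀ m, S₁ (S₁ m) = m := fun m => Rel.app r.s1 m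
  have s2 : ∀ m, S₂ (S₂ m) = m := fun m => Rel.app r.s2 m
  have x12 : ∀ m, X₁ (X₂ m) = X₂ (X₁ (X₃ m)) := fun m => Rel.app r.x12 m
  have x13 : ∀ m, X₁ (X₃ m) = X₃ (X₁ m) := fun m => Rel.app r.x13 m
  have x23 : ∀ m, X₂ (X₃ m) = X₃ (X₂ m) := fun m => Rel.app r.x23 m
  have sx1 : ∀ m, S₁ (X₂ m) = X₃ (S₁ m) := fun m => Rel.app r.sx1 m
  have sx2 : ∀ m, S₂ (X₁ m) = X₃ (S₂ m) := fun m => Rel.app r.sx2 m
  have br1 : ∀ m, S₁ (X₁ (S₁ m)) = X₁ (S₁ (X₁ m)) := fun m => Rel.app r.br1 m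
  have br2 : ∀ m, S₂ (X₂ (S₂ m)) = X₂ (S₂ (X₂ m)) := fun m => Rel.app r.br2 m
  have sx1' : ∀ m, S₁ (X₃ m) = X₂ (S₁ m) := fun m => by
    have := sx1 (S₁ m)
    rw [s1] at this
    rw [← s1 (X₂ (S₁ m)), this]
  have sx2' : ∀ m, S₂ (X₃ m) = X₁ (S₂ m) := fun m => by
    have := sx2 (S₂ m)
    rw [s2] at this
    rw [← s2 (X₁ (S₂ m)), this]
  -- a fixed point of the Sylow 2-subgroup
  have hne : Nontrivial M := Finite.one_lt_card_iff_nontrivial.mp h1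
  obtain ⟨m₃, -, hm₃, hm₃3⟩ := exists_fixed_one h2 (Y := ⊤) top_ne_bot X₃
    (fun _ _ => Subgroup.mem_top _) (fun m _ => x3 m)
  let Y₃ : Subgroup M := (MonoidHom.eqLocus X₃.toMonoidHom (MonoidHom.id M))
  have hY₃ : ∀ m, m ∈ Y₃ ↔ X₃ m = m := fun m => Iff.rfl
  have hY₃1 : Y₃ ≠ ⊥ := by
    intro h
    have : m₃ ∈ Y₃ := (hY₃ m₃).mpr hm₃3
    rw [h, Subgroup.mem_bot] at this
    exact hm₃ this
  obtain ⟨m₁, hm₁Y, hm₁, hm₁1⟩ := exists_fixed_one h2 hY₃1 X₁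
    (fun y hy => (hY₃ _).mpr (by rw [← x13, (hY₃ y).mp hy])) (fun m _ => x1 m)
  let Y₁ : Subgroup M := Y₃ ⊓ (MonoidHom.eqLocus X₁.toMonoidHom (MonoidHom.id M))
  have hY₁ : ∀ m, m ∈ Y₁ ↔ X₃ m = m ∧ X₁ m = m := fun m => Iff.rfl
  have hY₁1 : Y₁ ≠ ⊥ := by
    intro h
    have : m₁ ∈ Y₁ := (hY₁ m₁).mpr ⟨hm₁Y, hm₁1⟩
    rw [h, Subgroup.mem_bot] at this
    exact hm₁ this
  obtain ⟨u, huY, hu, hu2⟩ := exists_fixed_one h2 hY₁1 X₂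
    (fun y hy => (hY₁ _).mpr ⟨by rw [← x23, ((hY₁ y).mp hy).1],
      by rw [x12, ((hY₁ y).mp hy).1, ((hY₁ y).mp hy).2]⟩) (fun m _ => x2 m)
  obtain ⟨hu3, hu1⟩ := (hY₁ u).mp huY
  -- the two orbit products
  by_cases hp1 : u * S₁ u * X₁ (S₁ u) = 1
  swap
  · refine ⟨_, hp1, ?_, ?_, ?_, Or.inl ?_⟩
    · rw [map_mul, map_mul, hu1, x1, mul_assoc, mul_assoc, mul_comm (X₁ (S₁ u))]
    · have e1 : X₂ (S₁ u) = S₁ u := by rw [← sx1', hu3]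
      have e3 : X₃ (S₁ u) = S₁ u := by rw [← sx1, hu2]
      have e2 : X₂ (X₁ (S₁ u)) = X₁ (S₁ u) := by
        have := x12 (S₁ u)
        rw [e1, e3] at this
        exact this.symm
      rw [map_mul, map_mul, hu2, e1, e2]
    · have e3 : X₃ (S₁ u) = S₁ u := by rw [← sx1, hu2]
      rw [map_mul, map_mul, hu3, e3, ← x13, e3]
    · rw [map_mul, map_mul, s1, br1, hu1, mul_comm (S₁ u) u]
  by_cases hp2 : u * S₂ u * X₂ (S₂ u) = 1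
  swap
  · refine ⟨_, hp2, ?_, ?_, ?_, Or.inr ?_⟩
    · have e1 : X₁ (S₂ u) = S₂ u := by rw [← sx2', hu3]
      have e3 : X₃ (S₂ u) = S₂ u := by rw [← sx2, hu1]
      have e2 : X₁ (X₂ (S₂ u)) = X₂ (S₂ u) := by rw [x12, e3, e1]
      rw [map_mul, map_mul, hu1, e1, e2]
    · rw [map_mul, map_mul, hu2, x2, mul_assoc, mul_assoc, mul_comm (X₂ (S₂ u))]
    · have e3 : X₃ (S₂ u) = S₂ u := by rw [← sx2, hu1]
      rw [map_mul, map_mul, hu3, e3, ← x23, e3]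
    · rw [map_mul, map_mul, s2, br2, hu2, mul_comm (S₂ u) u]
  -- the Steinberg case
  exfalso
  have hinv : ∀ a b : M, a * b = 1 → a = b := fun a b h => by
    calc a = a * (b * b) := by rw [h2, mul_one]
      _ = (a * b) * b := by rw [mul_assoc]
      _ = b := by rw [h, one_mul]
  have q1 : u = nrm X₁ (S₁ u) := hinv _ _ (by rw [nrm_apply, ← mul_assoc]; exact hp1)
  have q2 : u = nrm X₂ (S₂ u) := hinv _ _ (by rw [nrm_apply, ← mul_assoc]; exact hp2)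
  set v := S₁ (S₂ (S₁ u)) with hv
  have q3 : S₁ u = nrm X₃ (S₁ (S₂ u)) := by
    conv_lhs => rw [q2]
    rw [nrm_apply, nrm_apply, map_mul, sx1]
  have q4 : S₁ (S₂ u) = nrm X₂ v := by
    conv_lhs => rw [q1]
    rw [nrm_apply, nrm_apply, map_mul, map_mul, sx2, sx1']
  have hcomm23 : ∀ m, nrm X₃ (nrm X₂ m) = nrm X₂ (nrm X₃ m) := fun m => by
    simp only [nrm_apply, map_mul]
    rw [x23]
    exact mul_mul_mul_comm _ _ _ _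
  have hfin : u = nrm X₁ (nrm X₂ (nrm X₃ v)) := by
    rw [← hcomm23, ← q4, ← q3]
    exact q1
  let Z₁ : Subgroup M := (⊤ : Subgroup M).map (nrm X₃)
  let Z₂ : Subgroup M := Z₁.map (nrm X₁)
  let Z₃ : Subgroup M := Z₂.map (nrm X₂)
  have hZ₁3 : ∀ y ∈ Z₁, X₃ y = y := by
    rintro _ ⟨m, -, rfl⟩
    rw [nrm_apply, map_mul, x3, mul_comm]
  have hcomm12 : ∀ y ∈ Z₁, nrm X₁ (nrm X₂ y) = nrm X₂ (nrm X₁ y) := fun y hy => by
    have e := x12 y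
    rw [hZ₁3 y hy] at e
    simp only [nrm_apply, map_mul]
    rw [e]
    exact mul_mul_mul_comm _ _ _ _
  have hZ₁1 : ∀ y ∈ Z₁, X₁ y ∈ Z₁ := by
    rintro _ ⟨m, -, rfl⟩
    refine ⟨X₁ m, Subgroup.mem_top _, ?_⟩
    rw [nrm_apply, nrm_apply, map_mul, x13]
  have hZ₁2 : ∀ y ∈ Z₁, X₂ y ∈ Z₁ := by
    rintro _ ⟨m, -, rfl⟩
    refine ⟨X₂ m, Subgroup.mem_top _, ?_⟩
    rw [nrm_apply, nrm_apply, map_mul, x23]
  have hZ₂2 : ∀ y ∈ Z₂, X₂ y ∈ Z₂ := by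
    rintro _ ⟨y, hy, rfl⟩
    refine ⟨X₂ y, hZ₁2 y hy, ?_⟩
    have e := x12 y
    rw [hZ₁3 y hy] at e
    rw [nrm_apply, nrm_apply, map_mul, e]
  have huZ : u ∈ Z₃ := by
    rw [hfin, hcomm12 _ ⟨v, Subgroup.mem_top _, rfl⟩]
    exact ⟨_, ⟨_, ⟨v, Subgroup.mem_top _, rfl⟩, rfl⟩, rfl⟩
  have c3 : 2 ≤ Nat.card Z₃ := by
    have : Nontrivial Z₃ := ⟨⟨⟨u, huZ⟩, 1, fun h => hu (congrArg Subtype.val h)⟩⟩
    exact Finite.one_lt_card_iff_nontrivial.mpr this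
  have c2 : Nat.card Z₃ ^ 2 ≤ Nat.card Z₂ := sq_card_le h2 X₂ hZ₂2 (fun y _ => x2 y)
  have c1 : Nat.card Z₂ ^ 2 ≤ Nat.card Z₁ := sq_card_le h2 X₁ hZ₁1 (fun y _ => x1 y)
  have c0 : Nat.card Z₁ ^ 2 ≤ Nat.card (⊤ : Subgroup M) :=
    sq_card_le h2 X₃ (fun _ _ => Subgroup.mem_top _) (fun y _ => x3 y)
  rw [Subgroup.card_top] at c0
  have d2 : 4 ≤ Nat.card Z₂ := by nlinarith
  have d1 : 16 ≤ Nat.card Z₁ := by nlinarith
  nlinarith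

/-- If `m` is fixed by the Sylow 2-subgroup, the product of its conjugates under the first parabolic is
fixed by the first parabolic. -/
theorem fixed_prod (r : Rel X₁ X₂ X₃ S₁ S₂) {u : M} (hu1 : X₁ u = u) (hu2 : X₂ u = u) (hu3 : X₃ u = u) :
    X₁ (u * S₁ u * X₁ (S₁ u)) = u * S₁ u * X₁ (S₁ u) ∧ X₂ (u * S₁ u * X₁ (S₁ u)) = u * S₁ u * X₁ (S₁ u) ∧
      X₃ (u * S₁ u * X₁ (S₁ u)) = u * S₁ u * X₁ (S₁ u) ∧
      S₁ (u * S₁ u * X₁ (S₁ u)) = u * S₁ u * X₁ (S₁ u) := by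
  have x1 : ∀ m, X₁ (X₁ m) = m := fun m => Rel.app r.x1 m
  have s1 : ∀ m, S₁ (S₁ m) = m := fun m => Rel.app r.s1 m
  have x12 : ∀ m, X₁ (X₂ m) = X₂ (X₁ (X₃ m)) := fun m => Rel.app r.x12 m
  have x13 : ∀ m, X₁ (X₃ m) = X₃ (X₁ m) := fun m => Rel.app r.x13 m
  have sx1 : ∀ m, S₁ (X₂ m) = X₃ (S₁ m) := fun m => Rel.app r.sx1 m
  have br1 : ∀ m, S₁ (X₁ (S₁ m)) = X₁ (S₁ (X₁ m)) := fun m => Rel.app r.br1 m
  have sx1' : ∀ m, S₁ (X₃ m) = X₂ (S₁ m) := fun m => by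
    have := sx1 (S₁ m)
    rw [s1] at this
    rw [← s1 (X₂ (S₁ m)), this]
  refine ⟨?_, ?_, ?_, ?_⟩
  · rw [map_mul, map_mul, hu1, x1, mul_assoc, mul_assoc, mul_comm (X₁ (S₁ u))]
  · have e1 : X₂ (S₁ u) = S₁ u := by rw [← sx1', hu3]
    have e3 : X₃ (S₁ u) = S₁ u := by rw [← sx1, hu2]
    have e2 : X₂ (X₁ (S₁ u)) = X₁ (S₁ u) := by
      have := x12 (S₁ u)
      rw [e1, e3] at this
      exact this.symm
    rw [map_mul, map_mul, hu2, e1, e2]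
  · have e3 : X₃ (S₁ u) = S₁ u := by rw [← sx1, hu2]
    rw [map_mul, map_mul, hu3, e3, ← x13, e3]
  · rw [map_mul, map_mul, s1, br1, hu1, mul_comm (S₁ u) u]

theorem exists_fixed' [Finite M] (h2 : ∀ m : M, m * m = 1) (h1 : 1 < Nat.card M)
    (h256 : Nat.card M < 256) (r : Rel X₁ X₂ X₃ S₁ S₂) :
    ∃ m : M, m ≠ 1 ∧ X₁ m = m ∧ X₂ m = m ∧ X₃ m = m ∧
      (S₁ m = m ∨ (S₂ m = m ∧ m * S₁ m * X₁ (S₁ m) = 1)) := by
  obtain ⟨m, hm, h1, h2, h3, h4⟩ := exists_fixed h2 h1 h256 r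
  rcases h4 with h4 | h4
  · exact ⟨m, hm, h1, h2, h3, Or.inl h4⟩
  · by_cases hp : m * S₁ m * X₁ (S₁ m) = 1
    · exact ⟨m, hm, h1, h2, h3, Or.inr ⟨h4, hp⟩⟩
    · obtain ⟨k1, k2, k3, k4⟩ := fixed_prod r h1 h2 h3
      exact ⟨_, hp, k1, k2, k3, Or.inl k4⟩

/-- The same for a group all of whose elements are involutions. -/
theorem exists_fixed_group {M : Type*} [inst : Group M] [Finite M] (h2 : ∀ m : M, m * m = 1)
    (h1 : 1 < Nat.card M) (h256 : Nat.card M < 256) {X₁ X₂ X₃ S₁ S₂ : MulAut M}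
    (r : Rel X₁ X₂ X₃ S₁ S₂) :
    ∃ m : M, m ≠ 1 ∧ X₁ m = m ∧ X₂ m = m ∧ X₃ m = m ∧
      (S₁ m = m ∨ (S₂ m = m ∧ m * S₁ m * X₁ (S₁ m) = 1)) := by
  have hcomm : ∀ a b : M, a * b = b * a := fun a b => by
    have h1 := h2 (a * b)
    have h2' := h2 a
    have h3 := h2 b
    have h1' := inv_eq_of_mul_eq_one_right h1
    have h2' := inv_eq_of_mul_eq_one_right h2'
    have h3' := inv_eq_of_mul_eq_one_right h3
    rw [← h1', mul_inv_rev, h2', h3']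
  let instC : CommGroup M := { inst with mul_comm := hcomm }
  exact exists_fixed' (M := M) h2 h1 h256 r

end Cfsg.Agent.SmallSimple.S1000.ThinModule
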