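import Mathlib
import Cfsg.Agent.SmallSimple.S1000.ThinCube
import Cfsg.Agent.SmallSimple.S1000.ThinFrame
import Cfsg.Agent.SmallSimple.S1000.ThinModule

/-!
# Parabolic fixed points in `Q / A`

For an `H`-invariant subgroup `A` of `Q` with `V ≤ A < Q` there is an element `b ∈ Q ∖ A` of order 2 modulo
`A`, central in `Q` modulo `A`, and fixed modulo `A` by a maximal parabolic of a frame adapted to `w`.
-/

set_option autoImplicit false

namespace Cfsg.Agent.SmallSimple.S1000.ThinFix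

open Subgroup Cfsg.Agent.SmallSimple.S1000.ThinPlane Cfsg.Agent.SmallSimple.S1000.ThinCube
open Cfsg.Agent.SmallSimple.S1000.ThinFrame

variable {G : Type*} [Group G] {H Q V : Subgroup G} {x w : G}

/-- The involution of `V` centralised by `w`, and its uniqueness in `C_Q(w)`. -/
theorem exists_z [Finite G] (h : Thin H Q V x w) :
    ∃ z ∈ V, z ≠ 1 ∧ z * w = w * z ∧ ∀ a ∈ Q, a * a = 1 → a ≠ 1 → a * w = w * a → a = z := by
  have h2 := h.card_fix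
  have hnt : Nontrivial ↥(V ⊓ centralizer (zpowers w : Set G)) :=
    Finite.one_lt_card_iff_nontrivial.mp (by rw [h2]; norm_num)
  obtain ⟨⟨z, hzV, hzw⟩, hz⟩ := exists_ne (1 : ↥(V ⊓ centralizer (zpowers w : Set G)))
  have hz1 : z ≠ 1 := fun h => hz (Subtype.ext h)
  refine ⟨z, hzV, hz1, mem_centralizer_zpowers.mp hzw, fun a ha haa ha1 haw => ?_⟩
  exact h.rank a ha z (h.VQ hzV) haa (h.pl.sq z hzV) ha1 hz1 haw (mem_centralizer_zpowers.mp hzw)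
    (mem_centralizer_iff.mp (h.pl.QV ha) z hzV).symm

/-- A coset fixed by an element `g` of odd order contains a fixed point of `g`. -/
theorem exists_fix [Finite G] (h : Thin H Q V x w) {g : G} (hg : g ∈ H) (hodd : Odd (orderOf g))
    {N : Subgroup G} (hNQ : N ≤ Q) (hN : g ∈ normalizer (N : Set G)) {q : G} (hq : q ∈ Q)
    (hf : g * q * g⁻¹ * q⁻¹ ∈ N) : ∃ n ∈ N, (n * q) * g = g * (n * q) := by
  have h2 : Fact (Nat.Prime 2) := ⟨Nat.prime_two⟩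
  have hcop : (Nat.card (zpowers g)).Coprime (Nat.card Q) := by
    obtain ⟨n, hn⟩ := h.two.exists_card_eq
    rw [hn, Nat.card_zpowers]
    exact Nat.Coprime.pow_right _ (Nat.coprime_two_right.mpr hodd)
  have hsolv : Group.IsSolvable Q := by
    have := h.two.isNilpotent
    infer_instance
  have hall : ∀ a ∈ zpowers g, a * q * a⁻¹ * q⁻¹ ∈ N := by
    intro a ha
    let K : Subgroup G :=
      { carrier := {a | a ∈ normalizer (N : Set G) ∧ a * q * a⁻¹ * q⁻¹ ∈ N}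
        one_mem' := ⟨one_mem _, by simp⟩
        mul_mem' := by
          rintro a b ⟨ha, ha'⟩ ⟨hb, hb'⟩
          refine ⟨mul_mem ha hb, ?_⟩
          have e : a * b * q * (a * b)⁻¹ * q⁻¹ =
              (a * (b * q * b⁻¹ * q⁻¹) * a⁻¹) * (a * q * a⁻¹ * q⁻¹) := by group
          rw [e]
          exact N.mul_mem ((mem_normalizer_iff.mp ha _).mp hb') ha'
        inv_mem' := by
          rintro a ⟨ha, ha'⟩
          refine ⟨inv_mem ha, ?_⟩
          have e : a⁻¹ * q * a⁻¹⁻¹ * q⁻¹ = a⁻¹ * (a * q * a⁻¹ * q⁻¹)⁻¹ * a⁻¹⁻¹ := by group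
          rw [e]
          exact (mem_normalizer_iff.mp (inv_mem ha) _).mp (N.inv_mem ha') }
    have hK : zpowers g ≤ K := by
      rw [zpowers_le]
      exact ⟨hN, hf⟩
    exact (hK ha).2
  obtain ⟨n, hn, hnc⟩ := Cfsg.Agent.OddOrderCharacters.Wielandt.exists_mem_centralizer (zpowers g) Q N
    (by rw [zpowers_le]; exact h.HQ hg) (by rw [zpowers_le]; exact hN) hNQ hcop hsolv hq hall
  exact ⟨n, hn, mem_centralizer_zpowers.mp hnc⟩

/-- A frame adapted to `w`: `w` acts on `V` as `s₁ x₁`. -/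
theorem exists_frame [Finite G] (h : Thin H Q V x w) :
    ∃ e₁ e₂ e₃ x₁ x₂ x₃ s₁ s₂ : G, Frame H V e₁ e₂ e₃ x₁ x₂ x₃ s₁ s₂ ∧ e₃ * w = w * e₃ ∧
      (s₁ * x₁)⁻¹ * w ∈ Q := by
  obtain ⟨z, hzV, hz1, hzw, huniq⟩ := exists_z h
  have sq := h.pl.sq
  have hVn : ∀ v ∈ V, w * v * w⁻¹ ∈ V := fun v hv => conj_mem h.pl.HV h.wH hv
  -- an element of `V` not fixed by `w`
  obtain ⟨b, c, hb⟩ := exists_bas h.pl.card_V sq hzV hz1
  have hbw : w * b * w⁻¹ ≠ b := by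
    intro hbw
    have h1 := huniq b (h.VQ hb.bV) (sq b hb.bV) hb.b1 (by
      calc b * w = (w * b * w⁻¹) * w := by rw [hbw]
        _ = w * b := by group)
    exact hb.ba h1
  have hw3 : w * w * w = 1 := by
    have := pow_orderOf_eq_one w
    rw [h.w3, pow_succ, pow_two] at this
    exact this
  set b₁ := cj w b with hb₁
  set b₂ := cj w b₁ with hb₂
  have hb₃ : cj w b₂ = b := by
    rw [hb₂, hb₁, ← cj_mul, ← cj_mul, hw3, one_cj]
  have hbV := hb.bV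
  have hb₁V : b₁ ∈ V := hVn _ hbV
  have hb₂V : b₂ ∈ V := hVn _ hb₁V
  have hb₁b : b₁ ≠ b := hbw
  have hb₂b₁ : b₂ ≠ b₁ := fun h' => hb₁b (cj_inj (g := w) h')
  have hb₂b : b₂ ≠ b := fun h' => by
    have := congrArg (cj w) h'
    rw [hb₃, ← hb₁] at this
    exact hb₁b this.symm
  have cm : ∀ a ∈ V, ∀ b ∈ V, a * b = b * a := fun a ha b hb => comm_of_sq sq ha hb
  have cancel : ∀ a ∈ V, ∀ b, a * (a * b) = b := fun a ha b => by rw [← mul_assoc, sq a ha, one_mul]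
  have E1V : b * b₁ ∈ V := V.mul_mem hbV hb₁V
  have E2V : b₁ * b₂ ∈ V := V.mul_mem hb₁V hb₂V
  have hzfix : cj w z = z := by rw [cj_def, ← hzw]; group
  have hwE1 : cj w (b * b₁) = b₁ * b₂ := cj_map w b b₁
  have hwE2 : cj w (b₁ * b₂) = (b * b₁) * (b₁ * b₂) := by
    rw [cj_map, ← hb₂, hb₃, mul_assoc, cancel _ hb₁V, cm _ hb₂V _ hbV]
  have E12 : (b * b₁) * (b₁ * b₂) = b * b₂ := by rw [mul_assoc, cancel _ hb₁V]
  have n1 : b * b₁ ≠ 1 := mul_ne sq hbV hb₁b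
  have n2 : b₁ * b₂ ≠ 1 := mul_ne sq hb₁V hb₂b₁
  have n12 : b₁ * b₂ ≠ b * b₁ := fun h' => hb₂b (by
    rw [cm _ hbV _ hb₁V] at h'
    exact mul_left_cancel h')
  have hbas : Bas V (b * b₁) (b₁ * b₂) z := by
    refine ⟨E1V, E2V, hzV, n1, n2, n12, hz1, ?_, ?_, ?_⟩
    · intro h'
      rw [h', hwE1] at hzfix
      exact n12 hzfix
    · intro h'
      rw [h', hwE2] at hzfix
      exact n1 (mul_eq_right.mp hzfix)
    · intro h'
      have h3 := hzfix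
      rw [h', cj_map, hwE1, hwE2, E12, cm _ E2V _ (V.mul_mem hbV hb₂V)] at h3
      exact n2 (mul_eq_left.mp h3)
  obtain ⟨x₁, x₂, x₃, s₁, s₂, hf⟩ := h.pl.exists_frame hbas
  refine ⟨_, _, _, x₁, x₂, x₃, s₁, s₂, hf, hzw, ?_⟩
  refine h.pl.inv_mul_mem hbas (H.mul_mem hf.s₁H hf.x₁H) h.wH ?_ ?_ ?_
  · rw [cj_mul, hwE1, show cj x₁ (b * b₁) = b * b₁ from hf.x11]
    exact hf.s11
  · rw [cj_mul, hwE2, show cj x₁ (b₁ * b₂) = (b * b₁) * (b₁ * b₂) from hf.x12, cj_map,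
      show cj s₁ (b * b₁) = b₁ * b₂ from hf.s11, show cj s₁ (b₁ * b₂) = b * b₁ from hf.s12]
    exact cm _ E2V _ E1V
  · rw [cj_mul, hzfix, show cj x₁ z = z from hf.x13]
    exact hf.s13

/-- The preimage of `Ω₁(Z(Q/A))` (when `Q/Z(Q/A)`.. : elements of order 2 mod `A`, central mod `A`). -/
def om (Q A : Subgroup G) (hn : Q ≤ normalizer (A : Set G)) : Subgroup G where
  carrier := {b | b ∈ Q ∧ b * b ∈ A ∧ ∀ q ∈ Q, q * b * q⁻¹ * b⁻¹ ∈ A}
  one_mem' := ⟨Q.one_mem, by rw [mul_one]; exact A.one_mem, fun q _ => by simp⟩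
  mul_mem' := by
    rintro b c ⟨hb, hb2, hbq⟩ ⟨hc, hc2, hcq⟩
    refine ⟨Q.mul_mem hb hc, ?_, fun q hq => ?_⟩
    · have e : b * c * (b * c) = (b * (c * b * c⁻¹ * b⁻¹) * b⁻¹) * (b * b) * (c * c) := by group
      rw [e]
      exact A.mul_mem (A.mul_mem ((mem_normalizer_iff.mp (hn hb) _).mp (hbq c hc)) hb2) hc2
    · have e : q * (b * c) * q⁻¹ * (b * c)⁻¹ = (q * b * q⁻¹ * b⁻¹) * (b * (q * c * q⁻¹ * c⁻¹) * b⁻¹) := by
        group
      rw [e]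
      exact A.mul_mem (hbq q hq) ((mem_normalizer_iff.mp (hn hb) _).mp (hcq q hq))
  inv_mem' := by
    rintro b ⟨hb, hb2, hbq⟩
    refine ⟨Q.inv_mem hb, ?_, fun q hq => ?_⟩
    · have e : b⁻¹ * b⁻¹ = (b * b)⁻¹ := by group
      rw [e]
      exact A.inv_mem hb2
    · have e : q * b⁻¹ * q⁻¹ * b⁻¹⁻¹ = b⁻¹ * (q * b * q⁻¹ * b⁻¹)⁻¹ * b⁻¹⁻¹ := by group
      rw [e]
      exact (mem_normalizer_iff.mp (hn (Q.inv_mem hb)) _).mp (A.inv_mem (hbq q hq))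

theorem mem_om {Q A : Subgroup G} {hn : Q ≤ normalizer (A : Set G)} {b : G} :
    b ∈ om Q A hn ↔ b ∈ Q ∧ b * b ∈ A ∧ ∀ q ∈ Q, q * b * q⁻¹ * b⁻¹ ∈ A := Iff.rfl

theorem conj_mem_om (hHQ : H ≤ normalizer (Q : Set G)) {A : Subgroup G}
    (hHA : H ≤ normalizer (A : Set G)) (hn : Q ≤ normalizer (A : Set G)) {g b : G} (hg : g ∈ H)
    (hb : b ∈ om Q A hn) : g * b * g⁻¹ ∈ om Q A hn := by
  obtain ⟨hbQ, hb2, hbq⟩ := hb
  refine ⟨conj_mem hHQ hg hbQ, ?_, fun q hq => ?_⟩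
  · have e : g * b * g⁻¹ * (g * b * g⁻¹) = g * (b * b) * g⁻¹ := by group
    rw [e]
    exact conj_mem hHA hg hb2
  · have e : q * (g * b * g⁻¹) * q⁻¹ * (g * b * g⁻¹)⁻¹ =
        g * ((g⁻¹ * q * g) * b * (g⁻¹ * q * g)⁻¹ * b⁻¹) * g⁻¹ := by group
    rw [e]
    refine conj_mem hHA hg (hbq _ ?_)
    have := conj_mem hHQ (H.inv_mem hg) hq
    rwa [inv_inv] at this

/-- `Ω₁(Z(Q/A)) ≠ 1` if `A < Q`. -/
theorem exists_om_notMem [Finite G] (hQ : IsPGroup 2 Q) {A : Subgroup G} (hAQ : A ≤ Q)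
    (hn : Q ≤ normalizer (A : Set G)) (hne : A ≠ Q) : ∃ b ∈ om Q A hn, b ∉ A := by
  have h2 : Fact (Nat.Prime 2) := ⟨Nat.prime_two⟩
  have hnor : (A.subgroupOf Q).Normal := (normal_subgroupOf_iff_le_normalizer hAQ).mpr hn
  have hR : IsPGroup 2 (Q ⧸ A.subgroupOf Q) := hQ.to_quotient _
  have hnt : Nontrivial (Q ⧸ A.subgroupOf Q) := by
    rw [QuotientGroup.nontrivial_iff]
    intro htop
    rw [subgroupOf_eq_top] at htop
    exact hne (le_antisymm hAQ htop)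
  have hc := hR.center_nontrivial
  have hcp : IsPGroup 2 (Subgroup.center (Q ⧸ A.subgroupOf Q)) := hR.to_subgroup _
  obtain ⟨n, hn1, hn2⟩ := (IsPGroup.iff_card.mp hcp).imp fun n hn => (⟨hn, hn⟩ : _ ∧ _)
  have hdvd : 2 ∣ Nat.card (Subgroup.center (Q ⧸ A.subgroupOf Q)) := by
    rw [hn1]
    refine dvd_pow_self 2 ?_
    rintro rfl
    have := Finite.one_lt_card_iff_nontrivial.mpr hc
    rw [hn1] at this
    norm_num at this
  obtain ⟨⟨y, hy⟩, hy2⟩ := exists_prime_orderOf_dvd_card' 2 hdvd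
  rw [orderOf_mk] at hy2
  obtain ⟨b, rfl⟩ := QuotientGroup.mk'_surjective (A.subgroupOf Q) y
  have hb1 : (QuotientGroup.mk' (A.subgroupOf Q)) b ≠ 1 := by
    intro h
    rw [h, orderOf_one] at hy2
    norm_num at hy2
  have hbb : (QuotientGroup.mk' (A.subgroupOf Q)) (b * b) = 1 := by
    rw [map_mul, ← pow_two, ← hy2]
    exact pow_orderOf_eq_one _
  have hbb' : b * b ∈ A.subgroupOf Q := (QuotientGroup.eq_one_iff (b * b)).mp hbb
  refine ⟨b, ⟨b.2, hbb', fun q hq => ?_⟩, fun hbA => hb1 ?_⟩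
  · let q' : Q := ⟨q, hq⟩
    have h3 : (QuotientGroup.mk' (A.subgroupOf Q)) (q' * b * q'⁻¹ * b⁻¹) = 1 := by
      rw [map_mul, map_mul, map_mul, map_inv, map_inv]
      rw [mem_center_iff.mp hy]
      group
    have h4 : q' * b * q'⁻¹ * b⁻¹ ∈ A.subgroupOf Q :=
      (QuotientGroup.eq_one_iff (q' * b * q'⁻¹ * b⁻¹)).mp h3
    exact h4
  · have hbA' : b ∈ A.subgroupOf Q := hbA
    exact (QuotientGroup.eq_one_iff b).mpr hbA'

/-- `|Ω₁(Z(Q/A))| ≤ 64`. -/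
theorem card_om_le [Finite G] (h : Thin H Q V x w) {A : Subgroup G} (hAQ : A ≤ Q)
    (hHA : H ≤ normalizer (A : Set G)) (hn : Q ≤ normalizer (A : Set G)) :
    Nat.card (om Q A hn) ≤ 64 * Nat.card A := by
  obtain ⟨z, hzV, hz1, hzw, huniq⟩ := exists_z h
  set Z := om Q A hn with hZ
  have hZQ : Z ≤ Q := fun b hb => hb.1
  have hZn : ∀ g ∈ H, g ∈ normalizer (Z : Set G) := fun g hg =>
    mem_normalizer_fintype fun b hb => conj_mem_om h.HQ hHA hn hg hb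
  have h1 := h.card_eq_cube hZQ (hZn x h.xH) (hZn w h.wH)
  have h2 := h.card_eq_cube hAQ (hHA h.xH) (hHA h.wH)
  set R := Z ⊓ centralizer (zpowers w : Set G) with hR
  set N := A ⊓ centralizer (zpowers w : Set G) with hN
  have hRn : R ≤ normalizer (N : Set G) := by
    intro r hr
    apply mem_normalizer_fintype
    rintro a ⟨ha, haw⟩
    refine ⟨(mem_normalizer_iff.mp (hn hr.1.1) a).mp ha, ?_⟩
    exact (centralizer _).mul_mem ((centralizer _).mul_mem hr.2 haw) ((centralizer _).inv_mem hr.2)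
  have hnor : (N.subgroupOf R).Normal := normal_subgroupOf_of_le_normalizer hRn
  have h4 : (N.subgroupOf R).index ≤ 4 := by
    refine index_le_four (R := R) ((h.two.to_le hZQ).to_le inf_le_left) ?_ (N.subgroupOf R) ?_
    · intro a b ha hb ha1 hb1
      have ha' := huniq a (hZQ a.2.1) (congrArg Subtype.val ha) (fun h => ha1 (Subtype.ext h))
        (mem_centralizer_zpowers.mp a.2.2)
      have hb' := huniq b (hZQ b.2.1) (congrArg Subtype.val hb) (fun h => hb1 (Subtype.ext h))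
        (mem_centralizer_zpowers.mp b.2.2)
      exact Subtype.ext (ha'.trans hb'.symm)
    · intro r
      exact ⟨r.2.1.2.1, (centralizer _).mul_mem r.2.2 r.2.2⟩
  have h5 : Nat.card R ≤ 4 * Nat.card N := by
    have h6 := Subgroup.card_mul_index (N.subgroupOf R)
    have h7 : Nat.card (N.subgroupOf R) ≤ Nat.card N := by
      refine Nat.card_le_card_of_injective (fun y => (⟨((y : R) : G), y.2⟩ : N)) ?_
      intro a b hab
      have := congrArg Subtype.val hab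
      exact Subtype.ext (Subtype.ext this)
    calc Nat.card R = Nat.card (N.subgroupOf R) * (N.subgroupOf R).index := h6.symm
      _ ≤ Nat.card N * 4 := Nat.mul_le_mul h7 h4
      _ = _ := mul_comm _ _
  rw [h1, h2]
  calc Nat.card R ^ 3 ≤ (4 * Nat.card N) ^ 3 := Nat.pow_le_pow_left h5 3
    _ = 64 * Nat.card N ^ 3 := by ring

/-- Fixed points of a maximal parabolic in `Ω₁(Z(Q/A))`. -/
theorem exists_fixed_mod [Finite G] (h : Thin H Q V x w) {e₁ e₂ e₃ x₁ x₂ x₃ s₁ s₂ : G}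
    (f : Frame H V e₁ e₂ e₃ x₁ x₂ x₃ s₁ s₂) {A : Subgroup G} (hAQ : A ≤ Q)
    (hHA : H ≤ normalizer (A : Set G)) (hne : A ≠ Q) :
    ∃ b ∈ Q, b ∉ A ∧ b * b ∈ A ∧ (∀ q ∈ Q, q * b * q⁻¹ * b⁻¹ ∈ A) ∧ x₁ * b * x₁⁻¹ * b⁻¹ ∈ A ∧
      x₂ * b * x₂⁻¹ * b⁻¹ ∈ A ∧ x₃ * b * x₃⁻¹ * b⁻¹ ∈ A ∧
      (s₁ * b * s₁⁻¹ * b⁻¹ ∈ A ∨
        (s₂ * b * s₂⁻¹ * b⁻¹ ∈ A ∧ b * cj s₁ b * cj x₁ (cj s₁ b) ∈ A)) := by
  have hn : Q ≤ normalizer (A : Set G) := h.QH.trans hHA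
  have hAH : A ≤ H := hAQ.trans h.QH
  set Z := om Q A hn with hZ
  have hZQ : Z ≤ Q := fun b hb => hb.1
  have hZH : Z ≤ H := hZQ.trans h.QH
  have hnor : (A.subgroupOf H).Normal := (normal_subgroupOf_iff_le_normalizer hAH).mpr hHA
  let π : H →* H ⧸ A.subgroupOf H := QuotientGroup.mk' (A.subgroupOf H)
  have hπs : Function.Surjective π := QuotientGroup.mk'_surjective _
  have hπ1 : ∀ g : H, π g = 1 ↔ (g : G) ∈ A := fun g => QuotientGroup.eq_one_iff g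
  have hπe : ∀ g g' : H, π g = π g' ↔ (g : G) * (g' : G)⁻¹ ∈ A := fun g g' => by
    rw [← mul_inv_eq_one, ← map_inv, ← map_mul, hπ1]
    rfl
  let M : Subgroup (H ⧸ A.subgroupOf H) := (Z.subgroupOf H).map π
  have hMn : M.Normal := by
    have h1 : (Z.subgroupOf H).Normal := by
      refine (normal_subgroupOf_iff_le_normalizer hZH).mpr fun g hg => ?_
      exact mem_normalizer_fintype fun b hb => conj_mem_om h.HQ hHA hn hg hb
    exact h1.map π hπs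
  have hMsq : ∀ m : M, m * m = 1 := by
    rintro ⟨_, b, hb, rfl⟩
    refine Subtype.ext ?_
    show π b * π b = 1
    rw [← map_mul, hπ1]
    exact hb.2.1
  let φ : (H ⧸ A.subgroupOf H) →* MulAut M := MulAut.conjNormal
  have hφ : ∀ (g : H ⧸ A.subgroupOf H) (m : M), ((φ g m : M) : H ⧸ A.subgroupOf H) = g * m * g⁻¹ :=
    fun g m => MulAut.conjNormal_apply g m
  let ψ : H →* MulAut M := φ.comp π
  -- congruence modulo `Q`
  have hcong : ∀ g g' : H, (g : G)⁻¹ * g' ∈ Q → ψ g = ψ g' := by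
    intro g g' hgg
    ext ⟨_, b, hb, rfl⟩
    show ((φ (π g) _ : M) : H ⧸ A.subgroupOf H) = ((φ (π g') _ : M) : H ⧸ A.subgroupOf H)
    rw [hφ, hφ]
    show π g * π b * (π g)⁻¹ = π g' * π b * (π g')⁻¹
    rw [← map_mul, ← map_inv, ← map_mul, ← map_mul, ← map_inv, ← map_mul, hπe]
    show (g : G) * (b : G) * (g : G)⁻¹ * ((g' : G) * (b : G) * (g' : G)⁻¹)⁻¹ ∈ A
    have e : (g : G) * (b : G) * (g : G)⁻¹ * ((g' : G) * (b : G) * (g' : G)⁻¹)⁻¹ =
        g * (((g : G)⁻¹ * g') * (b : G) * ((g : G)⁻¹ * g')⁻¹ * (b : G)⁻¹)⁻¹ * (g : G)⁻¹ := by group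
    rw [e]
    exact conj_mem hHA g.2 (A.inv_mem (hb.2.2 _ hgg))
  have r := f.relMod h.pl
  have hR := ThinModule.Rel.of_hom ψ ⟨x₁, f.x₁H⟩ ⟨x₂, f.x₂H⟩ ⟨x₃, f.x₃H⟩ ⟨s₁, f.s₁H⟩ ⟨s₂, f.s₂H⟩
    (hcong _ _ r.x1) (hcong _ _ r.x2) (hcong _ _ r.x3) (hcong _ _ r.s1) (hcong _ _ r.s2)
    (hcong _ _ r.x12) (hcong _ _ r.x13) (hcong _ _ r.x23) (hcong _ _ r.sx1) (hcong _ _ r.sx2)
    (hcong _ _ r.br1) (hcong _ _ r.br2)
  -- the order of `M`
  have hcardZ : Nat.card M * Nat.card A ≤ Nat.card Z := by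
    let F : Z →* H ⧸ A.subgroupOf H := π.comp (inclusion hZH)
    have hr : F.range = M := by
      ext y
      constructor
      · rintro ⟨b, rfl⟩
        exact ⟨⟨b, hZH b.2⟩, b.2, rfl⟩
      · rintro ⟨b, hb, rfl⟩
        exact ⟨⟨b, hb⟩, rfl⟩
    have hAZ : ∀ a ∈ A, a ∈ Z := fun a ha => ⟨hAQ ha, A.mul_mem ha ha, fun q hq =>
      A.mul_mem ((mem_normalizer_iff.mp (hn hq) a).mp ha) (A.inv_mem ha)⟩
    have hk : Nat.card A ≤ Nat.card F.ker := by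
      refine Nat.card_le_card_of_injective (fun a => ⟨⟨a, hAZ a a.2⟩, ?_⟩) ?_
      · rw [MonoidHom.mem_ker]
        exact (hπ1 ⟨a, hAH a.2⟩).mpr a.2
      · intro a b hab
        have := congrArg (fun y : F.ker => ((y : Z) : G)) hab
        exact Subtype.ext this
    have h3 : Nat.card F.ker * Nat.card F.range = Nat.card Z := by
      rw [← Subgroup.index_ker]
      exact Subgroup.card_mul_index _
    rw [hr] at h3
    calc Nat.card M * Nat.card A = Nat.card A * Nat.card M := mul_comm _ _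
      _ ≤ Nat.card F.ker * Nat.card M := Nat.mul_le_mul_right _ hk
      _ = Nat.card Z := h3
  have hcard : Nat.card M < 256 := by
    have h1 := card_om_le h hAQ hHA hn
    have h2 : Nat.card M * Nat.card A ≤ 64 * Nat.card A := hcardZ.trans h1
    have h3 := Nat.le_of_mul_le_mul_right h2 Nat.card_pos
    omega
  have hcard1 : 1 < Nat.card M := by
    obtain ⟨b, hb, hbA⟩ := exists_om_notMem h.two hAQ hn hne
    have hnt : Nontrivial M := by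
      refine ⟨⟨⟨π ⟨b, hZH hb⟩, ⟨b, hZH hb⟩, hb, rfl⟩, 1, fun h' => hbA ?_⟩⟩
      exact (hπ1 ⟨b, hZH hb⟩).mp (congrArg Subtype.val h')
    exact Finite.one_lt_card_iff_nontrivial.mpr hnt
  obtain ⟨⟨_, b, hb, rfl⟩, hm1, k1, k2, k3, k4⟩ := ThinModule.exists_fixed_group hMsq hcard1 hcard hR
  have hfix : ∀ g : H, ψ g ⟨π b, b, hb, rfl⟩ = ⟨π b, b, hb, rfl⟩ →
      (g : G) * b * (g : G)⁻¹ * (b : G)⁻¹ ∈ A := by
    intro g hg
    have h1 := congrArg Subtype.val hg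
    have h2 : π g * π b * (π g)⁻¹ = π b := h1
    rw [← map_mul, ← map_inv, ← map_mul, hπe] at h2
    exact h2
  refine ⟨b, hb.1, fun hbA => hm1 (Subtype.ext ((hπ1 b).mpr hbA)), hb.2.1, hb.2.2,
    hfix ⟨x₁, f.x₁H⟩ k1, hfix ⟨x₂, f.x₂H⟩ k2, hfix ⟨x₃, f.x₃H⟩ k3, ?_⟩
  rcases k4 with k4 | ⟨k4, k5⟩
  · exact Or.inl (hfix ⟨s₁, f.s₁H⟩ k4)
  · refine Or.inr ⟨hfix ⟨s₂, f.s₂H⟩ k4, ?_⟩
    have h1 := congrArg Subtype.val k5
    have h2 : π b * (π ⟨s₁, f.s₁H⟩ * π b * (π ⟨s₁, f.s₁H⟩)⁻¹) *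
        (π ⟨x₁, f.x₁H⟩ * (π ⟨s₁, f.s₁H⟩ * π b * (π ⟨s₁, f.s₁H⟩)⁻¹) * (π ⟨x₁, f.x₁H⟩)⁻¹) = 1 := h1
    rw [← map_inv, ← map_inv, ← map_mul, ← map_mul, ← map_mul, ← map_mul, ← map_mul, ← map_mul,
      hπ1] at h2
    exact h2

end Cfsg.Agent.SmallSimple.S1000.ThinFix
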