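import Mathlib
import Cfsg.Agent.SmallSimple.S1000.ThinFix

/-!
# `Q` is homocyclic of rank 3

Under the hypotheses of `ThinCube.Thin` the 2-group `Q` is abelian, its involutions are those of `V`, and
`Q ≅ (Z/2^m)³`.
-/

set_option autoImplicit false

namespace Cfsg.Agent.SmallSimple.S1000.ThinHomo

open Subgroup Cfsg.Agent.SmallSimple.S1000.ThinPlane Cfsg.Agent.SmallSimple.S1000.ThinCube
open Cfsg.Agent.SmallSimple.S1000.ThinFrame Cfsg.Agent.SmallSimple.S1000.ThinFix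

variable {G : Type*} [Group G] {H Q V : Subgroup G} {x w : G}

/-- An abelian invariant subgroup of `Q` containing `V`. -/
structure Ab (H Q V A : Subgroup G) : Prop where
  VA : V ≤ A
  AQ : A ≤ Q
  HA : H ≤ normalizer (A : Set G)
  comm : ∀ a ∈ A, ∀ b ∈ A, a * b = b * a

theorem mul_pow_of_comm {a b : G} (h : a * b = b * a) (n : ℕ) : (a * b) ^ n = a ^ n * b ^ n :=
  Commute.mul_pow h n

namespace Ab

variable {A : Subgroup G}

/-- The involutions of `A` lie in `V`. -/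
theorem mem_V [Finite G] (h : Thin H Q V x w) (hA : Ab H Q V A) {a : G} (ha : a ∈ A)
    (haa : a * a = 1) : a ∈ V := by
  let E : Subgroup G :=
    { carrier := {a | a ∈ A ∧ a * a = 1}
      one_mem' := ⟨A.one_mem, mul_one 1⟩
      mul_mem' := by
        rintro a b ⟨ha, ha'⟩ ⟨hb, hb'⟩
        refine ⟨A.mul_mem ha hb, ?_⟩
        calc a * b * (a * b) = a * (b * a) * b := by group
          _ = a * (a * b) * b := by rw [hA.comm a ha b hb]
          _ = (a * a) * (b * b) := by group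
          _ = 1 := by rw [ha', hb', one_mul]
      inv_mem' := by
        rintro a ⟨ha, ha'⟩
        refine ⟨A.inv_mem ha, ?_⟩
        rw [← mul_inv_rev, ha', inv_one] }
  have hE : ∀ g ∈ H, g ∈ normalizer (E : Set G) := by
    intro g hg
    apply mem_normalizer_fintype
    rintro b ⟨hb, hb'⟩
    refine ⟨conj_mem hA.HA hg hb, ?_⟩
    calc g * b * g⁻¹ * (g * b * g⁻¹) = g * (b * b) * g⁻¹ := by group
      _ = 1 := by rw [hb']; group
  exact h.le_V (E := E) (fun b hb => hA.AQ hb.1) (hE x h.xH) (hE w h.wH) (fun b hb => hb.2) ⟨ha, haa⟩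

/-- The power map onto `V`. -/
theorem exists_pow [Finite G] (h : Thin H Q V x w) (hA : Ab H Q V A) :
    ∃ j : ℕ, (∀ a ∈ A, a ^ (2 ^ j) ∈ V) ∧ (∀ v ∈ V, ∃ a ∈ A, a ^ (2 ^ j) = v) ∧
      (∀ a ∈ A, a ^ (2 ^ j) = 1 → ∃ c ∈ A, c * c = a) := by
  classical
  have hA2 : IsPGroup 2 A := h.two.to_le hA.AQ
  have hex : ∃ n : ℕ, ∀ a ∈ A, a ^ (2 ^ n) = 1 := by
    obtain ⟨n, hn⟩ := hA2.exists_card_eq
    refine ⟨n, fun a ha => ?_⟩
    have := pow_card_eq_one' (x := (⟨a, ha⟩ : A))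
    rw [hn] at this
    exact congrArg Subtype.val this
  have hn1 := Nat.find_spec hex
  have hn0 : Nat.find hex ≠ 0 := by
    intro h0
    rw [h0] at hn1
    obtain ⟨z, hzV, hz1, -, -⟩ := exists_z h
    have := hn1 z (hA.VA hzV)
    rw [pow_zero, pow_one] at this
    exact hz1 this
  obtain ⟨j, hj⟩ := Nat.exists_eq_succ_of_ne_zero hn0
  have hj1 : ¬ ∀ a ∈ A, a ^ (2 ^ j) = 1 := Nat.find_min hex (by rw [hj]; exact Nat.lt_succ_self j)
  rw [hj] at hn1
  have hsq : ∀ a ∈ A, a ^ (2 ^ j) * a ^ (2 ^ j) = 1 := fun a ha => by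
    rw [← pow_two, ← pow_mul, ← pow_succ]
    exact hn1 a ha
  have hVj : ∀ a ∈ A, a ^ (2 ^ j) ∈ V := fun a ha => hA.mem_V h (A.pow_mem ha _) (hsq a ha)
  have hsurj : ∀ v ∈ V, ∃ a ∈ A, a ^ (2 ^ j) = v := by
    push Not at hj1
    obtain ⟨a, ha, ha1⟩ := hj1
    intro v hv
    by_cases hv1 : v = 1
    · exact ⟨1, A.one_mem, by rw [one_pow, hv1]⟩
    · obtain ⟨g, hg, hgv⟩ := h.exists_conj_one (hVj a ha) ha1 hv hv1
      refine ⟨g * a * g⁻¹, conj_mem hA.HA hg ha, ?_⟩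
      rw [conj_pow, hgv]
  refine ⟨j, hVj, hsurj, ?_⟩
  -- counting
  have hcommA : ∀ a b : A, a * b = b * a := fun a b => Subtype.ext (hA.comm a a.2 b b.2)
  let instA : CommGroup A := { (inferInstance : Group A) with mul_comm := hcommA }
  let P : ℕ → A →* A := fun n => powMonoidHom n
  have hP : ∀ n (a : A), ((P n a : A) : G) = (a : G) ^ n := fun n a => rfl
  have hcard : ∀ n, Nat.card (P n).ker * Nat.card (P n).range = Nat.card A := by
    intro n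
    rw [← Subgroup.index_ker]
    exact Subgroup.card_mul_index _
  have hk2 : Nat.card (P 2).ker = 8 := by
    rw [← h.pl.card_V]
    refine Nat.card_congr
      { toFun := fun a => ⟨((a : A) : G), ?_⟩
        invFun := fun v => ⟨⟨v, hA.VA v.2⟩, ?_⟩
        left_inv := fun _ => rfl
        right_inv := fun _ => rfl }
    · refine hA.mem_V h a.1.2 ?_
      have := congrArg Subtype.val (MonoidHom.mem_ker.mp a.2)
      rw [hP, pow_two] at this
      exact this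
    · rw [MonoidHom.mem_ker]
      refine Subtype.ext ?_
      rw [hP, pow_two]
      exact h.pl.sq v v.2
  have hrj : Nat.card (P (2 ^ j)).range = 8 := by
    rw [← h.pl.card_V]
    refine Nat.card_congr
      { toFun := fun a => ⟨((a : A) : G), ?_⟩
        invFun := fun v => ⟨⟨v, hA.VA v.2⟩, ?_⟩
        left_inv := fun _ => rfl
        right_inv := fun _ => rfl }
    · obtain ⟨b, hb⟩ := a.2
      rw [← hb, hP]
      exact hVj b b.2
    · obtain ⟨a, ha, hav⟩ := hsurj v v.2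
      exact ⟨⟨a, ha⟩, Subtype.ext hav⟩
  have hle : (P 2).range ≤ (P (2 ^ j)).ker := by
    rintro _ ⟨a, rfl⟩
    rw [MonoidHom.mem_ker]
    refine Subtype.ext ?_
    rw [hP, hP, ← pow_mul, ← pow_succ']
    exact hn1 a a.2
  have heq : (P 2).range = (P (2 ^ j)).ker := by
    apply Subgroup.eq_of_le_of_card_ge hle
    have h1 := hcard 2
    have h2 := hcard (2 ^ j)
    rw [hk2] at h1
    rw [hrj] at h2
    have : Nat.card (P 2).range * 8 = Nat.card (P (2 ^ j)).ker * 8 := by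
      rw [h2, mul_comm, h1]
    exact (Nat.eq_of_mul_eq_mul_right (by norm_num) this).ge
  intro a ha ha1
  have h3 : (⟨a, ha⟩ : A) ∈ (P (2 ^ j)).ker := by
    rw [MonoidHom.mem_ker]
    exact Subtype.ext ha1
  rw [← heq] at h3
  obtain ⟨c, hc⟩ := h3
  refine ⟨c, c.2, ?_⟩
  have := congrArg Subtype.val hc
  rw [hP, pow_two] at this
  exact this

end Ab

/-- The stabiliser of the coset `A b`. -/
def stab (A : Subgroup G) (b : G) : Subgroup G where
  carrier := {g | g ∈ normalizer (A : Set G) ∧ g * b * g⁻¹ * b⁻¹ ∈ A}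
  one_mem' := ⟨one_mem _, by simp⟩
  mul_mem' := by
    rintro g k ⟨hg, hg'⟩ ⟨hk, hk'⟩
    refine ⟨mul_mem hg hk, ?_⟩
    have e : g * k * b * (g * k)⁻¹ * b⁻¹ = (g * (k * b * k⁻¹ * b⁻¹) * g⁻¹) * (g * b * g⁻¹ * b⁻¹) := by
      group
    rw [e]
    exact A.mul_mem ((mem_normalizer_iff.mp hg _).mp hk') hg'
  inv_mem' := by
    rintro g ⟨hg, hg'⟩
    refine ⟨inv_mem hg, ?_⟩
    have e : g⁻¹ * b * g⁻¹⁻¹ * b⁻¹ = g⁻¹ * (g * b * g⁻¹ * b⁻¹)⁻¹ * g⁻¹⁻¹ := by group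
    rw [e]
    exact (mem_normalizer_iff.mp (inv_mem hg) _).mp (A.inv_mem hg')

theorem mem_stab {A : Subgroup G} {b g : G} :
    g ∈ stab A b ↔ g ∈ normalizer (A : Set G) ∧ g * b * g⁻¹ * b⁻¹ ∈ A := Iff.rfl

section steps

variable {A : Subgroup G} {e₁ e₂ e₃ x₁ x₂ x₃ s₁ s₂ : G}

/-- No element centralising `A` is fixed modulo `A` by the stabiliser of a line. -/
theorem false_of_line [Finite G] (h : Thin H Q V x w) (f : Frame H V e₁ e₂ e₃ x₁ x₂ x₃ s₁ s₂)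
    (hw : (s₁ * x₁)⁻¹ * w ∈ Q) (hA : Ab H Q V A) {hn : Q ≤ normalizer (A : Set G)} {b : G}
    (hb : b ∈ om Q A hn) (hbA : b ∉ A) (hc : ∀ a ∈ A, a * b = b * a) (h1 : x₁ ∈ stab A b)
    (h2 : x₂ ∈ stab A b) (h3 : s₁ ∈ stab A b) : False := by
  obtain ⟨j, hV, hsurj, hsqr⟩ := hA.exists_pow h
  obtain ⟨z, hzV, hz1, hzw, huniq⟩ := exists_z h
  have hbb : b * b ∈ A := hb.2.1
  -- the element `v = μ(b²)` is fixed
  have key : ∀ g ∈ stab A b, cj g ((b * b) ^ (2 ^ j)) = (b * b) ^ (2 ^ j) := by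
    rintro g ⟨hgn, hg⟩
    set a := g * b * g⁻¹ * b⁻¹ with ha
    have hab : a * b = b * a := hc a hg
    have e1 : g * b * g⁻¹ = a * b := by rw [ha]; group
    have e2 : g * (b * b) * g⁻¹ = (a * a) * (b * b) := by
      calc g * (b * b) * g⁻¹ = (g * b * g⁻¹) * (g * b * g⁻¹) := by group
        _ = a * b * (a * b) := by rw [e1]
        _ = a * (b * a) * b := by group
        _ = a * (a * b) * b := by rw [hab]
        _ = (a * a) * (b * b) := by group
    have e3 : (a * a) ^ (2 ^ j) = 1 := by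
      rw [← pow_two, ← pow_mul, mul_comm, pow_mul, pow_two]
      exact h.pl.sq _ (hV a hg)
    rw [cj_def, ← conj_pow, e2, mul_pow_of_comm (hA.comm _ (A.mul_mem hg hg) _ hbb), e3, one_mul]
  have hv := eq_one_of_fixed h.pl.sq f h.pl.card_V (hV _ hbb) (key x₁ h1) (key x₂ h2) (key s₁ h3)
  obtain ⟨c, hcA, hcc⟩ := hsqr _ hbb hv
  set b₀ := b * c⁻¹ with hb₀
  have hcb : c * b = b * c := hc c hcA
  have hcb' : c⁻¹ * b = b * c⁻¹ := hc _ (A.inv_mem hcA)
  have hb₀b₀ : b₀ * b₀ = 1 := by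
    calc b₀ * b₀ = b * (c⁻¹ * b) * c⁻¹ := by rw [hb₀]; group
      _ = b * (b * c⁻¹) * c⁻¹ := by rw [hcb']
      _ = (b * b) * (c * c)⁻¹ := by group
      _ = 1 := by rw [hcc, mul_inv_cancel]
  have hb₀A : b₀ ∉ A := fun h' => hbA (by
    have := A.mul_mem h' hcA
    rwa [hb₀, inv_mul_cancel_right] at this)
  have hb₀Q : b₀ ∈ Q := Q.mul_mem hb.1 (Q.inv_mem (hA.AQ hcA))
  have hb₀c : ∀ a ∈ A, a * b₀ = b₀ * a := fun a ha => by
    calc a * b₀ = (a * b) * c⁻¹ := by rw [hb₀]; group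
      _ = b * (a * c⁻¹) := by rw [hc a ha]; group
      _ = b * (c⁻¹ * a) := by rw [hA.comm a ha _ (A.inv_mem hcA)]
      _ = b₀ * a := by rw [hb₀]; group
  -- `w` fixes the coset `A b₀`
  have hws : w ∈ stab A b := by
    have e : w = s₁ * x₁ * ((s₁ * x₁)⁻¹ * w) := by group
    rw [e]
    exact mul_mem (mul_mem h3 h1) ⟨hn hw, hb.2.2 _ hw⟩
  set t := w * b₀ * w⁻¹ * b₀⁻¹ with ht
  have htA : t ∈ A := by
    have e : t = (w * b * w⁻¹ * b⁻¹) * (b * ((w * c⁻¹ * w⁻¹) * c) * b⁻¹) := by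
      rw [ht, hb₀]; group
    rw [e]
    refine A.mul_mem hws.2 ((mem_normalizer_iff.mp (hn hb.1) _).mp ?_)
    exact A.mul_mem (conj_mem hA.HA h.wH (A.inv_mem hcA)) hcA
  have htt : t * t = 1 := by
    have e1 : w * b₀ * w⁻¹ = t * b₀ := by rw [ht]; group
    have e2 : (t * b₀) * (t * b₀) = 1 := by
      rw [← e1]
      calc w * b₀ * w⁻¹ * (w * b₀ * w⁻¹) = w * (b₀ * b₀) * w⁻¹ := by group
        _ = 1 := by rw [hb₀b₀]; group
    calc t * t = (t * t) * (b₀ * b₀) := by rw [hb₀b₀, mul_one]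
      _ = t * (t * b₀) * b₀ := by group
      _ = t * (b₀ * t) * b₀ := by rw [hb₀c t htA]
      _ = (t * b₀) * (t * b₀) := by group
      _ = 1 := e2
  have htV : t ∈ V := hA.mem_V h htA htt
  obtain ⟨n, hnV, hnw⟩ := exists_fix h h.wH (by rw [h.w3]; decide) h.VQ (h.pl.HV h.wH) hb₀Q htV
  have hnb : n * b₀ = b₀ * n := hb₀c n (hA.VA hnV)
  have hsq1 : (n * b₀) * (n * b₀) = 1 := by
    calc (n * b₀) * (n * b₀) = n * (b₀ * n) * b₀ := by group
      _ = n * (n * b₀) * b₀ := by rw [hnb]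
      _ = (n * n) * (b₀ * b₀) := by group
      _ = 1 := by rw [h.pl.sq n hnV, hb₀b₀, one_mul]
  have hne : n * b₀ ≠ 1 := fun h' => hb₀A (by
    rw [← inv_eq_of_mul_eq_one_right h']
    exact A.inv_mem (hA.VA hnV))
  have hz := huniq (n * b₀) (Q.mul_mem (h.VQ hnV) hb₀Q) hsq1 hne hnw
  apply hb₀A
  have e : b₀ = n⁻¹ * z := by rw [← hz]; group
  rw [e]
  exact A.mul_mem (A.inv_mem (hA.VA hnV)) (hA.VA hzV)

/-- Elements fixed modulo `A` by a maximal parabolic centralise `A`. -/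
theorem comm_of_fixed [Finite G] (h : Thin H Q V x w) (f : Frame H V e₁ e₂ e₃ x₁ x₂ x₃ s₁ s₂)
    (hA : Ab H Q V A) {hn : Q ≤ normalizer (A : Set G)} {b : G} (hb : b ∈ om Q A hn)
    (h1 : x₁ ∈ stab A b) (h2 : x₂ ∈ stab A b) (h3 : x₃ ∈ stab A b)
    (hs : s₁ ∈ stab A b ∨ s₂ ∈ stab A b) : ∀ a ∈ A, a * b = b * a := by
  classical
  by_contra hcon
  push Not at hcon
  obtain ⟨a', ha', hab'⟩ := hcon
  have hQV : ∀ u ∈ Q, ∀ v ∈ V, v * u = u * v := fun u hu v hv => mem_centralizer_iff.mp (h.pl.QV hu) v hv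
  have hex : ∃ n : ℕ, ∃ a ∈ A, a ^ (2 ^ n) = 1 ∧ a * b ≠ b * a := by
    obtain ⟨n, hn⟩ := (h.two.to_le hA.AQ).exists_card_eq
    refine ⟨n, a', ha', ?_, hab'⟩
    have := pow_card_eq_one' (x := (⟨a', ha'⟩ : A))
    rw [hn] at this
    exact congrArg Subtype.val this
  obtain ⟨a₀, ha₀, ha₀1, ha₀b⟩ := Nat.find_spec hex
  have hn0 : Nat.find hex ≠ 0 := by
    intro h0
    rw [h0, pow_zero, pow_one] at ha₀1
    exact ha₀b (by rw [ha₀1, one_mul, mul_one])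
  obtain ⟨k, hk⟩ := Nat.exists_eq_succ_of_ne_zero hn0
  have hkmin : ∀ a ∈ A, a ^ (2 ^ k) = 1 → a * b = b * a := by
    intro a ha ha1
    by_contra hne
    exact Nat.find_min hex (by rw [hk]; exact Nat.lt_succ_self k) ⟨a, ha, ha1, hne⟩
  rw [hk, Nat.succ_eq_add_one] at ha₀1
  -- the commutator `c u a`
  let c : G → G → G := fun u a => u * a * u⁻¹ * a⁻¹
  have hc : ∀ u a, c u a = u * a * u⁻¹ * a⁻¹ := fun _ _ => rfl
  have hcA : ∀ u ∈ Q, ∀ a ∈ A, c u a ∈ A := fun u hu a ha =>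
    A.mul_mem ((mem_normalizer_iff.mp (hn hu) a).mp ha) (A.inv_mem ha)
  have hcV : ∀ u ∈ Q, (∀ a ∈ A, a ^ (2 ^ k) = 1 → u * a = a * u) → ∀ a ∈ A, a ^ (2 ^ (k + 1)) = 1 →
      c u a ∈ V := by
    intro u hu hcu a ha ha1
    refine hA.mem_V h (hcA u hu a ha) ?_
    have hua : u * a * u⁻¹ ∈ A := (mem_normalizer_iff.mp (hn hu) a).mp ha
    have h4 : u * (a * a) = (a * a) * u := hcu _ (A.mul_mem ha ha) (by
      rw [← pow_two, ← pow_mul, ← pow_succ']; exact ha1)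
    calc c u a * c u a = (u * a * u⁻¹) * (a⁻¹ * (u * a * u⁻¹)) * a⁻¹ := by rw [hc]; group
      _ = (u * a * u⁻¹) * ((u * a * u⁻¹) * a⁻¹) * a⁻¹ := by rw [hA.comm _ (A.inv_mem ha) _ hua]
      _ = (u * (a * a)) * u⁻¹ * (a * a)⁻¹ := by group
      _ = 1 := by rw [h4]; group
  have hcr : ∀ u ∈ Q, ∀ a ∈ A, ∀ a' ∈ A, c u (a * a') = c u a * c u a' := by
    intro u hu a ha a' ha'
    calc c u (a * a') = (u * a * u⁻¹) * (c u a' * a⁻¹) := by simp only [hc]; group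
      _ = (u * a * u⁻¹) * (a⁻¹ * c u a') := by rw [hA.comm _ (hcA u hu a' ha') _ (A.inv_mem ha)]
      _ = c u a * c u a' := by simp only [hc]; group
  have hcl : ∀ u ∈ Q, ∀ u' a, c u' a ∈ V → c (u * u') a = c u' a * c u a := by
    intro u hu u' a hV'
    calc c (u * u') a = u * (c u' a) * u⁻¹ * (u * a * u⁻¹ * a⁻¹) := by simp only [hc]; group
      _ = (c u' a * u) * u⁻¹ * (u * a * u⁻¹ * a⁻¹) := by rw [hQV u hu _ hV']
      _ = c u' a * c u a := by simp only [hc]; group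
  have hbk : ∀ a ∈ A, a ^ (2 ^ k) = 1 → b * a = a * b := fun a ha ha1 => (hkmin a ha ha1).symm
  have hbQ : b ∈ Q := hb.1
  -- surjectivity of the power map
  have hv₀ : a₀ ^ (2 ^ k) ≠ 1 := fun h' => ha₀b (hkmin a₀ ha₀ h')
  have hpV : ∀ a ∈ A, a ^ (2 ^ (k + 1)) = 1 → a ^ (2 ^ k) ∈ V := fun a ha ha1 =>
    hA.mem_V h (A.pow_mem ha _) (by rw [← pow_two, ← pow_mul, ← pow_succ]; exact ha1)
  have hsurj : ∀ v ∈ V, ∃ a ∈ A, a ^ (2 ^ (k + 1)) = 1 ∧ a ^ (2 ^ k) = v := by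
    intro v hv
    by_cases hv1 : v = 1
    · exact ⟨1, A.one_mem, one_pow _, by rw [one_pow, hv1]⟩
    · obtain ⟨g, hg, hgv⟩ := h.exists_conj_one (hpV a₀ ha₀ ha₀1) hv₀ hv hv1
      refine ⟨g * a₀ * g⁻¹, conj_mem hA.HA hg ha₀, ?_, ?_⟩
      · rw [conj_pow, ha₀1]; group
      · rw [conj_pow, hgv]
  -- the endomorphism
  let φ : G → G := fun v => if hv : v ∈ V then c b (hsurj v hv).choose else 1
  have hφ : ∀ a ∈ A, a ^ (2 ^ (k + 1)) = 1 → φ (a ^ (2 ^ k)) = c b a := by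
    intro a ha ha1
    have hv := hpV a ha ha1
    obtain ⟨hd, hd1, hd2⟩ := (hsurj _ hv).choose_spec
    have e0 : φ (a ^ (2 ^ k)) = c b (hsurj _ hv).choose := dif_pos hv
    rw [e0]
    set d := (hsurj _ hv).choose with hdd
    have e1 : (d * a⁻¹) ^ (2 ^ k) = 1 := by
      rw [mul_pow_of_comm (hA.comm d hd _ (A.inv_mem ha)), hd2, inv_pow, mul_inv_cancel]
    have e2 : c b (d * a⁻¹) = 1 := by
      rw [hc, hbk _ (A.mul_mem hd (A.inv_mem ha)) e1]; group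
    have e3 : d = (d * a⁻¹) * a := by group
    rw [e3, hcr b hbQ _ (A.mul_mem hd (A.inv_mem ha)) a ha, e2, one_mul]
  have hφV : ∀ v ∈ V, φ v ∈ V := by
    intro v hv
    obtain ⟨a, ha, ha1, rfl⟩ := hsurj v hv
    rw [hφ a ha ha1]
    exact hcV b hbQ hbk a ha ha1
  have hφm : ∀ u ∈ V, ∀ v ∈ V, φ (u * v) = φ u * φ v := by
    intro u hu v hv
    obtain ⟨a, ha, ha1, rfl⟩ := hsurj u hu
    obtain ⟨a', ha', ha'1, rfl⟩ := hsurj v hv
    have hcm := hA.comm a ha a' ha'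
    rw [← mul_pow_of_comm hcm, hφ a ha ha1, hφ a' ha' ha'1, hφ (a * a') (A.mul_mem ha ha')
      (by rw [mul_pow_of_comm hcm, ha1, ha'1, one_mul])]
    exact hcr b hbQ a ha a' ha'
  have hφc : ∀ g ∈ H, g ∈ stab A b → ∀ v ∈ V, φ (cj g v) = cj g (φ v) := by
    intro g hg hgs v hv
    obtain ⟨a, ha, ha1, rfl⟩ := hsurj v hv
    have ha' : g * a * g⁻¹ ∈ A := conj_mem hA.HA hg ha
    have ha'1 : (g * a * g⁻¹) ^ (2 ^ (k + 1)) = 1 := by rw [conj_pow, ha1]; group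
    rw [hφ a ha ha1, cj_def, ← conj_pow, hφ _ ha' ha'1]
    set t := g * b * g⁻¹ * b⁻¹ with ht
    have htA : t ∈ A := hgs.2
    have e1 : cj g (c b a) = c (t * b) (g * a * g⁻¹) := by
      simp only [hc, cj, ht]; group
    rw [e1, hcl t (hA.AQ htA) b _ (hcV b hbQ hbk _ ha' ha'1)]
    have e2 : c t (g * a * g⁻¹) = 1 := by
      rw [hc, hA.comm t htA _ ha']; group
    rw [e2, mul_one]
  have hs' : (∀ v ∈ V, φ (cj s₁ v) = cj s₁ (φ v)) ∨ (∀ v ∈ V, φ (cj s₂ v) = cj s₂ (φ v)) := by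
    rcases hs with hs | hs
    · exact Or.inl (hφc s₁ f.s₁H hs)
    · exact Or.inr (hφc s₂ f.s₂H hs)
  rcases end_cases h.pl.sq f h.pl.card_V φ hφV hφm (hφc x₁ f.x₁H h1) (hφc x₂ f.x₂H h2)
    (hφc x₃ f.x₃H h3) hs' with hall | hall
  · have e1 := hall _ (hpV a₀ ha₀ ha₀1)
    rw [hφ a₀ ha₀ ha₀1] at e1
    apply ha₀b
    have e2 : b * a₀ * b⁻¹ * a₀⁻¹ = 1 := e1
    calc a₀ * b = (b * a₀ * b⁻¹ * a₀⁻¹)⁻¹ * (b * a₀) := by group
      _ = b * a₀ := by rw [e2, inv_one, one_mul]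
  · have hid : ∀ a ∈ A, a ^ (2 ^ (k + 1)) = 1 → c b a = a ^ (2 ^ k) := fun a ha ha1 => by
      rw [← hφ a ha ha1]
      exact hall _ (hpV a ha ha1)
    -- products of conjugates under `x`
    have hB : ∀ n : ℕ, (b * x) ^ n * (x ^ n)⁻¹ ∈ Q ∧
        (∀ a ∈ A, a ^ (2 ^ k) = 1 → (b * x) ^ n * (x ^ n)⁻¹ * a = a * ((b * x) ^ n * (x ^ n)⁻¹)) ∧
        ∀ a ∈ A, a ^ (2 ^ (k + 1)) = 1 → c ((b * x) ^ n * (x ^ n)⁻¹) a = (a ^ (2 ^ k)) ^ n := by
      intro n
      induction n with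
      | zero =>
        refine ⟨by simp, fun a _ _ => by simp, fun a _ _ => by simp [hc]⟩
      | succ n ih =>
        obtain ⟨i1, i2, i3⟩ := ih
        set B := (b * x) ^ n * (x ^ n)⁻¹ with hBdef
        have e : (b * x) ^ (n + 1) * (x ^ (n + 1))⁻¹ = b * (x * B * x⁻¹) := by
          rw [pow_succ' (b * x), pow_succ x, hBdef]; group
        rw [e]
        have hxQ : x * B * x⁻¹ ∈ Q := conj_mem h.HQ h.xH i1
        have hx' : ∀ a ∈ A, x⁻¹ * a * x ∈ A := fun a ha => by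
          have := conj_mem hA.HA (H.inv_mem h.xH) ha
          rwa [inv_inv] at this
        have hpow' : ∀ (a : G) (m : ℕ), (x⁻¹ * a * x) ^ m = x⁻¹ * a ^ m * x := fun a m => by
          have := conj_pow (i := m) (a := x⁻¹) (b := a)
          rwa [inv_inv] at this
        have hxk : ∀ a ∈ A, a ^ (2 ^ k) = 1 → (x * B * x⁻¹) * a = a * (x * B * x⁻¹) := by
          intro a ha ha1
          have h4 := i2 _ (hx' a ha) (by rw [hpow', ha1]; group)
          calc (x * B * x⁻¹) * a = x * (B * (x⁻¹ * a * x)) * x⁻¹ := by group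
            _ = x * ((x⁻¹ * a * x) * B) * x⁻¹ := by rw [h4]
            _ = a * (x * B * x⁻¹) := by group
        have hxc : ∀ a ∈ A, a ^ (2 ^ (k + 1)) = 1 → c (x * B * x⁻¹) a = (a ^ (2 ^ k)) ^ n := by
          intro a ha ha1
          have h4 := i3 _ (hx' a ha) (by rw [hpow', ha1]; group)
          have e1 : c (x * B * x⁻¹) a = x * c B (x⁻¹ * a * x) * x⁻¹ := by simp only [hc]; group
          rw [e1, h4, hpow', hpow']
          group
        refine ⟨Q.mul_mem hbQ hxQ, ?_, ?_⟩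
        · intro a ha ha1
          calc b * (x * B * x⁻¹) * a = b * ((x * B * x⁻¹) * a) := by group
            _ = b * (a * (x * B * x⁻¹)) := by rw [hxk a ha ha1]
            _ = (b * a) * (x * B * x⁻¹) := by group
            _ = (a * b) * (x * B * x⁻¹) := by rw [hbk a ha ha1]
            _ = a * (b * (x * B * x⁻¹)) := by group
        · intro a ha ha1
          rw [hcl b hbQ _ a (by
            rw [hxc a ha ha1]
            exact V.pow_mem (hpV a ha ha1) n), hxc a ha ha1, hid a ha ha1, pow_succ]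
    obtain ⟨i1, i2, i3⟩ := hB 7
    have hx7 : x ^ 7 = 1 := by rw [← h.x7]; exact pow_orderOf_eq_one x
    rw [hx7, inv_one, mul_one] at i1 i2 i3
    have hBA : (b * x) ^ 7 ∈ A := by
      refine h.mem_of_fix hA.AQ (hA.HA h.xH) i1 ?_
      have e1 : x * (b * x) ^ 7 * x⁻¹ = b⁻¹ * (b * x) ^ 7 * b := by
        have e2 := conj_pow (i := 7) (a := x) (b := b * x)
        have e3 := conj_pow (i := 7) (a := b⁻¹) (b := b * x)
        rw [inv_inv] at e3
        rw [← e2, ← e3]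
        congr 1
        group
      have e4 : x * (b * x) ^ 7 * x⁻¹ * ((b * x) ^ 7)⁻¹ =
          b⁻¹ * ((b * x) ^ 7 * b * ((b * x) ^ 7)⁻¹ * b⁻¹) * b⁻¹⁻¹ := by
        rw [e1]; group
      rw [e4]
      exact (mem_normalizer_iff.mp (hn (Q.inv_mem hbQ)) _).mp (hb.2.2 _ i1)
    have h5 := i3 a₀ ha₀ ha₀1
    have h6 : c ((b * x) ^ 7) a₀ = 1 := by
      rw [hc, hA.comm _ hBA a₀ ha₀]; group
    rw [h6] at h5
    have h7 : (a₀ ^ (2 ^ k)) ^ 2 = 1 := by rw [pow_two]; exact h.pl.sq _ (hpV a₀ ha₀ ha₀1)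
    apply hv₀
    calc a₀ ^ (2 ^ k) = (a₀ ^ (2 ^ k)) ^ 7 * ((a₀ ^ (2 ^ k)) ^ 2)⁻¹ ^ 3 := by group
      _ = 1 := by rw [← h5, h7]; group

theorem comm_left {a u v : G} (hau : a * u = u * a) (hav : a * v = v * a) :
    (a * u) * v * (a * u)⁻¹ * v⁻¹ = u * v * u⁻¹ * v⁻¹ := by
  have h1 : Commute a (u * v * u⁻¹) := by
    have h2 : Commute a u := hau
    have h3 : Commute a v := hav
    exact (h2.mul_right h3).mul_right h2.inv_right
  calc (a * u) * v * (a * u)⁻¹ * v⁻¹ = (a * (u * v * u⁻¹)) * a⁻¹ * v⁻¹ := by group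
    _ = ((u * v * u⁻¹) * a) * a⁻¹ * v⁻¹ := by rw [h1.eq]
    _ = u * v * u⁻¹ * v⁻¹ := by group

theorem comm_right {a u v : G} (hau : a * u = u * a) (hav : a * v = v * a) :
    u * (a * v) * u⁻¹ * (a * v)⁻¹ = u * v * u⁻¹ * v⁻¹ := by
  have h1 : Commute a (u * v * u⁻¹ * v⁻¹) := by
    have h2 : Commute a u := hau
    have h3 : Commute a v := hav
    exact ((h2.mul_right h3).mul_right h2.inv_right).mul_right h3.inv_right
  calc u * (a * v) * u⁻¹ * (a * v)⁻¹ = (u * a) * v * u⁻¹ * v⁻¹ * a⁻¹ := by group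
    _ = (a * u) * v * u⁻¹ * v⁻¹ * a⁻¹ := by rw [hau]
    _ = (a * (u * v * u⁻¹ * v⁻¹)) * a⁻¹ := by group
    _ = ((u * v * u⁻¹ * v⁻¹) * a) * a⁻¹ := by rw [h1.eq]
    _ = u * v * u⁻¹ * v⁻¹ := by group

/-- If `b` centralises `A`, is fixed modulo `A` by the stabiliser of a point and the product of its
conjugates over a line is trivial, then `b` commutes with its reflection. -/
theorem comm_refl [Finite G] (h : Thin H Q V x w) (f : Frame H V e₁ e₂ e₃ x₁ x₂ x₃ s₁ s₂)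
    (hA : Ab H Q V A) {hn : Q ≤ normalizer (A : Set G)} {b : G} (hb : b ∈ om Q A hn)
    (hc : ∀ a ∈ A, a * b = b * a) (h1 : x₁ ∈ stab A b) (h2 : x₂ ∈ stab A b) (h3 : x₃ ∈ stab A b)
    (hp : b * cj s₁ b * cj x₁ (cj s₁ b) ∈ A) : b * cj s₁ b = cj s₁ b * b := by
  have r := f.relMod h.pl
  set c := cj s₁ b with hcdef
  have hcQ : c ∈ Q := conj_mem h.HQ f.s₁H hb.1
  have hcc : ∀ a ∈ A, a * c = c * a := by
    intro a ha
    have ha' : s₁⁻¹ * a * s₁ ∈ A := by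
      have := conj_mem hA.HA (H.inv_mem f.s₁H) ha
      rwa [inv_inv] at this
    calc a * c = s₁ * ((s₁⁻¹ * a * s₁) * b) * s₁⁻¹ := by rw [hcdef, cj]; group
      _ = s₁ * (b * (s₁⁻¹ * a * s₁)) * s₁⁻¹ := by rw [hc _ ha']
      _ = c * a := by rw [hcdef, cj]; group
  set κ := b * c * b⁻¹ * c⁻¹ with hκ
  have hκA : κ ∈ A := by
    have e : κ = (c * b * c⁻¹ * b⁻¹)⁻¹ := by rw [hκ]; group
    rw [e]
    exact A.inv_mem (hb.2.2 c hcQ)
  have hbcb : b * c * b⁻¹ = κ * c := by rw [hκ]; group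
  have hκκ : κ * κ = 1 := by
    have e1 : (b * b) * c = c * (b * b) := hcc _ hb.2.1
    have e2 : c = κ * κ * c := by
      calc c = (b * b) * c * (b * b)⁻¹ := by rw [e1]; group
        _ = b * (b * c * b⁻¹) * b⁻¹ := by group
        _ = (b * κ) * c * b⁻¹ := by rw [hbcb]; group
        _ = (κ * b) * c * b⁻¹ := by rw [hc κ hκA]
        _ = κ * (b * c * b⁻¹) := by group
        _ = κ * κ * c := by rw [hbcb]; group
    exact (mul_eq_right.mp e2.symm)
  have hκV : κ ∈ V := hA.mem_V h hκA hκκ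
  have hκi : κ⁻¹ = κ := inv_eq_of_mul_eq_one_right hκκ
  have hcj : ∀ g, cj g κ = cj g b * cj g c * (cj g b)⁻¹ * (cj g c)⁻¹ := fun g => by
    rw [hκ]; simp only [cj]; group
  have hst : ∀ g ∈ stab A b, ∃ a ∈ A, cj g b = a * b := fun g hg =>
    ⟨_, hg.2, by rw [cj]; group⟩
  have hs1 : cj s₁ κ = κ := by
    have e1 : s₁ * s₁ ∈ Q := by
      have := Q.inv_mem r.s1
      rwa [mul_one, inv_inv] at this
    have e2 : cj s₁ c = (s₁ * s₁ * b * (s₁ * s₁)⁻¹ * b⁻¹) * b := by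
      rw [hcdef, ← cj_mul, cj]; group
    have e3 := hb.2.2 _ e1
    rw [hcj, ← hcdef, e2, comm_right (hcc _ e3) (hc _ e3)]
    have e4 : c * b * c⁻¹ * b⁻¹ = κ⁻¹ := by rw [hκ]; group
    rw [e4, hκi]
  have hx1 : cj x₁ κ = κ := by
    obtain ⟨a, ha, hab⟩ := hst x₁ h1
    set n := b * c * cj x₁ c with hn'
    have e1 : cj x₁ c = n * (c⁻¹ * b⁻¹) := by
      have e2 : cj x₁ c = (c⁻¹ * b⁻¹) * n := by rw [hn']; group
      have e3 : Commute n (c⁻¹ * b⁻¹) := by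
        have h4 : Commute n c := hcc n hp
        have h5 : Commute n b := hc n hp
        exact h4.inv_right.mul_right h5.inv_right
      rw [e2, e3.eq]
    have e4 : ∀ a ∈ A, a * (c⁻¹ * b⁻¹) = (c⁻¹ * b⁻¹) * a := fun a ha => by
      have h4 : Commute a c := hcc a ha
      have h5 : Commute a b := hc a ha
      exact (h4.inv_right.mul_right h5.inv_right).eq
    have e5 : a * (n * (c⁻¹ * b⁻¹)) = (n * (c⁻¹ * b⁻¹)) * a := by
      have h4 : Commute a n := hA.comm a ha n hp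
      have h5 : Commute a (c⁻¹ * b⁻¹) := e4 a ha
      exact (h4.mul_right h5).eq
    rw [hcj, hab, e1, comm_left (hc a ha) e5, comm_right (hc n hp) (e4 n hp)]
    have e6 : b * (c⁻¹ * b⁻¹) * b⁻¹ * (c⁻¹ * b⁻¹)⁻¹ = (b * c * b⁻¹)⁻¹ * c := by group
    rw [e6, hbcb]
    calc (κ * c)⁻¹ * c = c⁻¹ * (κ⁻¹ * c) := by group
      _ = c⁻¹ * (c * κ⁻¹) := by rw [hcc _ (A.inv_mem hκA)]
      _ = κ := by rw [hκi]; group
  have hx2 : cj x₂ κ = κ := by
    obtain ⟨a, ha, hab⟩ := hst x₂ h2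
    obtain ⟨a₃, ha₃, hab₃⟩ := hst x₃ h3
    set q := (x₂ * s₁)⁻¹ * (s₁ * x₃) with hq
    have e1 : cj x₂ c = cj s₁ (cj x₃ (cj q⁻¹ b)) := by
      rw [hcdef, ← cj_mul, ← cj_mul, ← cj_mul, hq]
      congr 1
      group
    have e2 := hb.2.2 _ (Q.inv_mem r.sx1')
    have e3 : cj q⁻¹ b = (q⁻¹ * b * q⁻¹⁻¹ * b⁻¹) * b := by rw [cj]; group
    have e4 : cj x₂ c = (cj s₁ (cj x₃ (q⁻¹ * b * q⁻¹⁻¹ * b⁻¹) * a₃)) * c := by
      rw [e1, e3, cj_map, hab₃, ← mul_assoc, cj_map, ← hcdef]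
    have e5 : cj s₁ (cj x₃ (q⁻¹ * b * q⁻¹⁻¹ * b⁻¹) * a₃) ∈ A :=
      conj_mem hA.HA f.s₁H (A.mul_mem (conj_mem hA.HA f.x₃H e2) ha₃)
    have e6 : a * (cj s₁ (cj x₃ (q⁻¹ * b * q⁻¹⁻¹ * b⁻¹) * a₃) * c) =
        (cj s₁ (cj x₃ (q⁻¹ * b * q⁻¹⁻¹ * b⁻¹) * a₃) * c) * a := by
      have h4 : Commute a _ := hA.comm a ha _ e5
      have h5 : Commute a c := hcc a ha
      exact (h4.mul_right h5).eq
    rw [hcj, hab, e4, comm_left (hc a ha) e6, comm_right (hc _ e5) (hcc _ e5)]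
  have hκ1 := eq_one_of_fixed h.pl.sq f h.pl.card_V hκV hx1 hx2 hs1
  calc b * c = κ * (c * b) := by rw [hκ]; group
    _ = c * b := by rw [hκ1, one_mul]

/-- `b` commutes with all its conjugates. -/
theorem comm_conj [Finite G] (h : Thin H Q V x w) (f : Frame H V e₁ e₂ e₃ x₁ x₂ x₃ s₁ s₂)
    (hA : Ab H Q V A) {hn : Q ≤ normalizer (A : Set G)} {b : G} (hb : b ∈ om Q A hn)
    (hc : ∀ a ∈ A, a * b = b * a) (h1 : x₁ ∈ stab A b) (h2 : x₂ ∈ stab A b) (h3 : x₃ ∈ stab A b)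
    (h4 : s₂ ∈ stab A b) (hp : b * cj s₁ b * cj x₁ (cj s₁ b) ∈ A) {g : G} (hg : g ∈ H) :
    b * cj g b = cj g b * b := by
  have hbc := comm_refl h f hA hb hc h1 h2 h3 hp
  have hQK : Q ≤ stab A b := fun q hq => ⟨hn hq, hb.2.2 q hq⟩
  have hst : ∀ g ∈ stab A b, ∃ a ∈ A, cj g b = a * b := fun g hg =>
    ⟨_, hg.2, by rw [cj]; group⟩
  have hccj : ∀ g ∈ H, ∀ u : G, (∀ a ∈ A, a * u = u * a) → ∀ a ∈ A, a * cj g u = cj g u * a := by
    intro g hg u hu a ha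
    have ha' : g⁻¹ * a * g ∈ A := by
      have := conj_mem hA.HA (H.inv_mem hg) ha
      rwa [inv_inv] at this
    calc a * cj g u = g * ((g⁻¹ * a * g) * u) * g⁻¹ := by rw [cj]; group
      _ = g * (u * (g⁻¹ * a * g)) * g⁻¹ := by rw [hu _ ha']
      _ = cj g u * a := by rw [cj]; group
  by_cases hge : cj g e₁ = e₁
  · obtain ⟨a, ha, hab⟩ := hst g (stab_le h.pl.sq f h.pl hQK h1 h2 h3 h4 hg hge)
    rw [hab, ← mul_assoc, ← hc a ha]
  · have hvV : cj g e₁ ∈ V := conj_mem h.pl.HV hg f.bas.aV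
    have hv1 : cj g e₁ ≠ 1 := fun h' => f.bas.a1 (cj_inj (g := g) (h'.trans (cj_one g).symm))
    obtain ⟨k, hkK, hkH, hk1, hk2⟩ := exists_in_stab h.pl.sq f h.pl.card_V h1 h2 h3 h4 hvV hv1 hge
    set g' := (k * s₁)⁻¹ * g with hg'
    have hg'H : g' ∈ H := H.mul_mem (H.inv_mem (H.mul_mem hkH f.s₁H)) hg
    have hg'e : cj g' e₁ = e₁ := by
      apply cj_inv_mul
      rw [cj_mul, show cj s₁ e₁ = e₂ from f.s11, hk2]
    obtain ⟨a, ha, hab⟩ := hst g' (stab_le h.pl.sq f h.pl hQK h1 h2 h3 h4 hg'H hg'e)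
    obtain ⟨a₂, ha₂, hab₂⟩ := hst k hkK
    have e1 : cj g b = cj k (cj s₁ a) * cj k (cj s₁ b) := by
      have e2 : g = k * (s₁ * g') := by rw [hg']; group
      rw [e2, cj_mul, cj_mul, hab, cj_map, cj_map]
    have ha₁ : cj k (cj s₁ a) ∈ A := conj_mem hA.HA hkH (conj_mem hA.HA f.s₁H ha)
    have hcA : ∀ a ∈ A, a * cj k (cj s₁ b) = cj k (cj s₁ b) * a :=
      hccj k hkH _ (hccj s₁ f.s₁H b hc)
    have e3 : Commute (cj k b) (cj k (cj s₁ b)) := by
      show cj k b * cj k (cj s₁ b) = cj k (cj s₁ b) * cj k b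
      rw [← cj_map, ← cj_map, hbc]
    have e4 : b = a₂⁻¹ * cj k b := by rw [hab₂]; group
    have e5 : Commute a₂⁻¹ (cj k (cj s₁ b)) := hcA _ (A.inv_mem ha₂)
    have e6 : Commute b (cj k (cj s₁ b)) := by
      have e8 : Commute (a₂⁻¹ * cj k b) (cj k (cj s₁ b)) := Commute.mul_left e5 e3
      rw [← e4] at e8
      exact e8
    have e7 : Commute b (cj k (cj s₁ a)) := (hc _ ha₁).symm
    rw [e1]
    exact (e7.mul_right e6).eq

end steps

/-- An abelian invariant subgroup `A < Q` containing `V` is not maximal. -/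
theorem exists_larger [Finite G] (h : Thin H Q V x w) {A : Subgroup G} (hA : Ab H Q V A)
    (hne : A ≠ Q) : ∃ D : Subgroup G, Ab H Q V D ∧ A < D := by
  obtain ⟨e₁, e₂, e₃, x₁, x₂, x₃, s₁, s₂, f, -, hw⟩ := exists_frame h
  obtain ⟨b, hbQ, hbA, hbb, hbq, k1, k2, k3, k4⟩ := exists_fixed_mod h f hA.AQ hA.HA hne
  have hn : Q ≤ normalizer (A : Set G) := h.QH.trans hA.HA
  have hb : b ∈ om Q A hn := ⟨hbQ, hbb, hbq⟩
  have h1 : x₁ ∈ stab A b := ⟨hA.HA f.x₁H, k1⟩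
  have h2 : x₂ ∈ stab A b := ⟨hA.HA f.x₂H, k2⟩
  have h3 : x₃ ∈ stab A b := ⟨hA.HA f.x₃H, k3⟩
  have hc := comm_of_fixed h f hA hb h1 h2 h3 (k4.imp (fun k => ⟨hA.HA f.s₁H, k⟩)
    (fun k => ⟨hA.HA f.s₂H, k.1⟩))
  rcases k4 with k4 | ⟨k4, hp⟩
  · exact (false_of_line h f hw hA hb hbA hc h1 h2 ⟨hA.HA f.s₁H, k4⟩).elim
  have hconj : ∀ g ∈ H, b * cj g b = cj g b * b := fun g hg =>
    comm_conj h f hA hb hc h1 h2 h3 ⟨hA.HA f.s₂H, k4⟩ hp hg
  have hccj : ∀ g ∈ H, ∀ a ∈ A, a * cj g b = cj g b * a := by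
    intro g hg a ha
    have ha' : g⁻¹ * a * g ∈ A := by
      have := conj_mem hA.HA (H.inv_mem hg) ha
      rwa [inv_inv] at this
    calc a * cj g b = g * ((g⁻¹ * a * g) * b) * g⁻¹ := by rw [cj]; group
      _ = g * (b * (g⁻¹ * a * g)) * g⁻¹ := by rw [hc _ ha']
      _ = cj g b * a := by rw [cj]; group
  have hpair : ∀ g ∈ H, ∀ g' ∈ H, cj g b * cj g' b = cj g' b * cj g b := by
    intro g hg g' hg'
    have e1 := hconj (g⁻¹ * g') (H.mul_mem (H.inv_mem hg) hg')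
    have e2 : cj g' b = cj g (cj (g⁻¹ * g') b) := by rw [← cj_mul]; congr 1; group
    rw [e2, ← cj_map, ← cj_map, e1]
  set S : Set G := (A : Set G) ∪ {y | ∃ g ∈ H, y = cj g b} with hS
  set D := closure S with hD
  have hSc : ∀ a ∈ S, ∀ c ∈ S, a * c = c * a := by
    rintro a (ha | ⟨g, hg, rfl⟩) c (hc' | ⟨g', hg', rfl⟩)
    · exact hA.comm a ha c hc'
    · exact hccj g' hg' a ha
    · exact (hccj g hg c hc').symm
    · exact hpair g hg g' hg'
  have hDc : D ≤ centralizer (D : Set G) := by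
    rw [hD, centralizer_closure, closure_le]
    intro a ha
    rw [SetLike.mem_coe, mem_centralizer_iff]
    exact fun c hc' => hSc c hc' a ha
  refine ⟨D, ⟨hA.VA.trans ?_, ?_, ?_, ?_⟩, lt_of_le_of_ne ?_ ?_⟩
  · exact fun a ha => subset_closure (Or.inl ha)
  · rw [hD, closure_le]
    rintro a (ha | ⟨g, hg, rfl⟩)
    · exact hA.AQ ha
    · exact conj_mem h.HQ hg hbQ
  · intro g hg
    apply mem_normalizer_fintype
    intro d hd
    rw [SetLike.mem_coe] at hd ⊢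
    induction hd using closure_induction with
    | mem y hy =>
      rcases hy with hy | ⟨g', hg', rfl⟩
      · exact subset_closure (Or.inl (conj_mem hA.HA hg hy))
      · refine subset_closure (Or.inr ⟨g * g', H.mul_mem hg hg', ?_⟩)
        rw [cj_mul]; rfl
    | one => simp
    | mul y z _ _ hy hz =>
      have e : g * (y * z) * g⁻¹ = (g * y * g⁻¹) * (g * z * g⁻¹) := by group
      rw [e]
      exact D.mul_mem hy hz
    | inv y _ hy =>
      have e : g * y⁻¹ * g⁻¹ = (g * y * g⁻¹)⁻¹ := by group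
      rw [e]
      exact D.inv_mem hy
  · intro a ha c hc'
    exact mem_centralizer_iff.mp (hDc hc') a ha
  · exact fun a ha => subset_closure (Or.inl ha)
  · intro he
    apply hbA
    rw [he]
    exact subset_closure (Or.inr ⟨1, H.one_mem, (one_cj b).symm⟩)

/-- `Q` is abelian. -/
theorem ab_self [Finite G] (h : Thin H Q V x w) : Ab H Q V Q := by
  let s : Set (Subgroup G) := {A | Ab H Q V A}
  have hV : V ∈ s := ⟨le_rfl, h.VQ, h.pl.HV, fun a ha b hb => comm_of_sq h.pl.sq ha hb⟩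
  obtain ⟨A, hA, hmax⟩ := (Set.toFinite s).exists_maximal ⟨V, hV⟩
  by_cases hne : A = Q
  · rw [← hne]
    have h1 : Ab H Q V A := hA
    exact ⟨h1.VA, le_rfl, h1.HA, h1.comm⟩
  · obtain ⟨D, hD, hlt⟩ := exists_larger h hA hne
    exact absurd (hmax hD hlt.le) hlt.not_ge

theorem card_ker_succ {A : Type*} [CommGroup A] [Finite A] (n : ℕ)
    (hs : ∀ v : A, v ^ 2 = 1 → ∃ a : A, a ^ n = v) :
    Nat.card (powMonoidHom (n * 2) : A →* A).ker =
      Nat.card (powMonoidHom n : A →* A).ker * Nat.card (powMonoidHom 2 : A →* A).ker := by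
  have hmem : ∀ m (a : A), a ∈ (powMonoidHom m : A →* A).ker ↔ a ^ m = 1 := fun m a => Iff.rfl
  let F : (powMonoidHom (n * 2) : A →* A).ker →* (powMonoidHom 2 : A →* A).ker :=
    { toFun := fun a => ⟨(a : A) ^ n, by
        rw [hmem, ← pow_mul]
        exact a.2⟩
      map_one' := Subtype.ext (one_pow n)
      map_mul' := fun a b => Subtype.ext (mul_pow (a : A) b n) }
  have hF : Function.Surjective F := by
    rintro ⟨v, hv⟩
    obtain ⟨a, ha⟩ := hs v hv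
    refine ⟨⟨a, ?_⟩, Subtype.ext ha⟩
    rw [hmem, pow_mul, ha]
    exact hv
  have h1 : Nat.card F.ker * Nat.card F.range = Nat.card (powMonoidHom (n * 2) : A →* A).ker := by
    rw [← Subgroup.index_ker]
    exact Subgroup.card_mul_index _
  have h2 : Nat.card F.range = Nat.card (powMonoidHom 2 : A →* A).ker := by
    rw [MonoidHom.range_eq_top.mpr hF, Subgroup.card_top]
  have h3 : Nat.card F.ker = Nat.card (powMonoidHom n : A →* A).ker := by
    refine Nat.card_congr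
      { toFun := fun a => ⟨((a : (powMonoidHom (n * 2) : A →* A).ker) : A), ?_⟩
        invFun := fun a => ⟨⟨a, ?_⟩, ?_⟩
        left_inv := fun _ => rfl
        right_inv := fun _ => rfl }
    · rw [hmem]
      exact congrArg Subtype.val (MonoidHom.mem_ker.mp a.2)
    · rw [hmem, pow_mul]
      rw [(hmem n a).mp a.2, one_pow]
    · rw [MonoidHom.mem_ker]
      exact Subtype.ext a.2
  rw [← h1, h2, h3]

/-- **The 2-group `Q` is homocyclic of rank 3.** -/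
theorem homo [Finite G] (h : Thin H Q V x w) :
    (∀ a ∈ Q, ∀ b ∈ Q, a * b = b * a) ∧ (∀ a ∈ Q, a * a = 1 → a ∈ V) ∧
      ∃ m, 1 ≤ m ∧ Nat.card Q = 8 ^ m ∧ (∀ q ∈ Q, q ^ (2 ^ (m - 1)) ∈ V) ∧
        ∀ v ∈ V, ∃ q ∈ Q, q ^ (2 ^ (m - 1)) = v := by
  have hA := ab_self h
  obtain ⟨j, hV, hsurj, -⟩ := hA.exists_pow h
  refine ⟨hA.comm, fun a ha haa => hA.mem_V h ha haa, j + 1, by omega, ?_, ?_, ?_⟩
  · have hcommA : ∀ a b : Q, a * b = b * a := fun a b => Subtype.ext (hA.comm a a.2 b b.2)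
    let instA : CommGroup Q := { (inferInstance : Group Q) with mul_comm := hcommA }
    have hmem : ∀ m (a : Q), a ∈ (powMonoidHom m : Q →* Q).ker ↔ a ^ m = 1 := fun m a => Iff.rfl
    have hk2 : Nat.card (powMonoidHom 2 : Q →* Q).ker = 8 := by
      rw [← h.pl.card_V]
      refine Nat.card_congr
        { toFun := fun a => ⟨((a : Q) : G), ?_⟩
          invFun := fun v => ⟨⟨v, hA.VA v.2⟩, ?_⟩
          left_inv := fun _ => rfl
          right_inv := fun _ => rfl }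
      · refine hA.mem_V h a.1.2 ?_
        have := congrArg Subtype.val ((hmem 2 _).mp a.2)
        rw [pow_two] at this
        exact this
      · rw [hmem, pow_two]
        exact Subtype.ext (h.pl.sq v v.2)
    have hall : ∀ i, i ≤ j + 1 → Nat.card (powMonoidHom (2 ^ i) : Q →* Q).ker = 8 ^ i := by
      intro i
      induction i with
      | zero =>
        intro _
        have : (powMonoidHom (2 ^ 0) : Q →* Q).ker = ⊥ := by
          ext a
          rw [hmem, pow_zero, pow_one, mem_bot]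
        rw [this, Subgroup.card_bot, pow_zero]
      | succ i ih =>
        intro hi
        rw [pow_succ 2 i, card_ker_succ (2 ^ i), ih (by omega), hk2, ← pow_succ]
        intro v hv
        have hvV : (v : G) ∈ V := by
          refine hA.mem_V h v.2 ?_
          have := congrArg Subtype.val hv
          rw [pow_two] at this
          exact this
        obtain ⟨a, ha, hav⟩ := hsurj v hvV
        refine ⟨⟨a, ha⟩ ^ (2 ^ (j - i)), Subtype.ext ?_⟩
        show (a ^ (2 ^ (j - i))) ^ (2 ^ i) = (v : G)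
        rw [← pow_mul, ← pow_add, Nat.sub_add_cancel (by omega), hav]
    have h1 := hall (j + 1) le_rfl
    have h2 : (powMonoidHom (2 ^ (j + 1)) : Q →* Q).ker = ⊤ := by
      rw [eq_top_iff]
      intro a _
      rw [hmem]
      refine Subtype.ext ?_
      show (a : G) ^ (2 ^ (j + 1)) = 1
      rw [pow_succ, pow_mul, pow_two]
      exact h.pl.sq _ (hV a a.2)
    rw [h2, Subgroup.card_top] at h1
    exact h1
  · rw [Nat.add_sub_cancel]; exact hV
  · rw [Nat.add_sub_cancel]; exact hsurj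

end Cfsg.Agent.SmallSimple.S1000.ThinHomo
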