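import Mathlib
import Cfsg.Agent.SmallSimple.S1000.Setup
import Cfsg.Agent.SmallSimple.S1000.FrameAut
import Cfsg.Agent.SmallSimple.S1000.ThinPlane
import Cfsg.Agent.SmallSimple.S1000.ThinStrong
import Cfsg.Agent.MinSimple.Nonsolv

/-!
# The thin case, `L₃(2)` acting on a homocyclic group of exponent at least 4

`M = N_G(Q)`, `Q` homocyclic of rank 3 and exponent `2 ^ m ≥ 4`, `V = Ω₁(Q)`, `M / Q = GL(V)`.  If
`|T : O₂(C_G(z)) ∩ T| ≤ 2` for all involutions `z` and 2-subgroups `T` of `C_G(z)`, then `M` is strongly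
embedded in `G` (or equal to `G`).
-/

set_option autoImplicit false

namespace Cfsg.Agent.SmallSimple.S1000.ThinLinear

open Subgroup Cfsg Cfsg.Agent.ZN Cfsg.Agent.MinSimple.Basic Cfsg.Agent.MinSimple.VModule
  Cfsg.Agent.SmallSimple.S1000.ThinPlane

variable {G : Type*} [Group G]

section Rho

variable {M Q V : Subgroup G}

/-- The action of `M` on `V`. -/
def rho (h : M ≤ normalizer (V : Set G)) : M →* MulAut V :=
  V.normalizerMonoidHom.comp (inclusion h)

theorem coe_rho (h : M ≤ normalizer (V : Set G)) (g : M) (v : V) :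
    ((rho h g v : V) : G) = g * v * (g : G)⁻¹ := rfl

theorem rho_eq_one_iff (P : Plane M Q V) (g : M) : rho P.HV g = 1 ↔ (g : G) ∈ Q := by
  constructor
  · intro h
    refine P.cent ⟨g.2, mem_centralizer_iff.mpr fun v hv => ?_⟩
    have h1 := congrArg Subtype.val (DFunLike.congr_fun h (⟨v, hv⟩ : V))
    rw [coe_rho] at h1
    have h2 : (g : G) * v * (g : G)⁻¹ = v := h1
    calc v * g = (g * v * (g : G)⁻¹) * g := by rw [h2]
      _ = g * v := by group
  · intro h
    refine MulEquiv.ext fun v => Subtype.ext ?_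
    rw [coe_rho, MulAut.one_apply, ← (mem_centralizer_iff.mp (P.QV h)) v v.2]
    group

theorem sqV (P : Plane M Q V) (x : V) : x * x = 1 := Subtype.ext (P.sq x x.2)

theorem finV (P : Plane M Q V) : Finite V := Nat.finite_of_card_ne_zero (by rw [P.card_V]; norm_num)

theorem finAut (P : Plane M Q V) : Finite (MulAut V) :=
  Nat.finite_of_card_ne_zero (by rw [FrameAut.card_mulAut (sqV P) P.card_V]; norm_num)

/-- `M` induces all automorphisms of `V`. -/
theorem rho_surjective [Finite G] (P : Plane M Q V) : Function.Surjective (rho P.HV) := by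
  have hf := finAut P
  have h1 : (rho P.HV).ker = Q.subgroupOf M := by
    ext g
    rw [MonoidHom.mem_ker, rho_eq_one_iff P, mem_subgroupOf]
  have h2 : Nat.card (rho P.HV).range = 168 := by
    have h3 : Nat.card (rho P.HV).range * Nat.card (rho P.HV).ker = Nat.card M := by
      rw [mul_comm, ← Subgroup.index_ker]
      exact (rho P.HV).ker.card_mul_index
    have h4 : Nat.card (Q.subgroupOf M) = Nat.card Q :=
      Nat.card_congr (subgroupOfEquivOfLe P.QH).toEquiv
    rw [h1, h4, P.card_H] at h3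
    exact Nat.eq_of_mul_eq_mul_right Nat.card_pos h3
  rw [← MonoidHom.range_eq_top]
  refine Subgroup.eq_top_of_card_eq _ ?_
  rw [h2, FrameAut.card_mulAut (sqV P) P.card_V]

theorem card_two_le (P : Plane M Q V) {D : Subgroup (MulAut V)} (hD : IsPGroup 2 D) :
    Nat.card D ≤ 8 := by
  have hf : Fact (Nat.Prime 2) := ⟨Nat.prime_two⟩
  have hfin := finAut P
  obtain ⟨n, hn⟩ := IsPGroup.iff_card.mp hD
  have hdvd : 2 ^ n ∣ 168 := by
    rw [← hn, ← FrameAut.card_mulAut (sqV P) P.card_V]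
    exact card_subgroup_dvd_card D
  have hn3 : n ≤ 3 := by
    by_contra hcon
    have h1 : 2 ^ 4 ∣ 168 := (pow_dvd_pow 2 (by omega)).trans hdvd
    norm_num at h1
  rw [hn]
  exact Nat.pow_le_pow_right (by norm_num) hn3

/-- The 2-subgroups of `M / Q` have order at most 8. -/
theorem card_le [Finite G] (P : Plane M Q V) {A : Subgroup G} (hA : IsPGroup 2 A) (hAM : A ≤ M) :
    Nat.card A ≤ 8 * Nat.card (A ⊓ Q : Subgroup G) := by
  set f : A →* MulAut V := (rho P.HV).comp (inclusion hAM) with hf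
  have h1 : f.ker = (A ⊓ Q).subgroupOf A := by
    ext g
    rw [MonoidHom.mem_ker, hf, MonoidHom.comp_apply, rho_eq_one_iff P, mem_subgroupOf]
    exact ⟨fun h => ⟨g.2, h⟩, fun h => h.2⟩
  have h3 : Nat.card f.range * Nat.card f.ker = Nat.card A := by
    rw [mul_comm, ← Subgroup.index_ker]
    exact f.ker.card_mul_index
  have h4 : Nat.card ((A ⊓ Q).subgroupOf A) = Nat.card (A ⊓ Q : Subgroup G) :=
    Nat.card_congr (subgroupOfEquivOfLe inf_le_left).toEquiv
  rw [← h3, h1, h4]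
  refine Nat.mul_le_mul_right _ (card_two_le P ?_)
  exact hA.of_surjective f.rangeRestrict f.rangeRestrict_surjective

end Rho

theorem mem_normalizer_of_forall [Finite G] {Q : Subgroup G} {g : G}
    (h : ∀ q ∈ Q, g * q * g⁻¹ ∈ Q) : g ∈ normalizer (Q : Set G) := by
  have h1 : Q.map (MulAut.conj g).toMonoidHom ≤ Q := by
    rintro _ ⟨q, hq, rfl⟩
    exact h q hq
  have h2 : Q.map (MulAut.conj g).toMonoidHom = Q := by
    apply Subgroup.eq_of_le_of_card_ge h1
    rw [Nat.card_congr (Q.equivMapOfInjective (MulAut.conj g).toMonoidHom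
      (MulAut.conj g).injective).toEquiv]
  rw [mem_normalizer_iff]
  intro q
  refine ⟨h q, fun hq => ?_⟩
  have h3 : g * q * g⁻¹ ∈ Q.map (MulAut.conj g).toMonoidHom := by rw [h2]; exact hq
  obtain ⟨r, hr, hrq⟩ := h3
  have h4 : g * r * g⁻¹ = g * q * g⁻¹ := hrq
  have h5 : r = q := mul_left_cancel (mul_right_cancel h4)
  rwa [← h5]

/-- The situation. -/
structure Lin (M Q V : Subgroup G) (m : ℕ) : Prop where
  plane : Plane M Q V
  norm : normalizer (Q : Set G) = M
  two : IsPGroup 2 Q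
  VQ : V ≤ Q
  comm : ∀ a ∈ Q, ∀ b ∈ Q, a * b = b * a
  inv : ∀ a ∈ Q, a * a = 1 → a ∈ V
  card : Nat.card Q = 8 ^ m
  pow : ∀ q ∈ Q, q ^ 2 ^ (m - 1) ∈ V
  root : ∀ v ∈ V, ∃ q ∈ Q, q ^ 2 ^ (m - 1) = v
  hm : 2 ≤ m

namespace Lin

variable {M Q V : Subgroup G} {m : ℕ} [Finite G]

/-- **Weak closure**: `g Q g⁻¹ ≤ M` implies `g ∈ M`. -/
theorem wc (h : Lin M Q V m) {g : G} (hg : ∀ q ∈ Q, g * q * g⁻¹ ∈ M) : g ∈ M := by
  have P := h.plane
  by_cases hA : ∀ v ∈ V, g * v * g⁻¹ ∈ Q
  · -- `g V g⁻¹ = V`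
    have h1 : ∀ v ∈ V, g * v * g⁻¹ ∈ V := by
      intro v hv
      refine h.inv _ (hA v hv) ?_
      have : g * v * g⁻¹ * (g * v * g⁻¹) = g * (v * v) * g⁻¹ := by group
      rw [this, P.sq v hv, mul_one, mul_inv_cancel]
    have h2 := mem_normalizer_of_forall h1
    rw [← h.norm]
    refine mem_normalizer_of_forall fun q hq => P.cent ⟨hg q hq, mem_centralizer_iff.mpr fun u hu => ?_⟩
    have hu' : g⁻¹ * u * g ∈ V := by
      have := (mem_normalizer_iff.mp h2 (g⁻¹ * u * g)).mpr (by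
        have e : g * (g⁻¹ * u * g) * g⁻¹ = u := by group
        rwa [e])
      exact this
    have h3 := h.comm _ (h.VQ hu') q hq
    calc u * (g * q * g⁻¹) = g * ((g⁻¹ * u * g) * q) * g⁻¹ := by group
      _ = g * (q * (g⁻¹ * u * g)) * g⁻¹ := by rw [h3]
      _ = g * q * g⁻¹ * u := by group
  · exfalso
    push Not at hA
    obtain ⟨v, hv, hvQ⟩ := hA
    obtain ⟨q, hq, hqv⟩ := h.root v hv
    set y : G := g * q * g⁻¹ with hy
    have hyM : y ∈ M := hg q hq
    have hyp : ∀ n : ℕ, y ^ n = g * q ^ n * g⁻¹ := fun n => by rw [hy, conj_pow]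
    obtain ⟨k, hk⟩ := h.two ⟨q, hq⟩
    have hk' : q ^ 2 ^ k = 1 := congrArg Subtype.val hk
    set σ := rho P.HV ⟨y, hyM⟩ with hσ
    have hσp : ∀ n : ℕ, σ ^ n = rho P.HV ⟨y ^ n, M.pow_mem hyM n⟩ := by
      intro n
      rw [hσ, ← map_pow]
      rfl
    have hσ2 : σ ^ 2 ^ k = 1 := by
      rw [hσp, rho_eq_one_iff P]
      show y ^ 2 ^ k ∈ Q
      rw [hyp, hk', mul_one, mul_inv_cancel]
      exact Q.one_mem
    have hσ4 := FrameAut.pow_four P.card_V hσ2
    have hy4 : y ^ 4 ∈ Q := by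
      rw [hσp, rho_eq_one_iff P] at hσ4
      exact hσ4
    have hm2 : m = 2 := by
      by_contra hm2
      have hm3 : 3 ≤ m := by have := h.hm; omega
      apply hvQ
      rw [← hqv, ← hyp]
      obtain ⟨j, hj⟩ : ∃ j, m - 1 = 2 + j := ⟨m - 3, by omega⟩
      rw [hj, pow_add, pow_mul]
      exact Q.pow_mem hy4 _
    subst hm2
    have hy2 : y ^ 2 ∉ Q := by
      intro h1
      apply hvQ
      rw [← hqv, ← hyp]
      exact h1
    have hσ1 : σ * σ ≠ 1 := by
      intro h1
      rw [← pow_two, hσp, rho_eq_one_iff P] at h1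
      exact hy2 h1
    -- the conjugate of `Q`
    set A := Q.map (MulAut.conj g).toMonoidHom with hAdef
    have hA2 : IsPGroup 2 A := h.two.map _
    have hAM : A ≤ M := by
      rintro _ ⟨r, hr, rfl⟩
      exact hg r hr
    have hAc : Nat.card A = 64 := by
      rw [hAdef, Nat.card_congr (Q.equivMapOfInjective (MulAut.conj g).toMonoidHom
        (MulAut.conj g).injective).toEquiv.symm, h.card]
      norm_num
    have hfix : ∀ x ∈ A ⊓ Q, x * x = 1 → ∃ x' : V, (x' : G) = x ∧ σ x' = x' := by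
      rintro x ⟨⟨r, hr, hrx⟩, hxQ⟩ hxx
      refine ⟨⟨x, h.inv x hxQ hxx⟩, rfl, Subtype.ext ?_⟩
      rw [hσ, coe_rho]
      show y * x * y⁻¹ = x
      have h1 : y * x = x * y := by
        have h2 : g * r * g⁻¹ = x := hrx
        rw [← h2, hy]
        calc g * q * g⁻¹ * (g * r * g⁻¹) = g * (q * r) * g⁻¹ := by group
          _ = g * (r * q) * g⁻¹ := by rw [h.comm q hq r hr]
          _ = g * r * g⁻¹ * (g * q * g⁻¹) := by group
      rw [h1]
      group
    have huniq : ∀ x ∈ A ⊓ Q, ∀ x' ∈ A ⊓ Q, x * x = 1 → x' * x' = 1 → x ≠ 1 → x' ≠ 1 → x = x' := by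
      intro x hx x' hx' hxx hxx' hx1 hx1'
      by_contra hne
      obtain ⟨u, hu, hσu⟩ := hfix x hx hxx
      obtain ⟨u', hu', hσu'⟩ := hfix x' hx' hxx'
      refine hσ1 (FrameAut.sq_eq_one_of_fixed (sqV P) P.card_V (a := u) (b := u') ?_ ?_ ?_ hσu hσu')
      · rintro rfl; exact hx1 hu.symm
      · rintro rfl; exact hx1' hu'.symm
      · rintro rfl; exact hne (hu.symm.trans hu')
    -- `|A ∩ Q| ≤ 4`
    set K := A ⊓ Q with hK
    have hKcomm : ∀ a b : K, a * b = b * a := fun a b => Subtype.ext (h.comm a a.2.2 b b.2.2)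
    let s : K →* K :=
      { toFun := fun a => a * a
        map_one' := one_mul 1
        map_mul' := fun a b => by
          rw [mul_assoc, ← mul_assoc b a b, hKcomm b a]
          simp only [mul_assoc] }
    have hs : ∀ a, s a = a * a := fun _ => rfl
    have hle2 : ∀ L : Subgroup K, (∀ a ∈ L, a * a = 1) → Nat.card L ≤ 2 := by
      intro L hL
      by_contra hcon
      push Not at hcon
      have := Fintype.ofFinite L
      rw [Nat.card_eq_fintype_card] at hcon
      obtain ⟨a, b, c, hab, hac, hbc⟩ := Fintype.two_lt_card_iff.1 hcon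
      have key : ∀ a b : L, a ≠ 1 → b ≠ 1 → a = b := by
        intro a b ha hb
        refine Subtype.ext (Subtype.ext (huniq _ a.1.2 _ b.1.2 ?_ ?_ ?_ ?_))
        · exact congrArg Subtype.val (hL a a.2)
        · exact congrArg Subtype.val (hL b b.2)
        · exact fun h => ha (Subtype.ext (Subtype.ext h))
        · exact fun h => hb (Subtype.ext (Subtype.ext h))
      by_cases ha : a = 1
      · by_cases hb : b = 1
        · exact hab (ha.trans hb.symm)
        · by_cases hc : c = 1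
          · exact hac (ha.trans hc.symm)
          · exact hbc (key b c hb hc)
      · by_cases hb : b = 1
        · by_cases hc : c = 1
          · exact hbc (hb.trans hc.symm)
          · exact hac (key a c ha hc)
        · exact hab (key a b ha hb)
    have h3 : Nat.card s.range * Nat.card s.ker = Nat.card K := by
      rw [mul_comm, ← Subgroup.index_ker]
      exact s.ker.card_mul_index
    have h4 : Nat.card s.ker ≤ 2 := hle2 _ fun a ha => ha
    have h5 : Nat.card s.range ≤ 2 := by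
      apply hle2
      rintro _ ⟨a, rfl⟩
      rw [hs]
      refine Subtype.ext ?_
      show (a : G) * a * (a * a) = 1
      have h6 := h.pow a a.2.2
      have h7 := P.sq _ h6
      simpa [pow_two] using h7
    have h8 : Nat.card K ≤ 4 := by
      rw [← h3]
      exact Nat.mul_le_mul h5 h4
    have h9 := ThinLinear.card_le P hA2 hAM
    rw [← hK, hAc] at h9
    omega

omit [Finite G] in
theorem Q_le (h : Lin M Q V m) {v : G} (hv : v ∈ V) : Q ≤ centralizer ({v} : Set G) :=
  h.plane.QV.trans (centralizer_le (Set.singleton_subset_iff.mpr hv))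

/-- `C_G(v) ≤ M` for `1 ≠ v ∈ V`. -/
theorem centralizer_le_M (h : Lin M Q V m)
    (T2 : ∀ z : G, orderOf z = 2 → ∀ T : Subgroup G, T ≤ centralizer ({z} : Set G) → IsPGroup 2 T →
      Nat.card T ≤ 2 * Nat.card (T ⊓ o2 (centralizer ({z} : Set G)) : Subgroup G))
    {v : G} (hv : v ∈ V) (hv1 : v ≠ 1) : centralizer ({v} : Set G) ≤ M := by
  have hf : Fact (Nat.Prime 2) := ⟨Nat.prime_two⟩
  have P := h.plane
  set X := centralizer ({v} : Set G) with hX
  have hvo : orderOf v = 2 := orderOf_eq_prime (by rw [pow_two]; exact P.sq v hv) hv1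
  let s : Set (Subgroup G) := {T | IsPGroup 2 T ∧ Q ≤ T ∧ T ≤ X ∧ T ≤ M}
  obtain ⟨T, ⟨hT2, hQT, hTX, hTM⟩, hmax⟩ := (Set.toFinite s).exists_maximal
    ⟨Q, h.two, le_rfl, h.Q_le hv, P.QH⟩
  have hNT : ∀ x ∈ normalizer (T : Set G), x ∈ M := by
    intro x hx
    exact h.wc fun q hq => hTM ((mem_normalizer_iff.mp hx q).mp (hQT hq))
  -- 2-elements of `X ∩ M` normalising `T` lie in `T`
  have hmem : ∀ x ∈ X, x ∈ normalizer (T : Set G) → (∃ k : ℕ, x ^ 2 ^ k = 1) → x ∈ T := by
    rintro x hxX hxN ⟨k, hk⟩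
    have h1 : IsPGroup 2 (zpowers x) := FrameAut.isPGroup_zpowers_of_pow hk
    have hle : zpowers x ⊔ T ∈ s := by
      refine ⟨IsPGroup.to_sup_of_normal_right' h1 hT2 (by rw [zpowers_le]; exact hxN),
        hQT.trans le_sup_right, sup_le (by rw [zpowers_le]; exact hxX) hTX,
        sup_le (by rw [zpowers_le]; exact hNT x hxN) hTM⟩
    exact hmax hle le_sup_right (mem_sup_left (mem_zpowers x))
  have hoT : o2 X ≤ T := by
    by_contra hnot
    have hT'2 : IsPGroup 2 (T ⊔ o2 X : Subgroup G) := IsPGroup.to_sup_of_normal_right' hT2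
      (o2_isPGroup X) (hTX.trans (le_normalizer_o2 X))
    have hlt : T < T ⊔ o2 X := lt_of_le_of_ne le_sup_left fun he => hnot (he ▸ le_sup_right)
    obtain ⟨x, hxT', hxT, hxN⟩ :=
      Cfsg.Agent.Involutions.BaerSuzuki.exists_mem_normalizer_of_lt hT'2 hlt
    refine hxT (hmem x (sup_le hTX (o2_le X) hxT') hxN ?_)
    obtain ⟨k, hk⟩ := hT'2 ⟨x, hxT'⟩
    exact ⟨k, congrArg Subtype.val hk⟩
  have hcard := T2 v hvo T hTX hT2
  rw [← hX, inf_eq_right.mpr hoT] at hcard
  have hQo : Q ≤ o2 X := by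
    by_contra hnot
    have hlt : o2 X < Q ⊔ o2 X := lt_of_le_of_ne le_sup_right fun he => hnot (he ▸ le_sup_left)
    have hle : Q ⊔ o2 X ≤ T := sup_le hQT hoT
    have hTeq : Q ⊔ o2 X = T := by
      apply Subgroup.eq_of_le_of_card_ge hle
      refine hcard.trans ?_
      obtain ⟨k, hk⟩ := card_dvd_of_le hlt.le
      rw [hk, mul_comm]
      refine Nat.mul_le_mul_left _ ?_
      have hpos : 0 < Nat.card (Q ⊔ o2 X : Subgroup G) := Nat.card_pos
      have hk0 : k ≠ 0 := by
        rintro rfl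
        rw [mul_zero] at hk
        omega
      have hk1 : k ≠ 1 := by
        rintro rfl
        rw [mul_one] at hk
        exact hlt.ne (Subgroup.eq_of_le_of_card_ge hlt.le hk.le)
      omega
    have hYT : X ⊓ M ≤ normalizer (T : Set G) := by
      rw [← hTeq]
      refine le_trans (le_inf ?_ ?_) (normalizer_inf_normalizer_le_normalizer_sup Q (o2 X))
      · rw [h.norm]
        exact inf_le_right
      · exact inf_le_left.trans (le_normalizer_o2 X)
    obtain ⟨σ, τ, hσ, hτ, hσ2, hτ2, h3, hne⟩ := FrameAut.exists_pair (sqV P) P.card_V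
      (a := (⟨v, hv⟩ : V)) (fun hh => hv1 (congrArg Subtype.val hh))
    have hlift : ∀ φ : MulAut V, φ ⟨v, hv⟩ = ⟨v, hv⟩ → φ * φ = 1 → ∃ x : M, rho P.HV x = φ ∧ (x : G) ∈ T := by
      intro φ hφ hφ2
      obtain ⟨x, hx⟩ := rho_surjective P φ
      refine ⟨x, hx, ?_⟩
      have hxv : (x : G) * v * (x : G)⁻¹ = v := by
        have := congrArg Subtype.val (DFunLike.congr_fun hx (⟨v, hv⟩ : V))
        rw [coe_rho, hφ] at this
        exact this
      have hxX : (x : G) ∈ X := by
        rw [hX, mem_centralizer_singleton_iff]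
        calc (x : G) * v = (x * v * (x : G)⁻¹) * x := by group
          _ = v * x := by rw [hxv]
      refine hmem x hxX (hYT ⟨hxX, x.2⟩) ?_
      have hxQ : (x : G) * x ∈ Q := by
        have h4 : rho P.HV (x * x) = 1 := by rw [map_mul, hx, hφ2]
        rw [rho_eq_one_iff P] at h4
        exact h4
      obtain ⟨k, hk⟩ := h.two ⟨_, hxQ⟩
      refine ⟨k + 1, ?_⟩
      rw [pow_succ', pow_mul, pow_two]
      exact congrArg Subtype.val hk
    obtain ⟨x, hx, hxT⟩ := hlift σ hσ hσ2
    obtain ⟨y, hy, hyT⟩ := hlift τ hτ hτ2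
    obtain ⟨k, hk⟩ := hT2 ⟨(x : G) * y, T.mul_mem hxT hyT⟩
    have hk0 : ((x : G) * y) ^ 2 ^ k = 1 := congrArg Subtype.val hk
    have hk' : (x * y) ^ 2 ^ k = 1 := Subtype.ext hk0
    have h4 : (σ * τ) ^ 2 ^ k = 1 := by
      rw [← hx, ← hy, ← map_mul, ← map_pow, hk', map_one]
    apply hne
    have h5 : orderOf (σ * τ) ∣ 3 := orderOf_dvd_of_pow_eq_one h3
    have h6 : orderOf (σ * τ) ∣ 2 ^ k := orderOf_dvd_of_pow_eq_one h4
    have h7 : Nat.Coprime 3 (2 ^ k) := Nat.Coprime.pow_right k (by norm_num)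
    exact orderOf_eq_one_iff.mp (Nat.dvd_one.mp (h7 ▸ Nat.dvd_gcd h5 h6))
  intro x hx
  refine h.wc fun q hq => hTM (hoT ?_)
  exact (mem_normalizer_iff.mp (le_normalizer_o2 X hx) q).mp (hQo hq)

/-- `V` is a TI-subgroup. -/
theorem ti (h : Lin M Q V m)
    (T2 : ∀ z : G, orderOf z = 2 → ∀ T : Subgroup G, T ≤ centralizer ({z} : Set G) → IsPGroup 2 T →
      Nat.card T ≤ 2 * Nat.card (T ⊓ o2 (centralizer ({z} : Set G)) : Subgroup G))
    {g v : G} (hv : v ∈ V) (hv1 : v ≠ 1) (hgv : g * v * g⁻¹ ∈ V) : g ∈ M := by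
  have hgv1 : g * v * g⁻¹ ≠ 1 := by
    intro h1
    apply hv1
    have : v = g⁻¹ * (g * v * g⁻¹) * g := by group
    rw [this, h1]
    group
  refine h.wc fun q hq => h.centralizer_le_M T2 hgv hgv1 ?_
  have h1 := h.Q_le hv hq
  rw [mem_centralizer_singleton_iff] at h1 ⊢
  calc g * q * g⁻¹ * (g * v * g⁻¹) = g * (q * v) * g⁻¹ := by group
    _ = g * (v * q) * g⁻¹ := by rw [h1]
    _ = g * v * g⁻¹ * (g * q * g⁻¹) := by group

/-- Every element of `G` that carries a non-identity element of `V` into `M` lies in `M`. -/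
theorem fc (h : Lin M Q V m)
    (T2 : ∀ z : G, orderOf z = 2 → ∀ T : Subgroup G, T ≤ centralizer ({z} : Set G) → IsPGroup 2 T →
      Nat.card T ≤ 2 * Nat.card (T ⊓ o2 (centralizer ({z} : Set G)) : Subgroup G))
    (g v : G) (hv : v ∈ V) (hv1 : v ≠ 1) (hgv : g * v * g⁻¹ ∈ M) : g ∈ M := by
  classical
  by_contra hgM
  have P := h.plane
  have hfV := finV P
  set a : G := g * v * g⁻¹ with ha
  have haa : a * a = 1 := by
    have : a * a = g * (v * v) * g⁻¹ := by rw [ha]; group
    rw [this, P.sq v hv, mul_one, mul_inv_cancel]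
  have hainv : a⁻¹ = a := inv_eq_of_mul_eq_one_right haa
  have haQ : a ∉ Q := fun hQ => hgM (h.ti T2 hv hv1 (h.inv a hQ haa))
  set D : Subgroup G := Q ⊓ centralizer ({a} : Set G) with hD
  have hDM : ∀ d ∈ D, g⁻¹ * d * g ∈ M := by
    intro d hd
    replace hd := (mem_inf.mp hd).2
    refine h.centralizer_le_M T2 hv hv1 ?_
    rw [mem_centralizer_singleton_iff] at hd ⊢
    calc g⁻¹ * d * g * v = g⁻¹ * (d * a) * g := by rw [ha]; group
      _ = g⁻¹ * (a * d) * g := by rw [hd]
      _ = v * (g⁻¹ * d * g) := by rw [ha]; group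
  let f : D →* MulAut V :=
    { toFun := fun d => rho P.HV ⟨g⁻¹ * d * g, hDM d d.2⟩
      map_one' := by
        rw [← map_one (rho P.HV)]
        congr 1
        exact Subtype.ext (by simp)
      map_mul' := fun x y => by
        rw [← map_mul]
        congr 1
        refine Subtype.ext ?_
        show g⁻¹ * (x * y : D) * g = g⁻¹ * x * g * (g⁻¹ * y * g)
        push_cast
        group }
  have hf : ∀ d, f d = rho P.HV ⟨g⁻¹ * d * g, hDM d d.2⟩ := fun _ => rfl
  have hinj : Function.Injective f := by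
    rw [injective_iff_map_eq_one]
    intro d hd
    rw [hf, rho_eq_one_iff P] at hd
    by_contra hd1
    -- an involution in `⟨d⟩`
    have hdp : IsPGroup 2 (zpowers (d : G)) :=
      h.two.to_le (by rw [zpowers_le]; exact d.2.1)
    have hne : zpowers (d : G) ≠ ⊥ := by
      rw [Ne, zpowers_eq_bot]
      exact fun hh => hd1 (Subtype.ext hh)
    have hf2 : Fact (Nat.Prime 2) := ⟨Nat.prime_two⟩
    obtain ⟨t, htd, ht2, -⟩ := Setup.exists_orderOf_eq hdp hne
    obtain ⟨n, rfl⟩ := mem_zpowers_iff.mp htd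
    have htt : (d : G) ^ n * (d : G) ^ n = 1 := by rw [← pow_two, ← ht2]; exact pow_orderOf_eq_one _
    have ht1 : (d : G) ^ n ≠ 1 := by
      intro hh
      rw [hh, orderOf_one] at ht2
      omega
    have htV : (d : G) ^ n ∈ V := h.inv _ (Q.zpow_mem d.2.1 n) htt
    have huQ : g⁻¹ * (d : G) ^ n * g ∈ Q := by
      have h1 : (g⁻¹ * (d : G) * g) ^ n ∈ Q := Q.zpow_mem hd n
      have h2 : (g⁻¹ * (d : G) * g⁻¹⁻¹) ^ n = g⁻¹ * (d : G) ^ n * g⁻¹⁻¹ := conj_zpow
      rw [inv_inv] at h2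
      rwa [h2] at h1
    have huu : g⁻¹ * (d : G) ^ n * g * (g⁻¹ * (d : G) ^ n * g) = 1 := by
      calc g⁻¹ * (d : G) ^ n * g * (g⁻¹ * (d : G) ^ n * g) = g⁻¹ * ((d : G) ^ n * (d : G) ^ n) * g := by
            group
        _ = 1 := by rw [htt]; group
    have huV := h.inv _ huQ huu
    refine hgM (h.ti T2 huV ?_ ?_)
    · intro hh
      apply ht1
      calc (d : G) ^ n = g * (g⁻¹ * (d : G) ^ n * g) * g⁻¹ := by group
        _ = 1 := by rw [hh]; group
    · have e : g * (g⁻¹ * (d : G) ^ n * g) * g⁻¹ = (d : G) ^ n := by group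
      rwa [e]
  -- `|D| ≤ 4`
  have hD4 : Nat.card D ≤ 4 := by
    have h1 : Nat.card f.range ≤ 4 := by
      refine FrameAut.card_le_four (sqV P) P.card_V ?_ ?_
      · exact (h.two.to_le (inf_le_left : D ≤ Q)).of_surjective f.rangeRestrict
          f.rangeRestrict_surjective
      · rintro _ ⟨x, rfl⟩ _ ⟨y, rfl⟩
        rw [← map_mul, ← map_mul]
        congr 1
        exact Subtype.ext (h.comm x x.2.1 y y.2.1)
    rwa [Nat.card_congr (MonoidHom.ofInjective hinj).toEquiv.symm] at h1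
  -- two fixed points
  have hσ2 : rho P.HV ⟨a, hgv⟩ * rho P.HV ⟨a, hgv⟩ = 1 := by
    rw [← map_mul, rho_eq_one_iff P]
    show a * a ∈ Q
    rw [haa]
    exact Q.one_mem
  obtain ⟨x, y, hx1, hy1, hxy, hx, hy⟩ :=
    Cfsg.Agent.MinSimple.Nonsolv.exists_two_fixed (sqV P) P.card_V _ hσ2
  have hfixD : ∀ u : V, rho P.HV ⟨a, hgv⟩ u = u → (u : G) ∈ D := by
    intro u hu
    refine mem_inf.mpr ⟨h.VQ u.2, ?_⟩
    have h1 := congrArg Subtype.val hu
    rw [coe_rho] at h1
    have h2 : a * u * a⁻¹ = (u : G) := h1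
    rw [mem_centralizer_singleton_iff]
    calc (u : G) * a = (a * u * a⁻¹) * a := by rw [h2]
      _ = a * u := by group
  have hxD := hfixD x hx
  have hyD := hfixD y hy
  -- an element of order at least 4
  obtain ⟨u, huV, hu⟩ : ∃ u ∈ V, a * u * a⁻¹ ≠ u := by
    by_contra hcon
    push Not at hcon
    refine haQ (P.cent ⟨hgv, mem_centralizer_iff.mpr fun u hu => ?_⟩)
    calc u * a = (a * u * a⁻¹) * a := by rw [hcon u hu]
      _ = a * u := by group
  obtain ⟨q, hq, hqu⟩ := h.root u huV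
  have haN : ∀ r ∈ Q, a * r * a⁻¹ ∈ Q := fun r hr =>
    (mem_normalizer_iff.mp (by rw [h.norm]; exact hgv) r).mp hr
  have hqa := haN q hq
  set d : G := q * (a * q * a⁻¹) with hd
  have hdQ : d ∈ Q := Q.mul_mem hq hqa
  have hdD : d ∈ D := by
    refine mem_inf.mpr ⟨hdQ, ?_⟩
    rw [mem_centralizer_singleton_iff]
    have h1 : a * d * a⁻¹ = d := by
      rw [hd]
      calc a * (q * (a * q * a⁻¹)) * a⁻¹ = (a * q * a⁻¹) * ((a * a) * q * (a * a)⁻¹) := by group
        _ = (a * q * a⁻¹) * q := by rw [haa]; group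
        _ = q * (a * q * a⁻¹) := h.comm _ hqa _ hq
    calc d * a = (a * d * a⁻¹) * a := by rw [h1]
      _ = a * d := by group
  have hdp : d ^ 2 ^ (m - 1) = u * (a * u * a⁻¹) := by
    rw [hd, (show Commute q (a * q * a⁻¹) from h.comm _ hq _ hqa).mul_pow, hqu, conj_pow, hqu]
  have hdp1 : d ^ 2 ^ (m - 1) ≠ 1 := by
    rw [hdp]
    intro h1
    apply hu
    have h2 : u⁻¹ = u := inv_eq_of_mul_eq_one_right (P.sq u huV)
    rw [← inv_eq_of_mul_eq_one_right h1, h2]
  have hdd : d * d ≠ 1 := by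
    intro h1
    apply hdp1
    obtain ⟨j, hj⟩ : ∃ j, m - 1 = 1 + j := ⟨m - 2, by have := h.hm; omega⟩
    rw [hj, pow_add, pow_mul, pow_one, pow_two, h1, one_pow]
  -- five elements
  have hxx : (x : G) * x = 1 := P.sq x x.2
  have hyy : (y : G) * y = 1 := P.sq y y.2
  have hxyxy : ((x : G) * y) * (x * y) = 1 := P.sq _ (V.mul_mem x.2 y.2)
  have hx1' : (x : G) ≠ 1 := fun hh => hx1 (Subtype.ext hh)
  have hy1' : (y : G) ≠ 1 := fun hh => hy1 (Subtype.ext hh)
  have hxy' : (x : G) ≠ y := fun hh => hxy (Subtype.ext hh)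
  have h5 : ({1, (x : G), (y : G), (x : G) * y, d} : Finset G).card = 5 := by
    rw [Finset.card_insert_of_notMem, Finset.card_insert_of_notMem, Finset.card_insert_of_notMem,
      Finset.card_insert_of_notMem, Finset.card_singleton]
    · rw [Finset.mem_singleton]
      intro hh
      exact hdd (hh ▸ hxyxy)
    · simp only [Finset.mem_insert, Finset.mem_singleton, not_or]
      refine ⟨fun hh => hx1' ?_, fun hh => hdd (hh ▸ hyy)⟩
      exact mul_right_cancel (b := (y : G)) (by rw [one_mul]; exact hh.symm)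
    · simp only [Finset.mem_insert, Finset.mem_singleton, not_or]
      refine ⟨hxy', fun hh => hy1' ?_, fun hh => hdd (hh ▸ hxx)⟩
      exact mul_left_cancel (a := (x : G)) (by rw [mul_one]; exact hh.symm)
    · simp only [Finset.mem_insert, Finset.mem_singleton, not_or]
      refine ⟨hx1'.symm, hy1'.symm, fun hh => hxy' ?_, fun hh => hdd (hh ▸ one_mul 1)⟩
      have h6 : (x : G)⁻¹ = y := inv_eq_of_mul_eq_one_right hh.symm
      rw [← h6]
      exact (inv_eq_of_mul_eq_one_right hxx).symm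
  have h6 : (({1, (x : G), (y : G), (x : G) * y, d} : Finset G) : Set G) ⊆ (D : Set G) := by
    intro w hw
    simp only [Finset.coe_insert, Finset.coe_singleton, Set.mem_insert_iff,
      Set.mem_singleton_iff] at hw
    rcases hw with rfl | rfl | rfl | rfl | rfl
    · exact D.one_mem
    · exact hxD
    · exact hyD
    · exact D.mul_mem hxD hyD
    · exact hdD
  have h7 := Set.ncard_le_ncard h6 (Set.toFinite _)
  rw [Set.ncard_coe_finset, h5] at h7
  have h8 : (D : Set G).ncard = Nat.card D := rfl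
  omega

/-- `M` is strongly embedded. -/
theorem stronglyEmbedded (hG : IsCharacteristicTwoType G) (h : Lin M Q V m)
    (T2 : ∀ z : G, orderOf z = 2 → ∀ T : Subgroup G, T ≤ centralizer ({z} : Set G) → IsPGroup 2 T →
      Nat.card T ≤ 2 * Nat.card (T ⊓ o2 (centralizer ({z} : Set G)) : Subgroup G))
    (hM : M ≠ ⊤) : IsStronglyEmbedded M := by
  have P := h.plane
  refine ThinStrong.stronglyEmbedded hG (V := V) (h.two.to_le h.VQ) ?_ (h.VQ.trans P.QH) P.HV
    (h.fc T2) hM
  intro hbot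
  have := P.card_V
  rw [hbot, Subgroup.card_bot] at this
  omega

end Lin

end Cfsg.Agent.SmallSimple.S1000.ThinLinear
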