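import Mathlib
import Cfsg.Agent.SmallSimple.S1000.ThinLinear
import Cfsg.Agent.SmallSimple.S1000.ThinEightFpf
import Cfsg.Agent.Lib.NormalAbelian

/-!
# The thin case, `Q = V`

`V` is elementary abelian of order 8, `C_G(V) = V`, `N_G(V) / V = GL(V)`.  If `|T : O₂(C_G(z)) ∩ T| ≤ 2`
for all involutions `z` and 2-subgroups `T` of `C_G(z)`, then the Sylow 2-subgroups of `G` have order at
most `2 ^ 7`.
-/

set_option autoImplicit false

namespace Cfsg.Agent.SmallSimple.S1000.ThinOne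

open Subgroup Cfsg Cfsg.Agent.ZN Cfsg.Agent.MinSimple.Basic Cfsg.Agent.MinSimple.VModule
  Cfsg.Agent.SmallSimple.S1000.ThinPlane Cfsg.Agent.SmallSimple.S1000.ThinLinear

variable {G : Type*} [Group G]

/-! ### The subgroup `{b ∈ B | [R, b] ≤ A}` -/

/-- `{b ∈ B | [R, b] ≤ A}`. -/
def dn (R B A : Subgroup G) (hn : B ≤ normalizer (A : Set G)) : Subgroup G where
  carrier := {b | b ∈ B ∧ ∀ q ∈ R, q * b * q⁻¹ * b⁻¹ ∈ A}
  one_mem' := ⟨B.one_mem, fun q _ => by simp⟩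
  mul_mem' := by
    rintro b c ⟨hb, hbq⟩ ⟨hc, hcq⟩
    refine ⟨B.mul_mem hb hc, fun q hq => ?_⟩
    have e : q * (b * c) * q⁻¹ * (b * c)⁻¹ = (q * b * q⁻¹ * b⁻¹) * (b * (q * c * q⁻¹ * c⁻¹) * b⁻¹) := by
      group
    rw [e]
    exact A.mul_mem (hbq q hq) ((mem_normalizer_iff.mp (hn hb) _).mp (hcq q hq))
  inv_mem' := by
    rintro b ⟨hb, hbq⟩
    refine ⟨B.inv_mem hb, fun q hq => ?_⟩
    have e : q * b⁻¹ * q⁻¹ * b⁻¹⁻¹ = b⁻¹ * (q * b * q⁻¹ * b⁻¹)⁻¹ * b⁻¹⁻¹ := by group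
    rw [e]
    exact (mem_normalizer_iff.mp (hn (B.inv_mem hb)) _).mp (A.inv_mem (hbq q hq))

theorem mem_dn {R B A : Subgroup G} {hn : B ≤ normalizer (A : Set G)} {b : G} :
    b ∈ dn R B A hn ↔ b ∈ B ∧ ∀ q ∈ R, q * b * q⁻¹ * b⁻¹ ∈ A := Iff.rfl

theorem dn_le {R B A : Subgroup G} {hn : B ≤ normalizer (A : Set G)} : dn R B A hn ≤ B :=
  fun _ h => h.1

theorem le_dn {R B A : Subgroup G} {hn : B ≤ normalizer (A : Set G)} (hAB : A ≤ B)
    (hRA : R ≤ normalizer (A : Set G)) : A ≤ dn R B A hn := fun a ha =>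
  ⟨hAB ha, fun _ hq => A.mul_mem ((mem_normalizer_iff.mp (hRA hq) a).mp ha) (A.inv_mem ha)⟩

theorem normalizer_dn [Finite G] {R B A : Subgroup G} {hn : B ≤ normalizer (A : Set G)} {g : G}
    (hR : g ∈ normalizer (R : Set G)) (hB : g ∈ normalizer (B : Set G))
    (hA : g ∈ normalizer (A : Set G)) : g ∈ normalizer (dn R B A hn : Set G) := by
  refine mem_normalizer_of_forall ?_
  rintro b ⟨hb, hbq⟩
  refine ⟨(mem_normalizer_iff.mp hB b).mp hb, fun q hq => ?_⟩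
  have e : q * (g * b * g⁻¹) * q⁻¹ * (g * b * g⁻¹)⁻¹ =
      g * ((g⁻¹ * q * g) * b * (g⁻¹ * q * g)⁻¹ * b⁻¹) * g⁻¹ := by group
  rw [e]
  refine (mem_normalizer_iff.mp hA _).mp (hbq _ ?_)
  have h2 := (mem_normalizer_iff.mp (inv_mem hR) q).mp hq
  rwa [inv_inv] at h2

/-- `[R, B] < B`, dually. -/
theorem exists_dn [Finite G] {R B A : Subgroup G} (hR : IsPGroup 2 R) (hAB : A ≤ B) (hBR : B ≤ R)
    (hRA : R ≤ normalizer (A : Set G)) (hRB : R ≤ normalizer (B : Set G)) (hne : A ≠ B) :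
    ∃ b ∈ dn R B A (hBR.trans hRA), b ∉ A := by
  have hf : Fact (Nat.Prime 2) := ⟨Nat.prime_two⟩
  have hA : (A.subgroupOf R).Normal := (normal_subgroupOf_iff_le_normalizer (hAB.trans hBR)).mpr hRA
  have hB : (B.subgroupOf R).Normal := (normal_subgroupOf_iff_le_normalizer hBR).mpr hRB
  set π := QuotientGroup.mk' (A.subgroupOf R) with hπ
  have hq : IsPGroup 2 (R ⧸ A.subgroupOf R) := hR.to_quotient _
  have hnil : Group.IsNilpotent (R ⧸ A.subgroupOf R) := hq.isNilpotent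
  have hN : ((B.subgroupOf R).map π).Normal := hB.map π (QuotientGroup.mk'_surjective _)
  have hne' : (B.subgroupOf R).map π ≠ ⊥ := by
    intro h
    rw [Subgroup.map_eq_bot_iff, hπ, QuotientGroup.ker_mk'] at h
    apply hne
    refine le_antisymm hAB fun b hb => ?_
    exact h (show (⟨b, hBR hb⟩ : R) ∈ B.subgroupOf R from hb)
  have h1 := Lib.NormalAbelian.normal_inf_center_ne_bot _ hne'
  obtain ⟨⟨_, ⟨b, hb, rfl⟩, hyc⟩, hy1⟩ := Subgroup.ne_bot_iff_exists_ne_one.mp h1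
  refine ⟨b, ⟨hb, fun q hq => ?_⟩,
    fun hbA => hy1 (Subtype.ext ((QuotientGroup.eq_one_iff b).mpr hbA))⟩
  let q' : R := ⟨q, hq⟩
  have h3 : π (q' * b * q'⁻¹ * b⁻¹) = 1 := by
    rw [map_mul, map_mul, map_mul, map_inv, map_inv, mem_center_iff.mp hyc]
    group
  exact (QuotientGroup.eq_one_iff (q' * b * q'⁻¹ * b⁻¹)).mp h3

/-! ### The core situation -/

/-- `V ≤ O`, `|N_O(V)| = 32`; `w` has order 3 and permutes `b`, `c`, `bc`. -/
structure Core (V O : Subgroup G) (z b c w : G) : Prop where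
  bas : Bas V z b c
  cardV : Nat.card V = 8
  sq : ∀ v ∈ V, v * v = 1
  cent : ∀ x : G, (∀ v ∈ V, x * v = v * x) → x ∈ V
  two : IsPGroup 2 O
  zO : ∀ x ∈ O, x * z = z * x
  w3 : orderOf w = 3
  wz : w * z * w⁻¹ = z
  wb : w * b * w⁻¹ = c
  wc : w * c * w⁻¹ = b * c
  wO : w ∈ normalizer (O : Set G)
  wV : w ∈ normalizer (V : Set G)
  VO : V ≤ O
  cardN : Nat.card (O ⊓ normalizer (V : Set G) : Subgroup G) = 32

namespace Core

variable {V O : Subgroup G} {z b c w : G}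

theorem zz (h : Core V O z b c w) : z * z = 1 := h.sq z h.bas.aV

theorem bb (h : Core V O z b c w) : b * b = 1 := h.sq b h.bas.bV

theorem cc (h : Core V O z b c w) : c * c = 1 := h.sq c h.bas.cV

theorem cb (h : Core V O z b c w) : c * b = b * c := comm_of_sq h.sq h.bas.cV h.bas.bV

theorem oz (h : Core V O z b c w) : orderOf z = 2 := by
  have hf : Fact (Nat.Prime 2) := ⟨Nat.prime_two⟩
  exact orderOf_eq_prime (by rw [pow_two]; exact h.zz) h.bas.a1

theorem mem_Z (h : Core V O z b c w) {x : G} : x ∈ zpowers z ↔ x = 1 ∨ x = z := by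
  constructor
  · rintro ⟨n, rfl⟩
    have h1 : z ^ (2 : ℤ) = 1 := by
      rw [zpow_ofNat, pow_two]
      exact h.zz
    rcases Int.even_or_odd' n with ⟨k, rfl | rfl⟩
    · left
      show z ^ (2 * k) = 1
      rw [zpow_mul, h1, one_zpow]
    · right
      show z ^ (2 * k + 1) = z
      rw [zpow_add, zpow_mul, h1, one_zpow, one_mul, zpow_one]
  · rintro (rfl | rfl)
    · exact one_mem _
    · exact mem_zpowers _

theorem card_Z (h : Core V O z b c w) : Nat.card (zpowers z) = 2 := by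
  rw [Nat.card_zpowers, h.oz]

theorem ZV (h : Core V O z b c w) : zpowers z ≤ V := by
  rw [zpowers_le]; exact h.bas.aV

theorem ZO (h : Core V O z b c w) : zpowers z ≤ O := h.ZV.trans h.VO

theorem commZ (h : Core V O z b c w) {x ζ : G} (hζ : ζ ∈ zpowers z) (hx : x ∈ O) : x * ζ = ζ * x := by
  rcases h.mem_Z.mp hζ with rfl | rfl
  · simp
  · exact h.zO x hx

theorem commZw (h : Core V O z b c w) {ζ : G} (hζ : ζ ∈ zpowers z) : w * ζ * w⁻¹ = ζ := by
  rcases h.mem_Z.mp hζ with rfl | rfl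
  · simp
  · exact h.wz

theorem sqZ (h : Core V O z b c w) {ζ : G} (hζ : ζ ∈ zpowers z) : ζ * ζ = 1 := by
  rcases h.mem_Z.mp hζ with rfl | rfl
  · simp
  · exact h.zz

theorem www (h : Core V O z b c w) : w * w * w = 1 := by
  have := pow_orderOf_eq_one w
  rw [h.w3, pow_succ, pow_two] at this
  exact this

theorem wbc (h : Core V O z b c w) : w * (b * c) * w⁻¹ = b := by
  have e : w * (b * c) * w⁻¹ = (w * b * w⁻¹) * (w * c * w⁻¹) := by group
  rw [e, h.wb, h.wc, ← h.cb, ← mul_assoc, h.cc, one_mul]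

variable [Finite G]

theorem O_Z (h : Core V O z b c w) : O ≤ normalizer (zpowers z : Set G) := by
  intro x hx
  refine mem_normalizer_of_forall fun ζ hζ => ?_
  rw [h.commZ hζ hx, mul_inv_cancel_right]
  exact hζ

theorem w_Z (h : Core V O z b c w) : w ∈ normalizer (zpowers z : Set G) := by
  refine mem_normalizer_of_forall fun ζ hζ => ?_
  rw [h.commZw hζ]
  exact hζ

omit [Finite G] in
theorem VN (h : Core V O z b c w) : V ≤ O ⊓ normalizer (V : Set G) :=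
  le_inf h.VO le_normalizer

theorem wN (h : Core V O z b c w) :
    w ∈ normalizer ((O ⊓ normalizer (V : Set G) : Subgroup G) : Set G) := by
  refine mem_normalizer_of_forall ?_
  rintro x ⟨hx, hxV⟩
  exact ⟨(mem_normalizer_iff.mp h.wO x).mp hx,
    (normalizer (V : Set G)).mul_mem (mul_mem h.wV hxV) (inv_mem h.wV)⟩

omit [Finite G] in
theorem fixV (h : Core V O z b c w) {v : G} (hv : v ∈ V) (hw : w * v * w⁻¹ = v) : v ∈ zpowers z := by
  rw [h.mem_Z]
  have hb := h.bas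
  have wz := h.wz
  have wb := h.wb
  have wc := h.wc
  have wbc := h.wbc
  have hcb := h.cb
  have hzb : z * b = b * z := comm_of_sq h.sq hb.aV hb.bV
  have hmap : ∀ x y, w * (x * y) * w⁻¹ = (w * x * w⁻¹) * (w * y * w⁻¹) := fun x y => by group
  have hbc1 : b * c ≠ c := fun h' => hb.b1 (mul_eq_right.mp h')
  have hbc2 : b ≠ b * c := fun h' => hb.c1 (mul_eq_left.mp h'.symm)
  rcases hb.cases h.cardV h.sq hv with rfl | rfl | rfl | rfl | rfl | rfl | rfl | rfl
  · exact Or.inl rfl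
  · exact Or.inr rfl
  · exact absurd (wb.symm.trans hw) hb.cb
  · rw [hmap, wz, wb] at hw
    exact absurd (mul_left_cancel hw) hb.cb
  · exact absurd (wc.symm.trans hw) hbc1
  · rw [hmap, wz, wc] at hw
    exact absurd (mul_right_cancel hw) hbc1
  · rw [hcb, wbc] at hw
    exact absurd hw hbc2
  · rw [show c * (z * b) = (b * c) * z by rw [hzb, ← mul_assoc, hcb], hmap, wbc, wz] at hw
    exact absurd (mul_right_cancel hw) hbc2

theorem mod3 (h : Core V O z b c w) {B : Subgroup G} (hz : z ∈ B) (hw : w ∈ normalizer (B : Set G))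
    (hfix : ∀ x ∈ B, w * x * w⁻¹ = x → x ∈ zpowers z) : Nat.card B % 3 = 2 := by
  have hf : Fact (Nat.Prime 3) := ⟨Nat.prime_three⟩
  have h1 := ThinEightFpf.card_modEq h.w3 B hw
  have h2 : B ⊓ centralizer ({w} : Set G) = zpowers z := by
    apply le_antisymm
    · rintro x ⟨hx, hxw⟩
      refine hfix x hx ?_
      have hxw' := mem_centralizer_singleton_iff.mp hxw
      rw [← hxw', mul_inv_cancel_right]
    · rw [zpowers_le]
      refine ⟨hz, mem_centralizer_singleton_iff.mpr ?_⟩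
      calc z * w = (w * z * w⁻¹) * w := by rw [h.wz]
        _ = w * z := by group
  rw [h2, h.card_Z] at h1
  exact h1

/-- `[V, N_O(V)] ≤ ⟨z⟩`. -/
theorem f1 (h : Core V O z b c w) {q v : G} (hq : q ∈ O ⊓ normalizer (V : Set G)) (hv : v ∈ V) :
    q * v * q⁻¹ * v⁻¹ ∈ zpowers z := by
  set N := O ⊓ normalizer (V : Set G) with hN
  have hNZ : N ≤ normalizer (zpowers z : Set G) := inf_le_left.trans h.O_Z
  set D := dn N V (zpowers z) (h.VN.trans hNZ) with hD
  have hN2 : IsPGroup 2 N := h.two.to_le inf_le_left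
  have hne : zpowers z ≠ V := by
    intro he
    have h1 := h.card_Z
    rw [he, h.cardV] at h1
    norm_num at h1
  obtain ⟨y, hyD, hyZ⟩ := exists_dn hN2 h.ZV h.VN hNZ inf_le_right hne
  have hDV : D ≤ V := dn_le
  have hZD : zpowers z ≤ D := le_dn h.ZV hNZ
  have hw : w ∈ normalizer (D : Set G) := normalizer_dn h.wN h.wV h.w_Z
  have h3 := h.mod3 (hZD (mem_zpowers z)) hw fun x hx hxw => h.fixV (hDV hx) hxw
  have h4 : Nat.card D ∣ 8 := h.cardV ▸ card_dvd_of_le hDV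
  have h5 : Nat.card D ≠ 2 := by
    intro h5
    apply hyZ
    rw [Subgroup.eq_of_le_of_card_ge hZD (by rw [h5, h.card_Z])]
    exact hyD
  have h6 : Nat.card D = 8 := by
    have h7 := Nat.le_of_dvd (by norm_num) h4
    interval_cases hc : Nat.card D <;> omega
  have h7 : D = V := Subgroup.eq_of_le_of_card_ge hDV (by rw [h6, h.cardV])
  exact (h7 ▸ hv : v ∈ D).2 q hq

/-- `C_{N_O(V)}(w) = ⟨z⟩`. -/
theorem f2 (h : Core V O z b c w) {x : G} (hx : x ∈ O ⊓ normalizer (V : Set G))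
    (hw : w * x * w⁻¹ = x) : x ∈ zpowers z := by
  have key : ∀ v, w * (x * v * x⁻¹ * v⁻¹) * w⁻¹ =
      x * (w * v * w⁻¹) * x⁻¹ * (w * v * w⁻¹)⁻¹ := by
    intro v
    have e : w * (x * v * x⁻¹ * v⁻¹) * w⁻¹ =
      (w * x * w⁻¹) * (w * v * w⁻¹) * (w * x * w⁻¹)⁻¹ * (w * v * w⁻¹)⁻¹ := by group
    rw [e, hw]
  have kb := key b
  have kc := key c
  have hb1 := h.f1 hx h.bas.bV
  have hc1 := h.f1 hx h.bas.cV
  rw [h.commZw hb1, h.wb] at kb
  rw [h.commZw hc1, h.wc] at kc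
  have hbO : b ∈ O := h.VO h.bas.bV
  have e2 : x * (b * c) * x⁻¹ * (b * c)⁻¹ =
      (x * b * x⁻¹ * b⁻¹) * (b * (x * c * x⁻¹ * c⁻¹) * b⁻¹) := by group
  rw [h.commZ hc1 hbO, mul_inv_cancel_right, kb] at e2
  rw [e2, h.sqZ hc1] at kc
  rw [kc] at kb
  have e3 : ∀ y, x * y * x⁻¹ * y⁻¹ = 1 → x * y = y * x := by
    intro y hy
    rw [mul_inv_eq_one, mul_inv_eq_iff_eq_mul] at hy
    exact hy
  have xb := e3 b kb
  have xc := e3 c kc
  have xz := h.zO x hx.1
  refine h.fixV (h.cent x fun v hv => ?_) hw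
  have hcen : ∀ y, x * y = y * x → y ∈ centralizer ({x} : Set G) := fun y hy =>
    mem_centralizer_singleton_iff.mpr hy.symm
  have h8 : v ∈ centralizer ({x} : Set G) := by
    rcases h.bas.cases h.cardV h.sq hv with rfl | rfl | rfl | rfl | rfl | rfl | rfl | rfl
    · exact one_mem _
    · exact hcen _ xz
    · exact hcen _ xb
    · exact mul_mem (hcen _ xz) (hcen _ xb)
    · exact hcen _ xc
    · exact mul_mem (hcen _ xc) (hcen _ xz)
    · exact mul_mem (hcen _ xc) (hcen _ xb)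
    · exact mul_mem (hcen _ xc) (mul_mem (hcen _ xz) (hcen _ xb))
  exact (mem_centralizer_singleton_iff.mp h8).symm

/-- `w` has no fixed points on `N_O(V) / ⟨z⟩`. -/
theorem fmod (h : Core V O z b c w) {x : G} (hx : x ∈ O ⊓ normalizer (V : Set G))
    (hw : x⁻¹ * (w * x * w⁻¹) ∈ zpowers z) : x ∈ zpowers z := by
  set ζ := x⁻¹ * (w * x * w⁻¹) with hζ
  have h1 : w * x * w⁻¹ = x * ζ := by rw [hζ]; group
  have h2 : w * (w * x * w⁻¹) * w⁻¹ = x := by
    rw [h1]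
    have e : w * (x * ζ) * w⁻¹ = (w * x * w⁻¹) * (w * ζ * w⁻¹) := by group
    rw [e, h.commZw hw, h1, mul_assoc, h.sqZ hw, mul_one]
  refine h.f2 hx ?_
  have h3 : (w * w * w) * x * (w * w * w)⁻¹ = w * (w * (w * x * w⁻¹) * w⁻¹) * w⁻¹ := by group
  rw [h.www, h2] at h3
  rw [← h3]
  group

/-- `N_O(N_O(V))`. -/
def NN (V O : Subgroup G) : Subgroup G :=
  O ⊓ normalizer ((O ⊓ normalizer (V : Set G) : Subgroup G) : Set G)

omit [Finite G] in
theorem NN_le : NN V O ≤ O := inf_le_left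

omit [Finite G] in
theorem QN : O ⊓ normalizer (V : Set G) ≤ NN V O := le_inf inf_le_left le_normalizer

omit [Finite G] in
theorem NQ : NN V O ≤ normalizer ((O ⊓ normalizer (V : Set G) : Subgroup G) : Set G) := inf_le_right

theorem NZ (h : Core V O z b c w) : NN V O ≤ normalizer (zpowers z : Set G) := NN_le.trans h.O_Z

theorem QZ (h : Core V O z b c w) :
    O ⊓ normalizer (V : Set G) ≤ normalizer (zpowers z : Set G) := inf_le_left.trans h.O_Z

theorem wNN (h : Core V O z b c w) : w ∈ normalizer (NN V O : Set G) := by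
  refine mem_normalizer_of_forall ?_
  rintro x ⟨hx, hxV⟩
  exact ⟨(mem_normalizer_iff.mp h.wO x).mp hx,
    (normalizer _).mul_mem (mul_mem h.wN hxV) (inv_mem h.wN)⟩

/-- The elements of `N_O(V)` centralised by `NN` modulo `z`. -/
def LL (h : Core V O z b c w) : Subgroup G := dn (NN V O) (O ⊓ normalizer (V : Set G)) (zpowers z) h.QZ

theorem LQ (h : Core V O z b c w) : h.LL ≤ O ⊓ normalizer (V : Set G) := dn_le

theorem LO (h : Core V O z b c w) : h.LL ≤ O := h.LQ.trans inf_le_left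

theorem ZL (h : Core V O z b c w) : zpowers z ≤ h.LL :=
  le_dn (h.ZV.trans h.VN) h.NZ

theorem wL (h : Core V O z b c w) : w ∈ normalizer (h.LL : Set G) :=
  normalizer_dn h.wNN h.wN h.w_Z

theorem LN (h : Core V O z b c w) {n x : G} (hn : n ∈ NN V O) (hx : x ∈ h.LL) :
    n * x * n⁻¹ * x⁻¹ ∈ zpowers z := hx.2 n hn

theorem not_V_le (h : Core V O z b c w) (hne : ¬ NN V O ≤ O ⊓ normalizer (V : Set G)) :
    ¬ V ≤ h.LL := by
  intro hVL
  apply hne
  intro n hn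
  refine ⟨NN_le hn, mem_normalizer_of_forall fun v hv => ?_⟩
  have h1 := h.ZV (h.LN hn (hVL hv))
  have h2 := V.mul_mem h1 hv
  rwa [inv_mul_cancel_right] at h2

theorem card_L (h : Core V O z b c w) (hne : ¬ NN V O ≤ O ⊓ normalizer (V : Set G)) :
    Nat.card h.LL = 8 := by
  have h1 := h.mod3 (h.ZL (mem_zpowers z)) h.wL fun x hx hxw => h.f2 (h.LQ hx) hxw
  have h2 : Nat.card h.LL ∣ 32 := h.cardN ▸ card_dvd_of_le h.LQ
  have h3 : Nat.card h.LL ≠ 32 := by
    intro h3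
    have h4 : h.LL = O ⊓ normalizer (V : Set G) :=
      Subgroup.eq_of_le_of_card_ge h.LQ (by rw [h3, h.cardN])
    exact h.not_V_le hne (h4 ▸ h.VN)
  have h5 : Nat.card h.LL ≠ 2 := by
    intro h5
    have hne' : zpowers z ≠ O ⊓ normalizer (V : Set G) := by
      intro he
      have h6 := h.card_Z
      rw [he, h.cardN] at h6
      norm_num at h6
    obtain ⟨y, hyD, hyZ⟩ := exists_dn (h.two.to_le (NN_le (V := V))) (h.ZV.trans h.VN) QN h.NZ NQ hne'
    apply hyZ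
    rw [Subgroup.eq_of_le_of_card_ge h.ZL (by rw [h5, h.card_Z])]
    exact hyD
  have h7 := Nat.le_of_dvd (by norm_num) h2
  interval_cases hc : Nat.card h.LL <;> omega

theorem VL (h : Core V O z b c w) (hne : ¬ NN V O ≤ O ⊓ normalizer (V : Set G)) {v : G} (hv : v ∈ V)
    (hvL : v ∈ h.LL) : v ∈ zpowers z := by
  have hle : zpowers z ≤ V ⊓ h.LL := le_inf h.ZV h.ZL
  have hw : w ∈ normalizer ((V ⊓ h.LL : Subgroup G) : Set G) := by
    refine mem_normalizer_of_forall ?_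
    rintro x ⟨hx, hxV⟩
    exact ⟨(mem_normalizer_iff.mp h.wV x).mp hx, (mem_normalizer_iff.mp h.wL x).mp hxV⟩
  have h1 := h.mod3 (hle (mem_zpowers z)) hw fun x hx hxw => h.fixV hx.1 hxw
  have h2 : Nat.card (V ⊓ h.LL : Subgroup G) ∣ 8 := h.cardV ▸ card_dvd_of_le inf_le_left
  have h3 : Nat.card (V ⊓ h.LL : Subgroup G) ≠ 8 := by
    intro h3
    have h4 : V ⊓ h.LL = V := Subgroup.eq_of_le_of_card_ge inf_le_left (by rw [h3, h.cardV])
    exact h.not_V_le hne (inf_eq_left.mp h4)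
  have h5 : Nat.card (V ⊓ h.LL : Subgroup G) = 2 := by
    have h7 := Nat.le_of_dvd (by norm_num) h2
    interval_cases hc : Nat.card (V ⊓ h.LL : Subgroup G) <;> omega
  rw [Subgroup.eq_of_le_of_card_ge hle (by rw [h5, h.card_Z])]
  exact ⟨hv, hvL⟩

/-- `[N_O(V), N_O(V)] ≤ ⟨z⟩`. -/
theorem f3 (h : Core V O z b c w) (hne : ¬ NN V O ≤ O ⊓ normalizer (V : Set G)) {x y : G}
    (hx : x ∈ O ⊓ normalizer (V : Set G)) (hy : y ∈ O ⊓ normalizer (V : Set G)) :
    x * y * x⁻¹ * y⁻¹ ∈ zpowers z := by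
  set Q := O ⊓ normalizer (V : Set G) with hQ
  set D := dn Q Q (zpowers z) h.QZ with hD
  have hDQ : D ≤ Q := dn_le
  have hVD : V ≤ D := fun v hv => ⟨h.VN hv, fun q hq => h.f1 hq hv⟩
  have hLD : h.LL ≤ D := fun v hv => ⟨h.LQ hv, fun q hq => hv.2 q (QN hq)⟩
  have hw : w ∈ normalizer (D : Set G) := normalizer_dn h.wN h.wN h.w_Z
  have h1 := h.mod3 (hVD h.bas.aV) hw fun x hx hxw => h.f2 (hDQ hx) hxw
  have h2 : Nat.card D ∣ 32 := h.cardN ▸ card_dvd_of_le hDQ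
  have h3 : 8 ∣ Nat.card D := h.cardV ▸ card_dvd_of_le hVD
  have h4 : Nat.card D ≠ 8 := by
    intro h4
    have h5 : V = D := Subgroup.eq_of_le_of_card_ge hVD (by rw [h4, h.cardV])
    have h6 : h.LL = D := Subgroup.eq_of_le_of_card_ge hLD (by rw [h4, h.card_L hne])
    exact h.not_V_le hne (by rw [h6, ← h5])
  have h5 : Nat.card D = 32 := by
    have h7 := Nat.le_of_dvd (by norm_num) h2
    obtain ⟨k, hk⟩ := h3
    have hk4 : k ≤ 4 := by omega
    interval_cases k <;> omega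
  have h6 : D = Q := Subgroup.eq_of_le_of_card_ge hDQ (by rw [h5, h.cardN])
  exact (h6 ▸ hy : y ∈ D).2 x hx

/-- `[N_O(V), NN] ≤ LL`. -/
theorem f4 (h : Core V O z b c w) (hne : ¬ NN V O ≤ O ⊓ normalizer (V : Set G)) {n q : G}
    (hn : n ∈ NN V O) (hq : q ∈ O ⊓ normalizer (V : Set G)) : n * q * n⁻¹ * q⁻¹ ∈ h.LL := by
  set Q := O ⊓ normalizer (V : Set G) with hQ
  have hNL : NN V O ≤ normalizer (h.LL : Set G) := fun n hn =>
    normalizer_dn (le_normalizer hn) (NQ hn) (h.NZ hn)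
  set D := dn (NN V O) Q h.LL (QN.trans hNL) with hD
  have hDQ : D ≤ Q := dn_le
  have hLD : h.LL ≤ D := le_dn h.LQ hNL
  have hw : w ∈ normalizer (D : Set G) := normalizer_dn h.wNN h.wN h.wL
  have h1 := h.mod3 (hLD (h.ZL (mem_zpowers z))) hw fun x hx hxw => h.f2 (hDQ hx) hxw
  have h2 : Nat.card D ∣ 32 := h.cardN ▸ card_dvd_of_le hDQ
  have h3 : 8 ∣ Nat.card D := h.card_L hne ▸ card_dvd_of_le hLD
  have h4 : Nat.card D ≠ 8 := by
    intro h4
    have hne' : h.LL ≠ Q := by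
      intro he
      exact h.not_V_le hne (he ▸ h.VN)
    obtain ⟨y, hyD, hyZ⟩ := exists_dn (h.two.to_le (NN_le (V := V))) h.LQ QN hNL NQ hne'
    apply hyZ
    rw [Subgroup.eq_of_le_of_card_ge hLD (by rw [h4, h.card_L hne])]
    exact hyD
  have h5 : Nat.card D = 32 := by
    have h7 := Nat.le_of_dvd (by norm_num) h2
    obtain ⟨k, hk⟩ := h3
    have hk4 : k ≤ 4 := by omega
    interval_cases k <;> omega
  have h6 : D = Q := Subgroup.eq_of_le_of_card_ge hDQ (by rw [h5, h.cardN])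
  exact (h6 ▸ hq : q ∈ D).2 n hn

/-- If `[n, v] ≡ x` modulo `z`, then `v` inverts `x`. -/
theorem inv_of (h : Core V O z b c w) {n v x : G}
    (hv : v ∈ V) (hx : x ∈ h.LL) (hnx : x⁻¹ * (n * v * n⁻¹ * v⁻¹) ∈ zpowers z) :
    v * x * v⁻¹ = x⁻¹ := by
  set ζ := x⁻¹ * (n * v * n⁻¹ * v⁻¹) with hζ
  have h1 : n * v * n⁻¹ * v⁻¹ = x * ζ := by rw [hζ]; group
  have hvv := h.sq v hv
  have hvi : v⁻¹ = v := inv_eq_of_mul_eq_one_right hvv
  have h2 : (x * ζ) * v * ((x * ζ) * v) = 1 := by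
    rw [← h1]
    have e : n * v * n⁻¹ * v⁻¹ * v * (n * v * n⁻¹ * v⁻¹ * v) = n * (v * v) * n⁻¹ := by group
    rw [e, hvv, mul_one, mul_inv_cancel]
  have hxO : x ∈ O := h.LO hx
  have hvO : v ∈ O := h.VO hv
  have hζx := h.commZ hnx hxO
  have hζv := h.commZ hnx hvO
  have hζζ := h.sqZ hnx
  have h3 : x * v * (x * v) = 1 := by
    calc x * v * (x * v) = x * v * (x * v) * (ζ * ζ) := by rw [hζζ, mul_one]
      _ = x * (v * ζ) * ((x * ζ) * v) := by
        rw [show x * v * (x * v) * (ζ * ζ) = x * v * x * ((v * ζ) * ζ) by group, hζv,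
          show x * v * x * (ζ * v * ζ) = x * v * (x * ζ) * (v * ζ) by group, hζv, hζx]
        rw [show x * v * (ζ * x) * (ζ * v) = x * (v * ζ) * ((x * ζ) * v) by group, hζv, hζx]
      _ = 1 := by rw [hζv, show x * (ζ * v) * ((x * ζ) * v) = (x * ζ) * v * ((x * ζ) * v) by group, h2]
  rw [hvi]
  have h4 : x * (v * x * v) = 1 := by rw [← h3]; group
  exact (inv_eq_of_mul_eq_one_right h4).symm

/-- Every element of `LL` is `[n, v]` modulo `z`. -/
def Full (h : Core V O z b c w) (v : G) : Prop :=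
  ∀ x ∈ h.LL, ∃ n ∈ NN V O, x⁻¹ * (n * v * n⁻¹ * v⁻¹) ∈ zpowers z

/-- The elements of `LL` of the form `[n, v]` modulo `z`. -/
def KK (h : Core V O z b c w) (v : G) : Subgroup G where
  carrier := {x | x ∈ h.LL ∧ ∃ n ∈ NN V O, x⁻¹ * (n * v * n⁻¹ * v⁻¹) ∈ zpowers z}
  one_mem' := ⟨h.LL.one_mem, 1, (NN V O).one_mem, by simp⟩
  mul_mem' := by
    rintro x y ⟨hx, n, hn, hnx⟩ ⟨hy, m, hm, hmy⟩
    refine ⟨h.LL.mul_mem hx hy, m * n, (NN V O).mul_mem hm hn, ?_⟩
    set ζ := x⁻¹ * (n * v * n⁻¹ * v⁻¹) with hζ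
    set η := y⁻¹ * (m * v * m⁻¹ * v⁻¹) with hη
    have h1 : n * v * n⁻¹ * v⁻¹ = x * ζ := by rw [hζ]; group
    have h2 : m * v * m⁻¹ * v⁻¹ = y * η := by rw [hη]; group
    have h3 : (m * n) * v * (m * n)⁻¹ * v⁻¹ = (m * x * m⁻¹ * x⁻¹) * (x * (m * ζ * m⁻¹) * y) * η := by
      have e : (m * n) * v * (m * n)⁻¹ * v⁻¹ =
          (m * (n * v * n⁻¹ * v⁻¹) * m⁻¹) * (m * v * m⁻¹ * v⁻¹) := by group
      rw [e, h1, h2]
      group
    have hyO := h.LO hy
    have hxO := h.LO hx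
    have hmO := NN_le hm
    have h4 := h.LN hm hx
    rw [h3, h.commZ hnx hmO, mul_inv_cancel_right, ← h.commZ h4
      (O.mul_mem (O.mul_mem hxO (h.ZO hnx)) hyO), mul_assoc x ζ y, ← h.commZ hnx hyO]
    have e : (x * y)⁻¹ * (x * (y * ζ) * (m * x * m⁻¹ * x⁻¹) * η) =
        ζ * (m * x * m⁻¹ * x⁻¹) * η := by group
    rw [e]
    exact (zpowers z).mul_mem ((zpowers z).mul_mem hnx h4) hmy
  inv_mem' := by
    rintro x ⟨hx, n, hn, hnx⟩
    refine ⟨h.LL.inv_mem hx, n⁻¹, (NN V O).inv_mem hn, ?_⟩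
    set ζ := x⁻¹ * (n * v * n⁻¹ * v⁻¹) with hζ
    have h1 : n * v * n⁻¹ * v⁻¹ = x * ζ := by rw [hζ]; group
    have h2 : n⁻¹ * v * n⁻¹⁻¹ * v⁻¹ = n⁻¹ * (n * v * n⁻¹ * v⁻¹)⁻¹ * n := by group
    have hnO := NN_le hn
    have hxO := h.LO hx
    have h5 := h.LN ((NN V O).inv_mem hn) (h.LL.inv_mem hx)
    rw [h2, h1]
    have e : x⁻¹⁻¹ * (n⁻¹ * (x * ζ)⁻¹ * n) =
        x * (n⁻¹ * ζ⁻¹ * n) * (n⁻¹ * x⁻¹ * n⁻¹⁻¹ * x⁻¹⁻¹) * x⁻¹ := by group
    have hζi := (zpowers z).inv_mem hnx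
    rw [e, h.commZ hζi (O.inv_mem hnO), inv_mul_cancel_right, h.commZ hζi hxO, mul_assoc, mul_assoc,
      ← h.commZ h5 (O.inv_mem hxO), ← mul_assoc x, mul_inv_cancel, one_mul]
    exact (zpowers z).mul_mem hζi h5

theorem full_of (h : Core V O z b c w) (hne : ¬ NN V O ≤ O ⊓ normalizer (V : Set G)) {v : G}
    {n n' k k' : G} (hn : n ∈ NN V O) (hn' : n' ∈ NN V O) (hk : k ∈ h.LL)
    (hk' : k' ∈ h.LL) (hnk : k⁻¹ * (n * v * n⁻¹ * v⁻¹) ∈ zpowers z)
    (hnk' : k'⁻¹ * (n' * v * n'⁻¹ * v⁻¹) ∈ zpowers z) (hkZ : k ∉ zpowers z) (hkZ' : k' ∉ zpowers z)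
    (hkk : k⁻¹ * k' ∉ zpowers z) : h.Full v := by
  set K := h.KK v with hK
  have hKL : K ≤ h.LL := fun x hx => hx.1
  have hZK : zpowers z ≤ K := by
    intro ζ hζ
    refine ⟨h.ZL hζ, 1, (NN V O).one_mem, ?_⟩
    have e : ζ⁻¹ * (1 * v * 1⁻¹ * v⁻¹) = ζ⁻¹ := by group
    rw [e]
    exact (zpowers z).inv_mem hζ
  have hkK : k ∈ K := ⟨hk, n, hn, hnk⟩
  have hkK' : k' ∈ K := ⟨hk', n', hn', hnk'⟩
  have h1 : Nat.card K ∣ 8 := h.card_L hne ▸ card_dvd_of_le hKL
  have h2 : Nat.card K ≠ 1 := by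
    intro h2
    rw [Subgroup.card_eq_one] at h2
    rw [h2, mem_bot] at hkK
    exact hkZ (hkK ▸ one_mem _)
  have h3 : Nat.card K ≠ 2 := by
    intro h3
    have h4 : zpowers z = K := Subgroup.eq_of_le_of_card_ge hZK (by rw [h3, h.card_Z])
    exact hkZ (h4 ▸ hkK)
  have h4 : Nat.card K ≠ 4 := by
    intro h4
    have h5 : Nat.card ((zpowers z).subgroupOf K) = 2 := by
      rw [Nat.card_congr (subgroupOfEquivOfLe hZK).toEquiv, h.card_Z]
    have h6 := Subgroup.card_mul_index ((zpowers z).subgroupOf K)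
    rw [h5, h4] at h6
    have h7 : ((zpowers z).subgroupOf K).index = 2 := by omega
    have h8 := Subgroup.mul_mem_iff_of_index_two h7 (a := (⟨k, hkK⟩ : K)⁻¹) (b := ⟨k', hkK'⟩)
    have h9 : (⟨k, hkK⟩ : K)⁻¹ * ⟨k', hkK'⟩ ∉ (zpowers z).subgroupOf K := hkk
    have h10 : (⟨k, hkK⟩ : K)⁻¹ ∉ (zpowers z).subgroupOf K := fun h' =>
      hkZ (((zpowers z).inv_mem_iff).mp h')
    have h11 : (⟨k', hkK'⟩ : K) ∉ (zpowers z).subgroupOf K := hkZ'
    exact h9 (h8.mpr (iff_of_false h10 h11))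
  have h5 : Nat.card K = 8 := by
    have h7 := Nat.le_of_dvd (by norm_num) h1
    interval_cases hc : Nat.card K <;> omega
  have h6 : K = h.LL := Subgroup.eq_of_le_of_card_ge hKL (by rw [h5, h.card_L hne])
  intro x hx
  exact (h6 ▸ hx : x ∈ K).2

theorem full_w (h : Core V O z b c w) {v : G} (hf : h.Full v) : h.Full (w * v * w⁻¹) := by
  intro x hx
  have hx' : w⁻¹ * x * w ∈ h.LL := by
    have h1 := (mem_normalizer_iff.mp (inv_mem h.wL) x).mp hx
    rwa [inv_inv] at h1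
  obtain ⟨n, hn, hnx⟩ := hf _ hx'
  refine ⟨w * n * w⁻¹, (mem_normalizer_iff.mp h.wNN n).mp hn, ?_⟩
  have h2 := (mem_normalizer_iff.mp h.w_Z _).mp hnx
  have e : x⁻¹ * (w * n * w⁻¹ * (w * v * w⁻¹) * (w * n * w⁻¹)⁻¹ * (w * v * w⁻¹)⁻¹) =
      w * ((w⁻¹ * x * w)⁻¹ * (n * v * n⁻¹ * v⁻¹)) * w⁻¹ := by group
  rw [e]
  exact h2

omit [Finite G] in
/-- `V` is the centraliser of `z`, `b`, `c`. -/
theorem mem_V (h : Core V O z b c w) {x : G} (xz : x * z = z * x) (xb : x * b = b * x)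
    (xc : x * c = c * x) : x ∈ V := by
  refine h.cent x fun v hv => ?_
  have hcen : ∀ y, x * y = y * x → y ∈ centralizer ({x} : Set G) := fun y hy =>
    mem_centralizer_singleton_iff.mpr hy.symm
  have h8 : v ∈ centralizer ({x} : Set G) := by
    rcases h.bas.cases h.cardV h.sq hv with rfl | rfl | rfl | rfl | rfl | rfl | rfl | rfl
    · exact one_mem _
    · exact hcen _ xz
    · exact hcen _ xb
    · exact mul_mem (hcen _ xz) (hcen _ xb)
    · exact hcen _ xc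
    · exact mul_mem (hcen _ xc) (hcen _ xz)
    · exact mul_mem (hcen _ xc) (hcen _ xb)
    · exact mul_mem (hcen _ xc) (mul_mem (hcen _ xz) (hcen _ xb))
  exact (mem_centralizer_singleton_iff.mp h8).symm

theorem not_full (h : Core V O z b c w) (hne : ¬ NN V O ≤ O ⊓ normalizer (V : Set G)) :
    ¬ h.Full b := by
  intro fb
  have fc : h.Full c := by
    have := h.full_w fb
    rwa [h.wb] at this
  have fbc : h.Full (b * c) := by
    have := h.full_w fc
    rwa [h.wc] at this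
  have hbV := h.bas.bV
  have hcV := h.bas.cV
  have h1 : h.LL ≤ zpowers z := by
    intro x hx
    obtain ⟨n, -, hn⟩ := fb x hx
    obtain ⟨n', -, hn'⟩ := fc x hx
    obtain ⟨n'', -, hn''⟩ := fbc x hx
    have ib := h.inv_of hbV hx hn
    have ic := h.inv_of hcV hx hn'
    have ibc := h.inv_of (V.mul_mem hbV hcV) hx hn''
    have e : b * c * x * (b * c)⁻¹ = b * (c * x * c⁻¹) * b⁻¹ := by group
    have e2 : b * x⁻¹ * b⁻¹ = (b * x * b⁻¹)⁻¹ := by group
    rw [e, ic, e2, ib, inv_inv] at ibc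
    rw [← ibc] at ib ic
    refine h.VL hne (h.mem_V (h.zO x (h.LO hx)) ?_ ?_) hx
    · rw [mul_inv_eq_iff_eq_mul] at ib
      exact ib.symm
    · rw [mul_inv_eq_iff_eq_mul] at ic
      exact ic.symm
  have h2 := card_dvd_of_le h1
  rw [h.card_L hne, h.card_Z] at h2
  norm_num at h2

theorem Lcomm (h : Core V O z b c w) {v x : G} (hv : v ∈ V) (hx : x ∈ h.LL) :
    v * x * v⁻¹ * x⁻¹ ∈ zpowers z := h.LN (QN (h.VN hv)) hx

theorem claimA (h : Core V O z b c w) (hne : ¬ NN V O ≤ O ⊓ normalizer (V : Set G)) {n : G}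
    (hn : n ∈ NN V O) (hb : n * b * n⁻¹ * b⁻¹ ∈ zpowers z) : n * c * n⁻¹ * c⁻¹ ∈ zpowers z := by
  by_contra hkZ
  have hbV := h.bas.bV
  have hcV := h.bas.cV
  have hk := h.f4 hne hn (h.VN hcV)
  set k := n * c * n⁻¹ * c⁻¹ with hkdef
  have hk' : w * k * w⁻¹ ∈ h.LL := (mem_normalizer_iff.mp h.wL k).mp hk
  have hfull : h.Full (b * c) := by
    refine h.full_of hne hn ((mem_normalizer_iff.mp h.wNN n).mp hn) hk hk'
      ?_ ?_ hkZ ?_ fun h' => hkZ (h.fmod (h.LQ hk) h')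
    · have e : n * (b * c) * n⁻¹ * (b * c)⁻¹ =
          (n * b * n⁻¹ * b⁻¹) * ((b * (n * c * n⁻¹ * c⁻¹) * b⁻¹ * (n * c * n⁻¹ * c⁻¹)⁻¹) *
            (n * c * n⁻¹ * c⁻¹)) := by group
      have h2 := h.Lcomm hbV hk
      rw [e, ← hkdef, ← h.commZ hb (O.mul_mem (h.ZO h2) (h.LO hk)), ← h.commZ h2 (h.LO hk), mul_assoc,
        inv_mul_cancel_left]
      exact (zpowers z).mul_mem h2 hb
    · have e : w * n * w⁻¹ * (b * c) * (w * n * w⁻¹)⁻¹ * (b * c)⁻¹ = w * k * w⁻¹ := by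
        rw [← h.wc, hkdef]
        group
      rw [e, inv_mul_cancel]
      exact one_mem _
    · intro h'
      exact hkZ ((mem_normalizer_iff.mp h.w_Z k).mpr h')
  apply h.not_full hne
  have := h.full_w hfull
  rwa [h.wbc] at this

theorem claimA' (h : Core V O z b c w) (hne : ¬ NN V O ≤ O ⊓ normalizer (V : Set G)) {n : G}
    (hn : n ∈ NN V O) (hb : n * b * n⁻¹ * b⁻¹ ∈ zpowers z) : n ∈ O ⊓ normalizer (V : Set G) := by
  have hc := h.claimA hne hn hb
  have hz : n * z * n⁻¹ * z⁻¹ ∈ zpowers z := by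
    rw [h.zO n (NN_le hn), mul_inv_cancel_right, mul_inv_cancel]
    exact one_mem _
  have hmul : ∀ u v, u ∈ V → n * u * n⁻¹ * u⁻¹ ∈ zpowers z → n * v * n⁻¹ * v⁻¹ ∈ zpowers z →
      n * (u * v) * n⁻¹ * (u * v)⁻¹ ∈ zpowers z := by
    intro u v hu h1 h2
    have e : n * (u * v) * n⁻¹ * (u * v)⁻¹ =
      (n * u * n⁻¹ * u⁻¹) * (u * (n * v * n⁻¹ * v⁻¹) * u⁻¹) := by group
    rw [e, h.commZ h2 (h.VO hu), mul_inv_cancel_right]
    exact (zpowers z).mul_mem h1 h2
  have hall : ∀ v ∈ V, n * v * n⁻¹ * v⁻¹ ∈ zpowers z := by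
    intro v hv
    have zV := h.bas.aV
    have bV := h.bas.bV
    have cV := h.bas.cV
    rcases h.bas.cases h.cardV h.sq hv with rfl | rfl | rfl | rfl | rfl | rfl | rfl | rfl
    · simp
    · exact hz
    · exact hb
    · exact hmul _ _ zV hz hb
    · exact hc
    · exact hmul _ _ cV hc hz
    · exact hmul _ _ cV hc hb
    · exact hmul _ _ cV hc (hmul _ _ zV hz hb)
  refine ⟨NN_le hn, mem_normalizer_of_forall fun v hv => ?_⟩
  have h2 := V.mul_mem (h.ZV (hall v hv)) hv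
  rwa [inv_mul_cancel_right] at h2

theorem claimB (h : Core V O z b c w) (hne : ¬ NN V O ≤ O ⊓ normalizer (V : Set G)) {n n' : G}
    (hn : n ∈ NN V O) (hn' : n' ∈ NN V O) (hnQ : n ∉ O ⊓ normalizer (V : Set G))
    (hnQ' : n' ∉ O ⊓ normalizer (V : Set G)) : n⁻¹ * n' ∈ O ⊓ normalizer (V : Set G) := by
  have hbV := h.bas.bV
  have hk := h.f4 hne hn (h.VN hbV)
  have hk' := h.f4 hne hn' (h.VN hbV)
  have hkZ : n * b * n⁻¹ * b⁻¹ ∉ zpowers z := fun h' => hnQ (h.claimA' hne hn h')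
  have hkZ' : n' * b * n'⁻¹ * b⁻¹ ∉ zpowers z := fun h' => hnQ' (h.claimA' hne hn' h')
  set k := n * b * n⁻¹ * b⁻¹ with hkdef
  set k' := n' * b * n'⁻¹ * b⁻¹ with hkdef'
  have hkk : k⁻¹ * k' ∈ zpowers z := by
    by_contra hkk
    refine h.not_full hne (h.full_of hne hn hn' hk hk' ?_ ?_ hkZ hkZ' hkk)
    · rw [← hkdef, inv_mul_cancel]
      exact one_mem _
    · rw [← hkdef', inv_mul_cancel]
      exact one_mem _
  refine h.claimA' hne ((NN V O).mul_mem ((NN V O).inv_mem hn) hn') ?_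
  have e : n⁻¹ * n' * b * (n⁻¹ * n')⁻¹ * b⁻¹ = n⁻¹ * (k * (k⁻¹ * k') * k⁻¹) * n := by
    rw [hkdef, hkdef']
    group
  rw [e, h.commZ hkk (h.LO hk), mul_inv_cancel_right, h.commZ hkk (O.inv_mem (NN_le hn)),
    inv_mul_cancel_right]
  exact hkk

omit [Finite G] in
theorem relIndex_le_two {H K : Subgroup G} (hH : ∀ a ∈ K, ∀ b ∈ K, a ∉ H → b ∉ H → a⁻¹ * b ∈ H) :
    H.relIndex K ∣ 2 := by
  rw [relIindex_dvd_two_iff']
  by_cases hKH : K ≤ H
  · exact ⟨1, K.one_mem, fun b hb => Or.inr (hKH hb)⟩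
  · obtain ⟨a, haK, haH⟩ := SetLike.not_le_iff_exists.mp hKH
    refine ⟨a⁻¹, K.inv_mem haK, fun b hb => ?_⟩
    by_cases hbH : b ∈ H
    · exact Or.inr hbH
    · exact Or.inl (hH a haK b hb haH hbH)

theorem relIndex_NN (h : Core V O z b c w) (hne : ¬ NN V O ≤ O ⊓ normalizer (V : Set G)) :
    (O ⊓ normalizer (V : Set G)).relIndex (NN V O) ∣ 2 :=
  relIndex_le_two fun _ ha _ hb haH hbH => h.claimB hne ha hb haH hbH

omit [Finite G] in
theorem card_eq_relIndex {H K : Subgroup G} (hHK : H ≤ K) :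
    Nat.card K = Nat.card H * H.relIndex K := by
  have h1 := Subgroup.card_mul_index (H.subgroupOf K)
  rw [Nat.card_congr (subgroupOfEquivOfLe hHK).toEquiv] at h1
  exact h1.symm

theorem card_NN_le (h : Core V O z b c w) (hne : ¬ NN V O ≤ O ⊓ normalizer (V : Set G)) :
    Nat.card (NN V O) ≤ 64 := by
  rw [card_eq_relIndex QN, h.cardN]
  have := Nat.le_of_dvd (by norm_num) (h.relIndex_NN hne)
  omega

/-- **The bound.** -/
theorem card_le (h : Core V O z b c w) : Nat.card O ≤ 64 := by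
  have hf : Fact (Nat.Prime 2) := ⟨Nat.prime_two⟩
  set Q := O ⊓ normalizer (V : Set G) with hQ
  by_cases hne : NN V O ≤ Q
  · -- `O = Q`
    have h1 : O ≤ Q := by
      by_contra hOQ
      obtain ⟨x, hxO, hxQ, hxN⟩ := Cfsg.Agent.Involutions.BaerSuzuki.exists_mem_normalizer_of_lt
        h.two (lt_of_le_not_ge (inf_le_left : Q ≤ O) hOQ)
      exact hxQ (hne ⟨hxO, hxN⟩)
    have h2 := card_dvd_of_le h1
    rw [h.cardN] at h2
    exact (Nat.le_of_dvd (by norm_num) h2).trans (by norm_num)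
  · have hN := h.card_NN_le hne
    suffices hO : O ≤ NN V O from (Nat.le_of_dvd Nat.card_pos (card_dvd_of_le hO)).trans hN
    by_contra hON
    obtain ⟨g, hgO, hgN, hgn⟩ := Cfsg.Agent.Involutions.BaerSuzuki.exists_mem_normalizer_of_lt
      h.two (lt_of_le_not_ge (NN_le (V := V)) hON)
    set Q' := Q.map (MulAut.conj g).toMonoidHom with hQ'
    have hcQ' : Nat.card Q' = 32 := by
      rw [hQ', Nat.card_congr (Q.equivMapOfInjective (MulAut.conj g).toMonoidHom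
        (MulAut.conj g).injective).toEquiv.symm, h.cardN]
    have hQ'N : Q' ≤ NN V O := by
      rintro _ ⟨q, hq, rfl⟩
      exact (mem_normalizer_iff.mp hgn q).mp (QN hq)
    have hQ'Q : ¬ Q' ≤ Q := by
      intro hle
      refine hgN ⟨hgO, mem_normalizer_of_forall fun q hq => hle ⟨q, hq, rfl⟩⟩
    have hr := h.relIndex_NN hne
    have hrN : Q'.relIndex (NN V O) ≤ 2 := by
      have h1 := card_eq_relIndex hQ'N
      rw [hcQ'] at h1
      omega
    -- `|Q ∩ Q'| ≥ 16`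
    have h16 : 16 ≤ Nat.card (Q ⊓ Q' : Subgroup G) := by
      have h1 := card_eq_relIndex (inf_le_left : Q ⊓ Q' ≤ Q)
      rw [h.cardN] at h1
      have h2 : (Q ⊓ Q').relIndex Q ≤ 2 := by
        rw [inf_relIndex_left]
        refine (relIndex_le_of_le_right (QN (V := V) (O := O)) ?_).trans hrN
        exact Subgroup.index_ne_zero_of_finite
      by_contra hlt
      have h3 : Nat.card (Q ⊓ Q' : Subgroup G) * (Q ⊓ Q').relIndex Q ≤ 15 * 2 :=
        Nat.mul_le_mul (by omega) h2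
      omega
    -- `Q ∩ Q' ≤ LL`
    have hsub : Q ⊓ Q' ≤ h.LL := by
      rintro q ⟨hq, hq'⟩
      refine ⟨hq, ?_⟩
      set D := dn (zpowers q) (NN V O) (zpowers z) h.NZ with hD
      have hqO : q ∈ O := hq.1
      have hcomm : ∀ y ∈ NN V O, q * y * q⁻¹ * y⁻¹ ∈ zpowers z → y * q * y⁻¹ * q⁻¹ ∈ zpowers z := by
        intro y _ hy
        have e : y * q * y⁻¹ * q⁻¹ = (q * y * q⁻¹ * y⁻¹)⁻¹ := by group
        rw [e]
        exact (zpowers z).inv_mem hy
      -- the elements commuting with `q` modulo `z`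
      have hqn : q ∈ normalizer (zpowers z : Set G) := h.O_Z hqO
      let F : Subgroup G :=
        { carrier := {y | y ∈ O ∧ y * q * y⁻¹ * q⁻¹ ∈ zpowers z}
          one_mem' := ⟨O.one_mem, by simp⟩
          mul_mem' := by
            rintro x y ⟨hx, hxq⟩ ⟨hy, hyq⟩
            refine ⟨O.mul_mem hx hy, ?_⟩
            have e : x * y * q * (x * y)⁻¹ * q⁻¹ = (x * (y * q * y⁻¹ * q⁻¹) * x⁻¹) *
              (x * q * x⁻¹ * q⁻¹) := by group
            rw [e, h.commZ hyq hx, mul_inv_cancel_right]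
            exact (zpowers z).mul_mem hyq hxq
          inv_mem' := by
            rintro x ⟨hx, hxq⟩
            refine ⟨O.inv_mem hx, ?_⟩
            have e : x⁻¹ * q * x⁻¹⁻¹ * q⁻¹ = x⁻¹ * (x * q * x⁻¹ * q⁻¹)⁻¹ * x := by group
            have h4 := (zpowers z).inv_mem hxq
            rw [e, h.commZ h4 (O.inv_mem hx), inv_mul_cancel_right]
            exact h4 }
      have hQF : Q ≤ F := fun y hy => ⟨hy.1, h.f3 hne hy hq⟩
      have hQ'F : Q' ≤ F := by
        rintro _ ⟨y, hy, rfl⟩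
        obtain ⟨p, hp, hpq⟩ := hq'
        have hpq' : g * p * g⁻¹ = q := hpq
        refine ⟨(NN_le (hQ'N ⟨y, hy, rfl⟩)), ?_⟩
        show g * y * g⁻¹ * q * (g * y * g⁻¹)⁻¹ * q⁻¹ ∈ zpowers z
        rw [← hpq']
        have e : g * y * g⁻¹ * (g * p * g⁻¹) * (g * y * g⁻¹)⁻¹ * (g * p * g⁻¹)⁻¹ =
          g * (y * p * y⁻¹ * p⁻¹) * g⁻¹ := by group
        have h5 := h.f3 hne hy hp
        rw [e, h.commZ h5 hgO, mul_inv_cancel_right]
        exact h5
      have hsup : Q ⊔ Q' = NN V O := by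
        refine Subgroup.eq_of_le_of_card_ge (sup_le QN hQ'N) ?_
        refine hN.trans ?_
        have h6 := card_eq_relIndex (le_sup_left : Q ≤ Q ⊔ Q')
        have h7 : Q.relIndex (Q ⊔ Q') ≠ 1 := by
          intro h7
          rw [relIndex_eq_one] at h7
          exact hQ'Q (le_sup_right.trans h7)
        have h8 : Q.relIndex (Q ⊔ Q') ≠ 0 := Subgroup.index_ne_zero_of_finite
        rw [h6, h.cardN]
        omega
      intro y hy
      rw [← hsup] at hy
      exact (sup_le hQF hQ'F hy).2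
    have h9 := Nat.le_of_dvd Nat.card_pos (card_dvd_of_le hsub)
    rw [h.card_L hne] at h9
    omega

end Core

/-! ### The main result -/

section Main

variable [Finite G] {V M : Subgroup G}

theorem card_two_le (P : Plane M V V) {A : Subgroup G} (hA : IsPGroup 2 A) (hAM : A ≤ M) :
    Nat.card A ≤ 64 := by
  have h1 := ThinLinear.card_le P hA hAM
  have h2 := Nat.le_of_dvd Nat.card_pos (card_dvd_of_le (inf_le_right : A ⊓ V ≤ V))
  rw [P.card_V] at h2
  omega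

/-- The Sylow 2-subgroups of `C_M(z)` are not normal. -/
theorem not_normal (P : Plane M V V) {z : G} (hz : z ∈ V) (hz1 : z ≠ 1) {T : Subgroup G}
    (hT2 : IsPGroup 2 T) (hTM : T ≤ M) (hTc : Nat.card T = 64)
    (hn : centralizer ({z} : Set G) ⊓ M ≤ normalizer (T : Set G)) : False := by
  have hf : Fact (Nat.Prime 2) := ⟨Nat.prime_two⟩
  set X := centralizer ({z} : Set G) with hX
  have hV2 : IsPGroup 2 V := IsPGroup.of_card (n := 3) (by rw [P.card_V]; norm_num)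
  have hmem : ∀ x ∈ X, x ∈ M → (∃ k : ℕ, x ^ 2 ^ k = 1) → x ∈ T := by
    rintro x hxX hxM ⟨k, hk⟩
    have h1 : IsPGroup 2 (zpowers x) := FrameAut.isPGroup_zpowers_of_pow hk
    have h2 : IsPGroup 2 (zpowers x ⊔ T : Subgroup G) :=
      IsPGroup.to_sup_of_normal_right' h1 hT2 (by rw [zpowers_le]; exact hn ⟨hxX, hxM⟩)
    have h3 := card_two_le P h2 (sup_le (by rw [zpowers_le]; exact hxM) hTM)
    have h4 : T = zpowers x ⊔ T := Subgroup.eq_of_le_of_card_ge le_sup_right (by rw [hTc]; exact h3)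
    rw [h4]
    exact mem_sup_left (mem_zpowers x)
  obtain ⟨σ, τ, hσ, hτ, hσ2, hτ2, h3, hne⟩ := FrameAut.exists_pair (sqV P) P.card_V
    (a := (⟨z, hz⟩ : V)) (fun hh => hz1 (congrArg Subtype.val hh))
  have hlift : ∀ φ : MulAut V, φ ⟨z, hz⟩ = ⟨z, hz⟩ → φ * φ = 1 →
      ∃ x : M, rho P.HV x = φ ∧ (x : G) ∈ T := by
    intro φ hφ hφ2
    obtain ⟨x, hx⟩ := rho_surjective P φ
    refine ⟨x, hx, ?_⟩
    have hxv : (x : G) * z * (x : G)⁻¹ = z := by
      have := congrArg Subtype.val (DFunLike.congr_fun hx (⟨z, hz⟩ : V))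
      rw [coe_rho, hφ] at this
      exact this
    have hxX : (x : G) ∈ X := by
      rw [hX, mem_centralizer_singleton_iff]
      calc (x : G) * z = (x * z * (x : G)⁻¹) * x := by group
        _ = z * x := by rw [hxv]
    refine hmem x hxX x.2 ?_
    have hxQ : (x : G) * x ∈ V := by
      have h4 : rho P.HV (x * x) = 1 := by rw [map_mul, hx, hφ2]
      rw [rho_eq_one_iff P] at h4
      exact h4
    obtain ⟨k, hk⟩ := hV2 ⟨_, hxQ⟩
    refine ⟨k + 1, ?_⟩
    rw [pow_succ', pow_mul, pow_two]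
    exact congrArg Subtype.val hk
  obtain ⟨x, hx, hxT⟩ := hlift σ hσ hσ2
  obtain ⟨y, hy, hyT⟩ := hlift τ hτ hτ2
  obtain ⟨k, hk⟩ := hT2 ⟨(x : G) * y, T.mul_mem hxT hyT⟩
  have hk0 : ((x : G) * y) ^ 2 ^ k = 1 := congrArg Subtype.val hk
  have hk' : (x * y) ^ 2 ^ k = 1 := Subtype.ext hk0
  have h4 : (σ * τ) ^ 2 ^ k = 1 := by
    rw [← hx, ← hy, ← map_mul, ← map_pow, hk', map_one]
  apply hne
  have h5 : orderOf (σ * τ) ∣ 3 := orderOf_dvd_of_pow_eq_one h3
  have h6 : orderOf (σ * τ) ∣ 2 ^ k := orderOf_dvd_of_pow_eq_one h4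
  have h7 : Nat.Coprime 3 (2 ^ k) := Nat.Coprime.pow_right k (by norm_num)
  rw [← orderOf_eq_one_iff]
  exact Nat.eq_one_of_dvd_coprimes h7 h5 h6

/-- The element of order 3. -/
theorem exists_w (P : Plane M V V) {z b c : G} (hb : Bas V z b c) :
    ∃ w ∈ M, orderOf w = 3 ∧ w * z * w⁻¹ = z ∧ w * b * w⁻¹ = c ∧ w * c * w⁻¹ = b * c := by
  have sq := P.sq
  have cm : ∀ a ∈ V, ∀ b ∈ V, a * b = b * a := fun a ha b hb => comm_of_sq sq ha hb
  have cancel : ∀ a ∈ V, ∀ b, a * (a * b) = b := fun a ha b => by rw [← mul_assoc, sq a ha, one_mul]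
  have zV := hb.aV
  have bV := hb.bV
  have cV := hb.cV
  have hb' : Bas V z c (b * c) := by
    refine ⟨zV, cV, V.mul_mem bV cV, hb.a1, hb.c1, hb.ca, mul_ne sq bV hb.cb, ?_, ?_, ?_⟩
    · intro h'
      apply hb.cab
      rw [← h', mul_assoc, cm c cV b bV, cancel b bV]
    · exact fun h' => hb.b1 (mul_eq_right.mp h')
    · exact fun h' => hb.ba (mul_right_cancel h')
  obtain ⟨g, hg, g1, g2, g3⟩ := P.exists_conj hb hb'
  have e3 : ∀ y, (g * g * g) * y * (g * g * g)⁻¹ = g * (g * (g * y * g⁻¹) * g⁻¹) * g⁻¹ := fun y => by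
    group
  have hmap : ∀ x y, g * (x * y) * g⁻¹ = (g * x * g⁻¹) * (g * y * g⁻¹) := fun x y => by group
  have gbc : g * (b * c) * g⁻¹ = b := by
    rw [hmap, g2, g3, cm b bV c cV, cancel c cV]
  have hu : g * g * g ∈ V := by
    refine P.mem_Q hb (M.mul_mem (M.mul_mem hg hg) hg) ?_ ?_ ?_
    · rw [e3, g1, g1, g1]
    · rw [e3, g2, g3, gbc]
    · rw [e3, g3, gbc, g2]
  have huu := sq _ hu
  have hw : ∀ y ∈ V, (g * (g * g * g)) * y * (g * (g * g * g))⁻¹ = g * y * g⁻¹ := by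
    intro y hy
    have e : (g * (g * g * g)) * y * (g * (g * g * g))⁻¹ =
      g * ((g * g * g) * y * (g * g * g)⁻¹) * g⁻¹ := by group
    rw [e, cm _ hu _ hy, mul_inv_cancel_right]
  have hf3 : Fact (Nat.Prime 3) := ⟨Nat.prime_three⟩
  refine ⟨g * (g * g * g), M.mul_mem hg (M.mul_mem (M.mul_mem hg hg) hg), ?_, ?_, ?_, ?_⟩
  · apply orderOf_eq_prime
    · have e : (g * (g * g * g)) ^ 3 = (g * g * g) * (g * g * g) * ((g * g * g) * (g * g * g)) := by
        simp only [pow_succ, pow_zero, one_mul, mul_assoc]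
      rw [e, huu, mul_one]
    · intro h1
      have h2 := hw b bV
      rw [h1, g2] at h2
      apply hb.cb
      rw [← h2]
      group
  · rw [hw z zV, g1]
  · rw [hw b bV, g2]
  · rw [hw c cV, g3]

/-- **The thin case with `Q = V`.** -/
theorem card_le (V M : Subgroup G) (P : Plane M V V) (hM : normalizer (V : Set G) = M)
    (T2 : ∀ z : G, orderOf z = 2 → ∀ T : Subgroup G, T ≤ centralizer ({z} : Set G) → IsPGroup 2 T →
      Nat.card T ≤ 2 * Nat.card (T ⊓ o2 (centralizer ({z} : Set G)) : Subgroup G))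
    (S : Sylow 2 G) : Nat.card S ≤ 2 ^ 7 := by
  have hf : Fact (Nat.Prime 2) := ⟨Nat.prime_two⟩
  have hV2 : IsPGroup 2 V := IsPGroup.of_card (n := 3) (by rw [P.card_V]; norm_num)
  have hVM : V ≤ M := P.QH
  obtain ⟨K, hK⟩ := Sylow.exists_subgroup_card_pow_prime (G := M) 2 (n := 6)
    (by rw [P.card_H, P.card_V]; norm_num)
  set T := K.map M.subtype with hT
  have hTc : Nat.card T = 64 := by
    rw [hT, Nat.card_congr (K.equivMapOfInjective M.subtype M.subtype_injective).toEquiv.symm, hK]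
    norm_num
  have hT2 : IsPGroup 2 T := IsPGroup.of_card (n := 6) (by rw [hTc]; norm_num)
  have hTM : T ≤ M := map_subtype_le K
  have hVT : V ≤ T := by
    have h1 : IsPGroup 2 (T ⊔ V : Subgroup G) :=
      IsPGroup.to_sup_of_normal_right' hT2 hV2 (hTM.trans P.HV)
    have h2 := card_two_le P h1 (sup_le hTM hVM)
    have h3 : T = T ⊔ V := Subgroup.eq_of_le_of_card_ge le_sup_left (by rw [hTc]; exact h2)
    rw [h3]
    exact le_sup_right
  obtain ⟨S', hS'⟩ := hT2.exists_le_sylow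
  have hS1 : (S' : Subgroup G) ≠ ⊥ := by
    intro h1
    have h2 : T = ⊥ := le_bot_iff.mp (h1 ▸ hS')
    rw [h2, card_bot] at hTc
    norm_num at hTc
  obtain ⟨z, -, hz, hSz⟩ := Setup.exists_orderOf_eq S'.isPGroup' hS1
  have hz1 : z ≠ 1 := by
    rintro rfl
    simp at hz
  set X := centralizer ({z} : Set G) with hX
  have hTX : T ≤ X := hS'.trans hSz
  have hcent : ∀ x : G, (∀ v ∈ V, x * v = v * x) → x ∈ V := by
    intro x hx
    have h1 : x ∈ centralizer (V : Set G) := mem_centralizer_iff.mpr fun v hv => (hx v hv).symm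
    refine P.cent ⟨?_, h1⟩
    rw [← hM]
    exact centralizer_le_normalizer _ h1
  have hzV : z ∈ V := hcent z fun v hv => (mem_centralizer_singleton_iff.mp (hTX (hVT hv))).symm
  set O := o2 X with hO
  have hO2 : IsPGroup 2 O := o2_isPGroup X
  have hOX : O ≤ X := o2_le X
  have hXO : X ≤ normalizer (O : Set G) := le_normalizer_o2 X
  set R := O ⊓ M with hR
  have hR2 : IsPGroup 2 R := hO2.to_le inf_le_left
  have hXR : X ⊓ M ≤ normalizer (R : Set G) := by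
    rintro x ⟨hx, hxM⟩
    refine mem_normalizer_of_forall ?_
    rintro y ⟨hy, hyM⟩
    exact ⟨(mem_normalizer_iff.mp (hXO hx) y).mp hy, M.mul_mem (M.mul_mem hxM hyM) (M.inv_mem hxM)⟩
  have hRT : R ≤ T := by
    have h1 : IsPGroup 2 (T ⊔ R : Subgroup G) :=
      IsPGroup.to_sup_of_normal_right' hT2 hR2 ((le_inf hTX hTM).trans hXR)
    have h2 := card_two_le P h1 (sup_le hTM inf_le_right)
    have h3 : T = T ⊔ R := Subgroup.eq_of_le_of_card_ge le_sup_left (by rw [hTc]; exact h2)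
    rw [h3]
    exact le_sup_right
  have hTO : T ⊓ O = R := le_antisymm (fun x hx => ⟨hx.2, hTM hx.1⟩) fun x hx => ⟨hRT hx, hx.1⟩
  have hR32 : 64 ≤ 2 * Nat.card R := by
    have := T2 z hz T hTX hT2
    rwa [hTc, ← hX, ← hO, hTO] at this
  have hRn : Nat.card R ≠ 64 := fun h1 =>
    not_normal P hzV hz1 hR2 inf_le_right h1 hXR
  have hRc : Nat.card R = 32 := by
    have h1 : Nat.card R ∣ 64 := hTc ▸ card_dvd_of_le hRT
    obtain ⟨k, hk⟩ := h1
    have hk3 : k ≤ 2 := by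
      by_contra hk3
      have : 32 * 3 ≤ Nat.card R * k := Nat.mul_le_mul (by omega) (by omega)
      omega
    interval_cases k <;> omega
  have hVR : V ≤ R := by
    by_contra hVR
    have hle : V ⊔ R ≤ T := sup_le hVT hRT
    have h1 : Nat.card (V ⊔ R : Subgroup G) = 64 := by
      have h2 : Nat.card (V ⊔ R : Subgroup G) ∣ 64 := hTc ▸ card_dvd_of_le hle
      have h3 := Core.card_eq_relIndex (le_sup_right : R ≤ V ⊔ R)
      have h4 : R.relIndex (V ⊔ R) ≠ 1 := by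
        intro h4
        rw [relIndex_eq_one] at h4
        exact hVR (le_sup_left.trans h4)
      have h5 : R.relIndex (V ⊔ R) ≠ 0 := Subgroup.index_ne_zero_of_finite
      have h6 := Nat.le_of_dvd (by norm_num) h2
      rw [h3, hRc] at h6 ⊢
      omega
    refine not_normal P hzV hz1 (hT2.to_le hle) (sup_le hVM inf_le_right) h1 ?_
    refine le_trans (le_inf ?_ hXR) (normalizer_inf_normalizer_le_normalizer_sup V R)
    exact inf_le_right.trans P.HV
  obtain ⟨b, c, hb⟩ := exists_bas P.card_V P.sq hzV hz1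
  obtain ⟨w, hwM, w3, wz, wb, wc⟩ := exists_w P hb
  have hwX : w ∈ X := by
    rw [hX, mem_centralizer_singleton_iff]
    calc w * z = (w * z * w⁻¹) * w := by group
      _ = z * w := by rw [wz]
  have core : Core V O z b c w :=
    { bas := hb
      cardV := P.card_V
      sq := P.sq
      cent := hcent
      two := hO2
      zO := fun x hx => mem_centralizer_singleton_iff.mp (hOX hx)
      w3 := w3
      wz := wz
      wb := wb
      wc := wc
      wO := hXO hwX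
      wV := P.HV hwM
      VO := hVR.trans inf_le_left
      cardN := by rw [hM]; exact hRc }
  have h64 := core.card_le
  have h1 := T2 z hz (S' : Subgroup G) hSz S'.isPGroup'
  have h2 : Nat.card ((S' : Subgroup G) ⊓ O : Subgroup G) ≤ 64 :=
    (Nat.le_of_dvd Nat.card_pos (card_dvd_of_le inf_le_right)).trans h64
  rw [Nat.card_congr (Sylow.equiv S S').toEquiv]
  have h3 : Nat.card S' ≤ 2 * Nat.card ((S' : Subgroup G) ⊓ O : Subgroup G) := h1
  omega

end Main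

end Cfsg.Agent.SmallSimple.S1000.ThinOne
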