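import Mathlib
import Cfsg.Agent.SmallSimple.S1000.SevenCases
import Cfsg.Agent.SmallSimple.S1000.ThinHomo
import Cfsg.Agent.SmallSimple.S1000.ThinLinear
import Cfsg.Agent.SmallSimple.S1000.ThinEight
import Cfsg.Agent.SmallSimple.S1000.ThinOne
import Cfsg.Agent.SmallSimple.S1000.Degrees

/-!
# The thin case for `p = 7`: `b ≤ 13`
-/

set_option autoImplicit false

namespace Cfsg.Agent.SmallSimple.S1000.Thin

open Subgroup Cfsg Cfsg.Agent.ZN Cfsg.Agent.MinSimple.Basic Cfsg.Agent.MinSimple.VModule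
open Cfsg.Agent.SmallSimple.S1000.Setup Cfsg.Agent.SmallSimple.S1000.TwoModule
open Cfsg.Agent.SmallSimple.S1000.Local

universe u

variable {G : Type u} [Group G] [Finite G] {a b : ℕ}

/-- **T2** in the form used for the strongly embedded subgroup. -/
theorem card_le_inf (hl : Loc G) (ht : M23LE 1 G) (z : G) (hz : orderOf z = 2) (T : Subgroup G)
    (hT : T ≤ centralizer ({z} : Set G)) (hT2 : IsPGroup 2 T) :
    Nat.card T ≤ 2 * Nat.card (T ⊓ o2 (centralizer ({z} : Set G)) : Subgroup G) := by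
  have hf : Fact (Nat.Prime 2) := ⟨Nat.prime_two⟩
  set X := centralizer ({z} : Set G) with hX
  have hO2 : IsPGroup 2 (o2 X) := o2_isPGroup X
  have hTO : T ≤ normalizer (o2 X : Set G) := hT.trans (le_normalizer_o2 X)
  have hR : IsPGroup 2 (T ⊔ o2 X : Subgroup G) := hT2.to_sup_of_normal_right' hO2 hTO
  have hRX : T ⊔ o2 X ≤ X := sup_le hT (o2_le X)
  have hXn : X ≤ normalizer (zpowers z : Set G) := by
    rw [hX, ← centralizer_zpowers_eq]
    exact centralizer_le_normalizer _
  have h1 := ThinBasic.card_le_two_mul ht (isPGroup_zpowers_of_orderOf hz)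
    (zpowers_ne_bot_of_orderOf Nat.prime_two hz) hXn (hl.tt2 z hz) hR hRX
  have h2 := NonFF.card_mul_card_le (le_sup_left : T ≤ T ⊔ o2 X) (le_sup_right : o2 X ≤ T ⊔ o2 X)
  have h3 : 0 < Nat.card (o2 X) := Nat.card_pos
  have h4 : Nat.card T * Nat.card (o2 X) ≤
      2 * Nat.card (T ⊓ o2 X : Subgroup G) * Nat.card (o2 X) := by
    calc Nat.card T * Nat.card (o2 X)
        ≤ Nat.card (T ⊔ o2 X : Subgroup G) * Nat.card (T ⊓ o2 X : Subgroup G) := h2
      _ ≤ 2 * Nat.card (o2 X) * Nat.card (T ⊓ o2 X : Subgroup G) := Nat.mul_le_mul_right _ h1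
      _ = 2 * Nat.card (T ⊓ o2 X : Subgroup G) * Nat.card (o2 X) := by ring
  exact Nat.le_of_mul_le_mul_right h4 h3

omit [Finite G] in
theorem ne_top {p : ℕ} (h : Hyp G p a b) {M : Subgroup G} (hM : MaxLocal M) : M ≠ ⊤ := by
  rintro rfl
  have hfin := h.finite
  have hs := h.simple
  have hn : (o2 (⊤ : Subgroup G)).Normal := by
    rw [← normalizer_eq_top_iff, eq_top_iff]
    exact le_normalizer_o2 _
  rcases hn.eq_bot_or_eq_top with h1 | h1
  · exact hM.o2_ne_bot h1
  · obtain ⟨x, hx⟩ := hM.exists_orderOf h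
    have h2 : (x : G) ∈ o2 (⊤ : Subgroup G) := by rw [h1]; exact mem_top _
    obtain ⟨k, hk⟩ := o2_isPGroup (⊤ : Subgroup G) ⟨x, h2⟩
    have hk' : (x : G) ^ 2 ^ k = 1 := congrArg Subtype.val hk
    have h3 := orderOf_dvd_of_pow_eq_one hk'
    rw [Subgroup.orderOf_coe, hx] at h3
    have h4 := (Nat.prime_dvd_prime_iff_eq h.prime Nat.prime_two).mp (h.prime.dvd_of_dvd_pow h3)
    have := h.five_le
    omega

/-- The assembly, with the two end cases as hypotheses. -/
theorem thin_of (h : Hyp G 7 a b) (hl : Loc G) (ind : Ind G) (ht : M23LE 1 G)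
    (hEight : ∀ {M : Subgroup G}, MaxLocal M → ∀ {F : Type} [Field F] [Fintype F],
      Fintype.card F = 8 → Nonempty ((↥M ⧸ pCore 2 ↥M) ≃*
        Matrix.ProjectiveSpecialLinearGroup (Fin 2) F) → b = 9)
    (hOne : ∀ (V M : Subgroup G), ThinPlane.Plane M V V → normalizer (V : Set G) = M →
      ∀ S : Sylow 2 G, Nat.card S ≤ 2 ^ 7) : b ≤ 13 := by
  have hf : Fact (Nat.Prime 2) := ⟨Nat.prime_two⟩
  obtain ⟨M, hM⟩ := exists_maxLocal h
  rcases SevenCases.cases h hl ind ht hM with ⟨F, _, _, hF, he⟩ | ⟨x, w, hT⟩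
  · rw [hEight hM hF he]
    norm_num
  · obtain ⟨hcomm, hinv, m, hm, hcard, hpow, hroot⟩ := ThinHomo.homo hT
    have hT2 := card_le_inf hl ht
    rcases Nat.lt_or_ge m 2 with hm2 | hm2
    · -- `m = 1`
      have hm1 : m = 1 := by omega
      rw [hm1, pow_one] at hcard
      have hVQ : V M = o2 M := by
        refine eq_of_le_of_card_ge hT.VQ ?_
        rw [hcard, hT.pl.card_V]
      have hpl : ThinPlane.Plane M (V M) (V M) := by
        have := hT.pl
        rw [← hVQ] at this
        exact this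
      have hn : normalizer (V M : Set G) = M := by
        rw [hVQ]
        exact hM.normalizer_o2
      obtain ⟨S⟩ : Nonempty (Sylow 2 G) := inferInstance
      have h1 := hOne (V M) M hpl hn S
      have h2 : 2 ^ b ∣ Nat.card G := by
        rw [h.card]
        exact Dvd.intro_left _ rfl
      have h3 := (Nat.le_of_dvd Nat.card_pos (S.pow_dvd_card_of_pow_dvd_card h2)).trans h1
      have h4 := (Nat.pow_le_pow_iff_right (by norm_num)).mp h3
      omega
    · exfalso
      have hlin : ThinLinear.Lin M (o2 M) (V M) m :=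
        { plane := hT.pl
          norm := hM.normalizer_o2
          two := hT.two
          VQ := hT.VQ
          comm := hcomm
          inv := hinv
          card := hcard
          pow := hpow
          root := hroot
          hm := hm2 }
      exact h.nse M (hlin.stronglyEmbedded h.char2 hT2 (ne_top h hM))

/-- The thin case, with `m = 1` as a hypothesis. -/
theorem thin_of_one (h : Hyp G 7 a b) (ind : Ind G) (ht : M23LE 1 G)
    (hOne : ∀ (V M : Subgroup G), ThinPlane.Plane M V V → normalizer (V : Set G) = M →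
      ∀ S : Sylow 2 G, Nat.card S ≤ 2 ^ 7) : b ≤ 13 :=
  thin_of h (Degrees.loc h) ind ht
    (fun hM _ _ _ hF he => ThinEight.eight h (Degrees.loc h) ht hM hF he) hOne

/-- **The thin case for `p = 7`.** -/
theorem thin {G : Type u} [Group G] [Finite G] {a b : ℕ} (h : Hyp G 7 a b) (ind : Ind G)
    (ht : M23LE 1 G) : b ≤ 13 :=
  thin_of_one h ind ht fun V M hP hM S =>
    ThinOne.card_le V M hP hM (card_le_inf (Degrees.loc h) ht) S

end Cfsg.Agent.SmallSimple.S1000.Thin
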