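import Mathlib

/-!
# Dimension of a space with `m` commuting pairs of anticommuting square roots of `± 1`
-/

set_option autoImplicit false

namespace Cfsg.Agent.SmallSimple.S1000.PairDim

universe u v

section Step

variable {F : Type u} [Field F] {A : Type v} [Ring A] [Algebra F A]

theorem exists_split (h2 : (2 : F) ≠ 0) {x : A} {ε : F} (hε : ε * ε = 1) (hx : x * x = ε • (1 : A))
    (T : A) : ∃ P Q : A, T = P + Q ∧ x * P = P * x ∧ x * Q = -(Q * x) ∧
      ∀ z : A, z * x = -(x * z) → z * T = T * z → z * P = P * z ∧ z * Q = Q * z := by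
  have h1 : x * (ε • (x * T * x)) = T * x := by
    rw [mul_smul_comm, ← mul_assoc, ← mul_assoc, hx, smul_mul_assoc, smul_mul_assoc, one_mul,
      smul_smul, hε, one_smul]
  have h3 : (ε • (x * T * x)) * x = x * T := by
    rw [smul_mul_assoc, mul_assoc, hx, mul_smul_comm, mul_one, smul_smul, hε, one_smul]
  refine ⟨(2 : F)⁻¹ • (T + ε • (x * T * x)), (2 : F)⁻¹ • (T - ε • (x * T * x)), ?_, ?_, ?_, ?_⟩
  · rw [← smul_add]
    have : T + ε • (x * T * x) + (T - ε • (x * T * x)) = (2 : F) • T := by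
      rw [two_smul]; abel
    rw [this, inv_smul_smul₀ h2]
  · rw [mul_smul_comm, smul_mul_assoc, mul_add, add_mul, h1, h3, add_comm]
  · rw [mul_smul_comm, smul_mul_assoc, mul_sub, sub_mul, h1, h3, ← smul_neg, neg_sub]
  · intro z hz hT
    have h4 : z * (ε • (x * T * x)) = (ε • (x * T * x)) * z := by
      rw [mul_smul_comm, smul_mul_assoc]
      congr 1
      calc z * (x * T * x) = (z * x) * (T * x) := by simp only [mul_assoc]
        _ = -(x * (z * T) * x) := by rw [hz]; simp only [mul_assoc, neg_mul]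
        _ = -(x * T * (z * x)) := by rw [hT]; simp only [mul_assoc]
        _ = x * T * x * z := by rw [hz]; simp only [mul_assoc, mul_neg, neg_neg]
    constructor
    · rw [mul_smul_comm, smul_mul_assoc, mul_add, add_mul, hT, h4]
    · rw [mul_smul_comm, smul_mul_assoc, mul_sub, sub_mul, hT, h4]

/-- elements commuting with `x` and `y` -/
def cen (F : Type u) [Field F] {A : Type v} [Ring A] [Algebra F A] (x y : A) : Subalgebra F A :=
  Subalgebra.centralizer F {x, y}

theorem mem_cen {x y a : A} : a ∈ cen F x y ↔ x * a = a * x ∧ y * a = a * y := by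
  rw [cen, Subalgebra.mem_centralizer_iff]
  simp

theorem exists_add (h2 : (2 : F) ≠ 0) {x y : A} {ε η : F} (hε : ε * ε = 1) (hη : η * η = 1)
    (hx : x * x = ε • (1 : A)) (hy : y * y = η • (1 : A)) (hxy : x * y = -(y * x))
    {P : A} (hP : x * P = P * x) :
    ∃ a ∈ cen F x y, ∃ b ∈ cen F x y, P = a + b * x := by
  obtain ⟨P₁, P₂, h, h3, h4, h5⟩ := exists_split h2 hη hy P
  obtain ⟨h6, h7⟩ := h5 x hxy hP
  refine ⟨P₁, mem_cen.2 ⟨h6, h3⟩, ε • (P₂ * x), mem_cen.2 ⟨?_, ?_⟩, ?_⟩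
  · rw [mul_smul_comm, smul_mul_assoc, ← mul_assoc, h7]
  · rw [mul_smul_comm, smul_mul_assoc, ← mul_assoc, h4, neg_mul, mul_assoc, mul_assoc, hxy,
      mul_neg]
  · rw [smul_mul_assoc, mul_assoc, hx, mul_smul_comm, mul_one, smul_smul, hε, one_smul, h]

/-- The linear map `(a, b, c, d) ↦ a + b * x + (c + d * x) * y`. -/
def phi (F : Type u) [Field F] {A : Type v} [Ring A] [Algebra F A] (x y : A) :
    (cen F x y × cen F x y) × (cen F x y × cen F x y) →ₗ[F] A where
  toFun p := (p.1.1 : A) + p.1.2 * x + ((p.2.1 : A) + p.2.2 * x) * y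
  map_add' p q := by
    simp only [Prod.fst_add, Prod.snd_add, Subalgebra.coe_add, add_mul]
    abel
  map_smul' c p := by
    simp only [Prod.smul_fst, Prod.smul_snd, Subalgebra.coe_smul, RingHom.id_apply, smul_add,
      smul_mul_assoc, add_mul]

theorem phi_bijective (h2 : (2 : F) ≠ 0) {x y : A} {ε η : F} (hε : ε * ε = 1) (hη : η * η = 1)
    (hx : x * x = ε • (1 : A)) (hy : y * y = η • (1 : A)) (hxy : x * y = -(y * x)) :
    Function.Bijective (phi F x y) := by
  have cx : ∀ T : A, x * T = 0 → T = 0 := by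
    intro T hT
    have : x * (x * T) = ε • T := by rw [← mul_assoc, hx, smul_mul_assoc, one_mul]
    rw [hT, mul_zero] at this
    have h3 : ε • (ε • T) = T := by rw [smul_smul, hε, one_smul]
    rw [← h3, ← this, smul_zero]
  have cx' : ∀ T : A, T * x = 0 → T = 0 := by
    intro T hT
    have : T * x * x = ε • T := by rw [mul_assoc, hx, mul_smul_comm, mul_one]
    rw [hT, zero_mul] at this
    have h3 : ε • (ε • T) = T := by rw [smul_smul, hε, one_smul]
    rw [← h3, ← this, smul_zero]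
  have cy : ∀ T : A, T * y = 0 → T = 0 := by
    intro T hT
    have : T * y * y = η • T := by rw [mul_assoc, hy, mul_smul_comm, mul_one]
    rw [hT, zero_mul] at this
    have h3 : η • (η • T) = T := by rw [smul_smul, hη, one_smul]
    rw [← h3, ← this, smul_zero]
  have c2 : ∀ T : A, T + T = 0 → T = 0 := by
    intro T hT
    rw [← two_smul F] at hT
    rw [← inv_smul_smul₀ h2 T, hT, smul_zero]
  -- key: `P + Q = 0` with `P` commuting and `Q` anticommuting
  have key : ∀ P Q : A, x * P = P * x → x * Q = -(Q * x) → P + Q = 0 → P = 0 ∧ Q = 0 := by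
    intro P Q hP hQ h
    have h3 : x * (P + Q) + (P + Q) * x = x * P + x * P := by
      rw [mul_add, add_mul, hQ, hP]; abel
    rw [h, mul_zero, zero_mul, zero_add] at h3
    have h4 := cx P (c2 _ h3.symm)
    rw [h4, zero_add] at h
    exact ⟨h4, h⟩
  have keyy : ∀ P Q : A, y * P = P * y → y * Q = -(Q * y) → P + Q = 0 → P = 0 ∧ Q = 0 := by
    intro P Q hP hQ h
    have h3 : y * (P + Q) + (P + Q) * y = (P + P) * y := by
      rw [mul_add, add_mul, add_mul, hQ, hP]; abel
    rw [h, mul_zero, zero_mul, zero_add] at h3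
    have h4 := c2 P (cy _ h3.symm)
    rw [h4, zero_add] at h
    exact ⟨h4, h⟩
  have key2 : ∀ a ∈ cen F x y, ∀ b ∈ cen F x y, a + b * x = 0 → a = 0 ∧ b = 0 := by
    intro a ha b hb h
    rw [mem_cen] at ha hb
    obtain ⟨h3, h4⟩ := keyy a (b * x) ha.2 (by
      rw [← mul_assoc, hb.2, mul_assoc, mul_assoc, hxy, mul_neg, neg_neg]) h
    exact ⟨h3, cx' _ h4⟩
  constructor
  · rw [injective_iff_map_eq_zero]
    rintro ⟨⟨a, b⟩, ⟨c, d⟩⟩ h
    have h' : ((a : A) + b * x) + ((c : A) + d * x) * y = 0 := h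
    have ha := mem_cen.1 a.2
    have hb := mem_cen.1 b.2
    have hc := mem_cen.1 c.2
    have hd := mem_cen.1 d.2
    obtain ⟨h3, h4⟩ := key _ _ (by
      rw [mul_add, add_mul, ha.1, ← mul_assoc, hb.1]) (by
      have : x * ((c : A) + d * x) = ((c : A) + d * x) * x := by
        rw [mul_add, add_mul, hc.1, ← mul_assoc, hd.1]
      rw [← mul_assoc, this, mul_assoc, hxy, mul_neg, mul_assoc]) h'
    have h5 := cy _ h4
    obtain ⟨h6, h7⟩ := key2 a a.2 b b.2 h3
    obtain ⟨h8, h9⟩ := key2 c c.2 d d.2 h5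
    simp only [ZeroMemClass.coe_eq_zero] at h6 h7 h8 h9
    rw [h6, h7, h8, h9]
    rfl
  · intro T
    obtain ⟨P, Q, h, h3, h4, -⟩ := exists_split h2 hε hx T
    have h5 : x * (η • (Q * y)) = (η • (Q * y)) * x := by
      rw [mul_smul_comm, smul_mul_assoc, ← mul_assoc, h4, neg_mul, mul_assoc, hxy, mul_neg,
        neg_neg, mul_assoc]
    obtain ⟨a, ha, b, hb, h6⟩ := exists_add h2 hε hη hx hy hxy h3
    obtain ⟨c, hc, d, hd, h7⟩ := exists_add h2 hε hη hx hy hxy h5
    refine ⟨⟨⟨⟨a, ha⟩, ⟨b, hb⟩⟩, ⟨⟨c, hc⟩, ⟨d, hd⟩⟩⟩, ?_⟩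
    change (a + b * x) + (c + d * x) * y = T
    rw [← h6, ← h7, smul_mul_assoc, mul_assoc, hy, mul_smul_comm, mul_one, smul_smul, hη, one_smul,
      h]

theorem finrank_step [Module.Finite F A] (h2 : (2 : F) ≠ 0) {x y : A} {ε η : F} (hε : ε * ε = 1)
    (hη : η * η = 1) (hx : x * x = ε • (1 : A)) (hy : y * y = η • (1 : A))
    (hxy : x * y = -(y * x)) :
    Module.finrank F A = 4 * Module.finrank F (cen F x y) := by
  have := (LinearEquiv.ofBijective _ (phi_bijective h2 hε hη hx hy hxy)).finrank_eq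
  rw [← this, Module.finrank_prod, Module.finrank_prod]
  ring

end Step

theorem exists_sign {A : Type v} [Ring A] [Algebra (ZMod 3) A] {x : A}
    (h : x * x = 1 ∨ x * x = -1) : ∃ ε : ZMod 3, ε * ε = 1 ∧ x * x = ε • (1 : A) := by
  rcases h with h | h
  · exact ⟨1, by decide, by rw [h, one_smul]⟩
  · exact ⟨-1, by decide, by rw [h, neg_smul, one_smul]⟩

theorem main : ∀ (m : ℕ) (A : Type v) [Ring A] [Algebra (ZMod 3) A] [Module.Finite (ZMod 3) A]
    (x y : Fin m → A) (_ : ∀ i, x i * x i = 1 ∨ x i * x i = -1)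
    (_ : ∀ i, y i * y i = 1 ∨ y i * y i = -1) (_ : ∀ i, x i * y i = -(y i * x i))
    (_ : ∀ i j, i ≠ j → Commute (x i) (x j) ∧ Commute (x i) (y j) ∧ Commute (y i) (y j)),
    ∃ k, Module.finrank (ZMod 3) A = 4 ^ m * k ∧
      (Nontrivial A → ∀ u : A, u * u = -1 → (∀ i, Commute u (x i) ∧ Commute u (y i)) → 2 ≤ k)
  | 0, A, _, _, _, x, y, _, _, _, _ => by
    refine ⟨Module.finrank (ZMod 3) A, by simp, fun hn u hu _ => ?_⟩
    by_contra hlt
    have h1 : Module.finrank (ZMod 3) A ≤ 1 := by omega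
    have h0 : 0 < Module.finrank (ZMod 3) A := Module.finrank_pos
    have h2 : Module.finrank (ZMod 3) A = 1 := by omega
    obtain ⟨c, hc⟩ := (finrank_eq_one_iff_of_nonzero' (1 : A) one_ne_zero).1 h2 u
    rw [← hc, smul_mul_smul_comm, mul_one] at hu
    have h3 : (c * c + 1) • (1 : A) = 0 := by
      rw [add_smul, hu, one_smul]; simp
    rw [smul_eq_zero] at h3
    rcases h3 with h3 | h3
    · have h4 : ∀ c : ZMod 3, c * c + 1 ≠ 0 := by decide
      exact h4 c h3
    · exact one_ne_zero h3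
  | m + 1, A, _, _, _, x, y, hx, hy, hxy, hc => by
    obtain ⟨ε, hε, hx0⟩ := exists_sign (hx 0)
    obtain ⟨η, hη, hy0⟩ := exists_sign (hy 0)
    have h2 : (2 : ZMod 3) ≠ 0 := by decide
    have hfin := finrank_step h2 hε hη hx0 hy0 (hxy 0)
    have hne : ∀ i : Fin m, (0 : Fin (m + 1)) ≠ i.succ := fun i => (Fin.succ_ne_zero i).symm
    have hxm : ∀ i : Fin m, x i.succ ∈ cen (ZMod 3) (x 0) (y 0) := fun i =>
      mem_cen.2 ⟨(hc 0 i.succ (hne i)).1, ((hc i.succ 0 (Fin.succ_ne_zero i)).2.1).symm⟩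
    have hym : ∀ i : Fin m, y i.succ ∈ cen (ZMod 3) (x 0) (y 0) := fun i =>
      mem_cen.2 ⟨(hc 0 i.succ (hne i)).2.1, (hc 0 i.succ (hne i)).2.2⟩
    obtain ⟨k, hk, hk2⟩ := main m (cen (ZMod 3) (x 0) (y 0)) (fun i => ⟨x i.succ, hxm i⟩)
      (fun i => ⟨y i.succ, hym i⟩)
      (fun i => by
        rcases hx i.succ with h | h
        · left; exact Subtype.ext h
        · right; exact Subtype.ext h)
      (fun i => by
        rcases hy i.succ with h | h
        · left; exact Subtype.ext h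
        · right; exact Subtype.ext h)
      (fun i => Subtype.ext (hxy i.succ))
      (fun i j hij => by
        have h := hc i.succ j.succ (fun he => hij (Fin.succ_injective _ he))
        exact ⟨Subtype.ext h.1, Subtype.ext h.2.1, Subtype.ext h.2.2⟩)
    refine ⟨k, by rw [hfin, hk]; ring, fun hn u hu hcu => ?_⟩
    have hum : u ∈ cen (ZMod 3) (x 0) (y 0) := mem_cen.2 ⟨(hcu 0).1.symm, (hcu 0).2.symm⟩
    exact hk2 inferInstance ⟨u, hum⟩ (Subtype.ext hu) fun i =>
      ⟨Subtype.ext (hcu i.succ).1, Subtype.ext (hcu i.succ).2⟩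

variable {V : Type v} [AddCommGroup V] [Module (ZMod 3) V] [Finite V]

theorem two_pow_dvd_of {m D k : ℕ} (h : D * D = 4 ^ m * k) : 2 ^ m ∣ D := by
  have h1 : (2 ^ m) ^ 2 ∣ D ^ 2 := by
    refine ⟨k, ?_⟩
    rw [sq, h, ← pow_mul, mul_comm m 2, pow_mul]
    norm_num
  exact (Nat.pow_dvd_pow_iff two_ne_zero).1 h1

/-- `m` commuting pairs of anticommuting square roots of `± 1` force `2 ^ m ∣ dim V`. -/
theorem pair_dim {m : ℕ} (x y : Fin m → V →ₗ[ZMod 3] V)
    (hxx : ∀ i, x i * x i = 1 ∨ x i * x i = -1) (hyy : ∀ i, y i * y i = 1 ∨ y i * y i = -1)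
    (hxy : ∀ i, x i * y i = -(y i * x i))
    (hc : ∀ i j, i ≠ j → Commute (x i) (x j) ∧ Commute (x i) (y j) ∧ Commute (y i) (y j)) :
    2 ^ m ∣ Module.finrank (ZMod 3) V := by
  obtain ⟨k, hk, -⟩ := main m (Module.End (ZMod 3) V) x y hxx hyy hxy hc
  rw [Module.finrank_linearMap] at hk
  exact two_pow_dvd_of hk

/-- With an additional square root of `-1` commuting with all pairs the dimension is at least
`2 ^ (m + 1)`. -/
theorem pair_dim' [Nontrivial V] {m : ℕ} (x y : Fin m → V →ₗ[ZMod 3] V)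
    (hxx : ∀ i, x i * x i = 1 ∨ x i * x i = -1) (hyy : ∀ i, y i * y i = 1 ∨ y i * y i = -1)
    (hxy : ∀ i, x i * y i = -(y i * x i))
    (hc : ∀ i j, i ≠ j → Commute (x i) (x j) ∧ Commute (x i) (y j) ∧ Commute (y i) (y j))
    (u : V →ₗ[ZMod 3] V) (hu : u * u = -1) (hcu : ∀ i, Commute u (x i) ∧ Commute u (y i)) :
    2 ^ (m + 1) ≤ Module.finrank (ZMod 3) V := by
  obtain ⟨k, hk, hk2⟩ := main m (Module.End (ZMod 3) V) x y hxx hyy hxy hc
  rw [Module.finrank_linearMap] at hk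
  have h2 := hk2 inferInstance u hu hcu
  obtain ⟨d, hd⟩ := two_pow_dvd_of hk
  rw [hd] at hk ⊢
  have h4 : (4 : ℕ) ^ m = 2 ^ m * 2 ^ m := by
    rw [← mul_pow]
    norm_num
  have hp : 0 < (2 : ℕ) ^ m := by positivity
  have h5 : d * d = k := by
    have : 2 ^ m * 2 ^ m * (d * d) = 2 ^ m * 2 ^ m * k := by
      rw [← h4, ← hk, h4]; ring
    exact Nat.eq_of_mul_eq_mul_left (by positivity) this
  have h6 : 2 ≤ d := by
    by_contra hlt
    have : d ≤ 1 := by omega
    interval_cases d <;> omega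
  rw [pow_succ]
  exact Nat.mul_le_mul_left _ h6

end Cfsg.Agent.SmallSimple.S1000.PairDim
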