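import Cfsg.Agent.SmallSimple.S1000.CritBound
import Cfsg.Agent.SmallSimple.S1000.PairDim

/-!
# A 3-group of small rank on which an extraspecial 2-group acts

`bound`, `bound'`: the statements (E), (E') of the wide case of S1000.
-/

set_option autoImplicit false
set_option linter.style.haveILetI false

namespace Cfsg.Agent.SmallSimple.S1000.CritBoundMain

open Subgroup Cfsg Cfsg.Agent.Lib Cfsg.Agent.SmallSimple.S1000.CritBound

section Action

variable {Q : Type*} [CommGroup Q] {P : Type*} [Group P]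

/-- `MulAut Q` acts linearly on an elementary abelian 3-group. -/
noncomputable def lin [Module (ZMod 3) (Additive Q)] (φ : P →* MulAut Q) :
    P →* Module.End (ZMod 3) (Additive Q) where
  toFun g := AddMonoidHom.toZModLinearMap 3 (MonoidHom.toAdditive (φ g).toMonoidHom)
  map_one' := by
    apply LinearMap.ext
    intro v
    show Additive.ofMul (φ 1 v.toMul) = v
    rw [map_one]
    rfl
  map_mul' g h := by
    apply LinearMap.ext
    intro v
    show Additive.ofMul (φ (g * h) v.toMul) = Additive.ofMul (φ g (φ h v.toMul))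
    rw [map_mul]
    rfl

theorem lin_apply [Module (ZMod 3) (Additive Q)] (φ : P →* MulAut Q) (g : P) (q : Q) :
    lin φ g (Additive.ofMul q) = Additive.ofMul (φ g q) := rfl

theorem card_of_action [Finite Q] [Nontrivial Q] (hQ : ∀ q : Q, q ^ 3 = 1) (φ : P →* MulAut Q)
    {m : ℕ} (x y : Fin m → P) (z : P) (hz : ∀ q, φ z q = q⁻¹)
    (hxx : ∀ i, x i * x i = 1 ∨ x i * x i = z) (hyy : ∀ i, y i * y i = 1 ∨ y i * y i = z)
    (hxy : ∀ i, x i * y i = z * (y i * x i))
    (hc : ∀ i j, i ≠ j → Commute (x i) (x j) ∧ Commute (x i) (y j) ∧ Commute (y i) (y j)) :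
    3 ^ 2 ^ m ≤ Nat.card Q ∧ ((∃ u : P, u * u = z ∧ ∀ i, Commute u (x i) ∧ Commute u (y i)) →
      3 ^ 2 ^ (m + 1) ≤ Nat.card Q) := by
  letI : Module (ZMod 3) (Additive Q) := AddCommGroup.zmodModule (n := 3) (fun v => by
    exact hQ v.toMul)
  have hfin : Finite (Additive Q) := inferInstanceAs (Finite Q)
  have hnt : Nontrivial (Additive Q) := inferInstanceAs (Nontrivial Q)
  have hzl : lin φ z = -1 := by
    apply LinearMap.ext
    intro v
    show Additive.ofMul (φ z v.toMul) = -v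
    rw [hz]
    rfl
  have hsq : ∀ w : P, (w * w = 1 ∨ w * w = z) → lin φ w * lin φ w = 1 ∨ lin φ w * lin φ w = -1 := by
    rintro w (hw | hw)
    · left; rw [← map_mul, hw, map_one]
    · right; rw [← map_mul, hw, hzl]
  have h1 := fun i => hsq (x i) (hxx i)
  have h2 := fun i => hsq (y i) (hyy i)
  have h3 : ∀ i, lin φ (x i) * lin φ (y i) = -(lin φ (y i) * lin φ (x i)) := by
    intro i
    rw [← map_mul, hxy, map_mul, map_mul, hzl, neg_one_mul]
  have h4 : ∀ i j, i ≠ j → Commute (lin φ (x i)) (lin φ (x j)) ∧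
      Commute (lin φ (x i)) (lin φ (y j)) ∧ Commute (lin φ (y i)) (lin φ (y j)) := by
    intro i j hij
    obtain ⟨a, b, c⟩ := hc i j hij
    exact ⟨a.map _, b.map _, c.map _⟩
  have hcard : Nat.card Q = 3 ^ Module.finrank (ZMod 3) (Additive Q) := by
    have h5 := Module.natCard_eq_pow_finrank (K := ZMod 3) (V := Additive Q)
    rw [Nat.card_zmod] at h5
    exact h5
  constructor
  · rw [hcard]
    refine Nat.pow_le_pow_right (by norm_num) ?_
    have h5 := PairDim.pair_dim (V := Additive Q) (fun i => lin φ (x i)) (fun i => lin φ (y i)) h1 h2 h3 h4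
    exact Nat.le_of_dvd Module.finrank_pos h5
  · rintro ⟨u, hu, huc⟩
    rw [hcard]
    refine Nat.pow_le_pow_right (by norm_num) ?_
    exact PairDim.pair_dim' (V := Additive Q) (fun i => lin φ (x i)) (fun i => lin φ (y i)) h1 h2 h3 h4
      (lin φ u) (by rw [← map_mul, hu, hzl]) fun i => ⟨(huc i).1.map _, (huc i).2.map _⟩

end Action

section Quotient

variable {G : Type*} [Group G]

/-- The action of `N_G(N) ∩ N_G(M)` on `M / N`. -/
noncomputable def quotAut (N M : Subgroup G) [(N.subgroupOf M).Normal] :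
    ↥(normalizer (N : Set G) ⊓ normalizer (M : Set G)) →* MulAut (M ⧸ N.subgroupOf M) where
  toFun g := QuotientGroup.congr (N.subgroupOf M) (N.subgroupOf M)
    (M.normalizerMonoidHom ⟨g, (mem_inf.mp g.2).2⟩) (by
      ext w
      rw [mem_map, mem_subgroupOf]
      constructor
      · rintro ⟨v, hv, rfl⟩
        exact (mem_normalizer_iff.mp (mem_inf.mp g.2).1 (v : G)).mp hv
      · intro hw
        refine ⟨(M.normalizerMonoidHom ⟨g, (mem_inf.mp g.2).2⟩).symm w, ?_, by simp⟩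
        rw [mem_subgroupOf]
        have h1 := (mem_normalizer_iff.mp (inv_mem (mem_inf.mp g.2).1) (w : G)).mp hw
        have h2 : (((M.normalizerMonoidHom ⟨g, (mem_inf.mp g.2).2⟩).symm w : M) : G) =
            (g : G)⁻¹ * w * (g : G)⁻¹⁻¹ := by
          have h3 : (M.normalizerMonoidHom ⟨g, (mem_inf.mp g.2).2⟩).symm =
            M.normalizerMonoidHom ⟨g, (mem_inf.mp g.2).2⟩⁻¹ := by
              rw [map_inv]; rfl
          rw [h3]
          rfl
        rw [h2]
        exact h1)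
  map_one' := by
    ext w
    obtain ⟨w, rfl⟩ := QuotientGroup.mk_surjective w
    show QuotientGroup.mk _ = QuotientGroup.mk _
    congr 1
    apply Subtype.ext
    show (1 : G) * w * (1 : G)⁻¹ = w
    group
  map_mul' g h := by
    ext w
    obtain ⟨w, rfl⟩ := QuotientGroup.mk_surjective w
    show QuotientGroup.mk _ = QuotientGroup.mk _
    congr 1
    apply Subtype.ext
    show (g : G) * h * w * ((g : G) * h)⁻¹ = g * (h * w * (h : G)⁻¹) * (g : G)⁻¹
    group

theorem card_quotient [Finite G] {O : Subgroup G} {z : G} (hz : z ∈ normalizer (O : Set G))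
    {m : ℕ} (x y : Fin m → G)
    (hx : ∀ i, x i ∈ normalizer (O : Set G)) (hy : ∀ i, y i ∈ normalizer (O : Set G))
    (hxx : ∀ i, x i * x i = 1 ∨ x i * x i = z) (hyy : ∀ i, y i * y i = 1 ∨ y i * y i = z)
    (hxy : ∀ i, x i * y i = z * (y i * x i)) (hxz : ∀ i, x i * z = z * x i)
    (hyz : ∀ i, y i * z = z * y i)
    (hc : ∀ i j, i ≠ j → Commute (x i) (x j) ∧ Commute (x i) (y j) ∧ Commute (y i) (y j))
    {N M : Subgroup G}
    (hP : normalizer (O : Set G) ⊓ centralizer {z} ≤ normalizer (N : Set G) ⊓ normalizer (M : Set G))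
    (hMN : M ≤ normalizer (N : Set G)) (hcube : ∀ w ∈ M, w ^ 3 ∈ N)
    (hcomm : ∀ u ∈ M, ∀ v ∈ M, u * v * u⁻¹ * v⁻¹ ∈ N)
    (hinv : ∀ w ∈ M, z * w * z⁻¹ * w ∈ N) (hne : ¬ M ≤ N) :
    3 ^ 2 ^ m ≤ N.relIndex M ∧ ((∃ u ∈ normalizer (O : Set G), u * u = z ∧ u * z = z * u ∧
      ∀ i, Commute u (x i) ∧ Commute u (y i)) → 3 ^ 2 ^ (m + 1) ≤ N.relIndex M) := by
  have hnorm : (N.subgroupOf M).Normal := normal_subgroupOf_of_le_normalizer hMN
  letI : CommGroup (M ⧸ N.subgroupOf M) :=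
    { (inferInstance : Group (M ⧸ N.subgroupOf M)) with
      mul_comm := by
        intro a b
        obtain ⟨a, rfl⟩ := QuotientGroup.mk_surjective a
        obtain ⟨b, rfl⟩ := QuotientGroup.mk_surjective b
        rw [← QuotientGroup.mk_mul, ← QuotientGroup.mk_mul, QuotientGroup.eq]
        rw [mem_subgroupOf]
        have h1 := hcomm (b : G)⁻¹ (inv_mem b.2) (a : G)⁻¹ (inv_mem a.2)
        have e : (((a * b)⁻¹ * (b * a) : M) : G) = (b : G)⁻¹ * (a : G)⁻¹ * ((b : G)⁻¹)⁻¹ * ((a : G)⁻¹)⁻¹ := by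
          push_cast
          group
        rw [e]
        exact h1 }
  have hQ3 : ∀ q : M ⧸ N.subgroupOf M, q ^ 3 = 1 := by
    intro q
    obtain ⟨a, rfl⟩ := QuotientGroup.mk_surjective q
    rw [← QuotientGroup.mk_pow, QuotientGroup.eq_one_iff, mem_subgroupOf]
    exact hcube a a.2
  have hnt : Nontrivial (M ⧸ N.subgroupOf M) := by
    obtain ⟨w, hw, hwN⟩ := SetLike.not_le_iff_exists.mp hne
    refine ⟨QuotientGroup.mk ⟨w, hw⟩, 1, fun h => hwN ?_⟩
    rw [QuotientGroup.eq_one_iff, mem_subgroupOf] at h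
    exact h
  have hxP : ∀ i, x i ∈ normalizer (N : Set G) ⊓ normalizer (M : Set G) := fun i =>
    hP (mem_inf.mpr ⟨hx i, mem_centralizer_singleton_iff.mpr (hxz i)⟩)
  have hyP : ∀ i, y i ∈ normalizer (N : Set G) ⊓ normalizer (M : Set G) := fun i =>
    hP (mem_inf.mpr ⟨hy i, mem_centralizer_singleton_iff.mpr (hyz i)⟩)
  have hzP : z ∈ normalizer (N : Set G) ⊓ normalizer (M : Set G) :=
    hP (mem_inf.mpr ⟨hz, mem_centralizer_singleton_iff.mpr rfl⟩)
  have hzq : ∀ q, quotAut N M ⟨z, hzP⟩ q = q⁻¹ := by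
    intro q
    obtain ⟨a, rfl⟩ := QuotientGroup.mk_surjective q
    rw [eq_inv_iff_mul_eq_one]
    show QuotientGroup.mk _ * QuotientGroup.mk _ = _
    rw [← QuotientGroup.mk_mul, QuotientGroup.eq_one_iff, mem_subgroupOf]
    exact hinv a a.2
  have hcomm' : ∀ a b : ↥(normalizer (N : Set G) ⊓ normalizer (M : Set G)),
      Commute (a : G) b → Commute a b := fun a b h => Subtype.ext h
  have hsub : ∀ a b : ↥(normalizer (N : Set G) ⊓ normalizer (M : Set G)), (a : G) = b → a = b :=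
    fun a b h => Subtype.ext h
  have key := card_of_action hQ3 (quotAut N M) (fun i => ⟨x i, hxP i⟩) (fun i => ⟨y i, hyP i⟩)
    ⟨z, hzP⟩ hzq
    (fun i => (hxx i).imp (fun h => Subtype.ext h) (fun h => Subtype.ext h))
    (fun i => (hyy i).imp (fun h => Subtype.ext h) (fun h => Subtype.ext h))
    (fun i => Subtype.ext (hxy i))
    (fun i j hij => ⟨hcomm' _ _ (hc i j hij).1, hcomm' _ _ (hc i j hij).2.1,
      hcomm' _ _ (hc i j hij).2.2⟩)
  refine ⟨key.1, ?_⟩
  rintro ⟨u, huO, huu, huz, huc⟩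
  have huP : u ∈ normalizer (N : Set G) ⊓ normalizer (M : Set G) :=
    hP (mem_inf.mpr ⟨huO, mem_centralizer_singleton_iff.mpr huz⟩)
  exact key.2 ⟨⟨u, huP⟩, Subtype.ext huu, fun i => ⟨hcomm' _ _ (huc i).1, hcomm' _ _ (huc i).2⟩⟩

/-- (E) -/
theorem bound [Finite G] {O : Subgroup G} {m n : ℕ} (hO : IsPGroup 3 O) (x y : Fin m → G) (z : G)
    (hx : ∀ i, x i ∈ normalizer (O : Set G)) (hy : ∀ i, y i ∈ normalizer (O : Set G))
    (hz : z ∈ normalizer (O : Set G)) (hzz : z * z = 1)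
    (hxx : ∀ i, x i * x i = 1 ∨ x i * x i = z) (hyy : ∀ i, y i * y i = 1 ∨ y i * y i = z)
    (hxy : ∀ i, x i * y i = z * (y i * x i)) (hxz : ∀ i, x i * z = z * x i)
    (hyz : ∀ i, y i * z = z * y i)
    (hc : ∀ i j, i ≠ j → Commute (x i) (x j) ∧ Commute (x i) (y j) ∧ Commute (y i) (y j))
    (hf : z ∉ centralizer (O : Set G))
    (hn : ∀ E ≤ O, IsElementaryAbelian 3 E → Nat.card E ≤ 3 ^ n) :
    2 ^ m ≤ n ∨ ∃ r, 1 ≤ r ∧ 2 ^ m ≤ (1 + r) * (n - r) ∧ 3 ^ (2 ^ m + r) ≤ Nat.card O :=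
  core hO hz hzz hf hn (2 ^ m) fun _ _ _ hP hMN hcube hcomm hinv hne =>
    (card_quotient hz x y hx hy hxx hyy hxy hxz hyz hc hP hMN hcube hcomm hinv hne).1

/-- (E') -/
theorem bound' [Finite G] {O : Subgroup G} {m n : ℕ} (hO : IsPGroup 3 O) (x y : Fin m → G) (z : G)
    (hx : ∀ i, x i ∈ normalizer (O : Set G)) (hy : ∀ i, y i ∈ normalizer (O : Set G))
    (hz : z ∈ normalizer (O : Set G)) (hzz : z * z = 1)
    (hxx : ∀ i, x i * x i = 1 ∨ x i * x i = z) (hyy : ∀ i, y i * y i = 1 ∨ y i * y i = z)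
    (hxy : ∀ i, x i * y i = z * (y i * x i)) (hxz : ∀ i, x i * z = z * x i)
    (hyz : ∀ i, y i * z = z * y i)
    (hc : ∀ i j, i ≠ j → Commute (x i) (x j) ∧ Commute (x i) (y j) ∧ Commute (y i) (y j))
    (hf : z ∉ centralizer (O : Set G))
    (hn : ∀ E ≤ O, IsElementaryAbelian 3 E → Nat.card E ≤ 3 ^ n)
    (u : G) (hu : u ∈ normalizer (O : Set G)) (huu : u * u = z)
    (huc : ∀ i, Commute u (x i) ∧ Commute u (y i)) :
    2 ^ (m + 1) ≤ n ∨ ∃ r, 1 ≤ r ∧ 2 ^ (m + 1) ≤ (1 + r) * (n - r) ∧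
      3 ^ (2 ^ (m + 1) + r) ≤ Nat.card O :=
  core hO hz hzz hf hn (2 ^ (m + 1)) fun _ _ _ hP hMN hcube hcomm hinv hne =>
    (card_quotient hz x y hx hy hxx hyy hxy hxz hyz hc hP hMN hcube hcomm hinv hne).2
      ⟨u, hu, huu, by rw [← huu, mul_assoc], huc⟩

end Quotient

end Cfsg.Agent.SmallSimple.S1000.CritBoundMain
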