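import Cfsg.Agent.SmallSimple.S1000.QStructMain

/-!
# `z` is 2-central
-/

set_option autoImplicit false

namespace Cfsg.Agent.SmallSimple.S1000.TwoCentral

open Subgroup Cfsg Cfsg.Agent.SmallSimple.S1000.QStruct Cfsg.Agent.SmallSimple.S1000.QStructMain

variable {G : Type*} [Group G] {z : G} {X B : Subgroup G} {k : ℕ} {H : Fin k → Subgroup G}
  {x y : Fin k → G}

/-- `Z(S) ≤ R` for `X ≤ S ≤ C(z)`. -/
theorem center_le (q : QS z X B H x y) (hC : centralizer {z} ⊓ centralizer (X : Set G) ≤ X)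
    {S : Subgroup G} (hXS : X ≤ S) (hSz : S ≤ centralizer {z}) :
    S ⊓ centralizer (S : Set G) ≤ X ⊓ centralizer (B : Set G) := by
  intro w hw
  obtain ⟨h1, h2⟩ := mem_inf.mp hw
  have h3 : w ∈ X := hC (mem_inf.mpr ⟨hSz h1, centralizer_le hXS h2⟩)
  refine mem_inf.mpr ⟨h3, q.cent w h3 fun i => ⟨?_, ?_⟩⟩
  · exact (mem_centralizer_iff.mp h2 (x i) (hXS (q.xX i))).symm
  · exact (mem_centralizer_iff.mp h2 (y i) (hXS (q.yX i))).symm

theorem normalizer_le (q : QS z X B H x y) (hzz : z * z = 1) (hz1 : z ≠ 1)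
    (hC : centralizer {z} ⊓ centralizer (X : Set G) ≤ X)
    {S : Subgroup G} (hXS : X ≤ S) (hSz : S ≤ centralizer {z}) :
    normalizer (S : Set G) ≤ centralizer {z} := by
  intro g hg
  have hzS : z ∈ S ⊓ centralizer (S : Set G) := by
    refine mem_inf.mpr ⟨hXS (mem_inf.mp q.zR).1, mem_centralizer_iff.mpr fun w hw => ?_⟩
    exact mem_centralizer_singleton_iff.mp (hSz hw)
  have h1 : g * z * g⁻¹ ∈ S ⊓ centralizer (S : Set G) := by
    refine mem_inf.mpr ⟨(mem_normalizer_iff.mp hg z).mp (mem_inf.mp hzS).1,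
      mem_centralizer_iff.mpr fun w hw => ?_⟩
    have h2 : g⁻¹ * w * g ∈ S := by
      have := (mem_normalizer_iff.mp (inv_mem hg) w).mp hw
      simpa using this
    have h3 := mem_centralizer_iff.mp (mem_inf.mp hzS).2 _ h2
    calc w * (g * z * g⁻¹) = g * ((g⁻¹ * w * g) * z) * g⁻¹ := by group
      _ = g * (z * (g⁻¹ * w * g)) * g⁻¹ := by rw [h3]
      _ = g * z * g⁻¹ * w := by group
  have h2 : g * z * g⁻¹ * (g * z * g⁻¹) = 1 := by
    calc g * z * g⁻¹ * (g * z * g⁻¹) = g * (z * z) * g⁻¹ := by group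
      _ = 1 := by rw [hzz]; group
  have h3 := q.omega _ (center_le q hC hXS hSz h1) h2
  have h4 : g * z * g⁻¹ = z := by
    refine h3.resolve_left fun h5 => hz1 ?_
    calc z = g⁻¹ * (g * z * g⁻¹) * g := by group
      _ = 1 := by rw [h5]; group
  rw [mem_centralizer_singleton_iff]
  calc g * z = (g * z * g⁻¹) * g := by group
    _ = z * g := by rw [h4]

/-- `z` is 2-central: some Sylow 2-subgroup of `G` lies between `X` and `C(z)`. -/
theorem exists_sylow [Finite G] (q : QS z X B H x y) (hzz : z * z = 1) (hz1 : z ≠ 1)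
    (hX2 : IsPGroup 2 X) (hXz : X ≤ centralizer {z})
    (hC : centralizer {z} ⊓ centralizer (X : Set G) ≤ X) :
    ∃ S : Sylow 2 G, X ≤ S ∧ (S : Subgroup G) ≤ centralizer {z} := by
  let F : Set (Subgroup G) := {T | IsPGroup 2 T ∧ X ≤ T ∧ T ≤ centralizer {z}}
  obtain ⟨S, ⟨hS2, hXS, hSz⟩, hmax⟩ := (Set.toFinite F).exists_maximal ⟨X, hX2, le_rfl, hXz⟩
  obtain ⟨T, hST⟩ := hS2.exists_le_sylow
  refine ⟨T, hXS.trans hST, ?_⟩
  by_cases heq : S = (T : Subgroup G)
  · rw [← heq]; exact hSz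
  exfalso
  have hlt : S < (T : Subgroup G) := lt_of_le_of_ne hST heq
  have hlt' : S.subgroupOf (T : Subgroup G) < ⊤ := by
    refine lt_of_le_of_ne le_top fun he => hlt.not_ge ?_
    rwa [subgroupOf_eq_top] at he
  have hp2 : Fact (Nat.Prime 2) := ⟨Nat.prime_two⟩
  have hnil : Group.IsNilpotent (T : Subgroup G) := T.isPGroup'.isNilpotent
  have hnc := Group.normalizerCondition_of_isNilpotent (G := (T : Subgroup G)) _ hlt'
  obtain ⟨g, hgN, hgS⟩ := Set.exists_of_ssubset hnc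
  have hgN' : (g : G) ∈ normalizer (S : Set G) := by
    rw [mem_normalizer_iff]
    intro w
    constructor
    · intro hw
      exact (mem_normalizer_iff.mp hgN ⟨w, hST hw⟩).mp hw
    · intro hw
      have hw' : w ∈ (T : Subgroup G) := by
        have h1 := (T : Subgroup G).mul_mem ((T : Subgroup G).mul_mem
          ((T : Subgroup G).inv_mem g.2) (hST hw)) g.2
        have e : (g : G)⁻¹ * (g * w * (g : G)⁻¹) * g = w := by group
        rwa [e] at h1
      exact (mem_normalizer_iff.mp hgN ⟨w, hw'⟩).mpr hw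
  have hgz := normalizer_le q hzz hz1 hC hXS hSz hgN'
  have hmem : S ⊔ zpowers (g : G) ∈ F :=
    ⟨T.isPGroup'.to_le (sup_le hST (by rw [zpowers_le]; exact g.2)), hXS.trans le_sup_left,
      sup_le hSz (by rw [zpowers_le]; exact hgz)⟩
  exact hgS (hmax hmem le_sup_left (mem_sup_right (mem_zpowers (g : G))))

end Cfsg.Agent.SmallSimple.S1000.TwoCentral
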