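import Cfsg.Agent.S0029
import Cfsg.Agent.Lib.FrattiniPGroup
import Cfsg.Agent.Transfer.ElemAbAut
import Cfsg.Agent.OddOrderLocal.RankTwoRep

/-!
# A 2-group acting faithfully on a 3-group of small rank is small
-/

set_option autoImplicit false

namespace Cfsg.Agent.SmallSimple.S1000.TwoOnThree

open Subgroup

universe u

/-- The action of the automorphisms on the quotient by a characteristic subgroup. -/
def quotAut {K : Type u} [Group K] (N : Subgroup K) [hN : N.Characteristic] :
    MulAut K →* MulAut (K ⧸ N) where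
  toFun a := QuotientGroup.congr N N a (characteristic_iff_map_eq.1 hN a)
  map_one' := by
    ext x
    induction x using QuotientGroup.induction_on with
    | H x => rfl
  map_mul' a b := by
    ext x
    induction x using QuotientGroup.induction_on with
    | H x => rfl

theorem quotAut_mk {K : Type u} [Group K] (N : Subgroup K) [N.Characteristic] (a : MulAut K)
    (x : K) : quotAut N a (x : K ⧸ N) = ((a x : K) : K ⧸ N) := rfl

section

variable {G : Type u} [Group G] {T K : Subgroup G}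

/-- The action of `T` on `K`. -/
def act (hTK : T ≤ normalizer (K : Set G)) : T →* MulAut K :=
  (normalizerMonoidHom K).comp (inclusion hTK)

theorem act_apply (hTK : T ≤ normalizer (K : Set G)) (t : T) (k : K) :
    ((act hTK t k : K) : G) = t * k * (t : G)⁻¹ := rfl

theorem act_eq_one (hTK : T ≤ normalizer (K : Set G)) {t : T} (h : act hTK t = 1) :
    (t : G) ∈ centralizer (K : Set G) := by
  rw [mem_centralizer_iff]
  intro k hk
  have h1 : ((act hTK t ⟨k, hk⟩ : K) : G) = k := by rw [h]; rfl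
  rw [act_apply] at h1
  change (t : G) * k * (t : G)⁻¹ = k at h1
  rw [mul_inv_eq_iff_eq_mul] at h1
  exact h1.symm

variable [Finite G]

/-- the order of a `2`-group acting faithfully on a `3`-group divides the order of `GL_d (3)` -/
theorem card_dvd (hT : IsPGroup 2 T) (hK : IsPGroup 3 K) (hTK : T ≤ normalizer (K : Set G))
    (hf : T ⊓ centralizer (K : Set G) = ⊥) {d : ℕ} (hd : (frattini K).index = 3 ^ d) :
    Nat.card T ∣ ∏ i : Fin d, (3 ^ d - 3 ^ (i : ℕ)) := by
  have h3 : Fact (Nat.Prime 3) := ⟨Nat.prime_three⟩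
  have h2 : Fact (Nat.Prime 2) := ⟨Nat.prime_two⟩
  have hcard : Nat.card (K ⧸ frattini K) = 3 ^ d := hd
  have hcomm : ∀ x y : K ⧸ frattini K, x * y = y * x := by
    intro x y
    induction x using QuotientGroup.induction_on with
    | H x =>
      induction y using QuotientGroup.induction_on with
      | H y =>
        rw [← QuotientGroup.mk_mul, ← QuotientGroup.mk_mul, QuotientGroup.eq]
        have := Cfsg.Agent.Lib.FrattiniPGroup.commutator_mem_frattini hK y⁻¹ x⁻¹
        rw [commutatorElement_def] at this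
        have e : (x * y)⁻¹ * (y * x) = y⁻¹ * x⁻¹ * y⁻¹⁻¹ * x⁻¹⁻¹ := by group
        rw [e]
        exact this
  have hpow : ∀ x : K ⧸ frattini K, x ^ 3 = 1 := by
    intro x
    induction x using QuotientGroup.induction_on with
    | H x =>
      rw [← QuotientGroup.mk_pow, QuotientGroup.eq_one_iff]
      exact Cfsg.Agent.Lib.FrattiniPGroup.pow_mem_frattini hK x
  rw [← Cfsg.Agent.Transfer.ElemAbAut.card_mulAut 3 d hcomm hpow hcard]
  refine card_dvd_of_injective ((quotAut (frattini K)).comp (act hTK)) ?_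
  rw [injective_iff_map_eq_one]
  intro t ht
  -- the subgroup generated by `t`
  have key : zpowers (t : G) ≤ centralizer (K : Set G) := by
    refine Cfsg.Agent.S0029.result (zpowers (t : G)) K ?_ ?_ ?_
    · rw [zpowers_le]
      exact hTK t.2
    · obtain ⟨a, ha⟩ := hT t
      obtain ⟨b, hb⟩ := (hK.to_subgroup (frattini K)).exists_card_eq
      rw [hb, Nat.card_zpowers, Subgroup.orderOf_coe]
      exact Nat.Coprime.coprime_dvd_left (orderOf_dvd_of_pow_eq_one ha)
        (Nat.Coprime.pow _ _ (by norm_num))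
    · intro a ha k hk
      obtain ⟨n, rfl⟩ := mem_zpowers_iff.1 ha
      have h1 : ((quotAut (frattini K)).comp (act hTK)) (t ^ n) = 1 := by
        rw [map_zpow, ht, one_zpow]
      have h4 : ((act hTK (t ^ n) ⟨k, hk⟩ : K) : K ⧸ frattini K) = ((⟨k, hk⟩ : K) : K ⧸ frattini K) := by
        rw [← quotAut_mk]
        change ((quotAut (frattini K)).comp (act hTK)) (t ^ n) _ = _
        rw [h1]
        rfl
      rw [eq_comm, QuotientGroup.eq] at h4
      have h6 := Subgroup.Normal.conj_mem (inferInstance : (frattini K).Normal) _ h4 ⟨k, hk⟩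
      refine ⟨_, h6, ?_⟩
      simp only [subtype_apply, coe_mul, act_apply, SubgroupClass.coe_zpow, InvMemClass.coe_inv]
      group
  have h6 : (t : G) ∈ T ⊓ centralizer (K : Set G) := ⟨t.2, key (mem_zpowers _)⟩
  rw [hf, mem_bot] at h6
  exact Subtype.ext h6

theorem card_eq_two_pow (hT : IsPGroup 2 T) : ∃ k, Nat.card T = 2 ^ k := by
  have h2 : Fact (Nat.Prime 2) := ⟨Nat.prime_two⟩
  exact hT.exists_card_eq

theorem le_of_dvd {k M N : ℕ} (h : 2 ^ k ∣ M) (hM : ¬ 2 ^ (N + 1) ∣ M) : 2 ^ k ≤ 2 ^ N := by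
  refine Nat.pow_le_pow_right (by norm_num) ?_
  by_contra hlt
  exact hM ((pow_dvd_pow 2 (by omega)).trans h)

/-- If `K / Φ(K)` has order at most `9` then `|T| ≤ 16`. -/
theorem card_le_sixteen (hT : IsPGroup 2 T) (hK : IsPGroup 3 K)
    (hTK : T ≤ normalizer (K : Set G)) (hf : T ⊓ centralizer (K : Set G) = ⊥) {d : ℕ}
    (hd : (frattini K).index = 3 ^ d) (h : d ≤ 2) : Nat.card T ≤ 16 := by
  have h1 := card_dvd hT hK hTK hf hd
  obtain ⟨k, hk⟩ := card_eq_two_pow hT
  rw [hk] at h1 ⊢
  have e : (16 : ℕ) = 2 ^ 4 := by norm_num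
  rw [e]
  refine le_of_dvd h1 ?_
  interval_cases d
  · decide
  · decide
  · decide

/-- If `K / Φ(K)` has order at most `27` then `|T| ≤ 32`. -/
theorem card_le_thirty_two (hT : IsPGroup 2 T) (hK : IsPGroup 3 K)
    (hTK : T ≤ normalizer (K : Set G)) (hf : T ⊓ centralizer (K : Set G) = ⊥) {d : ℕ}
    (hd : (frattini K).index = 3 ^ d) (h : d ≤ 3) : Nat.card T ≤ 32 := by
  have h1 := card_dvd hT hK hTK hf hd
  obtain ⟨k, hk⟩ := card_eq_two_pow hT
  rw [hk] at h1 ⊢
  have e : (32 : ℕ) = 2 ^ 5 := by norm_num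
  rw [e]
  refine le_of_dvd h1 ?_
  interval_cases d
  · decide
  · decide
  · decide
  · decide

/-- Both bounds. -/
theorem card_le (hT : IsPGroup 2 T) (hK : IsPGroup 3 K)
    (hTK : T ≤ normalizer (K : Set G)) (hf : T ⊓ centralizer (K : Set G) = ⊥) {d : ℕ}
    (hd : (frattini K).index = 3 ^ d) : (d ≤ 2 → Nat.card T ≤ 16) ∧ (d ≤ 3 → Nat.card T ≤ 32) :=
  ⟨card_le_sixteen hT hK hTK hf hd, card_le_thirty_two hT hK hTK hf hd⟩

/-- A `2`-group acting faithfully on a `3`-group of rank at most two has order at most `16`. -/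
theorem card_two_le (hK : IsPGroup 3 K) (hT : IsPGroup 2 T) (hTK : T ≤ normalizer (K : Set G))
    (hf : T ⊓ centralizer (K : Set G) = ⊥)
    (hn : ∀ E ≤ K, Cfsg.IsElementaryAbelian 3 E → Nat.card E ≤ 3 ^ 2) : Nat.card T ≤ 16 := by
  have h3 : Fact (Nat.Prime 3) := ⟨Nat.prime_three⟩
  have h2 : Fact (Nat.Prime 2) := ⟨Nat.prime_two⟩
  have hr : Cfsg.PRankLE 3 2 K := by
    intro A hA hA3
    have h4 : Nat.card (A.map K.subtype) = Nat.card A :=
      Nat.card_congr (A.equivMapOfInjective _ K.subtype_injective).symm.toEquiv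
    rw [← h4]
    refine hn _ (map_subtype_le _) ⟨?_, ?_⟩
    · constructor
      constructor
      rintro ⟨_, a, ha, rfl⟩ ⟨_, b, hb, rfl⟩
      have := hA.is_comm.comm ⟨a, ha⟩ ⟨b, hb⟩
      rw [Subtype.ext_iff] at this
      exact Subtype.ext (congrArg K.subtype this)
    · rintro _ ⟨a, ha, rfl⟩
      rw [← map_pow, hA3 a ha, map_one]
  obtain ⟨ρ, hρ⟩ := Cfsg.Agent.OddOrderLocal.RankTwoRep.exists_rep (p := 3) (by norm_num) hK hr
  have hinj : Function.Injective ((ρ.comp (act hTK)).toHomUnits) := by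
    rw [injective_iff_map_eq_one]
    intro t ht
    have h5 : ρ (act hTK t) = 1 := by
      have := congrArg (Units.val) ht
      simpa using this
    have h6 : act hTK t = 1 := by
      refine hρ _ ?_ h5
      obtain ⟨a, ha⟩ := hT t
      refine Nat.Coprime.coprime_dvd_left (orderOf_dvd_of_pow_eq_one (n := 2 ^ a) ?_)
        (Nat.Coprime.pow_left _ (by norm_num))
      rw [← map_pow, ha, map_one]
    have h7 : (t : G) ∈ T ⊓ centralizer (K : Set G) := ⟨t.2, act_eq_one hTK h6⟩
    rw [hf, mem_bot] at h7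
    exact Subtype.ext h7
  have h8 := card_dvd_of_injective _ hinj
  have h9 : Nat.card (Matrix (Fin 2) (Fin 2) (ZMod 3))ˣ = 48 := by
    have := Matrix.card_GL_field (𝔽 := ZMod 3) 2
    rw [ZMod.card] at this
    rw [show Nat.card (Matrix (Fin 2) (Fin 2) (ZMod 3))ˣ = Nat.card (GL (Fin 2) (ZMod 3)) from rfl,
      this]
    decide
  rw [h9] at h8
  obtain ⟨k, hk⟩ := card_eq_two_pow hT
  rw [hk] at h8 ⊢
  have e : (16 : ℕ) = 2 ^ 4 := by norm_num
  rw [e]
  exact le_of_dvd h8 (by decide)

end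

end Cfsg.Agent.SmallSimple.S1000.TwoOnThree
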