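import Mathlib
import Cfsg.Agent.S0028
import Cfsg.Agent.Lib.CoprimeHyperplane
import Cfsg.Agent.OddOrderLocal.SmallCent
import Cfsg.Agent.SmallSimple.S1000.Setup

/-!
# S1000, wide case: L3 and L4

`L3`: an elementary abelian 3-group `F ≠ 1` and an elementary abelian 2-group `E ≠ 1` that commute,
`|F| = 3^f`, `|E| = 2^e`: some involution `t ∈ E` centralizes an elementary abelian 3-group
of order `3 ^ (e + f - 1)` containing `F`.

`L4`: if an elementary abelian 3-group of order `3^n`, `n ≥ 2`, normalizes a 2-group `U ≠ 1`, then some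
involution is centralized by an elementary abelian 3-group of order `3^n`.
-/

set_option autoImplicit false

namespace Cfsg.Agent.SmallSimple.S1000.WideL1

open Subgroup Cfsg Cfsg.Agent.ZN Cfsg.Agent.MinSimple.Basic Cfsg.Agent.SmallSimple.S1000.Setup
open scoped commutatorElement

variable {G : Type*} [Group G]

theorem el_comm {p : ℕ} {A : Subgroup G} (hA : IsElementaryAbelian p A) {a b : G} (ha : a ∈ A)
    (hb : b ∈ A) : a * b = b * a :=
  (OddOrderLocal.SmallCent.elemAb_def.mp hA).1 a ha b hb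

theorem el_pow {p : ℕ} {A : Subgroup G} (hA : IsElementaryAbelian p A) {a : G} (ha : a ∈ A) :
    a ^ p = 1 := hA.2 a ha

theorem el_mono {p : ℕ} {A B : Subgroup G} (hA : IsElementaryAbelian p A) (h : B ≤ A) :
    IsElementaryAbelian p B :=
  OddOrderLocal.SmallCent.elemAb_def.mpr
    ⟨fun _ ha _ hb => el_comm hA (h ha) (h hb), fun _ ha => el_pow hA (h ha)⟩

theorem el_isPGroup {p : ℕ} {A : Subgroup G} (hA : IsElementaryAbelian p A) : IsPGroup p A :=
  fun a => ⟨1, by rw [pow_one]; exact Subtype.ext (hA.2 a a.2)⟩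

theorem el_le_centralizer {p : ℕ} {A : Subgroup G} (hA : IsElementaryAbelian p A) {a : G}
    (ha : a ∈ A) : A ≤ centralizer ({a} : Set G) := by
  intro x hx
  rw [mem_centralizer_iff]
  rintro _ rfl
  exact el_comm hA ha hx

theorem orderOf_of_el {p : ℕ} [hp : Fact p.Prime] {A : Subgroup G} (hA : IsElementaryAbelian p A)
    {a : G} (ha : a ∈ A) (ha1 : a ≠ 1) : orderOf a = p :=
  orderOf_eq_prime (el_pow hA ha) ha1

theorem card_mul_relIndex {H K : Subgroup G} (h : H ≤ K) :
    Nat.card H * H.relIndex K = Nat.card K := by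
  rw [Subgroup.relIndex, ← Nat.card_congr (Subgroup.subgroupOfEquivOfLe h).toEquiv]
  exact Subgroup.card_mul_index _

/-- `|K H| |K ∩ H| = |K| |H|` -/
theorem card_sup_mul [Finite G] {K H : Subgroup G} (h : H ≤ normalizer (K : Set G)) :
    Nat.card (K ⊔ H : Subgroup G) * Nat.card (K ⊓ H : Subgroup G) = Nat.card K * Nat.card H := by
  have hKn : (K.subgroupOf (K ⊔ H)).Normal :=
    normal_subgroupOf_of_le_normalizer (sup_le le_normalizer h)
  have h1 := relIndex_sup_left (H.subgroupOf (K ⊔ H)) (K.subgroupOf (K ⊔ H))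
  rw [← Subgroup.subgroupOf_sup le_sup_left le_sup_right, Subgroup.subgroupOf_self,
    Subgroup.relIndex_subgroupOf le_sup_right, relIndex_top_right] at h1
  have h2 : Nat.card K * K.relIndex H = Nat.card (K ⊔ H : Subgroup G) := by
    rw [← h1]
    exact card_mul_relIndex le_sup_left
  have h3 : Nat.card (K ⊓ H : Subgroup G) * K.relIndex H = Nat.card H := by
    rw [← Subgroup.inf_relIndex_right K H]
    exact card_mul_relIndex inf_le_right
  calc _ = Nat.card (K ⊔ H : Subgroup G) * Nat.card (K ⊓ H : Subgroup G) := rfl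
    _ = Nat.card K * (Nat.card (K ⊓ H : Subgroup G) * K.relIndex H) := by rw [← h2]; ring
    _ = _ := by rw [h3]

/-- The order of `A ⊔ ⟨x⟩`. -/
theorem card_sup_zpowers [Finite G] {p : ℕ} [hp : Fact p.Prime] {A : Subgroup G} {x : G}
    (hx : orderOf x = p) (hxA : ∀ a ∈ A, a * x = x * a) (hn : x ∉ A) :
    Nat.card (A ⊔ zpowers x : Subgroup G) = Nat.card A * p := by
  have hinf : A ⊓ zpowers x = ⊥ := by
    rw [Subgroup.eq_bot_iff_forall]
    rintro y ⟨hyA, hyx⟩
    by_contra hy1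
    apply hn
    have h1 : zpowers y = zpowers x := by
      have hle : zpowers y ≤ zpowers x := zpowers_le.mpr hyx
      apply Subgroup.eq_of_le_of_card_ge hle
      rw [Nat.card_zpowers, Nat.card_zpowers, hx]
      have h2 : orderOf y ∣ p := by
        have := Subgroup.card_dvd_of_le hle
        rwa [Nat.card_zpowers, Nat.card_zpowers, hx] at this
      rcases (Nat.dvd_prime hp.out).mp h2 with h3 | h3
      · exact absurd (orderOf_eq_one_iff.mp h3) hy1
      · exact h3.ge
    have h4 : x ∈ zpowers y := h1 ▸ mem_zpowers x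
    exact (zpowers_le.mpr hyA) h4
  have hnorm : zpowers x ≤ Subgroup.normalizer (A : Set G) := by
    rw [zpowers_le, Subgroup.mem_normalizer_iff]
    intro a
    constructor
    · intro ha
      rw [← hxA a ha, mul_inv_cancel_right]
      exact ha
    · intro ha
      have h5 := hxA _ ha
      have h6 : a = x * a * x⁻¹ := by
        have : x * a = x * (x * a * x⁻¹) := by rw [← h5]; group
        exact mul_left_cancel this
      rw [h6]
      exact ha
  have h6 := card_sup_mul hnorm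
  rw [hinf, Subgroup.card_bot, mul_one, Nat.card_zpowers, hx] at h6
  exact h6

/-- L3, first form. -/
theorem exists_large [Finite G] (h : Loc G) (e : ℕ) : ∀ (F E : Subgroup G) (f : ℕ),
    IsElementaryAbelian 3 F → F ≠ ⊥ → Nat.card F = 3 ^ f → E ≤ centralizer (F : Set G) →
    IsElementaryAbelian 2 E → Nat.card E = 2 ^ (e + 1) →
    ∃ t ∈ E, orderOf t = 2 ∧ ∃ A : Subgroup G, IsElementaryAbelian 3 A ∧ F ≤ A ∧
      A ≤ centralizer ({t} : Set G) ∧ Nat.card A = 3 ^ (f + e) := by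
  have hf2 : Fact (Nat.Prime 2) := ⟨Nat.prime_two⟩
  have hf3 : Fact (Nat.Prime 3) := ⟨Nat.prime_three⟩
  induction e with
  | zero =>
    intro F E f hF hF1 hFc hEF hE hEc
    obtain ⟨t, ht⟩ := exists_prime_orderOf_dvd_card' (G := E) 2 (by rw [hEc]; norm_num)
    refine ⟨t, t.2, by rw [Subgroup.orderOf_coe, ht], F, hF, le_refl _, ?_, by rw [hFc, add_zero]⟩
    intro x hx
    rw [mem_centralizer_iff]
    rintro _ rfl
    exact (mem_centralizer_iff.mp (hEF t.2) x hx).symm
  | succ e ih =>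
    intro F E f hF hF1 hFc hEF hE hEc
    obtain ⟨b, hbF, hb, -⟩ := exists_orderOf_eq (el_isPGroup hF) hF1
    set D : Subgroup G := o3 (centralizer ({b} : Set G)) with hD
    have hDN : centralizer ({b} : Set G) ≤ normalizer (D : Set G) := le_normalizer_o3 _
    have hDC : D ≤ centralizer ({b} : Set G) := o3_le _
    have hFb : F ≤ centralizer ({b} : Set G) := el_le_centralizer hF hbF
    have hEb : E ≤ centralizer ({b} : Set G) :=
      hEF.trans (centralizer_le (Set.singleton_subset_iff.mpr hbF))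
    set D₁ : Subgroup G := D ⊓ centralizer (F : Set G) with hD₁
    have hD₁3 : IsPGroup 3 D₁ := (o3_isPGroup _).to_le inf_le_left
    have hD₁c : ¬ 2 ∣ Nat.card D₁ := by
      obtain ⟨n, hn⟩ := IsPGroup.iff_card.mp hD₁3
      rw [hn]
      intro h2
      have := Nat.Prime.dvd_of_dvd_pow Nat.prime_two h2
      omega
    have hEN : E ≤ normalizer (D₁ : Set G) := by
      rw [Subgroup.le_normalizer_iff]
      rintro e he x ⟨hxD, hxF⟩
      refine ⟨(Subgroup.le_normalizer_iff.mp (hEb.trans hDN)) e he x hxD, ?_⟩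
      exact (centralizer (F : Set G)).mul_mem ((centralizer (F : Set G)).mul_mem (hEF he) hxF)
        ((centralizer (F : Set G)).inv_mem (hEF he))
    have hfaith : E ⊓ centralizer (D₁ : Set G) = ⊥ := by
      set Q := E ⊓ centralizer (D₁ : Set G) with hQ
      have hQ2 : IsPGroup 2 Q := (el_isPGroup hE).to_le inf_le_left
      have h1 : Q ≤ centralizer (D : Set G) := by
        refine Cfsg.Agent.S0028.result 3 F Q D (el_isPGroup hF) ?_ (o3_isPGroup _) ?_
          (hFb.trans hDN) ((inf_le_left.trans hEb).trans hDN) ?_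
        · obtain ⟨n, hn⟩ := IsPGroup.iff_card.mp hQ2
          rw [hn]
          exact Nat.Coprime.pow_left n (by norm_num)
        · intro x hx
          rw [mem_centralizer_iff]
          intro q hq
          exact (mem_centralizer_iff.mp (hEF hq.1) x hx).symm
        · intro x hx
          rw [mem_centralizer_iff]
          intro q hq
          exact (mem_centralizer_iff.mp hq.2 x hx).symm
      have h2 : Q ≤ D := (le_inf (inf_le_left.trans hEb) h1).trans (h.char_three' hb)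
      have h3 : IsPGroup 3 Q := (o3_isPGroup _).to_le h2
      have h4 := IsPGroup.disjoint_of_ne 2 3 (by norm_num) Q Q hQ2 h3
      rwa [disjoint_self] at h4
    have hE1 : E ≠ ⊥ := by
      rintro rfl
      rw [Subgroup.card_bot] at hEc
      have : 1 < 2 ^ (e + 1 + 1) := Nat.one_lt_two_pow (by omega)
      omega
    obtain ⟨⟨a, haE⟩, ha1⟩ := Subgroup.ne_bot_iff_exists_ne_one.mp hE1
    obtain ⟨E₀, hE₀E, hE₀i, -, hne⟩ :=
      Lib.CoprimeHyperplane.exists_hyperplane_not_mem hE hD₁c hEN hfaith haE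
        (fun h1 => ha1 (Subtype.ext h1))
    obtain ⟨y, hy, e₁, he₁, hye⟩ : ∃ y ∈ D₁ ⊓ centralizer (E₀ : Set G), ∃ e₁ ∈ E, ⁅y, e₁⁆ ≠ 1 := by
      by_contra hcon
      push Not at hcon
      apply hne
      rw [Subgroup.commutator_eq_bot_iff_le_centralizer]
      intro y hy
      rw [mem_centralizer_iff]
      intro e₁ he₁
      exact (commutatorElement_eq_one_iff_mul_comm.mp (hcon y hy e₁ he₁)).symm
    have he₁2 : e₁ * e₁ = 1 := by rw [← pow_two]; exact el_pow hE he₁
    have he₁i : e₁⁻¹ = e₁ := inv_eq_of_mul_eq_one_right he₁2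
    set w : G := ⁅y, e₁⁆ with hw
    have hwinv : e₁ * w * e₁⁻¹ = w⁻¹ := by
      rw [hw, commutatorElement_def, he₁i]
      have : (y * e₁ * y⁻¹ * e₁)⁻¹ = e₁ * y * e₁ * y⁻¹ := by
        rw [mul_inv_rev, mul_inv_rev, mul_inv_rev, inv_inv, he₁i]
        group
      rw [this]
      calc e₁ * (y * e₁ * y⁻¹ * e₁) * e₁ = e₁ * y * e₁ * y⁻¹ * (e₁ * e₁) := by group
        _ = _ := by rw [he₁2, mul_one]
    have hwD : w ∈ D := by
      rw [hw, commutatorElement_def]
      have h1 := (Subgroup.le_normalizer_iff.mp (hEb.trans hDN)) e₁ he₁ _ (D.inv_mem hy.1.1)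
      have h2 := D.mul_mem hy.1.1 h1
      simpa only [mul_assoc] using h2
    have hwF : w ∈ centralizer (F : Set G) := by
      have h1 := (centralizer (F : Set G)).mul_mem ((centralizer (F : Set G)).mul_mem
        ((centralizer (F : Set G)).mul_mem hy.1.2 (hEF he₁))
          ((centralizer (F : Set G)).inv_mem hy.1.2)) ((centralizer (F : Set G)).inv_mem (hEF he₁))
      exact h1
    have he₁E₀ : e₁ ∈ centralizer (E₀ : Set G) := by
      rw [mem_centralizer_iff]
      intro q hq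
      exact el_comm hE (hE₀E hq) he₁
    have hwE : w ∈ centralizer (E₀ : Set G) := by
      have h1 := (centralizer (E₀ : Set G)).mul_mem ((centralizer (E₀ : Set G)).mul_mem
        ((centralizer (E₀ : Set G)).mul_mem hy.2 he₁E₀)
          ((centralizer (E₀ : Set G)).inv_mem hy.2)) ((centralizer (E₀ : Set G)).inv_mem he₁E₀)
      exact h1
    have hw3 : 3 ∣ orderOf w := by
      obtain ⟨k, hk⟩ := IsPGroup.iff_orderOf.mp (o3_isPGroup (centralizer ({b} : Set G))) ⟨w, hwD⟩
      rw [Subgroup.orderOf_mk] at hk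
      rcases Nat.eq_zero_or_pos k with rfl | hk0
      · exact absurd (orderOf_eq_one_iff.mp (by rw [hk, pow_zero])) hye
      · rw [hk]
        exact dvd_pow_self 3 hk0.ne'
    have hwo : orderOf w ≠ 0 := (orderOf_pos w).ne'
    set w₁ : G := w ^ (orderOf w / 3) with hw₁
    have hw₁o : orderOf w₁ = 3 := orderOf_pow_orderOf_div hwo hw3
    have hw₁F : w₁ ∈ centralizer (F : Set G) := Subgroup.pow_mem _ hwF _
    have hw₁E : w₁ ∈ centralizer (E₀ : Set G) := Subgroup.pow_mem _ hwE _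
    have hw₁inv : e₁ * w₁ * e₁⁻¹ = w₁⁻¹ := by
      rw [hw₁, ← conj_pow, hwinv, inv_pow]
    have hw₁3 : w₁ ^ 3 = 1 := by rw [← hw₁o]; exact pow_orderOf_eq_one w₁
    have hw₁n : w₁ ∉ F := by
      intro hF'
      have h1 : e₁ * w₁ * e₁⁻¹ = w₁ := by
        rw [← mem_centralizer_iff.mp (hEF he₁) w₁ hF', mul_inv_cancel_right]
      rw [hw₁inv] at h1
      have h2 : w₁ ^ 2 = 1 := by
        rw [pow_two]
        nth_rewrite 1 [← h1]
        exact inv_mul_cancel w₁
      have h3 := orderOf_dvd_of_pow_eq_one h2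
      rw [hw₁o] at h3
      omega
    have hw₁c : ∀ a ∈ F, a * w₁ = w₁ * a := fun a ha => mem_centralizer_iff.mp hw₁F a ha
    have hF₁ : IsElementaryAbelian 3 (F ⊔ zpowers w₁) :=
      OddOrderLocal.SmallCent.elemAb_sup_zpowers hF hw₁3 hw₁c
    have hF₁c : Nat.card (F ⊔ zpowers w₁ : Subgroup G) = 3 ^ (f + 1) := by
      rw [card_sup_zpowers hw₁o hw₁c hw₁n, hFc, pow_succ]
    have hF₁1 : F ⊔ zpowers w₁ ≠ ⊥ := fun h1 => hF1 (le_bot_iff.mp (h1 ▸ le_sup_left))
    have hE₀c : Nat.card E₀ = 2 ^ (e + 1) := by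
      have h1 := card_mul_relIndex hE₀E
      rw [hE₀i, hEc, pow_succ 2 (e + 1)] at h1
      omega
    have hE₀F₁ : E₀ ≤ centralizer ((F ⊔ zpowers w₁ : Subgroup G) : Set G) := by
      rw [Subgroup.le_centralizer_iff]
      refine sup_le ?_ ?_
      · rw [Subgroup.le_centralizer_iff]
        exact hE₀E.trans hEF
      · rw [zpowers_le]
        exact hw₁E
    obtain ⟨t, ht, hto, A, hA, hFA, hAt, hAc⟩ := ih (F ⊔ zpowers w₁) E₀ (f + 1) hF₁ hF₁1 hF₁c
      hE₀F₁ (el_mono hE hE₀E) hE₀c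
    exact ⟨t, hE₀E ht, hto, A, hA, le_sup_left.trans hFA, hAt, by rw [hAc]; congr 1; ring⟩

/-- L3: `|F| = 3^f`, `|E| = 2^e`, `[E, F] = 1`, both nontrivial: `e + f ≤ n + 1`, where `3^n` bounds the
elementary abelian 3-subgroups of the centralizers of involutions. -/
theorem add_le [Finite G] (h : Loc G) {n e f : ℕ}
    (hn : ∀ t : G, orderOf t = 2 → ∀ A ≤ centralizer ({t} : Set G), IsElementaryAbelian 3 A →
      Nat.card A ≤ 3 ^ n)
    {F E : Subgroup G} (hF : IsElementaryAbelian 3 F) (hF1 : F ≠ ⊥) (hFc : Nat.card F = 3 ^ f)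
    (hEF : E ≤ centralizer (F : Set G)) (hE : IsElementaryAbelian 2 E) (hEc : Nat.card E = 2 ^ e)
    (hE1 : E ≠ ⊥) : e + f ≤ n + 1 := by
  rcases Nat.eq_zero_or_pos e with rfl | he
  · exact absurd (Subgroup.eq_bot_of_card_eq E (by rw [hEc, pow_zero])) hE1
  obtain ⟨e, rfl⟩ : ∃ e', e = e' + 1 := ⟨e - 1, by omega⟩
  obtain ⟨t, -, ht, A, hA, -, hAt, hAc⟩ := exists_large h e F E f hF hF1 hFc hEF hE hEc
  have h1 := hn t ht A hAt hA
  rw [hAc] at h1
  have h2 := (Nat.pow_le_pow_iff_right (by norm_num : 1 < 3)).mp h1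
  omega

/-! ### L4 -/

/-- `Ω₁(Z(U))` of a 2-group, elementwise. -/
def omz (U : Subgroup G) : Subgroup G where
  carrier := {x | x ∈ U ∧ (∀ y ∈ U, x * y = y * x) ∧ x * x = 1}
  one_mem' := ⟨U.one_mem, fun y _ => by rw [one_mul, mul_one], one_mul 1⟩
  mul_mem' := by
    rintro a b ⟨ha, hac, haa⟩ ⟨hb, hbc, hbb⟩
    refine ⟨U.mul_mem ha hb, fun y hy => ?_, ?_⟩
    · rw [mul_assoc, hbc y hy, ← mul_assoc, hac y hy, mul_assoc]
    · calc a * b * (a * b) = a * (b * a) * b := by group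
        _ = a * (a * b) * b := by rw [hac b hb]
        _ = (a * a) * (b * b) := by group
        _ = 1 := by rw [haa, hbb, one_mul]
  inv_mem' := by
    rintro a ⟨ha, hac, haa⟩
    refine ⟨U.inv_mem ha, fun y hy => ?_, ?_⟩
    · have := hac y⁻¹ (U.inv_mem hy)
      have h2 := congrArg (fun z => z⁻¹) this
      simp only [mul_inv_rev, inv_inv] at h2
      exact h2.symm
    · rw [← mul_inv_rev, haa, inv_one]

theorem mem_omz {U : Subgroup G} {x : G} :
    x ∈ omz U ↔ x ∈ U ∧ (∀ y ∈ U, x * y = y * x) ∧ x * x = 1 := Iff.rfl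

theorem omz_le (U : Subgroup G) : omz U ≤ U := fun _ hx => hx.1

theorem omz_el (U : Subgroup G) : IsElementaryAbelian 2 (omz U) :=
  OddOrderLocal.SmallCent.elemAb_def.mpr
    ⟨fun _ ha _ hb => ha.2.1 _ hb.1, fun _ ha => by rw [pow_two]; exact ha.2.2⟩

theorem le_normalizer_omz {B U : Subgroup G} (h : B ≤ normalizer (U : Set G)) :
    B ≤ normalizer (omz U : Set G) := by
  rw [Subgroup.le_normalizer_iff] at h ⊢
  rintro b hb x ⟨hx, hxc, hxx⟩
  refine ⟨h b hb x hx, fun y hy => ?_, ?_⟩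
  · have h1 := hxc _ (h b⁻¹ (B.inv_mem hb) y hy)
    rw [inv_inv] at h1
    calc b * x * b⁻¹ * y = b * (x * (b⁻¹ * y * b)) * b⁻¹ := by group
      _ = b * (b⁻¹ * y * b * x) * b⁻¹ := by rw [h1]
      _ = y * (b * x * b⁻¹) := by group
  · calc b * x * b⁻¹ * (b * x * b⁻¹) = b * (x * x) * b⁻¹ := by group
      _ = 1 := by rw [hxx, mul_one, mul_inv_cancel]

theorem omz_ne_bot [Finite G] {U : Subgroup G} (hU : IsPGroup 2 U) (hU1 : U ≠ ⊥) : omz U ≠ ⊥ := by
  have hf2 : Fact (Nat.Prime 2) := ⟨Nat.prime_two⟩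
  obtain ⟨t, htU, ht, htc⟩ := exists_orderOf_eq hU hU1
  intro h
  have h1 : t ∈ omz U := by
    refine ⟨htU, fun y hy => mem_centralizer_iff.mp (htc hy) t rfl, ?_⟩
    rw [← pow_two, ← ht]
    exact pow_orderOf_eq_one t
  rw [h, Subgroup.mem_bot] at h1
  rw [h1, orderOf_one] at ht
  omega

/-- L4: if an elementary abelian 3-group of order `3^n`, `n ≥ 2`, normalizes a 2-group `U ≠ 1`, then some
involution is centralized by an elementary abelian 3-group of order `3^n`. -/
theorem exists_centralizer [Finite G] (h : Loc G) {n : ℕ} (hn : 2 ≤ n) {B U : Subgroup G}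
    (hB : IsElementaryAbelian 3 B) (hBc : Nat.card B = 3 ^ n) (hU : IsPGroup 2 U) (hU1 : U ≠ ⊥)
    (hBU : B ≤ normalizer (U : Set G)) :
    ∃ (t : G) (A : Subgroup G), orderOf t = 2 ∧ IsElementaryAbelian 3 A ∧ Nat.card A = 3 ^ n ∧
      A ≤ centralizer ({t} : Set G) := by
  have hf2 : Fact (Nat.Prime 2) := ⟨Nat.prime_two⟩
  have hf3 : Fact (Nat.Prime 3) := ⟨Nat.prime_three⟩
  have hB1 : B ≠ ⊥ := by
    rintro rfl
    rw [Subgroup.card_bot] at hBc
    have : 1 < 3 ^ n := Nat.one_lt_pow (by omega) (by norm_num)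
    omega
  have hU3 : ¬ 3 ∣ Nat.card U := by
    obtain ⟨k, hk⟩ := IsPGroup.iff_card.mp hU
    rw [hk]
    intro h3
    have := Nat.Prime.dvd_of_dvd_pow Nat.prime_three h3
    omega
  have hgen := Lib.CoprimeHyperplane.iSup_centralizer_hyperplane hB hB1 hU3 hBU
  obtain ⟨H, hHB, hHi, hUH⟩ : ∃ H : Subgroup G, H ≤ B ∧ H.relIndex B = 3 ∧
      U ⊓ centralizer (H : Set G) ≠ ⊥ := by
    by_contra hcon
    push Not at hcon
    apply hU1
    rw [← hgen, iSup_eq_bot]
    exact fun H => hcon H.1 H.2.1 H.2.2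
  have hBH : B ≤ centralizer (H : Set G) := by
    intro b hb
    rw [mem_centralizer_iff]
    intro q hq
    exact el_comm hB (hHB hq) hb
  have hHc : Nat.card H = 3 ^ (n - 1) := by
    have h1 := card_mul_relIndex hHB
    obtain ⟨m, rfl⟩ : ∃ m, n = m + 1 := ⟨n - 1, by omega⟩
    rw [hHi, hBc, pow_succ] at h1
    simpa using Nat.eq_of_mul_eq_mul_right (by norm_num) h1
  have hH1 : H ≠ ⊥ := by
    rintro rfl
    rw [Subgroup.card_bot] at hHc
    have : 1 < 3 ^ (n - 1) := Nat.one_lt_pow (by omega) (by norm_num)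
    omega
  set U₁ : Subgroup G := U ⊓ centralizer (H : Set G) with hU₁
  have hU₁2 : IsPGroup 2 U₁ := hU.to_le inf_le_left
  have hBU₁ : B ≤ normalizer (U₁ : Set G) := by
    rw [Subgroup.le_normalizer_iff]
    rintro b hb x ⟨hx, hxH⟩
    refine ⟨Subgroup.le_normalizer_iff.mp hBU b hb x hx, ?_⟩
    exact (centralizer (H : Set G)).mul_mem ((centralizer (H : Set G)).mul_mem (hBH hb) hxH)
      ((centralizer (H : Set G)).inv_mem (hBH hb))
  have hZ1 := omz_ne_bot hU₁2 hUH
  have hBZ := le_normalizer_omz hBU₁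
  have hZ2 : IsPGroup 2 (omz U₁) := el_isPGroup (omz_el U₁)
  obtain ⟨k, hk⟩ := IsPGroup.iff_card.mp hZ2
  have hk0 : k ≠ 0 := by
    rintro rfl
    exact hZ1 (Subgroup.eq_bot_of_card_eq _ (by rw [hk, pow_zero]))
  rcases Nat.lt_or_ge k 2 with hk2 | hk2
  · obtain rfl : k = 1 := by omega
    obtain ⟨t, htZ, hto, -⟩ := exists_orderOf_eq hZ2 hZ1
    refine ⟨t, B, hto, hB, hBc, ?_⟩
    have hZt : omz U₁ = zpowers t := by
      symm
      apply Subgroup.eq_of_le_of_card_ge (zpowers_le.mpr htZ)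
      rw [hk, Nat.card_zpowers, hto, pow_one]
    intro b hb
    rw [mem_centralizer_iff]
    intro y hy
    rw [Set.mem_singleton_iff.mp hy]
    have h1 : b * t * b⁻¹ ∈ omz U₁ := Subgroup.le_normalizer_iff.mp hBZ b hb t htZ
    have ht1 : t ≠ 1 := by
      rintro rfl
      rw [orderOf_one] at hto
      omega
    have h2 : b * t * b⁻¹ = t := by
      classical
      rw [hZt, mem_zpowers_iff_mem_range_orderOf] at h1
      simp only [hto, Finset.mem_image, Finset.mem_range] at h1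
      obtain ⟨i, hi, hi'⟩ := h1
      interval_cases i
      · rw [pow_zero] at hi'
        exact absurd (conj_eq_one_iff.mp hi'.symm) ht1
      · rw [pow_one] at hi'
        exact hi'.symm
    rw [mul_inv_eq_iff_eq_mul] at h2
    exact h2.symm
  · obtain ⟨K, hK⟩ := Sylow.exists_subgroup_card_pow_prime (G := omz U₁) 2 (n := 2)
      (by rw [hk]; exact pow_dvd_pow 2 hk2)
    have hKle : K.map (omz U₁).subtype ≤ omz U₁ := map_subtype_le K
    have hKc : Nat.card (K.map (omz U₁).subtype) = 2 ^ (1 + 1) := by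
      rw [Subgroup.card_map_of_injective (omz U₁).subtype_injective, hK]
    have hKH : K.map (omz U₁).subtype ≤ centralizer (H : Set G) :=
      hKle.trans ((omz_le _).trans inf_le_right)
    obtain ⟨t, -, ht, A, hA, -, hAt, hAc⟩ := exists_large h 1 H _ (n - 1) (el_mono hB hHB) hH1 hHc
      hKH (el_mono (omz_el U₁) hKle) hKc
    exact ⟨t, A, ht, hA, by rw [hAc]; congr 1; omega, hAt⟩

/-- The bound for the centralizers of involutions from `M23LE`. -/
theorem card_le_of_m23le {n : ℕ} (hM : M23LE n G) {t : G} (ht : orderOf t = 2) {A : Subgroup G}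
    (hA : A ≤ centralizer ({t} : Set G)) (hAe : IsElementaryAbelian 3 A) : Nat.card A ≤ 3 ^ n := by
  have hf2 : Fact (Nat.Prime 2) := ⟨Nat.prime_two⟩
  refine hM A (zpowers t) hAe (isPGroup_zpowers_of_orderOf ht)
    (zpowers_ne_bot_of_orderOf Nat.prime_two ht) ?_
  rw [← centralizer_zpowers_eq] at hA
  exact hA.trans (centralizer_le_normalizer _)

/-- L3 with `M23LE`. -/
theorem add_le' [Finite G] (h : Loc G) {n e f : ℕ} (hM : M23LE n G)
    {F E : Subgroup G} (hF : IsElementaryAbelian 3 F) (hF1 : F ≠ ⊥) (hFc : Nat.card F = 3 ^ f)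
    (hEF : E ≤ centralizer (F : Set G)) (hE : IsElementaryAbelian 2 E) (hEc : Nat.card E = 2 ^ e)
    (hE1 : E ≠ ⊥) : e + f ≤ n + 1 :=
  add_le h (fun _ ht _ hA hAe => card_le_of_m23le hM ht hA hAe) hF hF1 hFc hEF hE hEc hE1

/-- `m_2(C_G(B)) ≤ 1` and so on: `|E| ≤ 2^(n+1-f)`. -/
theorem card_le [Finite G] (h : Loc G) {n f : ℕ} (hM : M23LE n G)
    {F E : Subgroup G} (hF : IsElementaryAbelian 3 F) (hF1 : F ≠ ⊥) (hFc : Nat.card F = 3 ^ f)
    (hEF : E ≤ centralizer (F : Set G)) (hE : IsElementaryAbelian 2 E) :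
    Nat.card E ≤ 2 ^ (n + 1 - f) := by
  have hf2 : Fact (Nat.Prime 2) := ⟨Nat.prime_two⟩
  by_cases hE1 : E = ⊥
  · rw [hE1, Subgroup.card_bot]
    exact Nat.one_le_two_pow
  obtain ⟨e, hEc⟩ := IsPGroup.iff_card.mp (el_isPGroup hE)
  have h1 := add_le' h hM hF hF1 hFc hEF hE hEc hE1
  rw [hEc]
  exact Nat.pow_le_pow_right (by norm_num) (by omega)

/-- In the wide case there is `n ≥ 2` with `M23LE n G` that is attained at the centralizer of an
involution. -/
theorem exists_wide [Finite G] (h : Loc G) (hw : ¬ M23LE 1 G) :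
    ∃ n, 2 ≤ n ∧ M23LE n G ∧ ∃ (t : G) (A : Subgroup G), orderOf t = 2 ∧ IsElementaryAbelian 3 A ∧
      Nat.card A = 3 ^ n ∧ A ≤ centralizer ({t} : Set G) := by
  have hf3 : Fact (Nat.Prime 3) := ⟨Nat.prime_three⟩
  have hex : ∃ n, M23LE n G := by
    refine ⟨Nat.card G, fun B U _ _ _ _ => ?_⟩
    calc Nat.card B ≤ Nat.card G := Nat.le_of_dvd Nat.card_pos (card_subgroup_dvd_card B)
      _ ≤ 3 ^ Nat.card G := (Nat.lt_pow_self (by norm_num)).le
  classical
  have hspec := Nat.find_spec hex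
  set n := Nat.find hex with hn
  have hn2 : 2 ≤ n := by
    by_contra hlt
    apply hw
    intro B U hB hU hU1 hBU
    exact (hspec B U hB hU hU1 hBU).trans (Nat.pow_le_pow_right (by norm_num) (by omega))
  have hmin : ¬ M23LE (n - 1) G := Nat.find_min hex (by omega)
  rw [M23LE] at hmin
  push Not at hmin
  obtain ⟨B, U, hB, hU, hU1, hBU, hlt⟩ := hmin
  have hBle := hspec B U hB hU hU1 hBU
  obtain ⟨k, hk⟩ := IsPGroup.iff_card.mp (el_isPGroup hB)
  rw [hk] at hlt hBle
  have h1 := (Nat.pow_lt_pow_iff_right (by norm_num : 1 < 3)).mp hlt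
  have h2 := (Nat.pow_le_pow_iff_right (by norm_num : 1 < 3)).mp hBle
  obtain rfl : k = n := by omega
  obtain ⟨t, A, ht, hA, hAc, hAt⟩ := exists_centralizer h hn2 hB hk hU hU1 hBU
  exact ⟨n, hn2, hspec, t, A, ht, hA, hAc, hAt⟩

end Cfsg.Agent.SmallSimple.S1000.WideL1
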