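import Cfsg.Agent.SmallSimple.S1000.WideW1
import Cfsg.Agent.SmallSimple.S1000.TwoCentral
import Cfsg.Agent.SmallSimple.S1000.CritBoundMain
import Cfsg.Agent.SmallSimple.S1000.TwoOnThree
import Cfsg.Agent.SmallSimple.S1000.WideL1

/-!
# The wide case of S1000 (helper852)

`wide (h : Loc G) (hw : ¬ M23LE 1 G) (S : Sylow 2 G) : Nat.card S ≤ 2 ^ 13`.

With `n = m_{2,3}(G) ≥ 2` and `z`, `B = 3^n ≤ C(z)`, `X = O₂(C(z)) = (Q₈ * ⋯ * Q₈) * R` (`k` factors, `QStructMain`):
`R_card` (W3) `R = ⟨z⟩`, `exists_v` (W4) an involution `v` with a faithful action of `2^{1+2(k-1)}` on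
`O₃(C(v)/O₂(C(v)))`, `k_eq_three`, `three_impossible`: `n = 2`, `k ≤ 4`, and `|S/X| ≤ 16`.
-/

set_option autoImplicit false
set_option linter.unusedSectionVars false

namespace Cfsg.Agent.SmallSimple.S1000.WideBound

open Subgroup Cfsg Cfsg.Agent.ZN Cfsg.Agent.MinSimple.Basic Cfsg.Agent.MinSimple.VModule
  Cfsg.Agent.SmallSimple.S1000.Setup Cfsg.Agent.SmallSimple.S1000.QStruct
  Cfsg.Agent.SmallSimple.S1000.QStructMain Cfsg.Agent.SmallSimple.S1000.WideW1

/-! ### (W2) -/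

variable {G : Type*} [Group G] [Finite G]

omit [Finite G] in
theorem mem_o2_iff {X : Subgroup G} (c : X) : (c : G) ∈ o2 X ↔ c ∈ pCore 2 X := by
  constructor
  · rintro ⟨y, hy, hyc⟩
    rwa [Subtype.ext hyc] at hy
  · intro h
    exact ⟨c, h, rfl⟩

theorem quot_rank {v : G} {n : ℕ}
    (hn : ∀ B ≤ centralizer ({v} : Set G), IsElementaryAbelian 3 B → Nat.card B ≤ 3 ^ n) :
    ∀ E ≤ pCore 3 (↥(centralizer ({v} : Set G)) ⧸ pCore 2 ↥(centralizer ({v} : Set G))),
      IsElementaryAbelian 3 E → Nat.card E ≤ 3 ^ n := by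
  have hf2 : Fact (Nat.Prime 2) := ⟨Nat.prime_two⟩
  intro E _ hE
  obtain ⟨T, hT, hc⟩ := exists_lift_elementary (Lib.Cores.pCore_isPGroup (G := ↥(centralizer ({v} : Set G))) 2) hE
  rw [← hc]
  have h1 : Nat.card (T.map (centralizer ({v} : Set G)).subtype) = Nat.card T :=
    (Nat.card_congr (T.equivMapOfInjective _ (centralizer ({v} : Set G)).subtype_injective).toEquiv).symm
  rw [← h1]
  refine hn _ (map_subtype_le T) ⟨⟨⟨?_⟩⟩, ?_⟩
  · rintro ⟨_, a, ha, rfl⟩ ⟨_, b, hb, rfl⟩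
    apply Subtype.ext
    have := congrArg Subtype.val (hT.1.1.comm ⟨a, ha⟩ ⟨b, hb⟩)
    show (a : G) * (b : G) = b * a
    exact congrArg Subtype.val this
  · rintro _ ⟨a, ha, rfl⟩
    rw [← map_pow, hT.2 a ha, map_one]

theorem quot_facts (h : Loc G) {v : G} (hv : orderOf v = 2) {z : G} (hzz : z * z = 1)
    (hzv : z ∈ centralizer ({v} : Set G)) (hzn : z ∉ o2 (centralizer ({v} : Set G))) {n : ℕ}
    (hn : ∀ B ≤ centralizer ({v} : Set G), IsElementaryAbelian 3 B → Nat.card B ≤ 3 ^ n) :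
    (QuotientGroup.mk' (pCore 2 ↥(centralizer ({v} : Set G))) ⟨z, hzv⟩ ∉
      centralizer (pCore 3 (↥(centralizer ({v} : Set G)) ⧸ pCore 2 ↥(centralizer ({v} : Set G))) : Set _)) ∧
    ∀ E ≤ pCore 3 (↥(centralizer ({v} : Set G)) ⧸ pCore 2 ↥(centralizer ({v} : Set G))),
      IsElementaryAbelian 3 E → Nat.card E ≤ 3 ^ n := by
  have hf2 : Fact (Nat.Prime 2) := ⟨Nat.prime_two⟩
  have hf3 : Fact (Nat.Prime 3) := ⟨Nat.prime_three⟩
  obtain ⟨i, j, hC⟩ := h.tt2 v hv
  constructor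
  · intro hmem
    have h1 := centralizer_pCore_three_le (C := ↥(centralizer ({v} : Set G))) ⟨i, j, hC⟩ hmem
    set zz := QuotientGroup.mk' (pCore 2 ↥(centralizer ({v} : Set G))) ⟨z, hzv⟩ with hzzd
    have h2 : zz * zz = 1 := by
      rw [hzzd, ← map_mul]
      have : (⟨z, hzv⟩ : ↥(centralizer ({v} : Set G))) * ⟨z, hzv⟩ = 1 := Subtype.ext hzz
      rw [this, map_one]
    obtain ⟨m, hm⟩ := IsPGroup.iff_card.1 (Lib.Cores.pCore_isPGroup
      (G := ↥(centralizer ({v} : Set G)) ⧸ pCore 2 ↥(centralizer ({v} : Set G))) 3)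
    have h3 : zz ^ (3 ^ m) = 1 := by
      rw [← hm]
      exact congrArg Subtype.val (pow_card_eq_one' (x := (⟨zz, h1⟩ : pCore 3 _)))
    obtain ⟨l, hl⟩ : Odd (3 ^ m) := Odd.pow (by decide)
    rw [hl, pow_succ, pow_mul, pow_two, h2, one_pow, one_mul] at h3
    apply hzn
    exact (mem_o2_iff ⟨z, hzv⟩).2 ((QuotientGroup.eq_one_iff _).1 h3)
  · exact quot_rank hn

section Pairs

variable {v z : G} {m : ℕ} {x y : Fin m → G}

/-- pairs in `C(v)` -/
structure Pairs (v z : G) {m : ℕ} (x y : Fin m → G) : Prop where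
  zz : z * z = 1
  zv : z ∈ centralizer ({v} : Set G)
  xv : ∀ i, x i ∈ centralizer ({v} : Set G)
  yv : ∀ i, y i ∈ centralizer ({v} : Set G)
  xx : ∀ i, x i * x i = 1 ∨ x i * x i = z
  yy : ∀ i, y i * y i = 1 ∨ y i * y i = z
  xy : ∀ i, x i * y i = z * (y i * x i)
  xz : ∀ i, x i * z = z * x i
  yz : ∀ i, y i * z = z * y i
  comm : ∀ i j, i ≠ j → Commute (x i) (x j) ∧ Commute (x i) (y j) ∧ Commute (y i) (y j)

/-- the order of `O₃(C(v)/O₂(C(v)))` -/
noncomputable def oo (v : G) : ℕ :=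
  Nat.card (pCore 3 (↥(centralizer ({v} : Set G)) ⧸ pCore 2 ↥(centralizer ({v} : Set G))))

theorem Pairs.bound (h : Loc G) (P : Pairs v z x y) (hv : orderOf v = 2)
    (hzn : z ∉ o2 (centralizer ({v} : Set G))) {n : ℕ}
    (hn : ∀ B ≤ centralizer ({v} : Set G), IsElementaryAbelian 3 B → Nat.card B ≤ 3 ^ n) :
    2 ^ m ≤ n ∨ ∃ r, 1 ≤ r ∧ 2 ^ m ≤ (1 + r) * (n - r) ∧ 3 ^ (2 ^ m + r) ≤ oo v := by
  have hf3 : Fact (Nat.Prime 3) := ⟨Nat.prime_three⟩
  obtain ⟨q1, q2⟩ := quot_facts h hv P.zz P.zv hzn hn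
  set C := ↥(centralizer ({v} : Set G)) with hC
  set π : C →* C ⧸ pCore 2 C := QuotientGroup.mk' (pCore 2 C) with hπ
  have hnorm : normalizer (pCore 3 (C ⧸ pCore 2 C) : Set (C ⧸ pCore 2 C)) = ⊤ :=
    normalizer_eq_top_iff.2 (Lib.Cores.pCore_normal 3)
  have key : ∀ (a b c d : G) (ha : a ∈ centralizer ({v} : Set G)) (hb : b ∈ centralizer ({v} : Set G))
      (hc : c ∈ centralizer ({v} : Set G)) (hd : d ∈ centralizer ({v} : Set G)), a * b = c * d →
      π ⟨a, ha⟩ * π ⟨b, hb⟩ = π ⟨c, hc⟩ * π ⟨d, hd⟩ := by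
    intro a b c d ha hb hc hd h
    rw [← map_mul, ← map_mul]
    congr 1
    exact Subtype.ext h
  have key1 : ∀ (a b : G) (ha : a ∈ centralizer ({v} : Set G)) (hb : b ∈ centralizer ({v} : Set G)),
      a * b = 1 → π ⟨a, ha⟩ * π ⟨b, hb⟩ = 1 := by
    intro a b ha hb h
    rw [← map_mul]
    have : (⟨a, ha⟩ : C) * ⟨b, hb⟩ = 1 := Subtype.ext h
    rw [this, map_one]
  have key2 : ∀ (a b c : G) (ha : a ∈ centralizer ({v} : Set G)) (hb : b ∈ centralizer ({v} : Set G))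
      (hc : c ∈ centralizer ({v} : Set G)), a * b = c → π ⟨a, ha⟩ * π ⟨b, hb⟩ = π ⟨c, hc⟩ := by
    intro a b c ha hb hc h
    rw [← map_mul]
    congr 1
    exact Subtype.ext h
  refine CritBoundMain.bound (O := pCore 3 (C ⧸ pCore 2 C)) (Lib.Cores.pCore_isPGroup 3) (fun i => π ⟨x i, P.xv i⟩)
    (fun i => π ⟨y i, P.yv i⟩) (π ⟨z, P.zv⟩) ?_ ?_ ?_ ?_ ?_ ?_ ?_ ?_ ?_ ?_ q1 q2
  · intro i; rw [hnorm]; trivial
  · intro i; rw [hnorm]; trivial
  · rw [hnorm]; trivial
  · exact key1 _ _ _ _ P.zz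
  · exact fun i => (P.xx i).imp (key1 _ _ _ _) (key2 _ _ _ _ _ _)
  · exact fun i => (P.yy i).imp (key1 _ _ _ _) (key2 _ _ _ _ _ _)
  · intro i
    have h1 := key (x i) (y i) z (y i * x i) (P.xv i) (P.yv i) P.zv (mul_mem (P.yv i) (P.xv i)) (P.xy i)
    rw [h1]
    congr 1
  · exact fun i => key _ _ _ _ _ _ _ _ (P.xz i)
  · exact fun i => key _ _ _ _ _ _ _ _ (P.yz i)
  · exact fun i j hij => ⟨key _ _ _ _ _ _ _ _ (P.comm i j hij).1, key _ _ _ _ _ _ _ _ (P.comm i j hij).2.1,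
      key _ _ _ _ _ _ _ _ (P.comm i j hij).2.2⟩

theorem Pairs.bound' (h : Loc G) (P : Pairs v z x y) (hv : orderOf v = 2)
    (hzn : z ∉ o2 (centralizer ({v} : Set G))) {n : ℕ}
    (hn : ∀ B ≤ centralizer ({v} : Set G), IsElementaryAbelian 3 B → Nat.card B ≤ 3 ^ n)
    {u : G} (huv : u ∈ centralizer ({v} : Set G)) (huu : u * u = z)
    (hux : ∀ i, Commute u (x i) ∧ Commute u (y i)) :
    2 ^ (m + 1) ≤ n ∨ ∃ r, 1 ≤ r ∧ 2 ^ (m + 1) ≤ (1 + r) * (n - r) ∧ 3 ^ (2 ^ (m + 1) + r) ≤ oo v := by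
  have hf3 : Fact (Nat.Prime 3) := ⟨Nat.prime_three⟩
  obtain ⟨q1, q2⟩ := quot_facts h hv P.zz P.zv hzn hn
  set C := ↥(centralizer ({v} : Set G)) with hC
  set π : C →* C ⧸ pCore 2 C := QuotientGroup.mk' (pCore 2 C) with hπ
  have hnorm : normalizer (pCore 3 (C ⧸ pCore 2 C) : Set (C ⧸ pCore 2 C)) = ⊤ :=
    normalizer_eq_top_iff.2 (Lib.Cores.pCore_normal 3)
  have key : ∀ (a b c d : G) (ha : a ∈ centralizer ({v} : Set G)) (hb : b ∈ centralizer ({v} : Set G))
      (hc : c ∈ centralizer ({v} : Set G)) (hd : d ∈ centralizer ({v} : Set G)), a * b = c * d →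
      π ⟨a, ha⟩ * π ⟨b, hb⟩ = π ⟨c, hc⟩ * π ⟨d, hd⟩ := by
    intro a b c d ha hb hc hd h
    rw [← map_mul, ← map_mul]
    congr 1
    exact Subtype.ext h
  have key1 : ∀ (a b : G) (ha : a ∈ centralizer ({v} : Set G)) (hb : b ∈ centralizer ({v} : Set G)),
      a * b = 1 → π ⟨a, ha⟩ * π ⟨b, hb⟩ = 1 := by
    intro a b ha hb h
    rw [← map_mul]
    have : (⟨a, ha⟩ : C) * ⟨b, hb⟩ = 1 := Subtype.ext h
    rw [this, map_one]
  have key2 : ∀ (a b c : G) (ha : a ∈ centralizer ({v} : Set G)) (hb : b ∈ centralizer ({v} : Set G))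
      (hc : c ∈ centralizer ({v} : Set G)), a * b = c → π ⟨a, ha⟩ * π ⟨b, hb⟩ = π ⟨c, hc⟩ := by
    intro a b c ha hb hc h
    rw [← map_mul]
    congr 1
    exact Subtype.ext h
  refine CritBoundMain.bound' (O := pCore 3 (C ⧸ pCore 2 C)) (Lib.Cores.pCore_isPGroup 3) (fun i => π ⟨x i, P.xv i⟩)
    (fun i => π ⟨y i, P.yv i⟩) (π ⟨z, P.zv⟩) ?_ ?_ ?_ ?_ ?_ ?_ ?_ ?_ ?_ ?_ q1 q2 (π ⟨u, huv⟩) ?_ ?_ ?_
  · intro i; rw [hnorm]; trivial
  · intro i; rw [hnorm]; trivial
  · rw [hnorm]; trivial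
  · exact key1 _ _ _ _ P.zz
  · exact fun i => (P.xx i).imp (key1 _ _ _ _) (key2 _ _ _ _ _ _)
  · exact fun i => (P.yy i).imp (key1 _ _ _ _) (key2 _ _ _ _ _ _)
  · intro i
    have h1 := key (x i) (y i) z (y i * x i) (P.xv i) (P.yv i) P.zv (mul_mem (P.yv i) (P.xv i)) (P.xy i)
    rw [h1]
    congr 1
  · exact fun i => key _ _ _ _ _ _ _ _ (P.xz i)
  · exact fun i => key _ _ _ _ _ _ _ _ (P.yz i)
  · exact fun i j hij => ⟨key _ _ _ _ _ _ _ _ (P.comm i j hij).1, key _ _ _ _ _ _ _ _ (P.comm i j hij).2.1,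
      key _ _ _ _ _ _ _ _ (P.comm i j hij).2.2⟩
  · rw [hnorm]; trivial
  · exact key2 _ _ _ _ _ _ huu
  · exact fun i => ⟨key _ _ _ _ _ _ _ _ (hux i).1, key _ _ _ _ _ _ _ _ (hux i).2⟩

end Pairs

/-! ### Arithmetic -/

theorem four_mul_le (a b : ℕ) : 4 * (a * b) ≤ (a + b) ^ 2 := by
  have h : (0 : ℤ) ≤ ((a : ℤ) - b) ^ 2 := sq_nonneg _
  have : (4 : ℤ) * (a * b) ≤ (a + b) ^ 2 := by nlinarith
  exact_mod_cast this

theorem sq_lt_pow : ∀ k : ℕ, 4 ≤ k → (k + 1) ^ 2 < 2 ^ (k + 1) := by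
  intro k hk
  induction k, hk using Nat.le_induction with
  | base => norm_num
  | succ k hk ih =>
    rw [pow_succ 2 (k + 1)]
    nlinarith

theorem prod_le {n r k : ℕ} (hn : n ≤ k) : 4 * ((1 + r) * (n - r)) ≤ (k + 1) ^ 2 := by
  rcases Nat.lt_or_ge n r with h | h
  · rw [Nat.sub_eq_zero_of_le h.le]
    simp
  · have h1 := four_mul_le (1 + r) (n - r)
    have h2 : 1 + r + (n - r) = n + 1 := by omega
    rw [h2] at h1
    exact h1.trans (Nat.pow_le_pow_left (by omega) 2)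

theorem num_three {k n : ℕ} (hn : n ≤ k) (hk : 2 ≤ k) {o : ℕ}
    (h : 2 ^ k ≤ n ∨ ∃ r, 1 ≤ r ∧ 2 ^ k ≤ (1 + r) * (n - r) ∧ 3 ^ (2 ^ k + r) ≤ o) : False := by
  rcases h with h | ⟨r, -, h, -⟩
  · exact absurd (h.trans hn) (not_le.2 Nat.lt_two_pow_self)
  · have h1 := prod_le (r := r) hn
    have h2 : (k + 1) ^ 2 < 4 * 2 ^ k := by
      rcases Nat.lt_or_ge k 4 with h4 | h4
      · interval_cases k <;> norm_num
      · have := sq_lt_pow k h4
        rw [pow_succ 2 k] at this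
        omega
    omega

theorem num_four {k n : ℕ} (hn : n ≤ k + 1) (hk : 3 ≤ k) {o : ℕ}
    (h : 2 ^ k ≤ n ∨ ∃ r, 1 ≤ r ∧ 2 ^ k ≤ (1 + r) * (n - r) ∧ 3 ^ (2 ^ k + r) ≤ o) : False := by
  have h3 := sq_lt_pow (k + 1) (by omega)
  rw [pow_succ 2 (k + 1), pow_succ 2 k] at h3
  rcases h with h | ⟨r, -, h, -⟩
  · have h4 : 2 ^ k ≤ k + 1 := h.trans hn
    nlinarith
  · have h1 := prod_le (r := r) hn
    omega

/-! ### The structure of `O₂(C(z))` -/

/-- `B` is an elementary abelian subgroup of order `3 ^ n` of `C(z)`. -/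
structure Wide (n : ℕ) (z : G) (B : Subgroup G) : Prop where
  ord : orderOf z = 2
  elem : IsElementaryAbelian 3 B
  card : Nat.card B = 3 ^ n
  le : B ≤ centralizer ({z} : Set G)

section Bounds

variable {n : ℕ}

omit [Finite G] in
theorem rank_le (hM : M23LE n G) : ∀ t : G, orderOf t = 2 → ∀ A ≤ centralizer ({t} : Set G),
    IsElementaryAbelian 3 A → Nat.card A ≤ 3 ^ n := by
  intro t ht A hA hA3
  have hf2 : Fact (Nat.Prime 2) := ⟨Nat.prime_two⟩
  refine hM A (zpowers t) hA3 (isPGroup_zpowers_of_orderOf ht) (zpowers_ne_bot_of_orderOf Nat.prime_two ht) ?_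
  refine hA.trans ?_
  rw [← centralizer_zpowers_eq]
  exact centralizer_le_normalizer _

omit [Finite G] in
theorem isPGroup_three {B : Subgroup G} (hB : IsElementaryAbelian 3 B) : IsPGroup 3 B := fun x => ⟨1, by
  rw [pow_one]; exact Subtype.ext (hB.2 x x.2)⟩

omit [Finite G] in
theorem isPGroup_two {B : Subgroup G} (hB : IsElementaryAbelian 2 B) : IsPGroup 2 B := fun x => ⟨1, by
  rw [pow_one]; exact Subtype.ext (hB.2 x x.2)⟩

omit [Finite G] in
theorem elem_mono {p : ℕ} {A B : Subgroup G} (hB : IsElementaryAbelian p B) (hAB : A ≤ B) :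
    IsElementaryAbelian p A := by
  refine ⟨⟨⟨fun a b => Subtype.ext ?_⟩⟩, fun a ha => hB.2 a (hAB ha)⟩
  show (a : G) * b = b * a
  exact congrArg Subtype.val (hB.1.1.comm ⟨a, hAB a.2⟩ ⟨b, hAB b.2⟩)

omit [Finite G] in
theorem exists_order_three {B : Subgroup G} (hB : IsElementaryAbelian 3 B) (h1 : B ≠ ⊥) :
    ∃ b ∈ B, orderOf b = 3 := by
  obtain ⟨b, hb⟩ := (Subgroup.ne_bot_iff_exists_ne_one).1 h1
  refine ⟨b, b.2, orderOf_eq_prime (hB.2 b b.2) ?_⟩
  intro h
  exact hb (Subtype.ext h)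

theorem Wide.hyp (h : Loc G) (hM : M23LE n G) (hn : 2 ≤ n) {z : G} {B : Subgroup G} (w : Wide n z B) :
    QStruct.Hyp z (o2 (centralizer ({z} : Set G))) B := by
  have hf2 : Fact (Nat.Prime 2) := ⟨Nat.prime_two⟩
  have hz1 : z ≠ 1 := by
    rintro rfl
    have := w.ord
    simp at this
  have hzz := mul_self_of_orderOf w.ord
  have hzX : z ∈ o2 (centralizer ({z} : Set G)) := by
    have h1 : zpowers z ≤ o2 (centralizer ({z} : Set G)) := by
      refine le_o2 ?_ (isPGroup_zpowers_of_orderOf w.ord) ?_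
      · rw [zpowers_le, mem_centralizer_singleton_iff]
      · rw [← centralizer_zpowers_eq]
        exact centralizer_le_normalizer _
    exact h1 (mem_zpowers z)
  have hBne : B ≠ ⊥ := by
    rintro rfl
    have := w.card
    rw [card_bot] at this
    have h3 : 1 < 3 ^ n := Nat.one_lt_pow (by omega) (by norm_num)
    omega
  have hrk := rank_le hM
  refine ⟨hzz, hz1, o2_isPGroup _, hzX, ?_, ?_, ?_, w.elem, ?_, hBne, ?_, ?_⟩
  · exact fun x hx => (mem_centralizer_singleton_iff.1 (o2_le _ hx)).symm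
  · exact fun b hb => (mem_centralizer_singleton_iff.1 (w.le hb)).symm
  · exact w.le.trans (le_normalizer_o2 _)
  · rw [eq_bot_iff]
    rintro b ⟨hb, hbc⟩
    have h1 : b ∈ o2 (centralizer ({z} : Set G)) := h.char_two' w.ord ⟨w.le hb, hbc⟩
    have h2 : Disjoint B (o2 (centralizer ({z} : Set G))) := by
      apply disjoint_of_coprime_natCard
      obtain ⟨m, hm⟩ := IsPGroup.iff_card.mp (o2_isPGroup (centralizer ({z} : Set G)))
      rw [w.card, hm]
      exact Nat.Coprime.pow n m (by norm_num)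
    exact h2.le_bot ⟨hb, h1⟩
  · intro E hE hE2
    obtain ⟨e, he⟩ := IsPGroup.iff_card.mp (isPGroup_two hE2)
    by_cases hE1 : E = ⊥
    · rw [hE1, card_bot]; norm_num
    · have := WideL1.add_le h hrk w.elem hBne w.card (hE.trans inf_le_right) hE2 he hE1
      rw [he]
      calc 2 ^ e ≤ 2 ^ 1 := Nat.pow_le_pow_right (by norm_num) (by omega)
        _ = 2 := by norm_num
  · intro H hHB hH3 E hE hE2
    obtain ⟨e, he⟩ := IsPGroup.iff_card.mp (isPGroup_two hE2)
    have hHc : Nat.card H = 3 ^ (n - 1) := by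
      have h1 := Lib.HallHigman.card_mul_relIndex' hHB
      rw [hH3, w.card] at h1
      have h2 : 3 ^ n = 3 ^ (n - 1) * 3 := by rw [← pow_succ]; congr 1; omega
      rw [h2] at h1
      exact Nat.eq_of_mul_eq_mul_right (by norm_num) h1
    have hH1 : H ≠ ⊥ := by
      rintro rfl
      rw [card_bot] at hHc
      have h3 : 1 < 3 ^ (n - 1) := Nat.one_lt_pow (by omega) (by norm_num)
      omega
    by_cases hE1 : E = ⊥
    · rw [hE1, card_bot]; norm_num
    · have := WideL1.add_le h hrk (elem_mono w.elem hHB) hH1 hHc (hE.trans inf_le_right) hE2 he hE1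
      rw [he]
      calc 2 ^ e ≤ 2 ^ 2 := Nat.pow_le_pow_right (by norm_num) (by omega)
        _ = 4 := by norm_num

variable {z : G} {X B : Subgroup G} {k : ℕ} {H : Fin k → Subgroup G} {x y : Fin k → G}

theorem le_k (q : QS z X B H x y) (hB : Nat.card B = 3 ^ n) : n ≤ k := by
  have h1 := relIndex_iInf_le (L := B) H
  simp only [q.H3, Finset.prod_const, Finset.card_univ, Fintype.card_fin] at h1
  have h2 : (⨅ i, H i) ⊓ B = ⊥ := by
    rw [eq_bot_iff]
    rintro b ⟨hb, hbB⟩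
    exact q.faith b hbB fun i => (mem_iInf.1 hb) i
  rw [← inf_relIndex_right, h2, relIndex_bot_left, hB] at h1
  exact (Nat.pow_le_pow_iff_right (by norm_num)).1 h1

theorem exists_two (q : QS z X B H x y) (w : Wide n z B) (hn : 3 ≤ n) (i j : Fin k) :
    ∃ b, b ∈ H i ∧ b ∈ H j ∧ orderOf b = 3 := by
  have h1 := relIndex_inf_le (H := H i) (K := H j) (L := B)
  rw [q.H3, q.H3] at h1
  have hle : H i ⊓ H j ≤ B := inf_le_left.trans (q.HB i)
  have h2 := Lib.HallHigman.card_mul_relIndex' hle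
  rw [w.card] at h2
  have hne : H i ⊓ H j ≠ ⊥ := by
    intro h3
    rw [h3, card_bot, one_mul] at h2
    rw [h3, h2] at h1
    have h4 : 3 ^ 3 ≤ 3 ^ n := Nat.pow_le_pow_right (by norm_num) hn
    omega
  obtain ⟨b, hb, hb3⟩ := exists_order_three (elem_mono w.elem hle) hne
  exact ⟨b, hb.1, hb.2, hb3⟩

theorem exists_one (q : QS z X B H x y) (w : Wide n z B) (hn : 2 ≤ n) (i : Fin k) :
    ∃ b, b ∈ H i ∧ orderOf b = 3 := by
  have h2 := Lib.HallHigman.card_mul_relIndex' (q.HB i)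
  rw [w.card, q.H3] at h2
  have hne : H i ≠ ⊥ := by
    intro h3
    rw [h3, card_bot, one_mul] at h2
    have h4 : 3 ^ 2 ≤ 3 ^ n := Nat.pow_le_pow_right (by norm_num) hn
    omega
  obtain ⟨b, hb, hb3⟩ := exists_order_three (elem_mono w.elem (q.HB i)) hne
  exact ⟨b, hb, hb3⟩

end Bounds

/-! ### (W3) -/

section WThree

variable {n : ℕ} {z : G} {B : Subgroup G} {m : ℕ} {H : Fin (m + 1) → Subgroup G} {x y : Fin (m + 1) → G}

theorem R_card (h : Loc G) (hM : M23LE n G) (hn : 2 ≤ n) (w : Wide n z B)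
    (q : QS z (o2 (centralizer ({z} : Set G))) B H x y) :
    Nat.card ↥(o2 (centralizer ({z} : Set G)) ⊓ centralizer (B : Set G)) = 2 := by
  have hf2 : Fact (Nat.Prime 2) := ⟨Nat.prime_two⟩
  set X := o2 (centralizer ({z} : Set G)) with hX
  have hy := w.hyp h hM hn
  have hk := le_k q w.card
  by_contra hR
  -- an element of order 4
  obtain ⟨i, hi, hii⟩ : ∃ i ∈ X ⊓ centralizer (B : Set G), i * i = z := by
    have hc := q.Rcyc
    obtain ⟨g, hg⟩ := IsCyclic.exists_ofOrder_eq_natCard (α := ↥(X ⊓ centralizer (B : Set G)))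
    have h2 : IsPGroup 2 ↥(X ⊓ centralizer (B : Set G)) := hy.two.to_le inf_le_left
    obtain ⟨r, hr⟩ := IsPGroup.iff_card.mp h2
    have hz2 : 2 ∣ Nat.card ↥(X ⊓ centralizer (B : Set G)) := by
      have h3 := orderOf_dvd_natCard (⟨z, q.zR⟩ : ↥(X ⊓ centralizer (B : Set G)))
      rwa [orderOf_mk, w.ord] at h3
    have hr2 : 2 ≤ r := by
      by_contra hlt
      have : r = 0 ∨ r = 1 := by omega
      rcases this with rfl | rfl
      · rw [hr] at hz2; norm_num at hz2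
      · exact hR (by rw [hr, pow_one])
    refine ⟨(g ^ 2 ^ (r - 2) : ↥(X ⊓ centralizer (B : Set G))), (g ^ 2 ^ (r - 2)).2, ?_⟩
    have h4 : (g ^ 2 ^ (r - 2)) * (g ^ 2 ^ (r - 2)) = g ^ 2 ^ (r - 1) := by
      rw [← pow_add]
      congr 1
      have : r - 1 = (r - 2) + 1 := by omega
      rw [this, pow_succ]
      ring
    have h5 : (g ^ 2 ^ (r - 1)) * (g ^ 2 ^ (r - 1)) = 1 := by
      rw [← pow_add, ← two_mul, ← pow_succ']
      have : r - 1 + 1 = r := by omega
      rw [this, ← hr, pow_card_eq_one']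
    have h6 : g ^ 2 ^ (r - 1) ≠ 1 := by
      intro h7
      have h8 := orderOf_dvd_of_pow_eq_one h7
      rw [hg, hr] at h8
      have h9 := (Nat.pow_dvd_pow_iff_le_right (by norm_num)).1 h8
      omega
    have h7 := q.omega _ (g ^ 2 ^ (r - 1)).2 (congrArg Subtype.val h5)
    rcases h7 with h7 | h7
    · exact absurd (Subtype.ext h7) h6
    · rw [← h7]
      exact congrArg Subtype.val h4
  obtain ⟨hzz, hz1⟩ := (⟨hy.zz, hy.z1⟩ : z * z = 1 ∧ z ≠ 1)
  have hiX : i ∈ X := hi.1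
  set v := x 0 * i with hv
  have hix : ∀ j, i * x j = x j * i := fun j => (q.RX i hi j).1
  have hiy : ∀ j, i * y j = y j * i := fun j => (q.RX i hi j).2
  have hvX : v ∈ X := mul_mem (q.xX 0) hiX
  have hvv : v * v = 1 := by
    calc x 0 * i * (x 0 * i) = x 0 * (i * x 0) * i := by simp only [mul_assoc]
      _ = x 0 * x 0 * (i * i) := by rw [hix]; simp only [mul_assoc]
      _ = 1 := by rw [q.xx, hii, hzz]
  have hvy : v * y 0 ≠ y 0 * v := by
    intro h1
    have h2 : x 0 * y 0 * i = y 0 * x 0 * i := by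
      calc x 0 * y 0 * i = x 0 * (i * y 0) := by rw [hiy, mul_assoc]
        _ = v * y 0 := by rw [hv, mul_assoc]
        _ = y 0 * x 0 * i := by rw [h1, hv, mul_assoc]
    have h3 := mul_right_cancel h2
    rw [q.xy] at h3
    exact hz1 (mul_eq_right.1 h3)
  have hv1 : v ≠ 1 := by
    intro h1
    apply hvy
    rw [h1, one_mul, mul_one]
  have hvz : v ≠ z := by
    intro h1
    apply hvy
    rw [h1]
    exact hy.zc _ (q.yX 0)
  have hvo : orderOf v = 2 := orderOf_eq_prime (by rw [pow_two, hvv]) hv1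
  obtain ⟨b, hb, hb3⟩ := exists_one q w hn 0
  have hbx : b * x 0 = x 0 * b := mem_centralizer_iff.1 (q.xH 0) b hb
  have hbi : b * i = i * b := mem_centralizer_iff.1 hi.2 b (q.HB 0 hb)
  have hbv : b ∈ centralizer ({v} : Set G) := by
    rw [mem_centralizer_singleton_iff, hv, ← mul_assoc, hbx, mul_assoc, hbi, mul_assoc]
  have hzn := not_mem_o2 h w.ord hvo hvz hvX hb3 (w.le (q.HB 0 hb)) hbv
  have P : Pairs v z (fun j : Fin m => x j.succ) (fun j => y j.succ) := by
    have h0 : ∀ j : Fin m, j.succ ≠ (0 : Fin (m + 1)) := fun j => Fin.succ_ne_zero j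
    refine ⟨hzz, ?_, fun j => ?_, fun j => ?_, fun j => Or.inr (q.xx _), fun j => Or.inr (q.yy _), fun j => q.xy _,
      fun j => (hy.zc _ (q.xX _)).symm, fun j => (hy.zc _ (q.yX _)).symm, fun j j' hjj => ?_⟩
    · rw [mem_centralizer_singleton_iff]
      exact hy.zc v hvX
    · rw [mem_centralizer_singleton_iff, hv, ← mul_assoc, (q.comm _ _ (h0 j)).1, mul_assoc, ← hix, mul_assoc]
    · have h1 := (q.comm _ _ (h0 j).symm).2.1
      rw [mem_centralizer_singleton_iff, hv, ← mul_assoc, ← h1, mul_assoc, ← hiy, mul_assoc]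
    · exact q.comm _ _ (fun h1 => hjj (Fin.succ_injective _ h1))
  have hiv : i ∈ centralizer ({v} : Set G) := by
    rw [mem_centralizer_singleton_iff, hv, ← mul_assoc, hix]
  have hfin := P.bound' h hvo hzn (rank_le hM v hvo) hiv hii fun j => ⟨hix _, hiy _⟩
  exact num_three hk (by omega) hfin

end WThree

/-! ### (W4) -/

section WFour

variable {n : ℕ} {z : G} {B : Subgroup G} {m : ℕ} {H : Fin (m + 2) → Subgroup G} {x y : Fin (m + 2) → G}

theorem exists_v (h : Loc G) (hM : M23LE n G) (hn : 3 ≤ n) (w : Wide n z B)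
    (q : QS z (o2 (centralizer ({z} : Set G))) B H x y) :
    ∃ v : G, orderOf v = 2 ∧ ∀ n', (∀ A ≤ centralizer ({v} : Set G), IsElementaryAbelian 3 A →
      Nat.card A ≤ 3 ^ n') → 2 ^ (m + 1) ≤ n' ∨ ∃ r, 1 ≤ r ∧ 2 ^ (m + 1) ≤ (1 + r) * (n' - r) ∧
        3 ^ (2 ^ (m + 1) + r) ≤ oo v := by
  set X := o2 (centralizer ({z} : Set G)) with hX
  have hy := w.hyp h hM (by omega)
  have hzz := hy.zz
  have hz1 := hy.z1
  have h10 : (1 : Fin (m + 2)) ≠ 0 := by
    intro h1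
    have := congrArg Fin.val h1
    simp at this
  have hs0 : ∀ j : Fin m, (j.succ.succ : Fin (m + 2)) ≠ 0 := fun j => Fin.succ_ne_zero _
  have hs1 : ∀ j : Fin m, (j.succ.succ : Fin (m + 2)) ≠ 1 := fun j h1 => by
    have := congrArg Fin.val h1
    simp at this
  have hzx : ∀ j, z * x j = x j * z := fun j => hy.zc _ (q.xX j)
  have hzy : ∀ j, z * y j = y j * z := fun j => hy.zc _ (q.yX j)
  have hc01 := q.comm 0 1 h10.symm
  have hc10 := q.comm 1 0 h10
  set v := x 0 * x 1 with hv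
  have hvX : v ∈ X := mul_mem (q.xX 0) (q.xX 1)
  have hvv : v * v = 1 := by
    calc x 0 * x 1 * (x 0 * x 1) = x 0 * (x 1 * x 0) * x 1 := by simp only [mul_assoc]
      _ = x 0 * x 0 * (x 1 * x 1) := by rw [hc10.1, hv]; simp only [mul_assoc]
      _ = 1 := by rw [q.xx, q.xx, hzz]
  have hvy : v * y 0 ≠ y 0 * v := by
    intro h1
    have h2 : x 0 * y 0 * x 1 = y 0 * x 0 * x 1 := by
      calc x 0 * y 0 * x 1 = x 0 * (x 1 * y 0) := by rw [hc10.2.1, mul_assoc]
        _ = v * y 0 := by rw [hv, mul_assoc]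
        _ = y 0 * x 0 * x 1 := by rw [h1, hv, mul_assoc]
    have h3 := mul_right_cancel h2
    rw [q.xy] at h3
    exact hz1 (mul_eq_right.1 h3)
  have hv1 : v ≠ 1 := by
    intro h1
    apply hvy
    rw [h1, one_mul, mul_one]
  have hvz : v ≠ z := by
    intro h1
    apply hvy
    rw [h1]
    exact hy.zc _ (q.yX 0)
  have hvo : orderOf v = 2 := orderOf_eq_prime (by rw [pow_two, hvv]) hv1
  obtain ⟨b, hb0, hb1, hb3⟩ := exists_two q w hn 0 1
  have hbx0 : b * x 0 = x 0 * b := mem_centralizer_iff.1 (q.xH 0) b hb0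
  have hbx1 : b * x 1 = x 1 * b := mem_centralizer_iff.1 (q.xH 1) b hb1
  have hbv : b ∈ centralizer ({v} : Set G) := by
    rw [mem_centralizer_singleton_iff, hv, ← mul_assoc, hbx0, mul_assoc, hbx1, mul_assoc]
  have hzn := not_mem_o2 h w.ord hvo hvz hvX hb3 (w.le (q.HB 0 hb0)) hbv
  -- the pair `(x 0, y 0 * y 1)`
  have hyy : (y 0 * y 1) * (y 0 * y 1) = 1 := by
    have e : y 1 * y 0 = y 0 * y 1 := hc01.2.2.symm
    calc y 0 * y 1 * (y 0 * y 1) = y 0 * (y 1 * y 0) * y 1 := by simp only [mul_assoc]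
      _ = y 0 * y 0 * (y 1 * y 1) := by rw [e]; simp only [mul_assoc]
      _ = 1 := by rw [q.yy, q.yy, hzz]
  have hxy0 : x 0 * (y 0 * y 1) = z * ((y 0 * y 1) * x 0) := by
    calc x 0 * (y 0 * y 1) = (x 0 * y 0) * y 1 := by rw [mul_assoc]
      _ = z * (y 0 * (x 0 * y 1)) := by rw [q.xy]; simp only [mul_assoc]
      _ = z * ((y 0 * y 1) * x 0) := by rw [hc01.2.1]; simp only [mul_assoc]
  have hyyv : (y 0 * y 1) * v = v * (y 0 * y 1) := by
    have e0 : y 0 * x 0 = z * (x 0 * y 0) := by rw [q.xy, ← mul_assoc, hzz, one_mul]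
    have e1 : y 1 * x 1 = z * (x 1 * y 1) := by rw [q.xy, ← mul_assoc, hzz, one_mul]
    calc y 0 * y 1 * (x 0 * x 1) = y 0 * (y 1 * x 0) * x 1 := by simp only [mul_assoc]
      _ = y 0 * (x 0 * y 1) * x 1 := by rw [hc01.2.1]
      _ = (y 0 * x 0) * (y 1 * x 1) := by simp only [mul_assoc]
      _ = z * (x 0 * y 0) * (z * (x 1 * y 1)) := by rw [e0, e1]
      _ = z * x 0 * (y 0 * z) * (x 1 * y 1) := by simp only [mul_assoc]
      _ = z * (x 0 * z) * y 0 * (x 1 * y 1) := by rw [← hzy]; simp only [mul_assoc]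
      _ = (z * z) * x 0 * (y 0 * x 1) * y 1 := by rw [← hzx]; simp only [mul_assoc]
      _ = x 0 * x 1 * (y 0 * y 1) := by rw [hzz, one_mul, ← hc10.2.1]; simp only [mul_assoc]
  have P : Pairs v z (Fin.cons (x 0) (fun j : Fin m => x j.succ.succ) : Fin (m + 1) → G)
      (Fin.cons (y 0 * y 1) (fun j : Fin m => y j.succ.succ) : Fin (m + 1) → G) := by
    refine ⟨hzz, ?_, fun j => ?_, fun j => ?_, fun j => ?_, fun j => ?_, fun j => ?_, fun j => ?_, fun j => ?_,
      fun j j' => ?_⟩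
    · rw [mem_centralizer_singleton_iff]
      exact hy.zc v hvX
    · refine Fin.cases ?_ (fun j => ?_) j
      · rw [Fin.cons_zero, mem_centralizer_singleton_iff, hv, ← mul_assoc, mul_assoc, mul_assoc, ← hc01.1]
      · rw [Fin.cons_succ, mem_centralizer_singleton_iff, hv, ← mul_assoc, (q.comm _ _ (hs0 j)).1, mul_assoc,
          (q.comm _ _ (hs1 j)).1, mul_assoc]
    · refine Fin.cases ?_ (fun j => ?_) j
      · rw [Fin.cons_zero, mem_centralizer_singleton_iff]
        exact hyyv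
      · rw [Fin.cons_succ, mem_centralizer_singleton_iff, hv, ← mul_assoc, ← (q.comm _ _ (hs0 j).symm).2.1, mul_assoc,
          ← (q.comm _ _ (hs1 j).symm).2.1, mul_assoc]
    · refine Fin.cases ?_ (fun j => ?_) j
      · rw [Fin.cons_zero]; exact Or.inr (q.xx _)
      · rw [Fin.cons_succ]; exact Or.inr (q.xx _)
    · refine Fin.cases ?_ (fun j => ?_) j
      · rw [Fin.cons_zero]; exact Or.inl hyy
      · rw [Fin.cons_succ]; exact Or.inr (q.yy _)
    · refine Fin.cases ?_ (fun j => ?_) j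
      · rw [Fin.cons_zero, Fin.cons_zero]; exact hxy0
      · rw [Fin.cons_succ, Fin.cons_succ]; exact q.xy _
    · refine Fin.cases ?_ (fun j => ?_) j
      · rw [Fin.cons_zero]; exact (hzx _).symm
      · rw [Fin.cons_succ]; exact (hzx _).symm
    · refine Fin.cases ?_ (fun j => ?_) j
      · rw [Fin.cons_zero, mul_assoc, ← hzy, ← mul_assoc, ← hzy, mul_assoc]
      · rw [Fin.cons_succ]; exact (hzy _).symm
    · refine Fin.cases ?_ (fun i => ?_) j
      · refine Fin.cases ?_ (fun i' => ?_) j'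
        · intro h1; exact absurd rfl h1
        · intro _
          rw [Fin.cons_zero, Fin.cons_zero, Fin.cons_succ, Fin.cons_succ]
          refine ⟨(q.comm _ _ (hs0 i').symm).1, (q.comm _ _ (hs0 i').symm).2.1, ?_⟩
          exact Commute.mul_left (q.comm _ _ (hs0 i').symm).2.2 (q.comm _ _ (hs1 i').symm).2.2
      · refine Fin.cases ?_ (fun i' => ?_) j'
        · intro _
          rw [Fin.cons_zero, Fin.cons_zero, Fin.cons_succ, Fin.cons_succ]
          refine ⟨(q.comm _ _ (hs0 i)).1, ?_, ?_⟩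
          · exact Commute.mul_right (q.comm _ _ (hs0 i)).2.1 (q.comm _ _ (hs1 i)).2.1
          · exact Commute.mul_right (q.comm _ _ (hs0 i)).2.2 (q.comm _ _ (hs1 i)).2.2
        · intro h1
          rw [Fin.cons_succ, Fin.cons_succ, Fin.cons_succ, Fin.cons_succ]
          exact q.comm _ _ (fun h2 => h1 (by rw [Fin.succ_injective _ (Fin.succ_injective _ h2)]))
  exact ⟨v, hvo, fun n' hn' => P.bound h hvo hzn hn'⟩

end WFour

/-! ### `n ≥ 3` is impossible -/

section Three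

variable {n : ℕ} {z : G} {B : Subgroup G} {k : ℕ} {H : Fin k → Subgroup G} {x y : Fin k → G}

theorem k_eq_three (h : Loc G) (hM : M23LE n G) (hn : 3 ≤ n) (w : Wide n z B)
    (q : QS z (o2 (centralizer ({z} : Set G))) B H x y) : k = 3 := by
  have hk := le_k q w.card
  obtain ⟨m, rfl⟩ : ∃ m, k = m + 2 := ⟨k - 2, by omega⟩
  obtain ⟨v, hv, hb⟩ := exists_v h hM hn w q
  by_contra hne
  exact num_four (k := m + 1) (by omega) (by omega) (hb n (rank_le hM v hv))

theorem R_card' (h : Loc G) (hM : M23LE n G) (hn : 2 ≤ n) (w : Wide n z B)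
    (q : QS z (o2 (centralizer ({z} : Set G))) B H x y) :
    Nat.card ↥(o2 (centralizer ({z} : Set G)) ⊓ centralizer (B : Set G)) = 2 := by
  have hk := le_k q w.card
  obtain ⟨m, rfl⟩ : ∃ m, k = m + 1 := ⟨k - 1, by omega⟩
  exact R_card h hM hn w q

theorem sq_mem (h : Loc G) (hM : M23LE n G) (hn : 2 ≤ n) (w : Wide n z B)
    (q : QS z (o2 (centralizer ({z} : Set G))) B H x y) :
    ∀ a ∈ o2 (centralizer ({z} : Set G)), a * a = 1 ∨ a * a = z := by
  have hy := w.hyp h hM hn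
  have hR := R_card' h hM hn w q
  have hzz := hy.zz
  have hmul : ∀ a ∈ o2 (centralizer ({z} : Set G)), ∀ b ∈ o2 (centralizer ({z} : Set G)),
      (a * a = 1 ∨ a * a = z) → (b * b = 1 ∨ b * b = z) → (a * b) * (a * b) = 1 ∨ (a * b) * (a * b) = z := by
    intro a ha b hb ha2 hb2
    have e : (a * b) * (a * b) = (a * a) * (b * b) ∨ (a * b) * (a * b) = z * ((a * a) * (b * b)) := by
      rcases q.derived b hb a ha with e1 | e1
      · left
        calc (a * b) * (a * b) = a * (b * a) * b := by simp only [mul_assoc]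
          _ = (a * a) * (b * b) := by rw [e1]; simp only [mul_assoc]
      · right
        calc (a * b) * (a * b) = a * (b * a) * b := by simp only [mul_assoc]
          _ = (a * z) * (a * b) * b := by rw [e1]; simp only [mul_assoc]
          _ = z * ((a * a) * (b * b)) := by rw [← hy.zc a ha]; simp only [mul_assoc]
    rcases ha2 with ha2 | ha2 <;> rcases hb2 with hb2 | hb2 <;> rw [ha2, hb2] at e <;>
      simp only [one_mul, mul_one, hzz] at e <;> tauto
  have hcl : ∀ u ∈ closure (Set.range x ∪ Set.range y),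
      u ∈ o2 (centralizer ({z} : Set G)) ∧ (u * u = 1 ∨ u * u = z) := by
    intro u hu
    induction hu using closure_induction with
    | mem u hu =>
      rcases hu with ⟨i, rfl⟩ | ⟨i, rfl⟩
      · exact ⟨q.xX i, Or.inr (q.xx i)⟩
      · exact ⟨q.yX i, Or.inr (q.yy i)⟩
    | one => exact ⟨one_mem _, Or.inl (one_mul 1)⟩
    | mul a b _ _ iha ihb => exact ⟨mul_mem iha.1 ihb.1, hmul a iha.1 b ihb.1 iha.2 ihb.2⟩
    | inv a _ iha =>
      refine ⟨inv_mem iha.1, ?_⟩
      rw [← mul_inv_rev]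
      rcases iha.2 with h1 | h1
      · left; rw [h1, inv_one]
      · right; rw [h1]; exact inv_eq_of_mul_eq_one_right hzz
  intro a ha
  obtain ⟨u, hu, r, hr, rfl⟩ := q.gen a ha
  obtain ⟨hu1, hu2⟩ := hcl u hu
  refine hmul u hu1 r hr.1 hu2 (Or.inl ?_)
  have h1 : (⟨r, hr⟩ : ↥(o2 (centralizer ({z} : Set G)) ⊓ centralizer (B : Set G))) ^ 2 = 1 := by
    rw [← hR, pow_card_eq_one']
  rw [pow_two] at h1
  exact congrArg Subtype.val h1

theorem card_o2_eq (X : Subgroup G) : Nat.card (o2 X) = Nat.card (pCore 2 ↥X) :=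
  (Nat.card_congr ((pCore 2 ↥X).equivMapOfInjective _ X.subtype_injective).toEquiv).symm

theorem oo_le (h : Loc G) (hM : M23LE n G) (hn : 3 ≤ n) (w : Wide n z B)
    (q : QS z (o2 (centralizer ({z} : Set G))) B H x y) : oo z ≤ 3 ^ 4 := by
  have hf2 : Fact (Nat.Prime 2) := ⟨Nat.prime_two⟩
  have hf3 : Fact (Nat.Prime 3) := ⟨Nat.prime_three⟩
  have hk := k_eq_three h hM hn w q
  subst hk
  have hy := w.hyp h hM (by omega)
  have hR := R_card' h hM (by omega) w q
  have hsq := sq_mem h hM (by omega) w q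
  have hX : Nat.card (o2 (centralizer ({z} : Set G))) = 2 ^ 7 := by
    rw [q.card, hR]; norm_num
  have hzC : z ∈ centralizer ({z} : Set G) := mem_centralizer_singleton_iff.2 rfl
  obtain ⟨T, hT, -, hc, -⟩ := exists_lift_three (C := ↥(centralizer ({z} : Set G)))
    (Lib.Cores.pCore_isPGroup (G := ↥(centralizer ({z} : Set G))) 2)
    (Lib.Cores.pCore_isPGroup (G := ↥(centralizer ({z} : Set G)) ⧸ pCore 2 ↥(centralizer ({z} : Set G))) 3)
  unfold oo
  rw [← hc]
  refine card_three_le (Q := pCore 2 ↥(centralizer ({z} : Set G))) (z := ⟨z, hzC⟩) ?_ ?_ ?_ ?_ ?_ ?_ ?_ ?_ hT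
  · rintro ⟨g, hg⟩
    exact Subtype.ext (mem_centralizer_singleton_iff.1 hg)
  · exact Subtype.ext hy.zz
  · intro h1
    exact hy.z1 (congrArg Subtype.val h1)
  · exact (mem_o2_iff ⟨z, hzC⟩).1 hy.zX
  · intro a ha b hb
    refine (q.derived a ((mem_o2_iff a).2 ha) b ((mem_o2_iff b).2 hb)).imp (fun h1 => Subtype.ext h1)
      (fun h1 => Subtype.ext h1)
  · intro a ha
    exact (hsq a ((mem_o2_iff a).2 ha)).imp (fun h1 => Subtype.ext h1) (fun h1 => Subtype.ext h1)
  · rw [← card_o2_eq, hX]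
  · intro c hc
    rw [← mem_o2_iff]
    refine h.char_two' w.ord ⟨c.2, ?_⟩
    show (c : G) ∈ centralizer (o2 (centralizer ({z} : Set G)) : Set G)
    rw [mem_centralizer_iff]
    rintro _ ⟨a, ha, rfl⟩
    exact congrArg Subtype.val (mem_centralizer_iff.1 hc a ha)

theorem three_impossible (h : Loc G) (hM : M23LE n G) (hn : 3 ≤ n) (w : Wide n z B) : False := by
  obtain ⟨k, H, x, y, q⟩ := QStructMain.main (w.hyp h hM (by omega))
  have hk := k_eq_three h hM hn w q
  subst hk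
  have hn3 := le_k q w.card
  obtain rfl : n = 3 := by omega
  obtain ⟨v, hv, hb⟩ := exists_v (m := 1) h hM hn w q
  by_cases hall : ∀ A ≤ centralizer ({v} : Set G), IsElementaryAbelian 3 A → Nat.card A ≤ 3 ^ 2
  · rcases hb 2 hall with h1 | ⟨r, hr, h1, -⟩
    · norm_num at h1
    · have : r = 1 ∨ 2 ≤ r := by omega
      rcases this with rfl | h2
      · norm_num at h1
      · rw [Nat.sub_eq_zero_of_le h2] at h1
        norm_num at h1
  · push Not at hall
    obtain ⟨A, hA, hA3, hAc⟩ := hall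
    have hle := rank_le hM v hv A hA hA3
    obtain ⟨j, hj⟩ := IsPGroup.iff_card.mp (isPGroup_three hA3)
    rw [hj] at hle hAc
    have h1 : j ≤ 3 := (Nat.pow_le_pow_iff_right (by norm_num)).1 hle
    have h2 : 2 < j := (Nat.pow_lt_pow_iff_right (by norm_num)).1 hAc
    obtain rfl : j = 3 := by omega
    have w' : Wide 3 v A := ⟨hv, hA3, hj, hA⟩
    obtain ⟨k, H', x', y', q'⟩ := QStructMain.main (w'.hyp h hM (by omega))
    have h3 := oo_le h hM hn w' q'
    rcases hb 3 (rank_le hM v hv) with h4 | ⟨r, hr, -, h4⟩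
    · norm_num at h4
    · have h5 : 3 ^ (2 ^ (1 + 1) + r) ≤ 3 ^ 4 := h4.trans h3
      have h6 := (Nat.pow_le_pow_iff_right (by norm_num)).1 h5
      omega

end Three

/-! ### The bound -/

section Main

theorem k_le_four {B : Subgroup G} (hB : Nat.card B = 3 ^ 2) {k : ℕ} {H : Fin k → Subgroup G}
    (hHB : ∀ i, H i ≤ B) (h3 : ∀ i, (H i).relIndex B = 3) (hinj : Function.Injective H) : k ≤ 4 := by
  classical
  have hf : Fintype G := Fintype.ofFinite G
  have hc : ∀ i, Nat.card (H i) = 3 := by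
    intro i
    have h1 := Lib.HallHigman.card_mul_relIndex' (hHB i)
    rw [h3, hB] at h1
    omega
  have hcount : ∀ K : Subgroup G, (Finset.univ.filter fun g : G => g ∈ K ∧ g ≠ 1).card + 1 = Nat.card K := by
    intro K
    have h1 : Finset.univ.filter (fun g : G => g ∈ K) =
        insert 1 (Finset.univ.filter fun g : G => g ∈ K ∧ g ≠ 1) := by
      ext g
      simp only [Finset.mem_filter, Finset.mem_univ, true_and, Finset.mem_insert]
      constructor
      · intro hg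
        by_cases h1 : g = 1
        · exact Or.inl h1
        · exact Or.inr ⟨hg, h1⟩
      · rintro (rfl | ⟨hg, -⟩)
        · exact K.one_mem
        · exact hg
    have h2 : (Finset.univ.filter fun g : G => g ∈ K).card = Nat.card K := by
      rw [Nat.card_eq_fintype_card, Fintype.card_subtype]
    rw [← h2, h1, Finset.card_insert_of_notMem (by simp)]
  have hdis : ∀ i ∈ (Finset.univ : Finset (Fin k)), ∀ j ∈ (Finset.univ : Finset (Fin k)), i ≠ j →
      Disjoint (Finset.univ.filter fun g : G => g ∈ H i ∧ g ≠ 1)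
        (Finset.univ.filter fun g : G => g ∈ H j ∧ g ≠ 1) := by
    intro i _ j _ hij
    rw [Finset.disjoint_left]
    intro g hg hg'
    simp only [Finset.mem_filter, Finset.mem_univ, true_and] at hg hg'
    have h1 : Nat.card ↥(H i ⊓ H j) ∣ 3 := by
      rw [← hc i]
      exact card_dvd_of_le inf_le_left
    have h2 : Nat.card ↥(H i ⊓ H j) = 3 := by
      rcases (Nat.dvd_prime Nat.prime_three).1 h1 with h2 | h2
      · exfalso
        have h4 := (Subgroup.card_eq_one).1 h2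
        have h5 : g ∈ H i ⊓ H j := ⟨hg.1, hg'.1⟩
        rw [h4, mem_bot] at h5
        exact hg.2 h5
      · exact h2
    have h4 : H i ⊓ H j = H i := eq_of_le_of_card_ge inf_le_left (by rw [h2, hc])
    have h5 : H i ⊓ H j = H j := eq_of_le_of_card_ge inf_le_right (by rw [h2, hc])
    exact hij (hinj (h4.symm.trans h5))
  have h1 := Finset.card_biUnion hdis
  have h2 : ∀ i, (Finset.univ.filter fun g : G => g ∈ H i ∧ g ≠ 1).card = 2 := by
    intro i
    have := hcount (H i)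
    rw [hc] at this
    omega
  simp only [h2, Finset.sum_const, Finset.card_univ, Fintype.card_fin, smul_eq_mul] at h1
  have h4 : (Finset.univ.biUnion fun i => Finset.univ.filter fun g : G => g ∈ H i ∧ g ≠ 1) ⊆
      Finset.univ.filter fun g : G => g ∈ B ∧ g ≠ 1 := by
    intro g hg
    simp only [Finset.mem_biUnion, Finset.mem_filter, Finset.mem_univ, true_and] at hg ⊢
    obtain ⟨i, hi, hg1⟩ := hg
    exact ⟨hHB i hi, hg1⟩
  have h5 := Finset.card_le_card h4
  have h6 := hcount B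
  rw [hB] at h6
  omega

/-- **The wide case**: if an elementary abelian group of order 9 normalises a nontrivial 2-subgroup, then the
Sylow 2-subgroups of `G` have order at most `2 ^ 13`. -/
theorem wide (h : Loc G) (hw : ¬ M23LE 1 G) (S : Sylow 2 G) : Nat.card S ≤ 2 ^ 13 := by
  have hf2 : Fact (Nat.Prime 2) := ⟨Nat.prime_two⟩
  have hf3 : Fact (Nat.Prime 3) := ⟨Nat.prime_three⟩
  obtain ⟨n, hn, hM, z, B, hz, hB3, hBcard, hBz⟩ := WideL1.exists_wide h hw
  have w : Wide n z B := ⟨hz, hB3, hBcard, hBz⟩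
  have hn2 : n = 2 := by
    by_contra hne
    exact three_impossible h hM (by omega) w
  subst hn2
  have hy := w.hyp h hM le_rfl
  obtain ⟨k, H, x, y, q⟩ := QStructMain.main hy
  have hk := k_le_four w.card q.HB q.H3 q.Hinj
  have hR := R_card' h hM le_rfl w q
  have hX : Nat.card (o2 (centralizer ({z} : Set G))) ≤ 2 ^ 9 := by
    rw [q.card, hR]
    calc 4 ^ k * 2 ≤ 4 ^ 4 * 2 := Nat.mul_le_mul_right _ (Nat.pow_le_pow_right (by norm_num) hk)
      _ = 2 ^ 9 := by norm_num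
  obtain ⟨S', hXS, hSz⟩ := TwoCentral.exists_sylow q hy.zz hy.z1 hy.two (o2_le _) (h.char_two' w.ord)
  have hcS : Nat.card S = Nat.card S' := by
    rw [S.card_eq_multiplicity, S'.card_eq_multiplicity]
  rw [hcS]
  set C := ↥(centralizer ({z} : Set G)) with hC
  set π : C →* C ⧸ pCore 2 C := QuotientGroup.mk' (pCore 2 C) with hπ
  set T₀ : Subgroup C := (S' : Subgroup G).subgroupOf (centralizer ({z} : Set G)) with hT₀
  have hcT₀ : Nat.card T₀ = Nat.card S' := Nat.card_congr (subgroupOfEquivOfLe hSz).toEquiv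
  have hQT : pCore 2 C ≤ T₀ := by
    intro c hc
    rw [hT₀, mem_subgroupOf]
    exact hXS ((mem_o2_iff c).2 hc)
  have hT2 : IsPGroup 2 T₀ := by
    obtain ⟨a, ha⟩ := IsPGroup.iff_card.mp S'.2
    exact IsPGroup.of_card (n := a) (by rw [hcT₀]; exact ha)
  have hcT : Nat.card (T₀.map π) ≤ 16 := by
    have hnorm : normalizer (pCore 3 (C ⧸ pCore 2 C) : Set (C ⧸ pCore 2 C)) = ⊤ :=
      normalizer_eq_top_iff.2 (Lib.Cores.pCore_normal 3)
    refine TwoOnThree.card_two_le (K := pCore 3 (C ⧸ pCore 2 C)) (Lib.Cores.pCore_isPGroup 3) (hT2.map π) ?_ ?_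
      (quot_rank (rank_le hM z hz))
    · rw [hnorm]; exact le_top
    · obtain ⟨i, j, hij⟩ := h.tt2 z hz
      have h1 := centralizer_pCore_three_le (C := C) ⟨i, j, hij⟩
      rw [eq_bot_iff]
      refine (inf_le_inf_left _ h1).trans ?_
      have h2 : Disjoint (T₀.map π) (pCore 3 (C ⧸ pCore 2 C)) := by
        apply disjoint_of_coprime_natCard
        obtain ⟨a, ha⟩ := IsPGroup.iff_card.mp (hT2.map π)
        obtain ⟨b, hb⟩ := IsPGroup.iff_card.mp (Lib.Cores.pCore_isPGroup (G := C ⧸ pCore 2 C) 3)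
        rw [ha, hb]
        exact Nat.Coprime.pow a b (by norm_num)
      exact h2.le_bot
  have hmul : Nat.card (pCore 2 C) * Nat.card (T₀.map π) = Nat.card T₀ := by
    have h1 := Lib.HallHigman.card_mul_relIndex' hQT
    have h2 := relIndex_ker (K := T₀) π
    rw [hπ, QuotientGroup.ker_mk', ← hπ] at h2
    rw [← h1, h2]
  rw [← hcT₀, ← hmul, ← card_o2_eq]
  calc _ ≤ 2 ^ 9 * 16 := Nat.mul_le_mul hX hcT
    _ = 2 ^ 13 := by norm_num

end Main

end Cfsg.Agent.SmallSimple.S1000.WideBound
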