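import Cfsg.Agent.SmallSimple.S1000.Steinberg

/-!
# S1000: a Bessel inequality

For a combination `Φ = ∑ c ξ` of irreducible characters the values of `Φ` at `1` and at the elements of order `p`
are bounded by the norm of `Φ`.
-/

set_option autoImplicit false
set_option linter.unusedSectionVars false

open Cfsg
open scoped ComplexConjugate

namespace Cfsg.Agent.SmallSimple.S1000.Bessel

open Subgroup DegreeData CharSetup ThmD ThmDMain Steinberg
open Cfsg.Agent.Characters.Core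

universe u

variable {G : Type u} [Group G] [Finite G] {p r m s n : ℕ} {M : Ideal AlgInt} {P : Sylow p G}
  {e t : ℕ}

/-- The number of elements of order `p`. -/
theorem card_order (h : Hyp G p r m s n) [Fact p.Prime] (D : BlockData p M P e t)
    (he : (centralizer (P : Set G)).relIndex (normalizer (P : Set G)) = e) (ht : e * t = p - 1)
    [Fintype G] [DecidablePred fun x : G => orderOf x = p] :
    (Finset.univ.filter (fun x : G => orderOf x = p)).card = t * (r ^ m * s ^ n) := by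
  classical
  have h1 := h.osum_NE D he ht (χ := D.one) List.mem_cons_self
  rw [D.ε_one, TheoremD.osum_eq, D.coe_one] at h1
  have h2 : ((Finset.univ.filter (fun x : G => orderOf x = p)).card : ℂ) =
      ((t * (r ^ m * s ^ n) : ℕ) : ℂ) := by
    push_cast
    rw [Int.cast_one, one_mul] at h1
    rw [← h1, Finset.card_eq_sum_ones]
    push_cast
    refine Finset.sum_congr ?_ fun _ _ => rfl
    ext x; simp
  exact_mod_cast h2

/-- **Bessel inequality.** -/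
theorem bessel (h : Hyp G p r m s n) [Fact p.Prime] (D : BlockData p M P e t)
    (he : (centralizer (P : Set G)).relIndex (normalizer (P : Set G)) = e) (ht : e * t = p - 1)
    (S : Finset (IrrCharacter G)) (c w : IrrCharacter G → ℤ)
    (hw : ∀ ξ ∈ S, TheoremD.osum p (ξ : G → ℂ) = w ξ) :
    (t * (r ^ m * s ^ n) : ℤ) * (∑ ξ ∈ S, c ξ * (charDegree (ξ : G → ℂ) : ℤ)) ^ 2 +
      (∑ ξ ∈ S, c ξ * w ξ) ^ 2 ≤
      (t * (r ^ m * s ^ n) : ℤ) * (p * (r ^ m * s ^ n)) * ∑ ξ ∈ S, c ξ ^ 2 := by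
  classical
  have := Fintype.ofFinite G
  set X : Finset G := Finset.univ.filter (fun x : G => orderOf x = p) with hX
  let Φ : G → ℂ := fun g => ∑ ξ ∈ S, (c ξ : ℂ) * (ξ : G → ℂ) g
  -- the norm
  have hnorm : ∑ g : G, Φ g * conj (Φ g) = (Nat.card G : ℂ) * ((∑ ξ ∈ S, c ξ ^ 2 : ℤ) : ℂ) := by
    have e1 : ∀ g : G, Φ g * conj (Φ g) =
        ∑ ξ ∈ S, ∑ η ∈ S, (c ξ : ℂ) * c η * ((ξ : G → ℂ) g * conj ((η : G → ℂ) g)) := by
      intro g
      simp only [Φ]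
      rw [map_sum, Finset.sum_mul_sum]
      refine Finset.sum_congr rfl fun ξ _ => Finset.sum_congr rfl fun η _ => ?_
      rw [map_mul, ← Complex.ofReal_intCast (c η), Complex.conj_ofReal]
      ring
    rw [Finset.sum_congr rfl fun g _ => e1 g, Finset.sum_comm]
    push_cast
    rw [Finset.mul_sum]
    refine Finset.sum_congr rfl fun ξ hξ => ?_
    rw [Finset.sum_comm, Finset.sum_eq_single ξ]
    · rw [← Finset.mul_sum]
      have h1 := classInner_irr_self ξ.2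
      rw [classInner_def] at h1
      have h2 : ∑ g : G, (ξ : G → ℂ) g * conj ((ξ : G → ℂ) g) = (Nat.card G : ℂ) := by
        have hc : (Nat.card G : ℂ) ≠ 0 := card_ne_zero_complex
        rw [inv_mul_eq_one₀ hc] at h1
        exact h1.symm
      rw [h2]; ring
    · intro η _ hne
      rw [← Finset.mul_sum]
      have h1 := finsum_mul_conj_eq_zero (Ne.symm hne)
      rw [finsum_eq_sum_of_fintype] at h1
      rw [h1, mul_zero]
    · intro hξ'
      exact absurd hξ hξ'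
  have hnormR : ∑ g : G, Complex.normSq (Φ g) = (Nat.card G : ℝ) * ((∑ ξ ∈ S, c ξ ^ 2 : ℤ) : ℝ) := by
    have : ((∑ g : G, Complex.normSq (Φ g) : ℝ) : ℂ) =
        (((Nat.card G : ℝ) * ((∑ ξ ∈ S, c ξ ^ 2 : ℤ) : ℝ) : ℝ) : ℂ) := by
      rw [Complex.ofReal_sum, Complex.ofReal_mul, Complex.ofReal_natCast, Complex.ofReal_intCast,
        ← hnorm]
      exact Finset.sum_congr rfl fun g _ => (Complex.mul_conj _).symm
    exact_mod_cast this
  have h1X : (1 : G) ∉ X := by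
    rw [hX, Finset.mem_filter, orderOf_one]
    exact fun h' => h.hp.one_lt.ne h'.2
  have hle : Complex.normSq (Φ 1) + ∑ x ∈ X, Complex.normSq (Φ x) ≤
      ∑ g : G, Complex.normSq (Φ g) := by
    rw [← Finset.sum_insert (f := fun x => Complex.normSq (Φ x)) h1X]
    exact Finset.sum_le_sum_of_subset_of_nonneg (Finset.subset_univ _)
      fun _ _ _ => Complex.normSq_nonneg _
  have h1 : Complex.normSq (Φ 1) =
      ((∑ ξ ∈ S, c ξ * (charDegree (ξ : G → ℂ) : ℤ) : ℤ) : ℝ) ^ 2 := by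
    have : Φ 1 = (((∑ ξ ∈ S, c ξ * (charDegree (ξ : G → ℂ) : ℤ) : ℤ) : ℝ) : ℂ) := by
      simp only [Φ]
      push_cast
      refine Finset.sum_congr rfl fun ξ _ => ?_
      rw [Blocks.Knorr.charDegree_eq ξ.2]
    rw [this, Complex.normSq_ofReal]
    ring
  have h2 : ∑ x ∈ X, Φ x = (((∑ ξ ∈ S, c ξ * w ξ : ℤ) : ℝ) : ℂ) := by
    simp only [Φ]
    rw [Finset.sum_comm]
    push_cast
    refine Finset.sum_congr rfl fun ξ hξ => ?_
    rw [← Finset.mul_sum, ← hw ξ hξ, TheoremD.osum_eq]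
  have hcard : (X.card : ℝ) = t * (r ^ m * s ^ n) := by
    have := card_order h D he ht
    rw [hX]
    exact_mod_cast this
  have h3 : ((∑ ξ ∈ S, c ξ * w ξ : ℤ) : ℝ) ^ 2 ≤ X.card * ∑ x ∈ X, Complex.normSq (Φ x) := by
    have e1 : |((∑ ξ ∈ S, c ξ * w ξ : ℤ) : ℝ)| = ‖∑ x ∈ X, Φ x‖ := by
      rw [h2, Complex.norm_real]; rfl
    have e2 : ‖∑ x ∈ X, Φ x‖ ≤ ∑ x ∈ X, ‖Φ x‖ := norm_sum_le _ _
    have e3 : (∑ x ∈ X, ‖Φ x‖) ^ 2 ≤ X.card * ∑ x ∈ X, ‖Φ x‖ ^ 2 :=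
      sq_sum_le_card_mul_sum_sq
    have e4 : ∀ x ∈ X, ‖Φ x‖ ^ 2 = Complex.normSq (Φ x) := fun x _ => by
      rw [Complex.normSq_eq_norm_sq]
    rw [Finset.sum_congr rfl e4] at e3
    calc ((∑ ξ ∈ S, c ξ * w ξ : ℤ) : ℝ) ^ 2 = ‖∑ x ∈ X, Φ x‖ ^ 2 := by rw [← e1, sq_abs]
      _ ≤ (∑ x ∈ X, ‖Φ x‖) ^ 2 := by
        exact pow_le_pow_left₀ (norm_nonneg _) e2 2
      _ ≤ _ := e3
  have hX0 : (0 : ℝ) ≤ X.card := Nat.cast_nonneg _
  have hfin : (X.card : ℝ) * ((∑ ξ ∈ S, c ξ * (charDegree (ξ : G → ℂ) : ℤ) : ℤ) : ℝ) ^ 2 +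
      ((∑ ξ ∈ S, c ξ * w ξ : ℤ) : ℝ) ^ 2 ≤
      X.card * ((Nat.card G : ℝ) * ((∑ ξ ∈ S, c ξ ^ 2 : ℤ) : ℝ)) := by
    rw [← hnormR, ← h1]
    calc (X.card : ℝ) * Complex.normSq (Φ 1) + ((∑ ξ ∈ S, c ξ * w ξ : ℤ) : ℝ) ^ 2
        ≤ X.card * Complex.normSq (Φ 1) + X.card * ∑ x ∈ X, Complex.normSq (Φ x) := by linarith
      _ = X.card * (Complex.normSq (Φ 1) + ∑ x ∈ X, Complex.normSq (Φ x)) := by ring
      _ ≤ X.card * ∑ g : G, Complex.normSq (Φ g) := mul_le_mul_of_nonneg_left hle hX0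
  rw [hcard, h.card'] at hfin
  have hfin' : (t * (r ^ m * s ^ n) : ℝ) *
      ((∑ ξ ∈ S, c ξ * (charDegree (ξ : G → ℂ) : ℤ) : ℤ) : ℝ) ^ 2 +
      ((∑ ξ ∈ S, c ξ * w ξ : ℤ) : ℝ) ^ 2 ≤
      (t * (r ^ m * s ^ n) : ℝ) * (p * (r ^ m * s ^ n)) * ((∑ ξ ∈ S, c ξ ^ 2 : ℤ) : ℝ) := by
    push_cast at hfin ⊢
    rw [mul_assoc ((t : ℝ) * (r ^ m * s ^ n))]
    exact hfin
  exact_mod_cast hfin'

end Cfsg.Agent.SmallSimple.S1000.Bessel
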