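import Cfsg.Agent.SmallSimple.S1000.Bessel

/-!
# S1000: the types of the characters of the principal `p`-block

`Both` : the two Steinberg characters `A` (degree `r^m`) and `B` (degree `s^n`).

* `Both.mType` : characters outside the principal `s`-block;
* `Both.kType` : nontrivial characters of the principal `p`-, `r`- and `s`-block have degree `r^i s^j` with
  `1 ≤ i < m`, `1 ≤ j < n`;
* `exists_both'` : existence.
-/

set_option autoImplicit false
set_option linter.unusedSectionVars false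

open Cfsg
open scoped ComplexConjugate

namespace Cfsg.Agent.SmallSimple.S1000.BlockTypes

open Subgroup DegreeData CharSetup ThmD ThmDMain Steinberg
open Cfsg.Agent.Characters.Core Cfsg.Agent.Blocks.Basic Cfsg.Agent.Blocks.Local

universe u

/-- The standing hypotheses with the two Steinberg characters. -/
structure Both {G : Type u} [Group G] [Finite G] (p r m s n : ℕ) {M : Ideal AlgInt} {P : Sylow p G}
    {e t : ℕ} (D : BlockData p M P e t) (R N : Ideal AlgInt) (A B : IrrCharacter G) : Prop where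
  h : Hyp G p r m s n
  hM : IsPModular p M
  he : (centralizer (P : Set G)).relIndex (normalizer (P : Set G)) = e
  ht : e * t = p - 1
  hR : IsPModular r R
  hN : IsPModular s N
  hm : m ≠ 0
  hn : n ≠ 0
  hna : ∃ a b : G, a * b ≠ b * a
  hA : A ∈ principalBlock M G
  hA' : A ∉ principalBlock R G
  hAd : charDegree (A : G → ℂ) = r ^ m
  hAv : ∀ g : G, r ∣ orderOf g → (A : G → ℂ) g = 0
  hB : B ∈ principalBlock M G
  hB' : B ∉ principalBlock N G
  hBd : charDegree (B : G → ℂ) = s ^ n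
  hBv : ∀ g : G, s ∣ orderOf g → (B : G → ℂ) g = 0

variable {G : Type u} [Group G] [Finite G] {p r m s n : ℕ} {M : Ideal AlgInt} {P : Sylow p G}
  {e t : ℕ} {D : BlockData p M P e t} {R N : Ideal AlgInt} {A B : IrrCharacter G}

namespace Both

theorem symm (H : Both p r m s n D R N A B) : Both p s n r m D N R B A :=
  ⟨H.h.symm, H.hM, H.he, H.ht, H.hN, H.hR, H.hn, H.hm, H.hna, H.hB, H.hB', H.hBd, H.hBv,
    H.hA, H.hA', H.hAd, H.hAv⟩

theorem pow_ne (H : Both p r m s n D R N A B) : r ^ m ≠ s ^ n := by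
  intro h1
  have h2 : r ∣ s ^ n := by rw [← h1]; exact dvd_pow_self r H.hm
  exact H.h.hrs ((Nat.prime_dvd_prime_iff_eq H.h.hr H.h.hs).1 (H.h.hr.dvd_of_dvd_pow h2))

theorem one_lt_pow (H : Both p r m s n D R N A B) : 1 < r ^ m :=
  Nat.one_lt_pow H.hm H.h.hr.one_lt

theorem A_ne_one (H : Both p r m s n D R N A B) : A ≠ D.one := by
  intro h1
  have h2 := H.hAd
  rw [h1, charDegree_one' D] at h2
  exact H.one_lt_pow.ne h2

/-- Characters outside the principal `s`-block. -/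
theorem mType (H : Both p r m s n D R N A B) {ξ : IrrCharacter G} (hξ : ξ ∉ principalBlock N G) :
    (A ∈ D.one :: D.l ∧ ξ ∈ D.one :: D.l ∧ D.ε ξ = -D.ε A ∧ charDegree (ξ : G → ℂ) = t * s ^ n) ∨
      (A ∈ D.one :: D.l ∧ ξ ∈ D.X ∧ D.d = D.ε A ∧ charDegree (ξ : G → ℂ) = s ^ n) ∨
      (A ∈ D.X ∧ ξ ∈ D.one :: D.l ∧ D.ε ξ = D.d ∧ charDegree (ξ : G → ℂ) = s ^ n) := by
  have := Fact.mk H.h.hp
  have := Fact.mk H.h.hs
  exact theoremD H.h D H.hM H.he H.ht H.hN H.hn H.hA H.hAd H.hAv hξ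

theorem mem_block (H : Both p r m s n D R N A B) {ξ : IrrCharacter G}
    (hξ : ξ ∉ principalBlock N G) : ξ ∈ principalBlock M G := by
  rw [D.mem_block]
  rcases H.mType hξ with ⟨-, h1, -⟩ | ⟨-, h1, -⟩ | ⟨-, h1, -⟩
  · exact Or.inl h1
  · exact Or.inr h1
  · exact Or.inl h1

/-- A character outside the principal `s`-block has degree divisible by `s ^ n`. -/
theorem dvd_of_notMem (H : Both p r m s n D R N A B) {ξ : IrrCharacter G}
    (hξ : ξ ∉ principalBlock N G) : s ^ n ∣ charDegree (ξ : G → ℂ) := by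
  rcases H.mType hξ with ⟨-, -, -, h1⟩ | ⟨-, -, -, h1⟩ | ⟨-, -, -, h1⟩
  · rw [h1]; exact dvd_mul_left _ _
  · rw [h1]
  · rw [h1]

/-- A nontrivial character of the principal `s`-block has degree not divisible by `s ^ n`. -/
theorem not_dvd_of_mem (H : Both p r m s n D R N A B) {ξ : IrrCharacter G}
    (hξ : ξ ∈ principalBlock N G) (h1 : ξ ≠ D.one) : ¬ s ^ n ∣ charDegree (ξ : G → ℂ) := by
  have := Fact.mk H.h.hs
  have := isPrime_of_isPModular H.hN
  intro hd
  have h2 := blockOf_eq_of_dvd H.h H.hN hd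
  have h3 : D.one ∈ blockOf N (ξ : G → ℂ) := by
    rw [← isPBlock_eq_blockOf Blocks.PrincipalSection.isPBlock_principalBlock hξ]
    exact one_mem_principal D
  rw [h2, Set.mem_singleton_iff] at h3
  exact h1 h3.symm

/-- The other nontrivial characters. -/
theorem kType (H : Both p r m s n D R N A B) [IsSimpleGroup G] {ξ : IrrCharacter G}
    (h1 : ξ ∈ principalBlock M G) (hne : ξ ≠ D.one) (h2 : ξ ∈ principalBlock R G)
    (h3 : ξ ∈ principalBlock N G) :
    ∃ i j : ℕ, 1 ≤ i ∧ i < m ∧ 1 ≤ j ∧ j < n ∧ charDegree (ξ : G → ℂ) = r ^ i * s ^ j := by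
  have := Fact.mk H.h.hp
  have := Fact.mk H.h.hr
  have := Fact.mk H.h.hs
  have h4 := not_dvd_charDegree H.h D H.ht h1
  have h5 : charDegree (ξ : G → ℂ) ∣ r ^ m * s ^ n := by
    have h6 : charDegree (ξ : G → ℂ) ∣ p * (r ^ m * s ^ n) := by
      rw [← H.h.card']; exact Blocks.Knorr.charDegree_dvd ξ.2
    exact (((Nat.Prime.coprime_iff_not_dvd H.h.hp).2 h4).symm).dvd_of_dvd_mul_left h6
  obtain ⟨x, y, hx, hy, hxy⟩ := exists_dvd_and_dvd_of_dvd_mul h5
  obtain ⟨i, hi, rfl⟩ := (Nat.dvd_prime_pow H.h.hr).1 hx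
  obtain ⟨j, hj, rfl⟩ := (Nat.dvd_prime_pow H.h.hs).1 hy
  refine ⟨i, j, ?_, ?_, ?_, ?_, hxy⟩
  · by_contra h0
    have hi0 : i = 0 := by omega
    rw [hi0, pow_zero, one_mul] at hxy
    have h7 := S0910.result s N H.hN H.hna ξ h3 j (by
      rw [Blocks.Knorr.charDegree_eq ξ.2, hxy]; push_cast; rfl)
    exact hne (Subtype.ext (by rw [h7, D.coe_one]; rfl))
  · refine lt_of_le_of_ne hi ?_
    rintro rfl
    exact H.symm.not_dvd_of_mem h2 hne (by rw [hxy]; exact dvd_mul_right _ _)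
  · by_contra h0
    have hj0 : j = 0 := by omega
    rw [hj0, pow_zero, mul_one] at hxy
    have h7 := S0910.result r R H.hR H.hna ξ h2 i (by
      rw [Blocks.Knorr.charDegree_eq ξ.2, hxy]; push_cast; rfl)
    exact hne (Subtype.ext (by rw [h7, D.coe_one]; rfl))
  · refine lt_of_le_of_ne hj ?_
    rintro rfl
    exact H.not_dvd_of_mem h3 hne (by rw [hxy]; exact dvd_mul_left _ _)

/-- Characters outside the principal `r`-block lie in the principal `s`-block. -/
theorem mem_of_notMem (H : Both p r m s n D R N A B) {ξ : IrrCharacter G}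
    (hξ : ξ ∉ principalBlock R G) : ξ ∈ principalBlock N G := by
  by_contra hcon
  have hr : r ∣ charDegree (ξ : G → ℂ) :=
    (dvd_pow_self r H.hm).trans (H.symm.dvd_of_notMem hξ)
  have hs : s ∣ charDegree (ξ : G → ℂ) := (dvd_pow_self s H.hn).trans (H.dvd_of_notMem hcon)
  have hnot : ¬ (r ∣ s ^ n) := fun hd =>
    H.h.hrs ((Nat.prime_dvd_prime_iff_eq H.h.hr H.h.hs).1 (H.h.hr.dvd_of_dvd_pow hd))
  have hnot' : ¬ (s ∣ r ^ m) := fun hd =>
    H.h.hrs ((Nat.prime_dvd_prime_iff_eq H.h.hs H.h.hr).1 (H.h.hs.dvd_of_dvd_pow hd)).symm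
  rcases H.mType hcon with ⟨-, -, -, h1⟩ | ⟨-, -, -, h1⟩ | ⟨-, -, -, h1⟩
  · rcases H.symm.mType hξ with ⟨-, -, -, h2⟩ | ⟨-, -, -, h2⟩ | ⟨-, -, -, h2⟩
    · rw [h1] at h2
      have ht := @t_pos G _ _ p r m s n e t H.h H.ht
      exact H.pow_ne (Nat.eq_of_mul_eq_mul_left ht h2).symm
    · rw [h2] at hs; exact hnot' hs
    · rw [h2] at hs; exact hnot' hs
  · rw [h1] at hr; exact hnot hr
  · rw [h1] at hr; exact hnot hr

end Both

/-- Existence of the two Steinberg characters. -/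
theorem exists_both' (h : Hyp G p r m s n) [IsSimpleGroup G] (hna : ∃ a b : G, a * b ≠ b * a)
    [Fact p.Prime] [Fact r.Prime] [Fact s.Prime] (hm : m ≠ 0) (hn : n ≠ 0)
    (D : BlockData p M P e t)
    (hM : IsPModular p M) (he : (centralizer (P : Set G)).relIndex (normalizer (P : Set G)) = e)
    (ht : e * t = p - 1) {R N : Ideal AlgInt} (hR : IsPModular r R) (hN : IsPModular s N)
    (hcore : ∀ u : G, u ≠ 1 → (∃ k : ℕ, orderOf u = r ^ k) →
      pPrimeCore r (centralizer ({u} : Set G)) = ⊥) :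
    ∃ A B : IrrCharacter G, Both p r m s n D R N A B := by
  obtain ⟨⟨A, h1, h2, h3, h4⟩, ⟨B, h5, h6, h7, h8⟩, -⟩ :=
    exists_both h hna hn D hM he ht hR hN hcore
  exact ⟨A, B, ⟨h, hM, he, ht, hR, hN, hm, hn, hna, h1, h2, h3, h4, h5, h6, h7, h8⟩⟩

end Cfsg.Agent.SmallSimple.S1000.BlockTypes
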