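import Cfsg.Agent.S0907
import Cfsg.Agent.Blocks.Orthogonality
import Cfsg.Agent.Characters.Core

/-!
# S1000: Theorem D, abstract form

`eq_zero` : let `A` be a class function which vanishes on all `s`-regular elements other than `1` and the elements
of order `q`, is `β` on the elements of order `q`, `α` at `1`, and is orthogonal to the members of the `s`-block `B`.
Then `α ξ(1) + β ∑_{o(x) = q} ξ(x) = 0` for every `ξ ∈ B`.
-/

set_option autoImplicit false

open Cfsg
open scoped ComplexConjugate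

namespace Cfsg.Agent.SmallSimple.S1000.TheoremD

universe u

variable {G : Type u} [Group G] [Finite G]

/-- The sum of a function over the elements of order `q`. -/
noncomputable def osum (q : ℕ) (f : G → ℂ) : ℂ := ∑ᶠ x ∈ {x : G | orderOf x = q}, f x

open Classical in
theorem osum_eq [Fintype G] (q : ℕ) (f : G → ℂ) :
    osum q f = ∑ x ∈ Finset.univ.filter (fun x : G => orderOf x = q), f x := by
  unfold osum
  rw [finsum_mem_eq_toFinset_sum]
  refine Finset.sum_congr ?_ fun _ _ => rfl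
  ext x; simp

theorem eq_zero {s : ℕ} [Fact s.Prime] {M : Ideal AlgInt} (hM : IsPModular s M)
    {B : Set (IrrCharacter G)} (hB : IsPBlock M B) {q : ℕ} (hq : ¬ s ∣ q) (hq1 : q ≠ 1)
    {A : G → ℂ} {α β : ℝ} (hA1 : A 1 = α) (hAx : ∀ x : G, orderOf x = q → A x = β)
    (hA0 : ∀ g : G, ¬ s ∣ orderOf g → g ≠ 1 → orderOf g ≠ q → A g = 0)
    (hAB : ∀ ξ ∈ B, ∑ᶠ g : G, (ξ : G → ℂ) g * conj (A g) = 0)
    {ξ : IrrCharacter G} (hξ : ξ ∈ B) :
    (α : ℂ) * (ξ : G → ℂ) 1 + β * osum q (ξ : G → ℂ) = 0 := by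
  classical
  have := Fintype.ofFinite G
  have : Finite (IrrCharacter G) := Characters.Core.finite_irr
  have := Fintype.ofFinite (IrrCharacter G)
  have hs : s.Prime := Fact.out
  set X : Finset G := Finset.univ.filter (fun x : G => orderOf x = q) with hX
  set BB : Finset (IrrCharacter G) := Finset.univ.filter (· ∈ B) with hBB
  let c : IrrCharacter G → ℂ := fun ξ => (α : ℂ) * (ξ : G → ℂ) 1 + β * ∑ x ∈ X, (ξ : G → ℂ) x
  have key : ∀ y : G, ¬ s ∣ orderOf y → ∑ ξ ∈ BB, c ξ * conj ((ξ : G → ℂ) y) = 0 := by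
    intro y hy
    let F : G → ℂ := fun g => ∑ ξ ∈ BB, (ξ : G → ℂ) g * conj ((ξ : G → ℂ) y)
    have hF0 : ∀ g : G, s ∣ orderOf g → F g = 0 := by
      intro g hg
      have h1 := S0907.result s M hM B hB y g hy hg
      rw [Blocks.Orthogonality.finsum_mem_eq_sum_filter] at h1
      have h2 := congrArg conj h1
      rw [map_sum, map_zero] at h2
      rw [← h2]
      refine Finset.sum_congr rfl fun ξ _ => ?_
      rw [map_mul, Complex.conj_conj, mul_comm]
    have h1 : ∑ g : G, F g * conj (A g) = 0 := by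
      have e1 : ∀ g : G, F g * conj (A g) =
          ∑ ξ ∈ BB, conj ((ξ : G → ℂ) y) * ((ξ : G → ℂ) g * conj (A g)) := by
        intro g
        rw [Finset.sum_mul]
        exact Finset.sum_congr rfl fun ξ _ => by ring
      rw [Finset.sum_congr rfl fun g _ => e1 g, Finset.sum_comm]
      refine Finset.sum_eq_zero fun ξ hξ => ?_
      rw [← Finset.mul_sum]
      have := hAB ξ (Finset.mem_filter.1 hξ).2
      rw [finsum_eq_sum_of_fintype] at this
      rw [this, mul_zero]
    have h1X : (1 : G) ∉ X := by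
      rw [hX, Finset.mem_filter, orderOf_one]
      exact fun h => hq1 h.2.symm
    have h2 : ∑ g : G, F g * conj (A g) = ∑ g ∈ insert 1 X, F g * conj (A g) := by
      symm
      refine Finset.sum_subset (Finset.subset_univ _) ?_
      intro g _ hg
      rw [Finset.mem_insert, not_or] at hg
      by_cases hsg : s ∣ orderOf g
      · rw [hF0 g hsg, zero_mul]
      · rw [hA0 g hsg hg.1 (fun h => hg.2 (by rw [hX, Finset.mem_filter]; exact
          ⟨Finset.mem_univ _, h⟩)), map_zero, mul_zero]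
    rw [h1, Finset.sum_insert h1X, hA1, Complex.conj_ofReal] at h2
    have h3 : ∑ g ∈ X, F g * conj (A g) = ∑ g ∈ X, F g * β := by
      refine Finset.sum_congr rfl fun g hg => ?_
      rw [hAx g (Finset.mem_filter.1 hg).2, Complex.conj_ofReal]
    rw [h3] at h2
    have h4 : ∑ ξ ∈ BB, c ξ * conj ((ξ : G → ℂ) y) = F 1 * α + ∑ g ∈ X, F g * β := by
      have e2 : ∑ g ∈ X, F g * β =
          ∑ ξ ∈ BB, (β * ∑ x ∈ X, (ξ : G → ℂ) x) * conj ((ξ : G → ℂ) y) := by
        have e3 : ∀ g ∈ X, F g * β = ∑ ξ ∈ BB, β * (ξ : G → ℂ) g * conj ((ξ : G → ℂ) y) := by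
          intro g _
          rw [Finset.sum_mul]
          exact Finset.sum_congr rfl fun ξ _ => by ring
        rw [Finset.sum_congr rfl e3, Finset.sum_comm]
        refine Finset.sum_congr rfl fun ξ _ => ?_
        rw [Finset.mul_sum, Finset.sum_mul]
      rw [e2, Finset.sum_mul, ← Finset.sum_add_distrib]
      refine Finset.sum_congr rfl fun ξ _ => ?_
      simp only [c]
      ring
    rw [h4, ← h2]
  have hreg1 : ¬ s ∣ orderOf (1 : G) := by rw [orderOf_one]; exact hs.not_dvd_one
  have hsum : ∑ ξ ∈ BB, c ξ * conj (c ξ) = 0 := by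
    have e1 : ∀ ξ ∈ BB, c ξ * conj (c ξ) = α * (c ξ * conj ((ξ : G → ℂ) 1)) +
        ∑ y ∈ X, β * (c ξ * conj ((ξ : G → ℂ) y)) := by
      intro ξ _
      have : conj (c ξ) = α * conj ((ξ : G → ℂ) 1) + β * ∑ y ∈ X, conj ((ξ : G → ℂ) y) := by
        simp only [c]
        rw [map_add, map_mul, map_mul, map_sum, Complex.conj_ofReal, Complex.conj_ofReal]
      rw [this, mul_add, ← Finset.mul_sum, ← Finset.mul_sum]
      ring
    rw [Finset.sum_congr rfl e1, Finset.sum_add_distrib, ← Finset.mul_sum, key 1 hreg1, mul_zero,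
      zero_add, Finset.sum_comm]
    refine Finset.sum_eq_zero fun y hy => ?_
    rw [← Finset.mul_sum, key y (by rw [(Finset.mem_filter.1 hy).2]; exact hq), mul_zero]
  have hsum' : ∑ ξ ∈ BB, Complex.normSq (c ξ) = 0 := by
    have h : ((∑ ξ ∈ BB, Complex.normSq (c ξ) : ℝ) : ℂ) = 0 := by
      rw [← hsum]
      push_cast
      exact Finset.sum_congr rfl fun ξ _ => by rw [Complex.mul_conj]
    exact_mod_cast h
  have h5 := (Finset.sum_eq_zero_iff_of_nonneg (fun ξ _ => Complex.normSq_nonneg _)).1 hsum' ξ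
    (Finset.mem_filter.2 ⟨Finset.mem_univ _, hξ⟩)
  have h6 : c ξ = 0 := Complex.normSq_eq_zero.1 h5
  rw [osum_eq]
  exact h6

end Cfsg.Agent.SmallSimple.S1000.TheoremD
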