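import Cfsg.Agent.SmallSimple.DegreeData
import Cfsg.Agent.SmallSimple.SylowPrimeCount
import Cfsg.Agent.SolvableStructure.HallConverse
import Cfsg.Agent.SmallSimple.S1000.TheoremD

/-!
# S1000: groups of order `p r^m s^n` with self-centralizing Sylow `p`-subgroup

* `Hyp` : the standing hypotheses;
* `Hyp.orderOf_eq` : an element of order divisible by `p` has order `p`;
* `Hyp.not_dvd_centralizer`, `Hyp.solvable_centralizer` : centralizers of the other elements;
* `Hyp.osum_eq` : sums of class functions over the elements of order `p`;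
* `Hyp.osum_NE`, `Hyp.osum_X`, `Hyp.osum_other` : the sums for the irreducible characters.
-/

set_option autoImplicit false

open Cfsg
open scoped ComplexConjugate

namespace Cfsg.Agent.SmallSimple.S1000.CharSetup

open Subgroup DegreeData

universe u

/-- A finite group of order `p r^m s^n` in which the elements of order `p` are self-centralizing. -/
structure Hyp (G : Type u) [Group G] [Finite G] (p r m s n : ℕ) : Prop where
  /-- `p` is prime -/
  hp : p.Prime
  /-- `r` is prime -/
  hr : r.Prime
  /-- `s` is prime -/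
  hs : s.Prime
  /-- distinct -/
  hpr : p ≠ r
  /-- distinct -/
  hps : p ≠ s
  /-- distinct -/
  hrs : r ≠ s
  /-- the order -/
  card : Nat.card G = p * r ^ m * s ^ n
  /-- the centralizers of the elements of order `p` -/
  cent : ∀ x : G, orderOf x = p → centralizer ({x} : Set G) = zpowers x

variable {G : Type u} [Group G] [Finite G] {p r m s n : ℕ}

namespace Hyp

theorem symm (h : Hyp G p r m s n) : Hyp G p s n r m :=
  ⟨h.hp, h.hs, h.hr, h.hps, h.hpr, h.hrs.symm, by rw [h.card]; ring, h.cent⟩

theorem coprime (h : Hyp G p r m s n) : p.Coprime (r ^ m * s ^ n) :=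
  Nat.Coprime.mul_right (Nat.Coprime.pow_right m ((Nat.coprime_primes h.hp h.hr).2 h.hpr))
    (Nat.Coprime.pow_right n ((Nat.coprime_primes h.hp h.hs).2 h.hps))

theorem card' (h : Hyp G p r m s n) : Nat.card G = p * (r ^ m * s ^ n) := by
  rw [h.card, mul_assoc]

theorem not_dvd (h : Hyp G p r m s n) : ¬ p ∣ r ^ m * s ^ n :=
  (Nat.Prime.coprime_iff_not_dvd h.hp).1 h.coprime

theorem factorization_p (h : Hyp G p r m s n) : (Nat.card G).factorization p = 1 := by
  have h0 : r ^ m * s ^ n ≠ 0 := mul_ne_zero (pow_ne_zero _ h.hr.ne_zero) (pow_ne_zero _ h.hs.ne_zero)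
  rw [h.card', Nat.factorization_mul h.hp.ne_zero h0, Finsupp.add_apply,
    h.hp.factorization_self, Nat.factorization_eq_zero_of_not_dvd h.not_dvd]

theorem factorization_r (h : Hyp G p r m s n) : (Nat.card G).factorization r = m := by
  have h1 : p ≠ 0 := h.hp.ne_zero
  have h2 : r ^ m ≠ 0 := pow_ne_zero _ h.hr.ne_zero
  have h3 : s ^ n ≠ 0 := pow_ne_zero _ h.hs.ne_zero
  have h4 : ¬ r ∣ p := fun hd => h.hpr ((Nat.prime_dvd_prime_iff_eq h.hr h.hp).1 hd).symm
  have h5 : ¬ r ∣ s ^ n := fun hd => h.hrs ((Nat.prime_dvd_prime_iff_eq h.hr h.hs).1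
    (h.hr.dvd_of_dvd_pow hd))
  rw [h.card, Nat.factorization_mul (mul_ne_zero h1 h2) h3, Nat.factorization_mul h1 h2,
    Finsupp.add_apply, Finsupp.add_apply, Nat.factorization_eq_zero_of_not_dvd h4,
    Nat.factorization_eq_zero_of_not_dvd h5, Nat.factorization_pow, Finsupp.smul_apply,
    h.hr.factorization_self]
  simp

theorem card_sylow (h : Hyp G p r m s n) [Fact p.Prime] (P : Sylow p G) : Nat.card P = p := by
  have h1 : Nat.card (P : Subgroup G) = p ^ (Nat.card G).factorization p := P.card_eq_multiplicity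
  rwa [h.factorization_p, pow_one] at h1

theorem orderOf_of_mem (h : Hyp G p r m s n) [Fact p.Prime] (P : Sylow p G) {x : G} (hx : x ∈ P)
    (hx1 : x ≠ 1) : orderOf x = p := by
  have h1 : orderOf x ∣ p := by
    have := orderOf_dvd_natCard (⟨x, hx⟩ : (P : Subgroup G))
    rw [h.card_sylow P, Subgroup.orderOf_mk] at this
    exact this
  rcases (Nat.dvd_prime h.hp).1 h1 with h2 | h2
  · exact absurd (orderOf_eq_one_iff.1 h2) hx1
  · exact h2

/-- The Sylow subgroup containing an element of order `p` is generated by it. -/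
theorem eq_zpowers (h : Hyp G p r m s n) [Fact p.Prime] (P : Sylow p G) {x : G} (hx : x ∈ P)
    (hx1 : orderOf x = p) : (P : Subgroup G) = zpowers x := by
  symm
  refine eq_of_le_of_card_ge ((zpowers_le).2 hx) ?_
  rw [h.card_sylow P, Nat.card_zpowers, hx1]

/-- The centralizer of a Sylow `p`-subgroup. -/
theorem centralizer_sylow (h : Hyp G p r m s n) [Fact p.Prime] (P : Sylow p G) :
    centralizer (P : Set G) = (P : Subgroup G) := by
  have : Nontrivial P := by
    rw [← Finite.one_lt_card_iff_nontrivial]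
    rw [h.card_sylow P]
    exact h.hp.one_lt
  obtain ⟨x, hx⟩ := exists_ne (1 : P)
  have hx1 : (x : G) ≠ 1 := fun h => hx (Subtype.ext h)
  have ho := h.orderOf_of_mem P x.2 hx1
  have h2 := h.eq_zpowers P x.2 ho
  have h3 : centralizer (P : Set G) = centralizer ({(x : G)} : Set G) := by
    show centralizer ((P : Subgroup G) : Set G) = centralizer ({(x : G)} : Set G)
    rw [h2, zpowers_eq_closure, centralizer_closure]
  rw [h3, h.cent _ ho, h2]

/-- An element of order divisible by `p` has order `p`. -/
theorem orderOf_eq (h : Hyp G p r m s n) {g : G} (hg : p ∣ orderOf g) : orderOf g = p := by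
  set x := g ^ (orderOf g / p) with hx
  have hxo : orderOf x = p := by
    rw [hx, orderOf_pow_of_dvd (Nat.div_ne_zero_iff_of_dvd hg |>.2 ⟨(orderOf_pos g).ne', h.hp.ne_zero⟩)
      (Nat.div_dvd_of_dvd hg), Nat.div_div_self hg (orderOf_pos g).ne']
  have h1 : g ∈ centralizer ({x} : Set G) := by
    rw [mem_centralizer_iff]
    rintro _ rfl
    rw [hx]
    exact (Commute.refl g).pow_left _
  rw [h.cent x hxo] at h1
  have h2 : orderOf g ∣ p := by
    rw [← hxo]
    exact orderOf_dvd_of_mem_zpowers h1
  exact Nat.dvd_antisymm h2 hg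

/-- The order of an element. -/
theorem eq_one_or (h : Hyp G p r m s n) {g : G} (hr : ¬ r ∣ orderOf g) (hs : ¬ s ∣ orderOf g) :
    g = 1 ∨ orderOf g = p := by
  by_cases hp : p ∣ orderOf g
  · exact Or.inr (h.orderOf_eq hp)
  · left
    rw [← orderOf_eq_one_iff, Nat.eq_one_iff_not_exists_prime_dvd]
    intro q hq hqd
    have h1 : q ∣ p * r ^ m * s ^ n := by
      rw [← h.card]; exact hqd.trans (orderOf_dvd_natCard g)
    rcases (hq.dvd_mul).1 h1 with h2 | h2
    · rcases (hq.dvd_mul).1 h2 with h3 | h3
      · exact hp ((Nat.prime_dvd_prime_iff_eq hq h.hp).1 h3 ▸ hqd)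
      · exact hr ((Nat.prime_dvd_prime_iff_eq hq h.hr).1 (hq.dvd_of_dvd_pow h3) ▸ hqd)
    · exact hs ((Nat.prime_dvd_prime_iff_eq hq h.hs).1 (hq.dvd_of_dvd_pow h2) ▸ hqd)

/-- The centralizer of an element `u ≠ 1` of order prime to `p` is a `p'`-group. -/
theorem not_dvd_centralizer (h : Hyp G p r m s n) {u : G} (hu : u ≠ 1) (hup : ¬ p ∣ orderOf u) :
    ¬ p ∣ Nat.card (centralizer ({u} : Set G)) := by
  intro hd
  have := Fact.mk h.hp
  obtain ⟨x, hx⟩ := exists_prime_orderOf_dvd_card' p hd
  have hxo : orderOf (x : G) = p := by rw [Subgroup.orderOf_coe]; exact hx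
  have h1 : u ∈ centralizer ({(x : G)} : Set G) := by
    rw [mem_centralizer_iff]
    rintro _ rfl
    exact ((mem_centralizer_iff.1 x.2) u rfl).symm
  rw [h.cent _ hxo] at h1
  have h2 : orderOf u ∣ p := by
    rw [← hxo]
    exact orderOf_dvd_of_mem_zpowers h1
  rcases (Nat.dvd_prime h.hp).1 h2 with h3 | h3
  · exact hu (orderOf_eq_one_iff.1 h3)
  · exact hup (by rw [h3])

/-- A subgroup of order prime to `p` is solvable. -/
theorem solvable_of_not_dvd (h : Hyp G p r m s n) {H : Subgroup G} (hH : ¬ p ∣ Nat.card H) :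
    Group.IsSolvable H := by
  apply SolvableStructure.HallConverse.isSolvable_of_no_three_primes
  have h1 : (Nat.card H).primeFactors ⊆ {r, s} := by
    intro q hq
    have hqp := Nat.prime_of_mem_primeFactors hq
    have hqd := Nat.dvd_of_mem_primeFactors hq
    have h2 : q ∣ p * r ^ m * s ^ n := by
      rw [← h.card]; exact hqd.trans (card_subgroup_dvd_card H)
    rw [Finset.mem_insert, Finset.mem_singleton]
    rcases (hqp.dvd_mul).1 h2 with h3 | h3
    · rcases (hqp.dvd_mul).1 h3 with h4 | h4
      · exact absurd ((Nat.prime_dvd_prime_iff_eq hqp h.hp).1 h4 ▸ hqd) hH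
      · exact Or.inl ((Nat.prime_dvd_prime_iff_eq hqp h.hr).1 (hqp.dvd_of_dvd_pow h4))
    · exact Or.inr ((Nat.prime_dvd_prime_iff_eq hqp h.hs).1 (hqp.dvd_of_dvd_pow h3))
  exact (Finset.card_le_card h1).trans (Finset.card_le_two)

/-- The centralizers of the elements `u ≠ 1` of order prime to `p` are solvable. -/
theorem solvable_centralizer (h : Hyp G p r m s n) {u : G} (hu : u ≠ 1) (hup : ¬ p ∣ orderOf u) :
    Group.IsSolvable (centralizer ({u} : Set G)) :=
  h.solvable_of_not_dvd (h.not_dvd_centralizer hu hup)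

open TheoremD TheoremBCor

/-- The sum of a class function over the elements of order `p`. -/
theorem osum_eq (h : Hyp G p r m s n) [hpf : Fact p.Prime] (P : Sylow p G) [Fintype (P : Subgroup G)] {f : G → ℂ}
    (hf : IsClassFunction G f) :
    osum p f = Nat.card (Sylow p G) * (∑ x : (P : Subgroup G), f x - f 1) := by
  classical
  have := Fintype.ofFinite G
  have := Fintype.ofFinite (Sylow p G)
  rw [TheoremD.osum_eq]
  set X : Finset G := Finset.univ.filter (fun x : G => orderOf x = p) with hX
  -- each element of order `p` lies in exactly one Sylow subgroup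
  have h1 : ∀ x ∈ X, ∑ Q : Sylow p G, (if x ∈ Q then f x else 0) = f x := by
    intro x hx
    have hxo : orderOf x = p := (Finset.mem_filter.1 hx).2
    have hcard : Nat.card (zpowers x) = p ^ (Nat.card G).factorization p := by
      rw [Nat.card_zpowers, hxo, h.factorization_p, pow_one]
    let Q₀ : Sylow p G := Sylow.ofCard (zpowers x) hcard
    have hQ₀ : x ∈ Q₀ := by
      show x ∈ (Sylow.ofCard (zpowers x) hcard : Subgroup G)
      rw [Sylow.coe_ofCard]
      exact mem_zpowers x
    rw [Finset.sum_eq_single Q₀]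
    · rw [if_pos hQ₀]
    · intro Q _ hQ
      rw [if_neg]
      intro hxQ
      apply hQ
      have e1 := h.eq_zpowers Q hxQ hxo
      have e2 := h.eq_zpowers Q₀ hQ₀ hxo
      exact Sylow.ext (e1.trans e2.symm)
    · intro hQ
      exact absurd (Finset.mem_univ _) hQ
  rw [← Finset.sum_congr rfl h1, Finset.sum_comm]
  -- the sum over the elements of one Sylow subgroup
  have h2 : ∀ Q : Sylow p G, ∑ x ∈ X, (if x ∈ Q then f x else 0) = ∑ x : (P : Subgroup G), f x - f 1 := by
    intro Q
    obtain ⟨g, hg⟩ := MulAction.exists_smul_eq G P Q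
    have hmem : ∀ x : G, x ∈ Q ↔ g⁻¹ * x * g ∈ P := by
      intro x
      have e : x ∈ (Q : Subgroup G) ↔ g⁻¹ * x * g ∈ (P : Subgroup G) := by
        rw [← hg, Sylow.coe_subgroup_smul, Subgroup.mem_pointwise_smul_iff_inv_smul_mem]
        simp [MulAut.smul_def, mul_assoc]
      exact e
    have h3 : ∑ x ∈ X, (if x ∈ Q then f x else 0) = ∑ x : (P : Subgroup G), if x = 1 then 0 else f x := by
      rw [← Finset.sum_filter]
      have h4 : ∑ x : (P : Subgroup G), (if x = 1 then 0 else f x) = ∑ x ∈ Finset.univ.filter (fun x : (P : Subgroup G) => x ≠ 1), f x := by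
        rw [Finset.sum_filter]
        refine Finset.sum_congr rfl fun x _ => ?_
        by_cases hx : x = 1 <;> simp [hx]
      rw [h4]
      symm
      refine Finset.sum_bij (fun x _ => g * (x : G) * g⁻¹) ?_ ?_ ?_ ?_
      · intro x hx
        have hx1 : x ≠ 1 := (Finset.mem_filter.1 hx).2
        have hx2 : orderOf (x : G) = p :=
          h.orderOf_of_mem P x.2 (fun h' => hx1 (Subtype.ext h'))
        rw [Finset.mem_filter, hX, Finset.mem_filter]
        refine ⟨⟨Finset.mem_univ _, ?_⟩, ?_⟩
        · exact (orderOf_injective (MulAut.conj g).toMonoidHom (MulAut.conj g).injective _).trans hx2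
        · rw [hmem]
          have : g⁻¹ * (g * (x : G) * g⁻¹) * g = x := by group
          rw [this]
          exact x.2
      · intro x _ y _ hxy
        exact Subtype.ext (mul_left_cancel (mul_right_cancel hxy))
      · intro x hx
        rw [Finset.mem_filter, hX, Finset.mem_filter] at hx
        obtain ⟨⟨-, hx1⟩, hx2⟩ := hx
        refine ⟨⟨g⁻¹ * x * g, (hmem x).1 hx2⟩, ?_, ?_⟩
        · rw [Finset.mem_filter]
          refine ⟨Finset.mem_univ _, ?_⟩
          intro h'
          have h5 : g⁻¹ * x * g = 1 := congrArg Subtype.val h'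
          have h6 : x = 1 := by
            have : x = g * (g⁻¹ * x * g) * g⁻¹ := by group
            rw [this, h5]; group
          rw [h6, orderOf_one] at hx1
          exact h.hp.one_lt.ne hx1
        · show g * (g⁻¹ * x * g) * g⁻¹ = x
          group
      · intro x _
        exact (hf _ _).symm
    rw [h3]
    rw [← Finset.add_sum_erase Finset.univ (fun x : (P : Subgroup G) => f x) (Finset.mem_univ 1),
      ← Finset.add_sum_erase Finset.univ (fun x : (P : Subgroup G) => if x = 1 then (0 : ℂ) else f x)
      (Finset.mem_univ 1)]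
    rw [if_pos rfl, zero_add, OneMemClass.coe_one, add_sub_cancel_left]
    refine Finset.sum_congr rfl fun x hx => ?_
    rw [if_neg (Finset.ne_of_mem_erase hx)]
  rw [Finset.sum_congr rfl fun Q _ => h2 Q, Finset.sum_const, Finset.card_univ, nsmul_eq_mul,
    Nat.card_eq_fintype_card]

variable {M : Ideal AlgInt} {P : Sylow p G} {e t : ℕ}

/-- The number of Sylow subgroups. -/
theorem card_sylow_mul (h : Hyp G p r m s n) [hpf : Fact p.Prime] (P : Sylow p G)
    (he : (centralizer (P : Set G)).relIndex (normalizer (P : Set G)) = e) :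
    Nat.card (Sylow p G) * e = r ^ m * s ^ n := by
  have h1 := relIndex_mul_relIndex (⊥ : Subgroup G) _ _ bot_le
    (SylowPrimeCount.centralizer_le_normalizer' (P : Subgroup G))
  have h2 : Nat.card (centralizer (P : Set G)) = p := by
    rw [h.centralizer_sylow P]; exact h.card_sylow P
  have he' : (centralizer ((P : Subgroup G) : Set G)).relIndex
      (normalizer ((P : Subgroup G) : Set G)) = e := he
  have h2' : Nat.card (centralizer ((P : Subgroup G) : Set G)) = p := h2
  rw [relIndex_bot_left, relIndex_bot_left, he', h2'] at h1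
  have h3 := P.card_eq_index_normalizer
  have h4 := (normalizer ((P : Subgroup G) : Set G)).index_mul_card
  rw [← h1, h.card'] at h4
  have h3' : Nat.card (Sylow p G) = (normalizer ((P : Subgroup G) : Set G)).index := h3
  rw [← h3'] at h4
  have h5 : p * (Nat.card (Sylow p G) * e) = p * (r ^ m * s ^ n) := by rw [← h4]; ring
  exact Nat.eq_of_mul_eq_mul_left h.hp.pos h5

/-- Nonexceptional characters. -/
theorem osum_NE (h : Hyp G p r m s n) [hpf : Fact p.Prime] (D : BlockData p M P e t)
    (he : (centralizer (P : Set G)).relIndex (normalizer (P : Set G)) = e) (ht : e * t = p - 1)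
    {χ : IrrCharacter G} (hχ : χ ∈ D.one :: D.l) :
    osum p (χ : G → ℂ) = D.ε χ * (t * (r ^ m * s ^ n)) := by
  have := Fintype.ofFinite (P : Subgroup G)
  rw [h.osum_eq P (Characters.Core.isIrr_isClassFunction χ.2),
    sum_const_off (f := fun x : (P : Subgroup G) => (χ : G → ℂ) x) (c := (D.ε χ : ℂ))
      (fun x hx => D.val' hχ x.2 (fun h' => hx (Subtype.ext h')))]
  have h1 := h.card_sylow_mul P he
  have h2 : (Nat.card (Sylow p G) : ℂ) * e = r ^ m * s ^ n := by exact_mod_cast h1
  have h3 : (Nat.card (P : Subgroup G) : ℂ) - 1 = e * t := by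
    have : Nat.card (P : Subgroup G) = e * t + 1 := by
      rw [ht, Nat.sub_add_cancel h.hp.one_lt.le]; exact h.card_sylow P
    rw [this]; push_cast; ring
  rw [h3, ← h2, OneMemClass.coe_one]
  ring

/-- Exceptional characters. -/
theorem osum_X (h : Hyp G p r m s n) [hpf : Fact p.Prime] (D : BlockData p M P e t)
    (he : (centralizer (P : Set G)).relIndex (normalizer (P : Set G)) = e)
    {χ : IrrCharacter G} (hχ : χ ∈ D.X) :
    osum p (χ : G → ℂ) = -(D.d * (r ^ m * s ^ n)) := by
  have := Fintype.ofFinite (P : Subgroup G)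
  rw [h.osum_eq P (Characters.Core.isIrr_isClassFunction χ.2),
    sum_exc_off (f := fun x : (P : Subgroup G) => (χ : G → ℂ) x) (d := (D.d : ℂ)) (D.one_notMem_S χ hχ)
      (fun x hx => D.val_X' hχ x hx), D.card_S χ hχ]
  have h1 := h.card_sylow_mul P he
  have h2 : (Nat.card (Sylow p G) : ℂ) * e = r ^ m * s ^ n := by exact_mod_cast h1
  rw [← h2, OneMemClass.coe_one]
  ring

/-- The characters outside the principal block. -/
theorem osum_other (h : Hyp G p r m s n) [hpf : Fact p.Prime] (D : BlockData p M P e t)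
    (hM : IsPModular p M) {χ : IrrCharacter G} (hχ : χ ∉ principalBlock M G) :
    osum p (χ : G → ℂ) = 0 := by
  classical
  have := Fintype.ofFinite (P : Subgroup G)
  rw [h.osum_eq P (Characters.Core.isIrr_isClassFunction χ.2),
    sum_const_off (f := fun x : (P : Subgroup G) => (χ : G → ℂ) x) (c := 0)
      (fun x hx => D.vanish hM (h.card_sylow P) (h.centralizer_sylow P) hχ x.2
        (fun h' => hx (Subtype.ext h')))]
  simp

end Hyp

end Cfsg.Agent.SmallSimple.S1000.CharSetup
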