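import Mathlib
import Cfsg.Prelude.Def_Transfer
import Cfsg.Agent.S0093
import Cfsg.Agent.Lib.CoprimeHyperplane
import Cfsg.Agent.Lib.CoprimeCommutator
import Cfsg.Agent.Lib.CoprimeAbelian
import Cfsg.Agent.Solvable.UniqueOrderP

/-!
# The structure of `X = O₂(C(z))` when the 2-ranks of centralisers of 3-subgroups are small

`z` is an involution, `X ∋ z` a 2-group centralising `z`, `B ≠ 1` an elementary abelian 3-group acting
faithfully on `X` and centralising `z`, such that `C_X(B)` has 2-rank 1 and `C_X(H)` has 2-rank at most 2 for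
every hyperplane `H` of `B`.  Then `X` is a central product of `k` quaternion groups of order 8 and a cyclic
group `R = C_X(B)`.
-/

set_option autoImplicit false

namespace Cfsg.Agent.SmallSimple.S1000.QStruct

open Subgroup Cfsg Cfsg.Agent.Lib
open scoped commutatorElement

variable {G : Type*} [Group G]

/-- The hypotheses. -/
structure Hyp (z : G) (X B : Subgroup G) : Prop where
  zz : z * z = 1
  z1 : z ≠ 1
  two : IsPGroup 2 X
  zX : z ∈ X
  zc : ∀ x ∈ X, z * x = x * z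
  zB : ∀ b ∈ B, z * b = b * z
  BX : B ≤ normalizer (X : Set G)
  elem : IsElementaryAbelian 3 B
  faith : B ⊓ centralizer (X : Set G) = ⊥
  Bne : B ≠ ⊥
  rank1 : ∀ E ≤ X ⊓ centralizer (B : Set G), IsElementaryAbelian 2 E → Nat.card E ≤ 2
  rank2 : ∀ H ≤ B, H.relIndex B = 3 → ∀ E ≤ X ⊓ centralizer (H : Set G),
    IsElementaryAbelian 2 E → Nat.card E ≤ 4

theorem elementary_of_sq {E : Subgroup G} (h : ∀ x ∈ E, x * x = 1) : IsElementaryAbelian 2 E := by
  refine ⟨⟨⟨fun a b => Subtype.ext ?_⟩⟩, fun a ha => by rw [pow_two]; exact h a ha⟩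
  have h1 := h _ (E.mul_mem a.2 b.2)
  have h2 := h a a.2
  have h3 := h b b.2
  have h1' := inv_eq_of_mul_eq_one_right h1
  have h2' := inv_eq_of_mul_eq_one_right h2
  have h3' := inv_eq_of_mul_eq_one_right h3
  show (a : G) * b = b * a
  rw [← h1', mul_inv_rev, h2', h3']

theorem mem_of_card_le_four {F : Subgroup G} [Finite G] (hF : Nat.card F ≤ 4) {z f : G} (hz : z ∈ F)
    (hf : f ∈ F) (hz1 : z ≠ 1) (hf1 : f ≠ 1) (hfz : f ≠ z) (hfz' : f * z ≠ 1) {g : G} (hg : g ∈ F) :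
    g = 1 ∨ g = z ∨ g = f ∨ g = f * z := by
  have h1 : ({1, z, f, f * z} : Set G) ⊆ F := by
    rintro x (rfl | rfl | rfl | rfl)
    · exact F.one_mem
    · exact hz
    · exact hf
    · exact F.mul_mem hf hz
  have h2 : ({1, z, f, f * z} : Set G).ncard = 4 := by
    rw [Set.ncard_insert_of_notMem, Set.ncard_insert_of_notMem, Set.ncard_pair]
    · intro h
      exact hz1 (left_eq_mul.mp h)
    · rintro (h | h)
      · exact hfz h.symm
      · exact hf1 (right_eq_mul.mp h)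
    · rintro (h | h | h)
      · exact hz1 h.symm
      · exact hf1 h.symm
      · exact hfz' h.symm
  have h3 : ({1, z, f, f * z} : Set G) = F := by
    refine Set.eq_of_subset_of_ncard_le h1 ?_ (Set.toFinite _)
    rw [h2]
    exact hF
  have h4 : g ∈ ({1, z, f, f * z} : Set G) := by
    rw [h3]; exact hg
  simpa using h4

theorem normalizer_le_of_characteristic {Q : Subgroup G} (K : Subgroup Q) (hK : K.Characteristic) :
    normalizer (Q : Set G) ≤ normalizer ((K.map Q.subtype : Subgroup G) : Set G) := by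
  have hle : ∀ g ∈ normalizer (Q : Set G), ∀ x ∈ K.map Q.subtype, g * x * g⁻¹ ∈ K.map Q.subtype := by
    rintro g hg _ ⟨x, hx, rfl⟩
    have h1 := (characteristic_iff_map_eq.mp hK) (Q.normalizerMonoidHom ⟨g, hg⟩)
    have h2 : Q.normalizerMonoidHom ⟨g, hg⟩ x ∈ K := by
      rw [← h1]
      exact ⟨x, hx, rfl⟩
    exact ⟨_, h2, rfl⟩
  intro g hg
  rw [mem_normalizer_iff]
  intro x
  refine ⟨hle g hg x, fun hx => ?_⟩
  have := hle g⁻¹ (inv_mem hg) _ hx
  simpa [mul_assoc] using this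

/-- Thompson's critical subgroup of a `p`-subgroup `X` of `G`. -/
theorem exists_critical [Finite G] {p : ℕ} [Fact p.Prime] {X : Subgroup G} (hX : IsPGroup p X) :
    ∃ Y ≤ X, normalizer (X : Set G) ≤ normalizer (Y : Set G) ∧
      (∀ y ∈ Y, y ^ p ∈ centralizer (Y : Set G)) ∧
      (∀ y ∈ Y, ∀ x ∈ X, ⁅y, x⁆ ∈ Y ⊓ centralizer (Y : Set G)) ∧
      X ⊓ centralizer (Y : Set G) ≤ Y := by
  obtain ⟨H, h1, h2, h3, h4⟩ := S0093.result hX
  have hcent : ∀ x : X, (x : G) ∈ centralizer ((H.map X.subtype : Subgroup G) : Set G) ↔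
      x ∈ centralizer (H : Set X) := by
    intro x
    rw [mem_centralizer_iff, mem_centralizer_iff]
    constructor
    · intro h y hy
      exact Subtype.ext (h y ⟨y, hy, rfl⟩)
    · rintro h _ ⟨y, hy, rfl⟩
      exact congrArg Subtype.val (h y hy)
  refine ⟨H.map X.subtype, map_subtype_le H, normalizer_le_of_characteristic H h1, ?_, ?_, ?_⟩
  · rintro _ ⟨y, hy, rfl⟩
    have h5 := FrattiniPGroup.pow_mem_frattini (hX.to_subgroup H) ⟨y, hy⟩
    have h6 : (y ^ p) ∈ centralizer (H : Set X) := h2 ⟨_, h5, rfl⟩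
    exact (hcent (y ^ p)).mpr h6
  · rintro _ ⟨y, hy, rfl⟩ x hx
    have h5 := h3 (commutator_mem_commutator hy (mem_top (⟨x, hx⟩ : X)))
    exact mem_inf.mpr ⟨⟨_, h5.1, rfl⟩, (hcent _).mpr h5.2⟩
  · rintro x ⟨hx, hx'⟩
    exact ⟨⟨x, hx⟩, h4 ((hcent ⟨x, hx⟩).mp hx'), rfl⟩

/-! ### The congruence modulo `⟨z⟩` -/

/-- `u` and `v` agree modulo `z` -/
def Rz (z u v : G) : Prop := u = v ∨ u = z * v

theorem Rz.refl {z u : G} : Rz z u u := Or.inl rfl

theorem Rz.symm {z u v : G} (hz : z * z = 1) (h : Rz z u v) : Rz z v u := by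
  rcases h with rfl | rfl
  · exact Or.inl rfl
  · right; rw [← mul_assoc, hz, one_mul]

theorem Rz.trans {z u v w : G} (hz : z * z = 1) (h : Rz z u v) (h' : Rz z v w) : Rz z u w := by
  rcases h with rfl | rfl <;> rcases h' with rfl | rfl
  · exact Or.inl rfl
  · exact Or.inr rfl
  · exact Or.inr rfl
  · left; rw [← mul_assoc, hz, one_mul]

theorem Rz.mul {z u v u' v' : G} (hz : z * z = 1) (hc : z * v = v * z) (h : Rz z u v)
    (h' : Rz z u' v') : Rz z (u * u') (v * v') := by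
  rcases h with rfl | rfl <;> rcases h' with rfl | rfl
  · exact Or.inl rfl
  · right; rw [← mul_assoc, ← hc, mul_assoc]
  · right; rw [mul_assoc]
  · left
    calc z * v * (z * v') = z * (v * z) * v' := by group
      _ = (z * z) * v * v' := by rw [← hc]; group
      _ = v * v' := by rw [hz, one_mul]

theorem Rz.mul_left {z u' v' : G} (u : G) (hz : z * z = 1) (hc : z * u = u * z)
    (h' : Rz z u' v') : Rz z (u * u') (u * v') := Rz.mul hz hc Rz.refl h'

theorem Rz.mul_right {z u v : G} (u' : G) (h : Rz z u v) : Rz z (u * u') (v * u') := by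
  rcases h with rfl | rfl
  · exact Or.inl rfl
  · right; rw [mul_assoc]

theorem Rz.conj {z u v b : G} (hb : b * z * b⁻¹ = z) (h : Rz z u v) :
    Rz z (b * u * b⁻¹) (b * v * b⁻¹) := by
  rcases h with rfl | rfl
  · exact Or.inl rfl
  · right
    calc b * (z * v) * b⁻¹ = (b * z * b⁻¹) * (b * v * b⁻¹) := by group
      _ = z * (b * v * b⁻¹) := by rw [hb]

theorem Rz.inv {z u v : G} (hz : z * z = 1) (hc : z * v = v * z) (h : Rz z u v) :
    Rz z u⁻¹ v⁻¹ := by
  have hzi : z⁻¹ = z := inv_eq_of_mul_eq_one_right hz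
  rcases h with rfl | rfl
  · exact Or.inl rfl
  · right
    rw [mul_inv_rev, hzi]
    calc v⁻¹ * z = v⁻¹ * (z * v) * v⁻¹ := by group
      _ = z * v⁻¹ := by rw [hc]; group

theorem closure_sq {S : Set G} (hc : ∀ a ∈ S, ∀ b ∈ S, a * b = b * a) (hs : ∀ a ∈ S, a * a = 1) :
    ∀ x ∈ closure S, x * x = 1 := by
  have hcom := isMulCommutative_closure hc
  intro x hx
  induction hx using closure_induction with
  | mem x hx => exact hs x hx
  | one => exact one_mul 1
  | mul x y hx hy ihx ihy =>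
    have h1 : x * y = y * x := congrArg Subtype.val (hcom.is_comm.comm ⟨x, hx⟩ ⟨y, hy⟩)
    calc x * y * (x * y) = x * (y * x) * y := by group
      _ = (x * x) * (y * y) := by rw [← h1]; group
      _ = 1 := by rw [ihx, ihy, one_mul]
  | inv x _ ihx => rw [← mul_inv_rev, ihx, inv_one]

/-- Elements of `B` modulo a hyperplane. -/
theorem exists_zpow_mul {B H : Subgroup G} (hHB : H ≤ B) (hH : H.relIndex B = 3) {b : G} (hb : b ∈ B)
    (hbH : b ∉ H) (hcom : ∀ x ∈ B, ∀ y ∈ B, x * y = y * x) (hcube : b * b * b = 1) :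
    ∀ c ∈ B, ∃ h ∈ H, c = h ∨ c = b * h ∨ c = b * b * h := by
  have h1 : B ≤ H ⊔ zpowers b := by
    have h2 : H ⊔ zpowers b ≤ B := sup_le hHB (by rw [zpowers_le]; exact hb)
    have h3 := relIndex_mul_relIndex H (H ⊔ zpowers b) B le_sup_left h2
    rw [hH] at h3
    rcases (Nat.dvd_prime Nat.prime_three).mp (Dvd.intro _ h3) with h4 | h4
    · exfalso
      rw [relIndex_eq_one] at h4
      exact hbH (h4 (mem_sup_right (mem_zpowers b)))
    · rw [h4] at h3
      have h5 : (H ⊔ zpowers b).relIndex B = 1 := by omega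
      rwa [relIndex_eq_one] at h5
  intro c hc
  have h2 := h1 hc
  rw [sup_eq_closure] at h2
  induction h2 using closure_induction with
  | mem x hx =>
    rcases hx with hx | ⟨m, rfl⟩
    · exact ⟨x, hx, Or.inl rfl⟩
    · refine ⟨1, H.one_mem, ?_⟩
      have h3 : b ^ (3 : ℤ) = 1 := by
        rw [show (3 : ℤ) = 2 + 1 by norm_num, zpow_add, zpow_two, zpow_one]; exact hcube
      have h4 : (fun m : ℤ => b ^ m) m = b ^ (m % 3) := by
        show b ^ m = b ^ (m % 3)
        conv_lhs => rw [← Int.emod_add_mul_ediv m 3, zpow_add, zpow_mul, h3, one_zpow, mul_one]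
      rw [h4]
      have h5 := Int.emod_nonneg m (show (3 : ℤ) ≠ 0 by norm_num)
      have h6 := Int.emod_lt_of_pos m (show (0 : ℤ) < 3 by norm_num)
      have h7 : m % 3 = 0 ∨ m % 3 = 1 ∨ m % 3 = 2 := by omega
      rcases h7 with h7 | h7 | h7
      · left; rw [h7, zpow_zero]
      · right; left; rw [h7, zpow_one, mul_one]
      · right; right; rw [h7, zpow_two, mul_one]
  | one => exact ⟨1, H.one_mem, Or.inl rfl⟩
  | mul x y hx hy ihx ihy =>
    have hxB : x ∈ B := by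
      rw [← sup_eq_closure] at hx
      exact (sup_le hHB (by rw [zpowers_le]; exact hb)) hx
    have hyB : y ∈ B := by
      rw [← sup_eq_closure] at hy
      exact (sup_le hHB (by rw [zpowers_le]; exact hb)) hy
    obtain ⟨h, hh, ihx⟩ := ihx hxB
    obtain ⟨h', hh', ihy⟩ := ihy hyB
    refine ⟨h * h', H.mul_mem hh hh', ?_⟩
    have e1 : h * b = b * h := hcom h (hHB hh) b hb
    have e2 : ∀ w, h * (b * w) = b * (h * w) := fun w => by rw [← mul_assoc, e1, mul_assoc]
    have e3 : ∀ w, b * (b * (b * w)) = w := fun w => by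
      rw [← mul_assoc, ← mul_assoc, hcube, one_mul]
    rcases ihx with rfl | rfl | rfl <;> rcases ihy with rfl | rfl | rfl <;>
      simp only [mul_assoc, e2, e3, true_or, or_true]
  | inv x hx ihx =>
    have hxB : x ∈ B := by
      rw [← sup_eq_closure] at hx
      exact (sup_le hHB (by rw [zpowers_le]; exact hb)) hx
    obtain ⟨h, hh, ihx⟩ := ihx hxB
    refine ⟨h⁻¹, H.inv_mem hh, ?_⟩
    have e1 : h⁻¹ * b = b * h⁻¹ := hcom _ (H.inv_mem hh |> fun t => hHB t) b hb
    have e4 : b⁻¹ = b * b := inv_eq_of_mul_eq_one_left (by rw [← hcube])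
    have e5 : h⁻¹ * b⁻¹ = b * b * h⁻¹ := by
      rw [e4, ← mul_assoc, e1, mul_assoc, e1, ← mul_assoc]
    rcases ihx with rfl | rfl | rfl
    · left; rfl
    · right; right
      rw [mul_inv_rev, e5]
    · right; left
      rw [mul_inv_rev, mul_inv_rev, ← mul_assoc, e5, e4]
      have e6 : b * b * h⁻¹ * (b * b) = (b * b * b) * (b * h⁻¹) := by
        rw [mul_assoc (b * b) h⁻¹, ← mul_assoc h⁻¹, e1]
        rw [mul_assoc b h⁻¹ b, e1]
        group
      rw [e6, hcube, one_mul]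

namespace Hyp

variable {z : G} {X B : Subgroup G}

theorem cube (h : Hyp z X B) {b : G} (hb : b ∈ B) : b * b * b = 1 := by
  have := h.elem.2 b hb
  rwa [pow_succ, pow_two] at this

theorem comm (h : Hyp z X B) {a b : G} (ha : a ∈ B) (hb : b ∈ B) : a * b = b * a :=
  congrArg Subtype.val (h.elem.1.is_comm.comm ⟨a, ha⟩ ⟨b, hb⟩)

theorem B_isPGroup (h : Hyp z X B) : IsPGroup 3 B := fun a => ⟨1, by
  apply Subtype.ext
  simpa using h.elem.2 a a.2⟩

theorem zinv (h : Hyp z X B) : z⁻¹ = z := inv_eq_of_mul_eq_one_right h.zz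

theorem conj_z (h : Hyp z X B) {b : G} (hb : b ∈ B) : b * z * b⁻¹ = z := by
  rw [← h.zB b hb, mul_inv_cancel_right]

/-- the coprimality of orders of subgroups of `X` and `B` -/
theorem coprime [Finite G] (h : Hyp z X B) {A K : Subgroup G} (hA : A ≤ B) (hK : K ≤ X) :
    (Nat.card A).Coprime (Nat.card K) := by
  have h3 : Fact (Nat.Prime 3) := ⟨Nat.prime_three⟩
  have h2 : Fact (Nat.Prime 2) := ⟨Nat.prime_two⟩
  obtain ⟨n, hn⟩ := IsPGroup.iff_card.mp (h.B_isPGroup.to_le hA)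
  obtain ⟨m, hm⟩ := IsPGroup.iff_card.mp (h.two.to_le hK)
  rw [hn, hm]
  exact Nat.Coprime.pow _ _ (by norm_num)

theorem not_dvd [Finite G] (h : Hyp z X B) {K : Subgroup G} (hK : K ≤ X) : ¬ 3 ∣ Nat.card K := by
  have h2 : Fact (Nat.Prime 2) := ⟨Nat.prime_two⟩
  obtain ⟨m, hm⟩ := IsPGroup.iff_card.mp (h.two.to_le hK)
  rw [hm]
  intro h3
  have := (Nat.Prime.dvd_of_dvd_pow Nat.prime_three h3)
  omega

/-- an element of order dividing 3 cannot multiply an element by `z` -/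
theorem eq_of_conj (h : Hyp z X B) {b f : G} (hb : b ∈ B) (hf : b * f * b⁻¹ = f ∨ b * f * b⁻¹ = f * z) :
    b * f * b⁻¹ = f := by
  rcases hf with hf | hf
  · exact hf
  · exfalso
    have h0 : b * (f * z) * b⁻¹ = f := by
      calc b * (f * z) * b⁻¹ = (b * f * b⁻¹) * (b * z * b⁻¹) := by group
        _ = f := by rw [hf, h.conj_z hb, mul_assoc, h.zz, mul_one]
    have h1 : b * b * b * f * (b * b * b)⁻¹ = f * z := by
      calc b * b * b * f * (b * b * b)⁻¹ = b * (b * (b * f * b⁻¹) * b⁻¹) * b⁻¹ := by group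
        _ = f * z := by rw [hf, h0, hf]
    rw [h.cube hb, one_mul, inv_one, mul_one] at h1
    exact h.z1 (left_eq_mul.mp h1)

theorem abelian_aux [Finite G] (h : Hyp z X B) {A : Subgroup G} (hAX : A ≤ X) (hzA : z ∈ A)
    (hA : ∀ x ∈ A, ∀ y ∈ A, x * y = y * x) (hBA : B ≤ normalizer (A : Set G)) :
    A ≤ centralizer (B : Set G) ∧ ∀ x ∈ A, x * x = 1 → x = 1 ∨ x = z := by
  have h3 : Fact (Nat.Prime 3) := ⟨Nat.prime_three⟩
  have h2 : Fact (Nat.Prime 2) := ⟨Nat.prime_two⟩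
  let E : Subgroup G :=
    { carrier := {a | a ∈ A ∧ a * a = 1}
      one_mem' := ⟨A.one_mem, one_mul 1⟩
      mul_mem' := by
        rintro a b ⟨ha, ha'⟩ ⟨hb, hb'⟩
        refine ⟨A.mul_mem ha hb, ?_⟩
        calc a * b * (a * b) = a * (b * a) * b := by group
          _ = a * (a * b) * b := by rw [hA a ha b hb]
          _ = (a * a) * (b * b) := by group
          _ = 1 := by rw [ha', hb', one_mul]
      inv_mem' := by
        rintro a ⟨ha, ha'⟩
        refine ⟨A.inv_mem ha, ?_⟩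
        rw [← mul_inv_rev, ha', inv_one] }
  have hEmem : ∀ a, a ∈ E ↔ a ∈ A ∧ a * a = 1 := fun a => Iff.rfl
  have hEA : E ≤ A := fun a ha => ha.1
  have hzE : z ∈ E := ⟨hzA, h.zz⟩
  have hBE : B ≤ normalizer (E : Set G) := by
    have hle : ∀ b ∈ B, ∀ x ∈ E, b * x * b⁻¹ ∈ E := by
      rintro b hb x ⟨hx, hx'⟩
      refine ⟨(mem_normalizer_iff.mp (hBA hb) x).mp hx, ?_⟩
      calc b * x * b⁻¹ * (b * x * b⁻¹) = b * (x * x) * b⁻¹ := by group
        _ = 1 := by rw [hx']; group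
    intro b hb
    rw [mem_normalizer_iff]
    intro x
    refine ⟨hle b hb x, fun hx => ?_⟩
    have := hle b⁻¹ (B.inv_mem hb) _ hx
    simpa [mul_assoc] using this
  -- the fixed points of hyperplanes
  have claim1 : ∀ H ≤ B, H.relIndex B = 3 → E ⊓ centralizer (H : Set G) ≤ centralizer (B : Set G) := by
    intro H hH hH3 f hf
    set F := E ⊓ centralizer (H : Set G) with hFdef
    have hF4 : Nat.card F ≤ 4 := by
      refine h.rank2 H hH hH3 F (inf_le_inf_right _ (hEA.trans hAX)) (elementary_of_sq fun x hx => hx.1.2)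
    have hzF : z ∈ F := ⟨hzE, mem_centralizer_iff.mpr fun b hb => (h.zB b (hH hb)).symm⟩
    rw [mem_centralizer_iff]
    intro b hb
    have hg : b * f * b⁻¹ ∈ F := by
      refine mem_inf.mpr ⟨(mem_normalizer_iff.mp (hBE hb) f).mp hf.1, ?_⟩
      rw [mem_centralizer_iff]
      intro c hc
      have h4 := mem_centralizer_iff.mp hf.2 c hc
      have h5 := h.comm hb (hH hc)
      calc c * (b * f * b⁻¹) = (c * b) * f * b⁻¹ := by group
        _ = b * (c * f) * b⁻¹ := by rw [← h5]; group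
        _ = b * f * (b⁻¹ * (b * c) * b⁻¹) := by rw [h4]; group
        _ = b * f * b⁻¹ * c := by rw [h5]; group
    have hconj : b * f * b⁻¹ = f := by
      by_cases hf1 : f = 1
      · rw [hf1]; group
      by_cases hfz : f = z
      · rw [hfz]; exact h.conj_z hb
      have hfz' : f * z ≠ 1 := fun h6 => hfz (by
        have := eq_inv_of_mul_eq_one_left h6
        rwa [h.zinv] at this)
      rcases mem_of_card_le_four hF4 hzF hf h.z1 hf1 hfz hfz' hg with h6 | h6 | h6 | h6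
      · exfalso
        apply hf1
        have : b * f = b := by rw [mul_inv_eq_one] at h6; exact h6
        exact mul_eq_left.mp this
      · exfalso
        apply hfz
        have h7 : f = b⁻¹ * z * b := by rw [← h6]; group
        rw [h7, mul_assoc, h.zB b hb, ← mul_assoc, inv_mul_cancel, one_mul]
      · exact h6
      · exact h.eq_of_conj hb (Or.inr h6)
    rw [mul_inv_eq_iff_eq_mul] at hconj
    exact hconj
  have claim2 : E ≤ centralizer (B : Set G) := by
    rw [← CoprimeHyperplane.iSup_centralizer_hyperplane h.elem h.Bne (h.not_dvd (hEA.trans hAX)) hBE]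
    exact iSup_le fun H => claim1 H.1 H.2.1 H.2.2
  have claim3 : ∀ x ∈ A, x * x = 1 → x = 1 ∨ x = z := by
    intro x hx hxx
    have h4 : Nat.card E ≤ 2 :=
      h.rank1 E (le_inf (hEA.trans hAX) claim2) (elementary_of_sq fun x hx => hx.2)
    have h5 : ({1, z} : Set G) ⊆ E := by
      rintro y (rfl | rfl)
      · exact E.one_mem
      · exact hzE
    have h6 : ({1, z} : Set G) = E := by
      refine Set.eq_of_subset_of_ncard_le h5 ?_ (Set.toFinite _)
      rw [Set.ncard_pair h.z1.symm]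
      exact h4
    have h7 : x ∈ ({1, z} : Set G) := by
      rw [h6]; exact ⟨hx, hxx⟩
    simpa using h7
  refine ⟨?_, claim3⟩
  have h4 := CoprimeAbelian.inf_commutator_eq_bot B A hA hBA (h.coprime le_rfl hAX)
  have h5 : ⁅A, B⁆ = (⊥ : Subgroup G) := by
    by_contra hne
    have h6 : ⁅A, B⁆ ≤ A := CoprimeCommutator.commutator_le_left hBA
    have h7 : IsPGroup 2 (⁅A, B⁆ : Subgroup G) := h.two.to_le (h6.trans hAX)
    have h8 : Nontrivial (⁅A, B⁆ : Subgroup G) := (nontrivial_iff_ne_bot _).mpr hne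
    have h9 : 2 ∣ Nat.card (⁅A, B⁆ : Subgroup G) := by
      obtain ⟨n, hn⟩ := IsPGroup.iff_card.mp h7
      rw [hn]
      refine dvd_pow_self 2 ?_
      rintro rfl
      rw [pow_zero] at hn
      exact (Finite.one_lt_card (α := (⁅A, B⁆ : Subgroup G))).ne' hn
    obtain ⟨u, hu⟩ := exists_prime_orderOf_dvd_card' 2 h9
    have hu1 : (u : G) ≠ 1 := by
      intro h10
      have : u = 1 := Subtype.ext h10
      rw [this, orderOf_one] at hu
      norm_num at hu
    have hu2 : (u : G) * u = 1 := by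
      have h10 : u * u = 1 := by rw [← pow_two, ← hu, pow_orderOf_eq_one]
      exact congrArg Subtype.val h10
    have hu3 := (claim3 u (h6 u.2) hu2).resolve_left hu1
    have h10 : z ∈ (A ⊓ centralizer (B : Set G)) ⊓ ⁅A, B⁆ := by
      refine mem_inf.mpr ⟨mem_inf.mpr ⟨hzA, claim2 hzE⟩, ?_⟩
      rw [← hu3]
      exact u.2
    rw [h4, mem_bot] at h10
    exact h.z1 h10
  rwa [commutator_eq_bot_iff_le_centralizer] at h5

/-- The properties of the critical subgroup used below. -/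
structure Crit (z : G) (X B Y : Subgroup G) : Prop where
  YX : Y ≤ X
  BY : B ≤ normalizer (Y : Set G)
  XY : X ≤ normalizer (Y : Set G)
  zY : z ∈ Y
  sq : ∀ y ∈ Y, y * y ∈ Y ⊓ centralizer (Y : Set G)
  comm : ∀ y ∈ Y, ∀ x ∈ X, ⁅y, x⁆ ∈ Y ⊓ centralizer (Y : Set G)
  cent : X ⊓ centralizer (Y : Set G) ≤ Y
  ZB : Y ⊓ centralizer (Y : Set G) ≤ centralizer (B : Set G)
  Zinv : ∀ x ∈ Y ⊓ centralizer (Y : Set G), x * x = 1 → x = 1 ∨ x = z

theorem exists_crit [Finite G] (h : Hyp z X B) : ∃ Y, Crit z X B Y := by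
  have h2 : Fact (Nat.Prime 2) := ⟨Nat.prime_two⟩
  obtain ⟨Y, h1, h2, h3, h4, h5⟩ := exists_critical h.two
  have hzY : z ∈ Y := h5 (mem_inf.mpr ⟨h.zX, mem_centralizer_iff.mpr fun y hy =>
    (h.zc y (h1 hy)).symm⟩)
  have hBY := h.BX.trans h2
  have hBZ : B ≤ normalizer ((Y ⊓ centralizer (Y : Set G) : Subgroup G) : Set G) := by
    have hle : ∀ b ∈ B, ∀ x ∈ Y ⊓ centralizer (Y : Set G),
        b * x * b⁻¹ ∈ Y ⊓ centralizer (Y : Set G) := by
      rintro b hb x hx
      refine mem_inf.mpr ⟨(mem_normalizer_iff.mp (hBY hb) x).mp hx.1, ?_⟩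
      rw [mem_centralizer_iff]
      intro y hy
      have h6 : b⁻¹ * y * b ∈ Y := by
        have := (mem_normalizer_iff.mp (hBY (inv_mem hb)) y).mp hy
        simpa using this
      have h7 := mem_centralizer_iff.mp (mem_inf.mp hx).2 _ h6
      calc y * (b * x * b⁻¹) = b * ((b⁻¹ * y * b) * x) * b⁻¹ := by group
        _ = b * (x * (b⁻¹ * y * b)) * b⁻¹ := by rw [h7]
        _ = b * x * b⁻¹ * y := by group
    intro b hb
    rw [mem_normalizer_iff]
    intro x
    refine ⟨hle b hb x, fun hx => ?_⟩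
    have := hle b⁻¹ (B.inv_mem hb) _ hx
    simpa [mul_assoc] using this
  have h6 := h.abelian_aux (A := Y ⊓ centralizer (Y : Set G)) (inf_le_left.trans h1)
    (mem_inf.mpr ⟨hzY, mem_centralizer_iff.mpr fun y hy => (h.zc y (h1 hy)).symm⟩)
    (fun x hx y hy => (mem_centralizer_iff.mp (mem_inf.mp hx).2 y (mem_inf.mp hy).1).symm) hBZ
  refine ⟨Y, h1, hBY, (le_normalizer (H := X)).trans h2, hzY, fun y hy => ?_, h4, h5, h6.1, h6.2⟩
  refine mem_inf.mpr ⟨Y.mul_mem hy hy, ?_⟩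
  have := h3 y hy
  rwa [pow_two] at this

/-! ### Commutators -/

theorem comm_gen (_h : Hyp z X B) {Y : Subgroup G} (c : Crit z X B Y) {y x : G} (hy : y ∈ Y)
    (hx : x ∈ X) (hyx : y * y * x = x * (y * y)) : Rz z (y * x) (x * y) := by
  have h1 := c.comm y hy x hx
  have e0 : y * x = ⁅y, x⁆ * (x * y) := by rw [commutatorElement_def]; group
  have e3 : y * ⁅y, x⁆ = ⁅y, x⁆ * y := mem_centralizer_iff.mp (mem_inf.mp h1).2 y hy
  have hw2 : ⁅y, x⁆ * ⁅y, x⁆ = 1 := by
    have e4 : y * y * x = ⁅y, x⁆ * ⁅y, x⁆ * (x * (y * y)) := by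
      calc y * y * x = y * (y * x) := by group
        _ = (y * ⁅y, x⁆) * (x * y) := by rw [e0]; group
        _ = ⁅y, x⁆ * (y * x) * y := by rw [e3]; group
        _ = ⁅y, x⁆ * (⁅y, x⁆ * (x * y)) * y := by rw [← e0]
        _ = ⁅y, x⁆ * ⁅y, x⁆ * (x * (y * y)) := by group
    rw [hyx] at e4
    exact (right_eq_mul.mp e4)
  rcases c.Zinv _ h1 hw2 with h3 | h3
  · left; rw [e0, h3, one_mul]
  · right; rw [e0, h3]

theorem comm_Y (h : Hyp z X B) {Y : Subgroup G} (c : Crit z X B Y) {u v : G} (hu : u ∈ Y)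
    (hv : v ∈ Y) : Rz z (u * v) (v * u) :=
  h.comm_gen c hu (c.YX hv) (mem_centralizer_iff.mp (mem_inf.mp (c.sq u hu)).2 v hv).symm

theorem comm_X (h : Hyp z X B) {Y : Subgroup G} (c : Crit z X B Y) {y x : G} (hy : y ∈ Y)
    (hx : x ∈ X) (hyy : y * y = 1 ∨ y * y = z) : Rz z (y * x) (x * y) := by
  refine h.comm_gen c hy hx ?_
  rcases hyy with hyy | hyy
  · rw [hyy, one_mul, mul_one]
  · rw [hyy, h.zc x hx]

theorem B_normalizes_yh (h : Hyp z X B) {Y : Subgroup G} (c : Crit z X B Y) {H : Subgroup G}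
    (hHB : H ≤ B) : B ≤ normalizer ((Y ⊓ centralizer (H : Set G) : Subgroup G) : Set G) := by
  have hle : ∀ b ∈ B, ∀ x ∈ Y ⊓ centralizer (H : Set G),
      b * x * b⁻¹ ∈ Y ⊓ centralizer (H : Set G) := by
    rintro b hb x hx
    refine mem_inf.mpr ⟨(mem_normalizer_iff.mp (c.BY hb) x).mp hx.1, ?_⟩
    rw [mem_centralizer_iff]
    intro a ha
    have h5 := h.comm hb (hHB ha)
    have h4 := mem_centralizer_iff.mp (mem_inf.mp hx).2 a ha
    calc a * (b * x * b⁻¹) = (a * b) * x * b⁻¹ := by group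
      _ = b * (a * x) * b⁻¹ := by rw [← h5]; group
      _ = b * x * (b⁻¹ * (b * a) * b⁻¹) := by rw [h4]; group
      _ = b * x * b⁻¹ * a := by rw [h5]; group
  intro b hb
  rw [mem_normalizer_iff]
  intro x
  refine ⟨hle b hb x, fun hx => ?_⟩
  have := hle b⁻¹ (B.inv_mem hb) _ hx
  simpa [mul_assoc] using this

/-- `K_H = [C_Y(H), B]` -/
def kh (B Y H : Subgroup G) : Subgroup G := ⁅Y ⊓ centralizer (H : Set G), B⁆

theorem kh_le_yh (h : Hyp z X B) {Y : Subgroup G} (c : Crit z X B Y) {H : Subgroup G}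
    (hHB : H ≤ B) : kh B Y H ≤ Y ⊓ centralizer (H : Set G) :=
  CoprimeCommutator.commutator_le_left (h.B_normalizes_yh c hHB)

theorem B_normalizes_kh {Y : Subgroup G} {H : Subgroup G} :
    B ≤ normalizer ((kh B Y H : Subgroup G) : Set G) :=
  CoprimeCommutator.right_le_normalizer_commutator _ _

/-- `x · x^b · x^{b²} ∈ ⟨z⟩` for `x ∈ K_H`, `b ∈ B`. -/
theorem norm_kh (h : Hyp z X B) {Y : Subgroup G} (c : Crit z X B Y) {H : Subgroup G}
    (hHB : H ≤ B) (hH3 : H.relIndex B = 3) {b : G} (hb : b ∈ B) (hbH : b ∉ H) {x : G}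
    (hx : x ∈ kh B Y H) :
    Rz z (x * (b * x * b⁻¹) * (b * (b * x * b⁻¹) * b⁻¹)) 1 := by
  have hn := h.B_normalizes_yh c hHB
  have hcon : ∀ x ∈ Y ⊓ centralizer (H : Set G), b * x * b⁻¹ ∈ Y ⊓ centralizer (H : Set G) :=
    fun x hx => (mem_normalizer_iff.mp (hn hb) x).mp hx
  have hzY : ∀ y ∈ Y, z * y = y * z := fun y hy => h.zc y (c.YX hy)
  -- the set of all such elements
  have key : ∀ x y : G, x ∈ Y ⊓ centralizer (H : Set G) → y ∈ Y ⊓ centralizer (H : Set G) →
      Rz z (x * y * (b * (x * y) * b⁻¹) * (b * (b * (x * y) * b⁻¹) * b⁻¹))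
        ((x * (b * x * b⁻¹) * (b * (b * x * b⁻¹) * b⁻¹)) *
          (y * (b * y * b⁻¹) * (b * (b * y * b⁻¹) * b⁻¹))) := by
    intro x y hx hy
    have hx1 := hcon x hx
    have hx2 := hcon _ hx1
    have hy1 := hcon y hy
    have hy2 := hcon _ hy1
    set x1 := b * x * b⁻¹ with hx1d
    set x2 := b * x1 * b⁻¹ with hx2d
    set y1 := b * y * b⁻¹ with hy1d
    set y2 := b * y1 * b⁻¹ with hy2d
    have e1 : b * (x * y) * b⁻¹ = x1 * y1 := by rw [hx1d, hy1d]; group
    have e2 : b * (x1 * y1) * b⁻¹ = x2 * y2 := by rw [hx2d, hy2d]; group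
    rw [e1, e2]
    have s1 : Rz z (x * (y * x1) * (y1 * (x2 * y2))) (x * (x1 * y) * (y1 * (x2 * y2))) :=
      Rz.mul_right _ (Rz.mul_left x h.zz (hzY x hx.1) (h.comm_Y c hy.1 hx1.1))
    have s2 : Rz z (x * x1 * ((y * y1) * x2) * y2) (x * x1 * (x2 * (y * y1)) * y2) :=
      Rz.mul_right _ (Rz.mul_left (x * x1) h.zz (hzY _ (Y.mul_mem hx.1 hx1.1))
        (h.comm_Y c (Y.mul_mem hy.1 hy1.1) hx2.1))
    have e3 : x * y * (x1 * y1) * (x2 * y2) = x * (y * x1) * (y1 * (x2 * y2)) := by group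
    have e4 : x * (x1 * y) * (y1 * (x2 * y2)) = x * x1 * ((y * y1) * x2) * y2 := by group
    have e5 : x * x1 * (x2 * (y * y1)) * y2 = x * x1 * x2 * (y * y1 * y2) := by group
    rw [e3]
    rw [e4] at s1
    rw [e5] at s2
    exact s1.trans h.zz s2
  let T : Subgroup G :=
    { carrier := {x | x ∈ Y ⊓ centralizer (H : Set G) ∧
        Rz z (x * (b * x * b⁻¹) * (b * (b * x * b⁻¹) * b⁻¹)) 1}
      one_mem' := ⟨one_mem _, by simpa using Rz.refl⟩
      mul_mem' := by
        rintro x y ⟨hx, hx'⟩ ⟨hy, hy'⟩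
        refine ⟨mul_mem hx hy, ?_⟩
        have h1 := Rz.mul h.zz (by rw [mul_one, one_mul]) hx' hy'
        rw [one_mul] at h1
        exact (key x y hx hy).trans h.zz h1
      inv_mem' := by
        rintro x ⟨hx, hx'⟩
        refine ⟨inv_mem hx, ?_⟩
        have h1 := key x x⁻¹ hx (inv_mem hx)
        have e1 : x * x⁻¹ * (b * (x * x⁻¹) * b⁻¹) * (b * (b * (x * x⁻¹) * b⁻¹) * b⁻¹) = 1 := by
          rw [mul_inv_cancel]; group
        rw [e1] at h1
        have h2 : Rz z ((x * (b * x * b⁻¹) * (b * (b * x * b⁻¹) * b⁻¹)) *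
          (x⁻¹ * (b * x⁻¹ * b⁻¹) * (b * (b * x⁻¹ * b⁻¹) * b⁻¹)))
          (1 * (x⁻¹ * (b * x⁻¹ * b⁻¹) * (b * (b * x⁻¹ * b⁻¹) * b⁻¹))) := Rz.mul_right _ hx'
        rw [one_mul] at h2
        exact ((h1.trans h.zz h2).symm h.zz) }
  have hT : kh B Y H ≤ T := by
    rw [kh, commutator_le]
    intro y hy a ha
    obtain ⟨e, he, hae⟩ := exists_zpow_mul hHB hH3 hb hbH (fun x hx y hy => h.comm hx hy) (h.cube hb) a ha
    -- `e` centralises `y⁻¹`
    have hey : e * y⁻¹ * e⁻¹ = y⁻¹ := by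
      have := mem_centralizer_iff.mp (mem_inf.mp (inv_mem hy)).2 e he
      rw [this, mul_inv_cancel_right]
    have hbi : b⁻¹ = b * b := inv_eq_of_mul_eq_one_left (by rw [← h.cube hb])
    have hb3 : ∀ w : G, b * (b * (b * w * b⁻¹) * b⁻¹) * b⁻¹ = w := by
      intro w
      calc b * (b * (b * w * b⁻¹) * b⁻¹) * b⁻¹ = (b * b * b) * w * (b * b * b)⁻¹ := by group
        _ = w := by rw [h.cube hb]; group
    have hy1 := hcon y hy
    have hy2 := hcon _ hy1
    rcases hae with rfl | rfl | rfl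
    · have e1 : ⁅y, a⁆ = 1 := by
        rw [commutatorElement_def, mul_assoc y a, mul_assoc y, hey, mul_inv_cancel]
      rw [e1]
      exact one_mem _
    · have e1 : ⁅y, b * e⁆ = y * (b * y⁻¹ * b⁻¹) := by
        calc ⁅y, b * e⁆ = y * (b * (e * y⁻¹ * e⁻¹) * b⁻¹) := by rw [commutatorElement_def]; group
          _ = y * (b * y⁻¹ * b⁻¹) := by rw [hey]
      rw [e1]
      refine ⟨mul_mem hy (hcon _ (inv_mem hy)), Or.inl ?_⟩
      calc y * (b * y⁻¹ * b⁻¹) * (b * (y * (b * y⁻¹ * b⁻¹)) * b⁻¹) *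
            (b * (b * (y * (b * y⁻¹ * b⁻¹)) * b⁻¹) * b⁻¹)
          = y * (b * (b * (b * y⁻¹ * b⁻¹) * b⁻¹) * b⁻¹) := by group
        _ = 1 := by rw [hb3, mul_inv_cancel]
    · have e1 : ⁅y, b * b * e⁆ = y * (b * (b * y⁻¹ * b⁻¹) * b⁻¹) := by
        calc ⁅y, b * b * e⁆ = y * (b * (b * (e * y⁻¹ * e⁻¹) * b⁻¹) * b⁻¹) := by
              rw [commutatorElement_def]; group
          _ = _ := by rw [hey]
      rw [e1]
      refine ⟨mul_mem hy (hcon _ (hcon _ (inv_mem hy))), ?_⟩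
      -- `y y₂⁻¹ y₁ y⁻¹ y₂ y₁⁻¹`
      set y1 := b * y * b⁻¹ with hy1d
      set y2 := b * y1 * b⁻¹ with hy2d
      have e2 : b * (b * y⁻¹ * b⁻¹) * b⁻¹ = y2⁻¹ := by
        rw [hy2d, hy1d]; simp only [mul_inv_rev, inv_inv, mul_assoc]
      have e3 : b * (y * y2⁻¹) * b⁻¹ = y1 * y⁻¹ := by
        have := hb3 y
        rw [← hy1d, ← hy2d] at this
        calc b * (y * y2⁻¹) * b⁻¹ = y1 * (b * y2 * b⁻¹)⁻¹ := by rw [hy1d]; group
          _ = y1 * y⁻¹ := by rw [this]
      have e4 : b * (y1 * y⁻¹) * b⁻¹ = y2 * y1⁻¹ := by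
        rw [hy2d, hy1d]; group
      rw [e2, e3, e4]
      have s1 : Rz z (y * (y2⁻¹ * (y1 * y⁻¹)) * (y2 * y1⁻¹)) (y * ((y1 * y⁻¹) * y2⁻¹) * (y2 * y1⁻¹)) :=
        Rz.mul_right _ (Rz.mul_left y h.zz (hzY y hy.1)
          (h.comm_Y c (inv_mem hy2.1) (mul_mem hy1.1 (inv_mem hy.1))))
      have s2 : Rz z (y * (y1 * y⁻¹) * y1⁻¹) (y * (y⁻¹ * y1) * y1⁻¹) :=
        Rz.mul_right _ (Rz.mul_left y h.zz (hzY y hy.1) (h.comm_Y c hy1.1 (inv_mem hy.1)))
      have e5 : y * y2⁻¹ * (y1 * y⁻¹) * (y2 * y1⁻¹) = y * (y2⁻¹ * (y1 * y⁻¹)) * (y2 * y1⁻¹) := by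
        group
      have e6 : y * ((y1 * y⁻¹) * y2⁻¹) * (y2 * y1⁻¹) = y * (y1 * y⁻¹) * y1⁻¹ := by group
      have e7 : y * (y⁻¹ * y1) * y1⁻¹ = 1 := by group
      rw [e5]
      rw [e6] at s1
      rw [e7] at s2
      exact s1.trans h.zz s2
  exact (hT hx).2


theorem mul_z_cases {z x : G} (hx : x * x * x = 1 ∨ x * x * x = z)
    (hxx : x * x = 1) : x = 1 ∨ x = z := by
  rwa [hxx, one_mul] at hx

/-- (F3) -/
theorem kh_inf_centralizer [Finite G] (h : Hyp z X B) {Y : Subgroup G} (c : Crit z X B Y)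
    {H : Subgroup G} (hHB : H ≤ B) (hH3 : H.relIndex B = 3) {x : G} (hx : x ∈ kh B Y H)
    (hxB : x ∈ centralizer (B : Set G)) : x = 1 ∨ x = z := by
  obtain ⟨b, hb, hbH⟩ : ∃ b ∈ B, b ∉ H := by
    by_contra hno
    push Not at hno
    rw [relIndex_eq_one.mpr hno] at hH3
    omega
  have h1 := h.norm_kh c hHB hH3 hb hbH hx
  have h2 : b * x * b⁻¹ = x := by
    rw [mem_centralizer_iff.mp hxB b hb, mul_inv_cancel_right]
  rw [h2, h2] at h1
  have h3 : x * x * x = 1 ∨ x * x * x = z := by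
    rcases h1 with h1 | h1
    · exact Or.inl h1
    · right; rw [h1, mul_one]
  have hxX : x ∈ X := c.YX (h.kh_le_yh c hHB hx).1
  -- the order of `x` is a power of 2
  obtain ⟨n, hn⟩ := h.two ⟨x, hxX⟩
  have hn' : x ^ 2 ^ n = 1 := congrArg Subtype.val hn
  have h6 : x ^ 6 = 1 := by
    have e : x ^ 6 = (x * x * x) * (x * x * x) := by simp only [pow_succ, pow_zero, one_mul, mul_assoc]
    rw [e]
    rcases h3 with h3 | h3 <;> rw [h3]
    · exact one_mul 1
    · exact h.zz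
  have h7 : orderOf x ∣ 2 := by
    have h8 : orderOf x ∣ 2 ^ n := orderOf_dvd_of_pow_eq_one hn'
    have h9 : orderOf x ∣ 2 * 3 := orderOf_dvd_of_pow_eq_one h6
    exact Nat.Coprime.dvd_of_dvd_mul_right (Nat.Coprime.coprime_dvd_left h8
      (Nat.Coprime.pow_left n (by norm_num))) h9
  have h8 : x * x = 1 := by
    rw [← pow_two]; exact orderOf_dvd_iff_pow_eq_one.mp h7
  exact mul_z_cases h3 h8

/-- (F4) -/
theorem kh_sq [Finite G] (h : Hyp z X B) {Y : Subgroup G} (c : Crit z X B Y)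
    {H : Subgroup G} (hHB : H ≤ B) (hH3 : H.relIndex B = 3) {x : G} (hx : x ∈ kh B Y H) :
    x * x = 1 ∨ x * x = z :=
  h.kh_inf_centralizer c hHB hH3 (mul_mem hx hx) (c.ZB (c.sq x (h.kh_le_yh c hHB hx).1))

theorem inv_of_sq {x : G} (hx : x * x = 1) : x⁻¹ = x := inv_eq_of_mul_eq_one_right hx

theorem mem_centralizer_B (h : Hyp z X B) {H : Subgroup G} (hHB : H ≤ B)
    (hH3 : H.relIndex B = 3) {b : G} (hb : b ∈ B) (hbH : b ∉ H) {x : G}
    (hx : x ∈ centralizer (H : Set G)) (hbx : b * x * b⁻¹ = x) : x ∈ centralizer (B : Set G) := by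
  rw [mem_centralizer_iff]
  intro a ha
  obtain ⟨e, he, hae⟩ := exists_zpow_mul hHB hH3 hb hbH (fun x hx y hy => h.comm hx hy) (h.cube hb) a ha
  have h1 := mem_centralizer_iff.mp hx e he
  have h2 : b * x = x * b := mul_inv_eq_iff_eq_mul.mp hbx
  rcases hae with rfl | rfl | rfl
  · exact h1
  · rw [mul_assoc, h1, ← mul_assoc, h2, mul_assoc]
  · rw [mul_assoc, h1, ← mul_assoc, mul_assoc b, h2, ← mul_assoc, h2]
    group

/-- (F5) -/
theorem kh_involution [Finite G] (h : Hyp z X B) {Y : Subgroup G} (c : Crit z X B Y)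
    {H : Subgroup G} (hHB : H ≤ B) (hH3 : H.relIndex B = 3) {x : G} (hx : x ∈ kh B Y H)
    (hxx : x * x = 1) : x = 1 ∨ x = z := by
  obtain ⟨b, hb, hbH⟩ : ∃ b ∈ B, b ∉ H := by
    by_contra hno
    push Not at hno
    rw [relIndex_eq_one.mpr hno] at hH3
    omega
  by_contra hne
  push Not at hne
  obtain ⟨hx1, hxz⟩ := hne
  have hN := h.norm_kh c hHB hH3 hb hbH hx
  have hK := h.kh_le_yh c hHB
  have hB : B ≤ normalizer ((kh B Y H : Subgroup G) : Set G) := B_normalizes_kh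
  set x1 := b * x * b⁻¹ with hx1d
  set x2 := b * x1 * b⁻¹ with hx2d
  have hx1K : x1 ∈ kh B Y H := (mem_normalizer_iff.mp (hB hb) x).mp hx
  have hx2K : x2 ∈ kh B Y H := (mem_normalizer_iff.mp (hB hb) x1).mp hx1K
  have hx11 : x1 * x1 = 1 := by
    calc x1 * x1 = b * (x * x) * b⁻¹ := by rw [hx1d]; group
      _ = 1 := by rw [hxx]; group
  have hx22 : x2 * x2 = 1 := by
    calc x2 * x2 = b * (x1 * x1) * b⁻¹ := by rw [hx2d]; group
      _ = 1 := by rw [hx11]; group
  have hxX : ∀ y ∈ kh B Y H, y ∈ X := fun y hy => c.YX (hK hy).1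
  have h12 : (x * x1) * (x * x1) = 1 := by
    have h1 : Rz z (x * x1) x2 := by
      have := Rz.mul_right x2 hN
      rwa [one_mul, mul_assoc (x * x1) x2 x2, hx22, mul_one] at this
    rcases h1 with h1 | h1
    · rw [h1, hx22]
    · rw [h1]
      calc z * x2 * (z * x2) = z * (x2 * z) * x2 := by group
        _ = (z * z) * (x2 * x2) := by rw [← h.zc x2 (hxX _ hx2K)]; group
        _ = 1 := by rw [h.zz, hx22, one_mul]
  have hcomm : x * x1 = x1 * x := by
    have h1 := inv_of_sq h12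
    rw [mul_inv_rev, inv_of_sq hxx, inv_of_sq hx11] at h1
    exact h1.symm
  set S : Set G := {z, x, x1} with hS
  have hScomm : ∀ a ∈ S, ∀ b ∈ S, a * b = b * a := by
    have e1 := h.zc x (hxX _ hx)
    have e2 := h.zc x1 (hxX _ hx1K)
    rintro a (rfl | rfl | rfl) b (rfl | rfl | rfl)
    · rfl
    · exact e1
    · exact e2
    · exact e1.symm
    · rfl
    · exact hcomm
    · exact e2.symm
    · exact hcomm.symm
    · rfl
  have hSsq : ∀ a ∈ S, a * a = 1 := by
    rintro a (rfl | rfl | rfl)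
    · exact h.zz
    · exact hxx
    · exact hx11
  have hE := closure_sq hScomm hSsq
  have hzS : z ∈ S := by simp [hS]
  have hxS : x ∈ S := by simp [hS]
  have hx1S : x1 ∈ S := by simp [hS]
  have hSle : closure S ≤ X ⊓ centralizer (H : Set G) := by
    rw [closure_le]
    rintro a (rfl | rfl | rfl)
    · exact mem_inf.mpr ⟨h.zX, mem_centralizer_iff.mpr fun e he => (h.zB e (hHB he)).symm⟩
    · exact mem_inf.mpr ⟨hxX _ hx, (mem_inf.mp (hK hx)).2⟩
    · exact mem_inf.mpr ⟨hxX _ hx1K, (mem_inf.mp (hK hx1K)).2⟩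
  have h4 := h.rank2 H hHB hH3 (closure S) hSle (elementary_of_sq hE)
  have hxz' : x * z ≠ 1 := fun h6 => hxz (by
    have := eq_inv_of_mul_eq_one_left h6
    rwa [h.zinv] at this)
  have hcent : b * x * b⁻¹ = x → False := fun h6 => by
    rcases h.kh_inf_centralizer c hHB hH3 hx
      (h.mem_centralizer_B hHB hH3 hb hbH (mem_inf.mp (hK hx)).2 h6) with h7 | h7
    · exact hx1 h7
    · exact hxz h7
  rcases mem_of_card_le_four h4 (subset_closure hzS) (subset_closure hxS) h.z1 hx1 hxz hxz'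
    (subset_closure hx1S) with h6 | h6 | h6 | h6
  · apply hx1
    have h7 : b * x = b := by rw [hx1d, mul_inv_eq_one] at h6; exact h6
    exact mul_eq_left.mp h7
  · apply hxz
    have h7 : x = b⁻¹ * z * b := by rw [← h6, hx1d]; group
    rw [h7, mul_assoc, h.zB b hb, ← mul_assoc, inv_mul_cancel, one_mul]
  · exact hcent (h.eq_of_conj hb (Or.inl h6))
  · exact hcent (h.eq_of_conj hb (Or.inr h6))

/-- (F6) -/
theorem kh_anticomm [Finite G] (h : Hyp z X B) {Y : Subgroup G} (c : Crit z X B Y)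
    {H : Subgroup G} (hHB : H ≤ B) (hH3 : H.relIndex B = 3) {x y : G} (hx : x ∈ kh B Y H)
    (hy : y ∈ kh B Y H) (hx1 : ¬ (x = 1 ∨ x = z)) (hy1 : ¬ (y = 1 ∨ y = z))
    (hxy : ¬ (x * y = 1 ∨ x * y = z)) : x * y = z * (y * x) := by
  have e1 := (h.kh_sq c hHB hH3 hx).resolve_left fun e => hx1 (h.kh_involution c hHB hH3 hx e)
  have e2 := (h.kh_sq c hHB hH3 hy).resolve_left fun e => hy1 (h.kh_involution c hHB hH3 hy e)
  have e3 := (h.kh_sq c hHB hH3 (mul_mem hx hy)).resolve_left fun e =>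
    hxy (h.kh_involution c hHB hH3 (mul_mem hx hy) e)
  have hK := h.kh_le_yh c hHB
  rcases h.comm_Y c (mem_inf.mp (hK hx)).1 (mem_inf.mp (hK hy)).1 with e4 | e4
  · exfalso
    apply h.z1
    rw [← e3]
    calc x * y * (x * y) = x * (y * x) * y := by group
      _ = (x * x) * (y * y) := by rw [← e4]; group
      _ = 1 := by rw [e1, e2, h.zz]
  · exact e4


/-- `u` lies in `⟨z⟩` -/
def Tr (z u : G) : Prop := u = 1 ∨ u = z

theorem rz_of_tr {z u w : G} (hz : z * z = 1) (hu : u * u = z)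
    (h : Tr z (u * w)) : Rz z w u := by
  rcases h with h | h
  · right
    have h1 : w = u⁻¹ := eq_inv_of_mul_eq_one_right h
    rw [h1, eq_comm, eq_inv_iff_mul_eq_one, mul_assoc, hu, hz]
  · left
    rw [← hu] at h
    exact mul_left_cancel h

/-- A pair of generators of a quaternion group of order 8 with centre `⟨z⟩`. -/
structure Pair (z : G) (K : Subgroup G) (x y : G) : Prop where
  xK : x ∈ K
  yK : y ∈ K
  xx : x * x = z
  yy : y * y = z
  xy : x * y = z * (y * x)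
  gen : ∀ w ∈ K, Rz z w 1 ∨ Rz z w x ∨ Rz z w y ∨ Rz z w (x * y)

/-- (F7), (F8) -/
theorem exists_pair [Finite G] (h : Hyp z X B) {Y : Subgroup G} (c : Crit z X B Y)
    {H : Subgroup G} (hHB : H ≤ B) (hH3 : H.relIndex B = 3)
    (hne : ¬ Y ⊓ centralizer (H : Set G) ≤ centralizer (B : Set G)) :
    ∃ x y, Pair z (kh B Y H) x y := by
  obtain ⟨b, hb, hbH⟩ : ∃ b ∈ B, b ∉ H := by
    by_contra hno
    push Not at hno
    rw [relIndex_eq_one.mpr hno] at hH3
    omega
  have hK := h.kh_le_yh c hHB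
  have hB : B ≤ normalizer ((kh B Y H : Subgroup G) : Set G) := B_normalizes_kh
  obtain ⟨x, hx, hxT⟩ : ∃ x ∈ kh B Y H, ¬ Tr z x := by
    by_contra hno
    push Not at hno
    apply hne
    rw [le_centralizer_iff]
    refine CoprimeCommutator.le_centralizer_of_commutator B _ (h.B_normalizes_yh c hHB)
      (h.coprime le_rfl (inf_le_left.trans c.YX)) ?_
    intro a ha
    rw [mem_centralizer_iff]
    intro w hw
    rcases hno w hw with rfl | rfl
    · rw [one_mul, mul_one]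
    · exact h.zB a ha
  have hxx : x * x = z := (h.kh_sq c hHB hH3 hx).resolve_left fun e =>
    hxT (h.kh_involution c hHB hH3 hx e)
  have hxX : ∀ y ∈ kh B Y H, y ∈ X := fun y hy => c.YX (hK hy).1
  have hzK : z ∈ kh B Y H := by rw [← hxx]; exact mul_mem hx hx
  set y := b * x * b⁻¹ with hyd
  have hy : y ∈ kh B Y H := (mem_normalizer_iff.mp (hB hb) x).mp hx
  have hyT : ¬ Tr z y := by
    rintro (h6 | h6)
    · apply hxT
      left
      have h7 : b * x = b := by rw [hyd, mul_inv_eq_one] at h6; exact h6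
      exact mul_eq_left.mp h7
    · apply hxT
      right
      have h7 : x = b⁻¹ * z * b := by rw [← h6, hyd]; group
      rw [h7, mul_assoc, h.zB b hb, ← mul_assoc, inv_mul_cancel, one_mul]
  have hyy : y * y = z := (h.kh_sq c hHB hH3 hy).resolve_left fun e =>
    hyT (h.kh_involution c hHB hH3 hy e)
  have hxyT : ¬ Tr z (x * y) := by
    intro h6
    have h7 : y = x ∨ y = x * z := by
      rcases rz_of_tr h.zz hxx h6 with h8 | h8
      · exact Or.inl h8
      · right; rw [h8, h.zc x (hxX x hx)]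
    have h8 := h.eq_of_conj hb h7
    rcases h.kh_inf_centralizer c hHB hH3 hx
      (h.mem_centralizer_B hHB hH3 hb hbH (mem_inf.mp (hK hx)).2 h8) with h9 | h9
    · exact hxT (Or.inl h9)
    · exact hxT (Or.inr h9)
  have hxyy : x * y * (x * y) = z := (h.kh_sq c hHB hH3 (mul_mem hx hy)).resolve_left fun e =>
    hxyT (h.kh_involution c hHB hH3 (mul_mem hx hy) e)
  have hxy := h.kh_anticomm c hHB hH3 hx hy hxT hyT hxyT
  refine ⟨x, y, hx, hy, hxx, hyy, hxy, fun w hw => ?_⟩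
  by_cases hw1 : Tr z w
  · left
    rcases hw1 with h1 | h1
    · exact Or.inl h1
    · right; rw [h1, mul_one]
  by_cases hw2 : Tr z (x * w)
  · exact Or.inr (Or.inl (rz_of_tr h.zz hxx hw2))
  by_cases hw3 : Tr z (y * w)
  · exact Or.inr (Or.inr (Or.inl (rz_of_tr h.zz hyy hw3)))
  by_cases hw4 : Tr z (x * y * w)
  · exact Or.inr (Or.inr (Or.inr (rz_of_tr h.zz hxyy hw4)))
  exfalso
  have e1 := h.kh_anticomm c hHB hH3 hx hw hxT hw1 hw2
  have e2 := h.kh_anticomm c hHB hH3 hy hw hyT hw1 hw3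
  have e3 := h.kh_anticomm c hHB hH3 (mul_mem hx hy) hw hxyT hw1 hw4
  apply h.z1
  have e4 : x * y * w = w * (x * y) := by
    have hzx := h.zc x (hxX x hx)
    calc x * y * w = x * (y * w) := by group
      _ = x * z * w * y := by rw [e2]; group
      _ = z * (x * w) * y := by rw [← hzx]; group
      _ = (z * z) * (w * (x * y)) := by rw [e1]; group
      _ = w * (x * y) := by rw [h.zz, one_mul]
  rw [e4] at e3
  exact right_eq_mul.mp e3 |> fun t => t

/-- An element commuting with `A` and commuting modulo `⟨z⟩` with `K` commutes with `⁅K, A⁆`. -/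
theorem comm_commutator {z x : G} {K A : Subgroup G} (hz : z * z = 1)
    (hzK : ∀ y ∈ K, z * y = y * z) (hzA : ∀ a ∈ A, z * a = a * z)
    (hxA : ∀ a ∈ A, x * a = a * x)
    (hxK : ∀ y ∈ K, Rz z (x * y) (y * x)) {w : G} (hw : w ∈ (⁅K, A⁆ : Subgroup G)) :
    x * w = w * x := by
  have hle : ⁅K, A⁆ ≤ centralizer {x} := by
    rw [commutator_le]
    intro y hy a ha
    rw [mem_centralizer_singleton_iff]
    have hai := hxA a ha
    have hai' : x * a⁻¹ = a⁻¹ * x := by
      calc x * a⁻¹ = a⁻¹ * (a * x) * a⁻¹ := by group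
        _ = a⁻¹ * x := by rw [← hai]; group
    have hzi : z⁻¹ = z := inv_eq_of_mul_eq_one_right hz
    rw [commutatorElement_def]
    rcases hxK y hy with h1 | h1
    · have h2 : x * y⁻¹ = y⁻¹ * x := by
        calc x * y⁻¹ = y⁻¹ * (y * x) * y⁻¹ := by group
          _ = y⁻¹ * x := by rw [← h1]; group
      calc y * a * y⁻¹ * a⁻¹ * x = y * a * y⁻¹ * (a⁻¹ * x) := by group
        _ = y * a * (y⁻¹ * x) * a⁻¹ := by rw [← hai']; group
        _ = y * (a * x) * y⁻¹ * a⁻¹ := by rw [← h2]; group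
        _ = (y * x) * a * y⁻¹ * a⁻¹ := by rw [← hai]; group
        _ = x * (y * a * y⁻¹ * a⁻¹) := by rw [← h1]; group
    · -- anticommuting case
      have h2 : y * x = z * (x * y) := by rw [h1, ← mul_assoc, hz, one_mul]
      have h3 : y⁻¹ * x = z * (x * y⁻¹) := by
        have h4 : x * y = y * (z * x) := by rw [h1, ← mul_assoc, hzK y hy, mul_assoc]
        calc y⁻¹ * x = y⁻¹ * (x * y) * y⁻¹ := by group
          _ = z * (x * y⁻¹) := by rw [h4]; group
      calc y * a * y⁻¹ * a⁻¹ * x = y * a * y⁻¹ * (a⁻¹ * x) := by group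
        _ = y * a * (y⁻¹ * x) * a⁻¹ := by rw [← hai']; group
        _ = y * (a * z) * x * y⁻¹ * a⁻¹ := by rw [h3]; group
        _ = y * z * (a * x) * y⁻¹ * a⁻¹ := by rw [← hzA a ha]; group
        _ = (y * z) * (x * a) * y⁻¹ * a⁻¹ := by rw [← hai]
        _ = z * (y * x) * a * y⁻¹ * a⁻¹ := by rw [← hzK y hy]; group
        _ = (z * z) * (x * (y * a * y⁻¹ * a⁻¹)) := by rw [h2]; group
        _ = x * (y * a * y⁻¹ * a⁻¹) := by rw [hz, one_mul]
  exact (mem_centralizer_singleton_iff.mp (hle hw)).symm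

theorem zB_mem (h : Hyp z X B) {H : Subgroup G} (hHB : H ≤ B) : ∀ a ∈ H, z * a = a * z :=
  fun a ha => h.zB a (hHB ha)

/-- (F9) -/
theorem kh_comm [Finite G] (h : Hyp z X B) {Y : Subgroup G} (c : Crit z X B Y)
    {H H' : Subgroup G} (hHB : H ≤ B) (hH3 : H.relIndex B = 3) (hHB' : H' ≤ B)
    (hH3' : H'.relIndex B = 3) (hne : H ≠ H') {x y : G} (hx : x ∈ kh B Y H) (hy : y ∈ kh B Y H') :
    x * y = y * x := by
  have h3 : Fact (Nat.Prime 3) := ⟨Nat.prime_three⟩
  have hK := h.kh_le_yh c hHB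
  have hK' := h.kh_le_yh c hHB'
  have hX' : kh B Y H' ≤ X := hK'.trans (inf_le_left.trans c.YX)
  have hxX : x ∈ X := c.YX (hK hx).1
  have hn : H ≤ normalizer ((kh B Y H' : Subgroup G) : Set G) := hHB.trans B_normalizes_kh
  obtain ⟨m, hm, e, he, hye⟩ := CoprimeCommutator.exists_commutator_mul_fixed_of_isPGroup 3 H
    (kh B Y H') (h.B_isPGroup.to_le hHB) hn (h.not_dvd hX') y hy
  have hmx : x * m = m * x := comm_commutator h.zz (fun w hw => h.zc w (hX' hw))
    (h.zB_mem hHB) (fun a ha => (mem_centralizer_iff.mp (mem_inf.mp (hK hx)).2 a ha).symm)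
    (fun w hw => h.comm_Y c (mem_inf.mp (hK hx)).1 (mem_inf.mp (hK' hw)).1) hm
  have hsup : B ≤ H ⊔ H' := by
    have h4 := relIndex_mul_relIndex H (H ⊔ H') B le_sup_left (sup_le hHB hHB')
    rw [hH3] at h4
    rcases (Nat.dvd_prime Nat.prime_three).mp (Dvd.intro _ h4) with h5 | h5
    · exfalso
      rw [relIndex_eq_one] at h5
      have h6 : H' ≤ H := le_sup_right.trans h5
      apply hne
      have h7 := relIndex_mul_relIndex H' H B h6 hHB
      rw [hH3, hH3'] at h7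
      have h8 : H'.relIndex H = 1 := by omega
      rw [relIndex_eq_one] at h8
      exact le_antisymm h8 h6
    · rw [h5] at h4
      have h6 : (H ⊔ H').relIndex B = 1 := by omega
      rwa [relIndex_eq_one] at h6
  have heB : e ∈ centralizer (B : Set G) := by
    have h4 : H ⊔ H' ≤ centralizer {e} := by
      refine sup_le (fun a ha => ?_) (fun a ha => ?_)
      · rw [mem_centralizer_singleton_iff]
        exact mem_centralizer_iff.mp (mem_inf.mp he).2 a ha
      · rw [mem_centralizer_singleton_iff]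
        exact mem_centralizer_iff.mp (mem_inf.mp (hK' (mem_inf.mp he).1)).2 a ha
    rw [mem_centralizer_iff]
    intro a ha
    exact mem_centralizer_singleton_iff.mp (h4 (hsup ha))
  have hex : x * e = e * x := by
    rcases h.kh_inf_centralizer c hHB' hH3' (mem_inf.mp he).1 heB with rfl | rfl
    · rw [one_mul, mul_one]
    · exact (h.zc x hxX).symm
  rw [hye, ← mul_assoc, hmx, mul_assoc, hex, mul_assoc]

theorem kh_commutator [Finite G] (h : Hyp z X B) {Y : Subgroup G} (c : Crit z X B Y)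
    {H : Subgroup G} (hHB : H ≤ B) : ⁅kh B Y H, B⁆ = kh B Y H :=
  CoprimeCommutator.commutator_commutator_eq B _ (h.B_normalizes_yh c hHB)
    (h.coprime le_rfl (inf_le_left.trans c.YX))

/-- (F10) -/
theorem kh_comm_centralizer [Finite G] (h : Hyp z X B) {Y : Subgroup G} (c : Crit z X B Y)
    {H : Subgroup G} (hHB : H ≤ B) (hH3 : H.relIndex B = 3) {r w : G} (hr : r ∈ X)
    (hrB : r ∈ centralizer (B : Set G)) (hw : w ∈ kh B Y H) : r * w = w * r := by
  have hK := h.kh_le_yh c hHB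
  rw [← h.kh_commutator c hHB] at hw
  refine comm_commutator h.zz (fun w hw => h.zc w (c.YX (hK hw).1)) h.zB
    (fun a ha => (mem_centralizer_iff.mp hrB a ha).symm) (fun y hy => ?_) hw
  exact (h.comm_X c (hK hy).1 hr (h.kh_sq c hHB hH3 hy)).symm h.zz

end Hyp

end Cfsg.Agent.SmallSimple.S1000.QStruct
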