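import Mathlib
import Cfsg.Prelude.Def_Transfer
import Cfsg.Agent.OddOrderLocal.OmegaCritical
import Cfsg.Agent.SmallSimple.S1000.QStruct

/-!
# The order of a 3-group of small rank admitting an involutory automorphism with large centraliser
-/

set_option autoImplicit false

namespace Cfsg.Agent.SmallSimple.S1000.CritBound

open Subgroup Cfsg Cfsg.Agent.Lib
open scoped commutatorElement

variable {G : Type*} [Group G]

theorem le_normalizer_of_conj_mem {P M : Subgroup G} (h : ∀ g ∈ P, ∀ x ∈ M, g * x * g⁻¹ ∈ M) :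
    P ≤ normalizer (M : Set G) := by
  intro g hg
  rw [mem_normalizer_iff]
  intro x
  refine ⟨h g hg x, fun hx => ?_⟩
  have := h g⁻¹ (inv_mem hg) _ hx
  simpa [mul_assoc] using this

theorem conj_mem_centralizer {P M : Subgroup G} (hM : P ≤ normalizer (M : Set G)) {g x : G}
    (hg : g ∈ P) (hx : x ∈ centralizer (M : Set G)) : g * x * g⁻¹ ∈ centralizer (M : Set G) := by
  rw [mem_centralizer_iff]
  intro y hy
  have h6 : g⁻¹ * y * g ∈ M := by
    have := (mem_normalizer_iff.mp (hM (inv_mem hg)) y).mp hy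
    simpa using this
  have h7 := mem_centralizer_iff.mp hx _ h6
  calc y * (g * x * g⁻¹) = g * ((g⁻¹ * y * g) * x) * g⁻¹ := by group
    _ = g * (x * (g⁻¹ * y * g)) * g⁻¹ := by rw [h7]
    _ = g * x * g⁻¹ * y := by group

/-- The critical subgroup of exponent 3 of a 3-subgroup `O` of `G`. -/
theorem exists_omega [Finite G] {O : Subgroup G} (hO : IsPGroup 3 O) :
    ∃ K ≤ O, normalizer (O : Set G) ≤ normalizer (K : Set G) ∧ (∀ x ∈ K, x ^ 3 = 1) ∧
      (∀ x ∈ K, ∀ y ∈ K, ⁅x, y⁆ ∈ centralizer (K : Set G)) ∧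
      ∀ g ∈ normalizer (O : Set G), ∀ n, g ^ 2 ^ n = 1 → g ∈ centralizer (K : Set G) →
        g ∈ centralizer (O : Set G) := by
  have h3 : Fact (Nat.Prime 3) := ⟨Nat.prime_three⟩
  obtain ⟨H, h1, h2, h4, h5⟩ := OddOrderLocal.OmegaCritical.exists_omega_critical
    (p := 3) (by norm_num) hO
  refine ⟨H.map O.subtype, map_subtype_le H, QStruct.normalizer_le_of_characteristic H h1, ?_, ?_, ?_⟩
  · rintro _ ⟨x, hx, rfl⟩
    exact congrArg Subtype.val (h2 x hx)
  · rintro _ ⟨x, hx, rfl⟩ _ ⟨y, hy, rfl⟩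
    rw [mem_centralizer_iff]
    rintro _ ⟨w, hw, rfl⟩
    exact congrArg Subtype.val (h4 x hx y hy w hw).symm.eq
  · intro g hg n hgn hgK
    have h6 := h5 (O.normalizerMonoidHom ⟨g, hg⟩) (by
      have h7 : (O.normalizerMonoidHom ⟨g, hg⟩) ^ 2 ^ n = 1 := by
        rw [← map_pow]
        have : (⟨g, hg⟩ : normalizer (O : Set G)) ^ 2 ^ n = 1 := Subtype.ext hgn
        rw [this, map_one]
      exact Nat.Coprime.coprime_dvd_left (orderOf_dvd_of_pow_eq_one h7)
        (Nat.Coprime.pow_left n (by norm_num))) (by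
      intro x hx
      apply Subtype.ext
      show g * (x : G) * g⁻¹ = x
      have := mem_centralizer_iff.mp hgK (x : G) ⟨x, hx, rfl⟩
      rw [← this, mul_inv_cancel_right])
    rw [mem_centralizer_iff]
    intro x hx
    have h7 : ((O.normalizerMonoidHom ⟨g, hg⟩) ⟨x, hx⟩ : G) = x := by rw [h6]; rfl
    have h8 : g * x * g⁻¹ = x := h7
    exact (mul_inv_eq_iff_eq_mul.mp h8).symm

theorem card_join_le [Finite G] {K : Subgroup G}
    (hKc : ∀ x ∈ K, ∀ y ∈ K, ⁅x, y⁆ ∈ centralizer (K : Set G)) {A : Subgroup G} {a : G}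
    (haK : a ∈ K) :
    Nat.card (K ⊓ centralizer (A : Set G) : Subgroup G) ≤
      Nat.card (K ⊓ centralizer (K : Set G) : Subgroup G) *
        Nat.card ((K ⊓ centralizer (A : Set G)) ⊓ centralizer {a} : Subgroup G) := by
  set C := K ⊓ centralizer (A : Set G) with hC
  set Z := K ⊓ centralizer (K : Set G) with hZ
  let f : C →* Z :=
    { toFun := fun c => ⟨⁅(c : G), a⁆, mem_inf.mpr ⟨by
        rw [commutatorElement_def]
        have hc := (mem_inf.mp c.2).1
        exact K.mul_mem (K.mul_mem (K.mul_mem hc haK) (K.inv_mem hc)) (K.inv_mem haK),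
        hKc _ (mem_inf.mp c.2).1 a haK⟩⟩
      map_one' := Subtype.ext (by simp)
      map_mul' := by
        intro b c
        apply Subtype.ext
        show ⁅(b : G) * c, a⁆ = ⁅(b : G), a⁆ * ⁅(c : G), a⁆
        have hb := (mem_inf.mp b.2).1
        have hc := (mem_inf.mp c.2).1
        have h1 : ⁅(b : G) * c, a⁆ = b * ⁅(c : G), a⁆ * (b : G)⁻¹ * ⁅(b : G), a⁆ := by
          simp only [commutatorElement_def]; group
        have h2 := mem_centralizer_iff.mp (hKc _ hc a haK) b hb
        have h3 : ⁅(b : G), a⁆ ∈ K := by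
          rw [commutatorElement_def]
          exact K.mul_mem (K.mul_mem (K.mul_mem hb haK) (K.inv_mem hb)) (K.inv_mem haK)
        have h4 := mem_centralizer_iff.mp (hKc _ hc a haK) _ h3
        rw [h1, h2, mul_inv_cancel_right, h4] }
  have h1 : Nat.card f.ker * f.ker.index = Nat.card C := f.ker.card_mul_index
  have h2 : f.ker.index ≤ Nat.card Z := by
    rw [Subgroup.index_ker]
    exact Nat.card_le_card_of_injective (fun x : f.range => (x : Z)) Subtype.val_injective
  have h3 : Nat.card f.ker ≤ Nat.card (C ⊓ centralizer {a} : Subgroup G) := by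
    refine Nat.card_le_card_of_injective (fun x : f.ker => (⟨((x : C) : G), mem_inf.mpr ⟨(x : C).2, ?_⟩⟩ :
      (C ⊓ centralizer {a} : Subgroup G))) ?_
    · have h4 : ⁅((x : C) : G), a⁆ = 1 := congrArg Subtype.val (MonoidHom.mem_ker.mp x.2)
      rw [mem_centralizer_singleton_iff]
      exact commutatorElement_eq_one_iff_mul_comm.mp h4
    · intro x y hxy
      have h4 := congrArg (fun w : (C ⊓ centralizer {a} : Subgroup G) => (w : G)) hxy
      exact Subtype.ext (Subtype.ext h4)
  rw [← h1, mul_comm]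
  exact Nat.mul_le_mul h2 h3

/-- counting with a chain of abelian subgroups -/
theorem exists_abelian [Finite G] {K : Subgroup G} (hK3 : IsPGroup 3 K)
    (hKc : ∀ x ∈ K, ∀ y ∈ K, ⁅x, y⁆ ∈ centralizer (K : Set G)) {r : ℕ}
    (hr : Nat.card (K ⊓ centralizer (K : Set G) : Subgroup G) = 3 ^ r) (N : ℕ) :
    ∀ A ≤ K, (∀ x ∈ A, ∀ y ∈ A, x * y = y * x) → Nat.card K - Nat.card A ≤ N →
      ∀ s, Nat.card A = 3 ^ s → ∃ t, ∃ A' ≤ K, (∀ x ∈ A', ∀ y ∈ A', x * y = y * x) ∧
        Nat.card A' = 3 ^ (s + t) ∧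
        Nat.card (K ⊓ centralizer (A : Set G) : Subgroup G) ≤ 3 ^ (r * t + s + t) := by
  have h3 : Fact (Nat.Prime 3) := ⟨Nat.prime_three⟩
  induction N with
  | zero =>
    intro A hAK hA hN s hs
    have h1 : A = K := eq_of_le_of_card_ge hAK (by omega)
    refine ⟨0, A, hAK, hA, hs, ?_⟩
    rw [mul_zero, zero_add, add_zero, ← hs, h1]
    exact Subgroup.card_le_of_le inf_le_left
  | succ N ih =>
    intro A hAK hA hN s hs
    by_cases hle : K ⊓ centralizer (A : Set G) ≤ A
    · refine ⟨0, A, hAK, hA, hs, ?_⟩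
      rw [mul_zero, zero_add, add_zero, ← hs]
      exact Subgroup.card_le_of_le hle
    · obtain ⟨a, ha, haA⟩ := SetLike.not_le_iff_exists.mp hle
      obtain ⟨haK, haC⟩ := mem_inf.mp ha
      set A1 := A ⊔ zpowers a with hA1
      have hA1K : A1 ≤ K := sup_le hAK (by rw [zpowers_le]; exact haK)
      have hA1cl : A1 = closure ((A : Set G) ∪ {a}) := by
        rw [Subgroup.closure_union, Subgroup.closure_eq, hA1, zpowers_eq_closure]
      have hA1c : ∀ x ∈ A1, ∀ y ∈ A1, x * y = y * x := by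
        rw [hA1cl]
        have hcom := isMulCommutative_closure (k := (A : Set G) ∪ {a}) (by
          rintro x (hx | rfl) y (hy | rfl)
          · exact hA x hx y hy
          · exact mem_centralizer_iff.mp haC x hx
          · exact (mem_centralizer_iff.mp haC y hy).symm
          · rfl)
        intro x hx y hy
        exact congrArg Subtype.val (hcom.is_comm.comm ⟨x, hx⟩ ⟨y, hy⟩)
      obtain ⟨s1, hs1⟩ := IsPGroup.iff_card.mp (hK3.to_le hA1K)
      have hlt : A < A1 := lt_of_le_of_ne le_sup_left fun h => haA (by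
        rw [h]; exact mem_sup_right (mem_zpowers a))
      have hcardlt : Nat.card A < Nat.card A1 := by
        refine lt_of_le_of_ne (Subgroup.card_le_of_le hlt.le) fun h => hlt.ne ?_
        exact eq_of_le_of_card_ge hlt.le h.ge
      have hss : s < s1 := by
        rw [hs, hs1] at hcardlt
        exact (Nat.pow_lt_pow_iff_right (by norm_num)).mp hcardlt
      have hcardK : Nat.card A1 ≤ Nat.card K := Subgroup.card_le_of_le hA1K
      obtain ⟨t, A', h1, h2, h4, h5⟩ := ih A1 hA1K hA1c (by omega) s1 hs1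
      refine ⟨s1 - s + t, A', h1, h2, ?_, ?_⟩
      · rw [h4]; congr 1; omega
      · have h6 := card_join_le (A := A) hKc haK
        have h7 : (K ⊓ centralizer (A : Set G)) ⊓ centralizer {a} ≤ K ⊓ centralizer (A1 : Set G) := by
          intro x hx
          obtain ⟨hx1, hx2⟩ := mem_inf.mp hx
          refine mem_inf.mpr ⟨(mem_inf.mp hx1).1, ?_⟩
          have h8 : A1 ≤ centralizer {x} := by
            refine sup_le (fun y hy => ?_) ?_
            · exact mem_centralizer_singleton_iff.mpr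
                (mem_centralizer_iff.mp (mem_inf.mp hx1).2 y hy)
            · rw [zpowers_le]
              exact mem_centralizer_singleton_iff.mpr (mem_centralizer_singleton_iff.mp hx2).symm
          exact mem_centralizer_iff.mpr fun y hy => mem_centralizer_singleton_iff.mp (h8 hy)
        rw [hr] at h6
        refine h6.trans ?_
        refine (Nat.mul_le_mul_left _ ((Subgroup.card_le_of_le h7).trans h5)).trans ?_
        rw [← pow_add]
        refine Nat.pow_le_pow_right (by norm_num) ?_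
        have h8 : 1 ≤ s1 - s := by omega
        have h9 : r * 1 ≤ r * (s1 - s) := Nat.mul_le_mul_left r h8
        have h10 : r * (s1 - s + t) = r * (s1 - s) + r * t := by ring
        omega

theorem relIndex_mul_card {A B : Subgroup G} (h : A ≤ B) :
    A.relIndex B * Nat.card A = Nat.card B := by
  rw [Subgroup.relIndex, ← Nat.card_congr (subgroupOfEquivOfLe h).toEquiv, mul_comm]
  exact card_mul_index _

theorem core [Finite G] {O : Subgroup G} (hO : IsPGroup 3 O) {z : G}
    (hz : z ∈ normalizer (O : Set G)) (hzz : z * z = 1) (hf : z ∉ centralizer (O : Set G)) {n : ℕ}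
    (hn : ∀ E ≤ O, IsElementaryAbelian 3 E → Nat.card E ≤ 3 ^ n) (D : ℕ)
    (hD : ∀ N M : Subgroup G, N ≤ M →
      normalizer (O : Set G) ⊓ centralizer {z} ≤ normalizer (N : Set G) ⊓ normalizer (M : Set G) →
      M ≤ normalizer (N : Set G) → (∀ w ∈ M, w ^ 3 ∈ N) → (∀ u ∈ M, ∀ v ∈ M, u * v * u⁻¹ * v⁻¹ ∈ N) →
      (∀ w ∈ M, z * w * z⁻¹ * w ∈ N) → ¬ M ≤ N → 3 ^ D ≤ N.relIndex M) :
    D ≤ n ∨ ∃ r, 1 ≤ r ∧ D ≤ (1 + r) * (n - r) ∧ 3 ^ (D + r) ≤ Nat.card O := by
  have h3 : Fact (Nat.Prime 3) := ⟨Nat.prime_three⟩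
  obtain ⟨K, hKO, hOK, hcube, hKc, hfaith⟩ := exists_omega hO
  have hzi : z⁻¹ = z := inv_eq_of_mul_eq_one_right hzz
  have hK3 : IsPGroup 3 K := hO.to_le hKO
  set Z := K ⊓ centralizer (K : Set G) with hZ
  have hZK : Z ≤ K := inf_le_left
  have hZcomm : ∀ x ∈ Z, ∀ y ∈ K, x * y = y * x := fun x hx y hy =>
    (mem_centralizer_iff.mp (mem_inf.mp hx).2 y hy).symm
  set P := normalizer (O : Set G) ⊓ centralizer {z} with hP
  have hPK : P ≤ normalizer (K : Set G) := inf_le_left.trans hOK
  have hKKZ : ∀ u ∈ K, ∀ v ∈ K, u * v * u⁻¹ * v⁻¹ ∈ Z := fun u hu v hv =>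
    mem_inf.mpr ⟨K.mul_mem (K.mul_mem (K.mul_mem hu hv) (K.inv_mem hu)) (K.inv_mem hv), by
      have := hKc u hu v hv
      rwa [commutatorElement_def] at this⟩
  have hnK : ∀ g ∈ normalizer (O : Set G), ∀ x ∈ K, g * x * g⁻¹ ∈ K := fun g hg x hx =>
    (mem_normalizer_iff.mp (hOK hg) x).mp hx
  have hnZ : ∀ g ∈ normalizer (O : Set G), ∀ x ∈ Z, g * x * g⁻¹ ∈ Z := fun g hg x hx =>
    mem_inf.mpr ⟨hnK g hg x (mem_inf.mp hx).1, conj_mem_centralizer hOK hg (mem_inf.mp hx).2⟩
  -- odd order: no involutions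
  have hodd : ∀ x ∈ K, x * x = 1 → x = 1 := by
    intro x hx hxx
    have h1 := hcube x hx
    rw [pow_succ, pow_two, hxx, one_mul] at h1
    exact h1
  by_cases hzZ : z ∈ centralizer (Z : Set G)
  · -- `z` centralises `Z`
    right
    -- the subgroup `M` of the elements inverted by `z` modulo `Z`
    have hZcube : ∀ w ∈ K, w ^ 3 ∈ Z := fun w hw => by rw [hcube w hw]; exact one_mem _
    have hZn : K ≤ normalizer (Z : Set G) := le_normalizer_of_conj_mem fun g hg x hx => by
      rw [← hZcomm x hx g hg, mul_inv_cancel_right]; exact hx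
    -- swapping two elements modulo `Z`
    have hswap : ∀ a b c d : G, a ∈ K → b ∈ K → c ∈ K → d ∈ K →
        (a * b * c * d ∈ Z ↔ a * c * b * d ∈ Z) := by
      have key : ∀ a b c d : G, a ∈ K → b ∈ K → c ∈ K → d ∈ K →
          a * b * c * d ∈ Z → a * c * b * d ∈ Z := by
        intro a b c d ha hb hc hd h1
        have h2 := hKKZ c hc b hb
        have h4 : a * c * b * d = (c * b * c⁻¹ * b⁻¹) * (a * b * c * d) := by
          have h5 := hZcomm _ h2 a ha
          calc a * c * b * d = (a * (c * b * c⁻¹ * b⁻¹)) * (b * c * d) := by group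
            _ = (c * b * c⁻¹ * b⁻¹ * a) * (b * c * d) := by rw [h5]
            _ = (c * b * c⁻¹ * b⁻¹) * (a * b * c * d) := by group
        rw [h4]
        exact Z.mul_mem h2 h1
      exact fun a b c d ha hb hc hd => ⟨key a b c d ha hb hc hd, key a c b d ha hc hb hd⟩
    let M : Subgroup G :=
      { carrier := {w | w ∈ K ∧ z * w * z⁻¹ * w ∈ Z}
        one_mem' := ⟨one_mem _, by simp [one_mem]⟩
        mul_mem' := by
          rintro a b ⟨ha, ha'⟩ ⟨hb, hb'⟩
          refine ⟨mul_mem ha hb, ?_⟩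
          have h1 := (hswap (z * a * z⁻¹) a (z * b * z⁻¹) b (hnK z hz a ha) ha (hnK z hz b hb) hb).mp
            (by
              have := Z.mul_mem ha' hb'
              rwa [← mul_assoc] at this)
          have e : z * (a * b) * z⁻¹ * (a * b) = z * a * z⁻¹ * (z * b * z⁻¹) * a * b := by group
          rw [e]
          exact h1
        inv_mem' := by
          rintro a ⟨ha, ha'⟩
          refine ⟨inv_mem ha, ?_⟩
          have h1 : z * a⁻¹ * z⁻¹ * a⁻¹ = (z * a * z⁻¹ * a)⁻¹ := by
            have h2 := hZcomm _ ha' a ha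
            have h4 : a * (z * a * z⁻¹) = z * a * z⁻¹ * a := by
              calc a * (z * a * z⁻¹) = (a * (z * a * z⁻¹ * a)) * a⁻¹ := by group
                _ = (z * a * z⁻¹ * a * a) * a⁻¹ := by rw [h2]
                _ = z * a * z⁻¹ * a := by group
            rw [← h4]
            group
          rw [h1]
          exact inv_mem ha' }
    have hMK : M ≤ K := fun w hw => hw.1
    have hZM : Z ≤ M := fun w hw => ⟨hZK hw, mul_mem (hnZ z hz w hw) hw⟩
    have hPn : P ≤ normalizer (Z : Set G) ⊓ normalizer (M : Set G) := by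
      refine le_inf (le_normalizer_of_conj_mem fun g hg x hx => hnZ g (mem_inf.mp hg).1 x hx)
        (le_normalizer_of_conj_mem fun g hg x hx => ?_)
      obtain ⟨hgO, hgz⟩ := mem_inf.mp hg
      refine ⟨hnK g hgO x hx.1, ?_⟩
      have h2 : g * z = z * g := mem_centralizer_singleton_iff.mp hgz
      have h2' : g⁻¹ * z⁻¹ = z⁻¹ * g⁻¹ := by
        rw [← mul_inv_rev, ← h2, mul_inv_rev]
      have e : z * (g * x * g⁻¹) * z⁻¹ * (g * x * g⁻¹) = g * (z * x * z⁻¹ * x) * g⁻¹ := by
        calc z * (g * x * g⁻¹) * z⁻¹ * (g * x * g⁻¹) = (z * g) * x * (g⁻¹ * z⁻¹) * (g * x * g⁻¹) := by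
              group
          _ = g * (z * x * z⁻¹ * x) * g⁻¹ := by rw [← h2, h2']; group
      rw [e]
      exact hnZ g hgO _ hx.2
    have hMZne : ¬ M ≤ Z := by
      intro hle
      apply hf
      refine hfaith z hz 1 (by rw [pow_one, pow_two]; exact hzz) ?_
      rw [mem_centralizer_iff]
      intro k hk
      have hk1 := hnK z hz k hk
      have e1 : z * (k⁻¹ * (z * k * z⁻¹)) * z⁻¹ = (z * k * z⁻¹)⁻¹ * k := by
        calc z * (k⁻¹ * (z * k * z⁻¹)) * z⁻¹ = (z * k * z⁻¹)⁻¹ * ((z * z) * k * (z * z)⁻¹) := by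
              group
          _ = (z * k * z⁻¹)⁻¹ * k := by rw [hzz]; group
      have hcM : k⁻¹ * (z * k * z⁻¹) ∈ M := by
        refine ⟨mul_mem (inv_mem hk) hk1, ?_⟩
        rw [e1]
        have : (z * k * z⁻¹)⁻¹ * k * (k⁻¹ * (z * k * z⁻¹)) = 1 := by group
        rw [this]
        exact one_mem _
      have hcZ := hle hcM
      have h1 := mem_centralizer_iff.mp hzZ _ hcZ
      have h2 : z * (k⁻¹ * (z * k * z⁻¹)) * z⁻¹ = k⁻¹ * (z * k * z⁻¹) := by
        rw [← h1, mul_inv_cancel_right]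
      rw [e1] at h2
      have h4 := hodd _ (mul_mem (inv_mem hk) hk1) (by
        nth_rewrite 1 [← h2]
        group)
      have h5 : z * k * z⁻¹ = k := (inv_mul_eq_one.mp h4).symm
      exact (mul_inv_eq_iff_eq_mul.mp h5).symm
    have h1 := hD Z M hZM hPn (hMK.trans hZn) (fun w hw => hZcube w (hMK hw))
      (fun u hu v hv => hKKZ u (hMK hu) v (hMK hv)) (fun w hw => hw.2) hMZne
    obtain ⟨r, hr⟩ := IsPGroup.iff_card.mp (hK3.to_le hZK)
    have hr1 : 1 ≤ r := by
      by_contra hr0
      have hr0' : r = 0 := by omega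
      rw [hr0', pow_zero, Subgroup.card_eq_one] at hr
      apply hMZne
      intro w hw
      refine mem_inf.mpr ⟨hMK hw, mem_centralizer_iff.mpr fun y hy => ?_⟩
      have h2 := hKKZ y hy w (hMK hw)
      rw [hr, mem_bot] at h2
      calc y * w = (y * w * y⁻¹ * w⁻¹) * (w * y) := by group
        _ = w * y := by rw [h2, one_mul]
    obtain ⟨t, A', hA'K, hA'c, hA't, hKt⟩ := exists_abelian hK3 hKc hr (Nat.card K - Nat.card Z) Z hZK
      (fun x hx y hy => hZcomm x hx y (hZK hy)) le_rfl r hr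
    have hKZ' : K ⊓ centralizer (Z : Set G) = K := by
      rw [inf_eq_left]
      intro k hk
      rw [mem_centralizer_iff]
      exact fun y hy => hZcomm y hy k hk
    rw [hKZ'] at hKt
    have hrt : r + t ≤ n := by
      have h2 := hn A' (hA'K.trans hKO) ⟨⟨⟨fun a b => Subtype.ext (hA'c a a.2 b b.2)⟩⟩,
        fun a ha => hcube a (hA'K ha)⟩
      rw [hA't] at h2
      exact (Nat.pow_le_pow_iff_right (by norm_num)).mp h2
    have hM2 : 3 ^ (D + r) ≤ Nat.card M := by
      rw [← relIndex_mul_card hZM, hr, pow_add]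
      exact Nat.mul_le_mul_right _ h1
    have hMK2 : Nat.card M ≤ Nat.card K := Subgroup.card_le_of_le hMK
    refine ⟨r, hr1, ?_, hM2.trans (hMK2.trans (Subgroup.card_le_of_le hKO))⟩
    have h2 : D + r ≤ r * t + r + t :=
      (Nat.pow_le_pow_iff_right (by norm_num : 1 < 3)).mp (hM2.trans (hMK2.trans hKt))
    have h4 : D ≤ (1 + r) * t := by
      have : (1 + r) * t = r * t + t := by ring
      omega
    exact h4.trans (Nat.mul_le_mul_left _ (by omega))
  · -- `z` acts nontrivially on `Z`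
    left
    let M : Subgroup G :=
      { carrier := {w | w ∈ Z ∧ z * w * z⁻¹ = w⁻¹}
        one_mem' := ⟨one_mem _, by group⟩
        mul_mem' := by
          rintro a b ⟨ha, ha'⟩ ⟨hb, hb'⟩
          refine ⟨mul_mem ha hb, ?_⟩
          calc z * (a * b) * z⁻¹ = (z * a * z⁻¹) * (z * b * z⁻¹) := by group
            _ = a⁻¹ * b⁻¹ := by rw [ha', hb']
            _ = (a * b)⁻¹ := by rw [hZcomm a ha b (hZK hb)]; group
        inv_mem' := by
          rintro a ⟨ha, ha'⟩
          refine ⟨inv_mem ha, ?_⟩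
          calc z * a⁻¹ * z⁻¹ = (z * a * z⁻¹)⁻¹ := by group
            _ = a⁻¹⁻¹ := by rw [ha'] }
    have hMZ : M ≤ Z := fun w hw => hw.1
    have hMel : IsElementaryAbelian 3 M := by
      refine ⟨⟨⟨fun a b => Subtype.ext ?_⟩⟩, fun a ha => hcube a (hZK (hMZ ha))⟩
      exact hZcomm a (hMZ a.2) b (hZK (hMZ b.2))
    have h1 := hD ⊥ M bot_le (le_inf (fun g _ => by
        rw [mem_normalizer_iff]
        intro x
        simp only [mem_bot]
        constructor
        · rintro rfl; group
        · intro hx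
          have : x = g⁻¹ * (g * x * g⁻¹) * g := by group
          rw [this, hx]; group) (le_normalizer_of_conj_mem fun g hg x hx => by
        obtain ⟨hgO, hgz⟩ := mem_inf.mp hg
        refine ⟨hnZ g hgO x hx.1, ?_⟩
        have h2 : g * z = z * g := mem_centralizer_singleton_iff.mp hgz
        have h2' : g⁻¹ * z⁻¹ = z⁻¹ * g⁻¹ := by
          rw [← mul_inv_rev, ← h2, mul_inv_rev]
        calc z * (g * x * g⁻¹) * z⁻¹ = (z * g) * x * (g⁻¹ * z⁻¹) := by group
          _ = g * (z * x * z⁻¹) * g⁻¹ := by rw [← h2, h2']; group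
          _ = (g * x * g⁻¹)⁻¹ := by rw [hx.2]; group))
      (fun g _ => by
        rw [mem_normalizer_iff]
        intro x
        simp only [mem_bot]
        constructor
        · rintro rfl; group
        · intro hx
          have : x = g⁻¹ * (g * x * g⁻¹) * g := by group
          rw [this, hx]; group)
      (fun w hw => by rw [mem_bot]; exact hcube w (hZK (hMZ hw)))
      (fun u hu v hv => by
        rw [mem_bot, hZcomm u (hMZ hu) v (hZK (hMZ hv))]; group)
      (fun w hw => by rw [mem_bot, hw.2, inv_mul_cancel])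
      (fun hle => by
        apply hzZ
        rw [mem_centralizer_iff]
        intro w hw
        have h4 : w⁻¹ * (z * w * z⁻¹) ∈ M := by
          refine ⟨mul_mem (inv_mem hw) (hnZ z hz w hw), ?_⟩
          have h5 := hnZ z hz w hw
          calc z * (w⁻¹ * (z * w * z⁻¹)) * z⁻¹ = (z * w * z⁻¹)⁻¹ * ((z * z) * w * (z * z)⁻¹) := by
                group
            _ = (z * w * z⁻¹)⁻¹ * w := by rw [hzz]; group
            _ = (w⁻¹ * (z * w * z⁻¹))⁻¹ := by group
        have h5 := mem_bot.mp (hle h4)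
        have h6 : z * w * z⁻¹ = w := (inv_mul_eq_one.mp h5).symm
        exact (mul_inv_eq_iff_eq_mul.mp h6).symm)
    rw [relIndex_bot_left] at h1
    exact (Nat.pow_le_pow_iff_right (by norm_num)).mp (h1.trans (hn M (hMZ.trans (hZK.trans hKO)) hMel))

end Cfsg.Agent.SmallSimple.S1000.CritBound
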