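import Mathlib

/-!
# A kernel sieve for equations `∑ c * 2 ^ xᵢ * 3 ^ xⱼ = ∑ c' * 2 ^ xᵢ * 3 ^ xⱼ`

The unknown exponents are described by progressions `r + p * k`.  `run` splits the progressions,
peels off first members and discards the branches which are impossible modulo some number.
-/

set_option autoImplicit false

namespace Cfsg.Agent.SmallSimple.S1000.ExpSieve

/-- A term `(c, i, j)` stands for `c * 2 ^ x i * 3 ^ x j`. -/
abbrev Tm := ℕ × ℕ × ℕ

/-- Value of a sum of terms. -/
def ev (x : ℕ → ℕ) : List Tm → ℕ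
  | [] => 0
  | t :: ts => t.1 * 2 ^ x t.2.1 * 3 ^ x t.2.2 + ev x ts

/-- A state: the exponent `x i` is `r + p * k` for some `k`. -/
abbrev St := List (ℕ × ℕ)

/-- First member of the progression. -/
def rd (st : St) (i : ℕ) : ℕ := (st.getD i (0, 0)).1

/-- Difference of the progression. -/
def pd (st : St) (i : ℕ) : ℕ := (st.getD i (0, 0)).2

/-- The exponents satisfy the state. -/
def Sat (x : ℕ → ℕ) (st : St) : Prop := ∀ i, ∃ k, x i = rd st i + pd st i * k

/-- Residue of a sum of terms at the first members of the progressions. -/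
def evr (M : ℕ) (st : St) : List Tm → ℕ
  | [] => 0
  | t :: ts => (t.1 * (2 ^ rd st t.2.1 % M) * (3 ^ rd st t.2.2 % M) + evr M st ts) % M

/-- All terms are periodic modulo `M`. -/
def per (M : ℕ) (st : St) (ts : List Tm) : Bool :=
  ts.all fun t => Nat.beq (2 ^ (rd st t.2.1 + pd st t.2.1) % M) (2 ^ rd st t.2.1 % M) &&
    Nat.beq (3 ^ (rd st t.2.2 + pd st t.2.2) % M) (3 ^ rd st t.2.2 % M)

/-- All progressions refined by the factor `s` are periodic modulo `M`. -/
def perc (M s : ℕ) (st : St) : Bool :=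
  st.all fun e => Nat.beq (2 ^ (e.2 * s) % M) (1 % M) && Nat.beq (3 ^ (e.2 * s) % M) (1 % M)

/-- Refine all progressions by the factor `s`. -/
def children (s : ℕ) : St → List St
  | [] => [[]]
  | e :: tl =>
    if Nat.beq e.2 0 then (children s tl).map fun c => e :: c
    else (List.range s).flatMap fun t => (children s tl).map fun c => (e.1 + e.2 * t, e.2 * s) :: c

/-- The steps of the sieve. -/
inductive Step
  | split (s M : ℕ)
  | chk (M : ℕ)
  | peel (i : ℕ)

/-- The sieve for the equation `ev x l = ev x r`. -/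
def run (l r : List Tm) (acc : St → Bool) : List Step → St → Bool
  | [], st => acc st
  | Step.split s M :: ss, st =>
    acc st || (Nat.blt 0 s && (perc M s st && (children s st).all fun c =>
      !(Nat.beq (evr M c l) (evr M c r)) || run l r acc ss c))
  | Step.chk M :: ss, st =>
    acc st || ((per M st l && per M st r && !(Nat.beq (evr M st l) (evr M st r))) ||
      run l r acc ss st)
  | Step.peel i :: ss, st =>
    acc st || (if Nat.beq (pd st i) 0 then run l r acc ss st
      else run l r acc ss (st.set i (rd st i, 0)) &&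
        run l r acc ss (st.set i (rd st i + pd st i, pd st i)))

theorem pow_per {b M r p : ℕ} (h : b ^ (r + p) % M = b ^ r % M) (k : ℕ) :
    b ^ (r + p * k) % M = b ^ r % M := by
  induction k with
  | zero => simp
  | succ k ih =>
    have e : r + p * (k + 1) = (r + p * k) + p := by ring
    rw [e, pow_add, Nat.mul_mod, ih, ← Nat.mul_mod, ← pow_add, h]

theorem ev_mod {x : ℕ → ℕ} {st : St} {M : ℕ} :
    ∀ (ts : List Tm), (∀ t ∈ ts, 2 ^ x t.2.1 % M = 2 ^ rd st t.2.1 % M ∧
      3 ^ x t.2.2 % M = 3 ^ rd st t.2.2 % M) → ev x ts % M = evr M st ts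
  | [], _ => by simp [ev, evr]
  | t :: ts, h => by
    have h1 := h t (by simp)
    have h2 := ev_mod ts fun u hu => h u (by simp [hu])
    have h3 : t.1 * 2 ^ x t.2.1 * 3 ^ x t.2.2 % M =
        t.1 * (2 ^ rd st t.2.1 % M) * (3 ^ rd st t.2.2 % M) % M := by
      have a1 : 2 ^ x t.2.1 ≡ 2 ^ rd st t.2.1 % M [MOD M] := by
        rw [Nat.ModEq, h1.1, Nat.mod_mod]
      have a2 : 3 ^ x t.2.2 ≡ 3 ^ rd st t.2.2 % M [MOD M] := by
        rw [Nat.ModEq, h1.2, Nat.mod_mod]
      exact ((Nat.ModEq.refl t.1).mul a1).mul a2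
    rw [ev, evr, Nat.add_mod, h3, h2, Nat.mod_add_mod]

theorem per_spec {x : ℕ → ℕ} {st : St} {M : ℕ} {ts : List Tm} (hs : Sat x st)
    (h : per M st ts = true) : ∀ t ∈ ts, 2 ^ x t.2.1 % M = 2 ^ rd st t.2.1 % M ∧
      3 ^ x t.2.2 % M = 3 ^ rd st t.2.2 % M := by
  intro t ht
  rw [per, List.all_eq_true] at h
  have h1 := h t ht
  rw [Bool.and_eq_true] at h1
  obtain ⟨k, hk⟩ := hs t.2.1
  obtain ⟨m, hm⟩ := hs t.2.2
  exact ⟨by rw [hk]; exact pow_per (Nat.eq_of_beq_eq_true h1.1) k,
    by rw [hm]; exact pow_per (Nat.eq_of_beq_eq_true h1.2) m⟩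

theorem sat_cons {x : ℕ → ℕ} {e : ℕ × ℕ} {tl : St} :
    Sat x (e :: tl) ↔ (∃ k, x 0 = e.1 + e.2 * k) ∧ Sat (fun i => x (i + 1)) tl := by
  constructor
  · intro h
    exact ⟨by simpa [rd, pd] using h 0, fun i => by simpa [rd, pd] using h (i + 1)⟩
  · rintro ⟨h1, h2⟩ i
    cases i with
    | zero => simpa [rd, pd] using h1
    | succ i => simpa [rd, pd] using h2 i

theorem children_sat {s : ℕ} (hs : 0 < s) : ∀ (st : St) (x : ℕ → ℕ), Sat x st →
    ∃ c ∈ children s st, Sat x c
  | [], x, h => ⟨[], by simp [children], h⟩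
  | e :: tl, x, h => by
    rw [sat_cons] at h
    obtain ⟨⟨k, hk⟩, h2⟩ := h
    obtain ⟨c, hc, hc2⟩ := children_sat hs tl _ h2
    by_cases he : e.2 = 0
    · refine ⟨e :: c, ?_, sat_cons.2 ⟨⟨k, hk⟩, hc2⟩⟩
      rw [children, if_pos (by rw [he]; rfl)]
      exact List.mem_map.2 ⟨c, hc, rfl⟩
    · refine ⟨(e.1 + e.2 * (k % s), e.2 * s) :: c, ?_, sat_cons.2 ⟨⟨k / s, ?_⟩, hc2⟩⟩
      · rw [children, if_neg (fun h => he (Nat.eq_of_beq_eq_true h))]
        exact List.mem_flatMap.2 ⟨k % s, List.mem_range.2 (Nat.mod_lt _ hs),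
          List.mem_map.2 ⟨c, hc, rfl⟩⟩
      · rw [hk]
        have := Nat.mod_add_div k s
        calc e.1 + e.2 * k = e.1 + e.2 * (k % s + s * (k / s)) := by rw [this]
          _ = _ := by ring

theorem pd_children {s : ℕ} : ∀ (st : St) (c : St), c ∈ children s st →
    ∀ i, pd c i = pd st i * s
  | [], c, h, i => by
    simp only [children, List.mem_singleton] at h
    subst h
    simp [pd]
  | e :: tl, c, h, i => by
    by_cases he : e.2 = 0
    · rw [children, if_pos (by rw [he]; rfl)] at h
      obtain ⟨c', hc', rfl⟩ := List.mem_map.1 h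
      cases i with
      | zero => simp [pd, he]
      | succ i => simpa [pd] using pd_children tl c' hc' i
    · rw [children, if_neg (fun h => he (Nat.eq_of_beq_eq_true h))] at h
      obtain ⟨t, -, h⟩ := List.mem_flatMap.1 h
      obtain ⟨c', hc', rfl⟩ := List.mem_map.1 h
      cases i with
      | zero => simp [pd]
      | succ i => simpa [pd] using pd_children tl c' hc' i

theorem perc_spec {M s : ℕ} {st : St} (h : perc M s st = true) (i : ℕ) :
    2 ^ (pd st i * s) % M = 1 % M ∧ 3 ^ (pd st i * s) % M = 1 % M := by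
  by_cases hi : i < st.length
  · rw [perc, List.all_eq_true] at h
    have h1 := h st[i] (List.getElem_mem hi)
    rw [Bool.and_eq_true] at h1
    have e : pd st i = st[i].2 := by simp [pd, hi]
    rw [e]
    exact ⟨Nat.eq_of_beq_eq_true h1.1, Nat.eq_of_beq_eq_true h1.2⟩
  · have e : pd st i = 0 := by
      simp only [pd]
      rw [List.getD_eq_default _ _ (by omega)]
    rw [e]
    simp

theorem ev_of_perc {x : ℕ → ℕ} {M s : ℕ} {st c : St} (h : perc M s st = true)
    (hc : c ∈ children s st) (hx : Sat x c) (ts : List Tm) : ev x ts % M = evr M c ts := by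
  apply ev_mod
  intro t _
  have key : ∀ b : ℕ, (∀ i, b ^ (pd st i * s) % M = 1 % M) → ∀ i, b ^ x i % M = b ^ rd c i % M := by
    intro b hb i
    obtain ⟨k, hk⟩ := hx i
    rw [hk]
    apply pow_per
    rw [pd_children st c hc i, pow_add, Nat.mul_mod, hb i, ← Nat.mul_mod, mul_one]
  exact ⟨key 2 (fun i => (perc_spec h i).1) _, key 3 (fun i => (perc_spec h i).2) _⟩

theorem sat_set {x : ℕ → ℕ} {st : St} {i : ℕ} {e : ℕ × ℕ} (h : Sat x st)
    (he : ∃ k, x i = e.1 + e.2 * k) : Sat x (st.set i e) := by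
  intro j
  by_cases hj : j = i
  · subst hj
    by_cases hl : j < st.length
    · simpa [rd, pd, hl] using he
    · rw [List.set_eq_of_length_le (by omega)]
      exact h j
  · have e1 : (st.set i e).getD j (0, 0) = st.getD j (0, 0) := by
      simp only [List.getD_eq_getElem?_getD]
      rw [List.getElem?_set_ne (Ne.symm hj)]
    have h1 := h j
    simp only [rd, pd] at h1 ⊢
    rw [e1]
    exact h1

/-- Soundness of the sieve. -/
theorem run_sound {l r : List Tm} {acc : St → Bool} :
    ∀ (steps : List Step) (st : St), run l r acc steps st = true → ∀ x : ℕ → ℕ, Sat x st →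
      ev x l = ev x r → ∃ c, acc c = true ∧ Sat x c
  | [], st, h, x, hx, _ => ⟨st, h, hx⟩
  | Step.split s M :: ss, st, h, x, hx, he => by
    rw [run, Bool.or_eq_true] at h
    rcases h with h | h
    · exact ⟨st, h, hx⟩
    · rw [Bool.and_eq_true, Bool.and_eq_true] at h
      have hs : 0 < s := by
        have h0 := h.1
        rw [Nat.blt, Nat.ble_eq] at h0
        exact h0
      obtain ⟨c, hc, hxc⟩ := children_sat hs st x hx
      have h3 := List.all_eq_true.1 h.2.2 c hc
      rw [Bool.or_eq_true] at h3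
      rcases h3 with h3 | h3
      · exfalso
        have e1 := ev_of_perc h.2.1 hc hxc l
        have e2 := ev_of_perc h.2.1 hc hxc r
        rw [he, e2] at e1
        rw [e1, Nat.beq_refl] at h3
        exact Bool.false_ne_true h3
      · exact run_sound ss c h3 x hxc he
  | Step.chk M :: ss, st, h, x, hx, he => by
    rw [run, Bool.or_eq_true] at h
    rcases h with h | h
    · exact ⟨st, h, hx⟩
    · rw [Bool.or_eq_true] at h
      rcases h with h | h
      · exfalso
        rw [Bool.and_eq_true, Bool.and_eq_true] at h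
        have e1 := ev_mod l (per_spec hx h.1.1)
        have e2 := ev_mod r (per_spec hx h.1.2)
        rw [he, e2] at e1
        have h3 := h.2
        rw [e1, Nat.beq_refl] at h3
        exact Bool.false_ne_true h3
      · exact run_sound ss st h x hx he
  | Step.peel i :: ss, st, h, x, hx, he => by
    rw [run, Bool.or_eq_true] at h
    rcases h with h | h
    · exact ⟨st, h, hx⟩
    · by_cases h0 : Nat.beq (pd st i) 0 = true
      · rw [if_pos h0] at h
        exact run_sound ss st h x hx he
      · rw [if_neg h0, Bool.and_eq_true] at h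
        obtain ⟨k, hk⟩ := hx i
        cases k with
        | zero => exact run_sound ss _ h.1 x (sat_set hx ⟨0, by simpa using hk⟩) he
        | succ k =>
          refine run_sound ss _ h.2 x (sat_set hx ⟨k, ?_⟩) he
          rw [hk]
          ring

/-- Exponents given by a list. -/
def xs (l : List ℕ) (n : ℕ) : ℕ := l.getD n 0

theorem sat_nil : Sat (xs []) [] := fun i => ⟨0, by simp [xs, rd, pd]⟩

theorem sat_xs {a : ℕ} {l : List ℕ} {e : ℕ × ℕ} {tl : St} (h1 : ∃ k, a = e.1 + e.2 * k)
    (h2 : Sat (xs l) tl) : Sat (xs (a :: l)) (e :: tl) := by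
  rw [sat_cons]
  refine ⟨by simpa [xs] using h1, fun i => ?_⟩
  simpa [xs] using h2 i

/-- The progression of a positive number modulo `L`. -/
def pos (L r : ℕ) : ℕ × ℕ := (if r = 0 then L else r, L)

theorem pos_spec {L a : ℕ} (ha : 1 ≤ a) : ∃ k, a = (pos L (a % L)).1 + (pos L (a % L)).2 * k := by
  have h1 := Nat.mod_add_div a L
  by_cases h : a % L = 0
  · refine ⟨a / L - 1, ?_⟩
    simp only [pos, h, if_true]
    have h2 : 1 ≤ a / L := by
      rcases Nat.eq_zero_or_pos (a / L) with h3 | h3
      · rw [h, h3] at h1; simp at h1; omega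
      · exact h3
    obtain ⟨m, hm⟩ := Nat.exists_eq_add_of_le h2
    rw [hm]
    rw [h, hm] at h1
    simp only [Nat.add_sub_cancel_left]
    rw [← h1]; ring
  · refine ⟨a / L, ?_⟩
    simp only [pos, h, if_false]
    exact h1.symm

theorem prog {L r a : ℕ} (h : a % L = r % L) (hr : r ≤ a) : ∃ k, a = r + L * k := by
  have h1 : L ∣ a - r := (Nat.modEq_iff_dvd' hr).1 h.symm
  obtain ⟨k, hk⟩ := h1
  exact ⟨k, by omega⟩

end Cfsg.Agent.SmallSimple.S1000.ExpSieve
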