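import Mathlib

/-!
# Splitting a list of integers along two values
-/

set_option autoImplicit false

namespace Cfsg.Agent.SmallSimple.S1000.ListSplit

/-- The members of a list different from two given values. -/
def rest (u v : ℤ) (L : List ℤ) : List ℤ := L.filter (fun z => z ≠ u ∧ z ≠ v)

theorem mem_rest {u v z : ℤ} {L : List ℤ} : z ∈ rest u v L ↔ z ∈ L ∧ z ≠ u ∧ z ≠ v := by
  unfold rest
  rw [List.mem_filter]
  simp

theorem rest_cons (u v a : ℤ) (L : List ℤ) :
    rest u v (a :: L) = if a ≠ u ∧ a ≠ v then a :: rest u v L else rest u v L := by
  unfold rest
  rw [List.filter_cons]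
  simp

theorem split (u v : ℤ) (huv : u ≠ v) (f : ℤ → ℤ) (L : List ℤ) :
    (L.map f).sum = L.count u * f u + L.count v * f v + ((rest u v L).map f).sum := by
  induction L with
  | nil => simp [rest]
  | cons a L ih =>
    rw [List.map_cons, List.sum_cons, ih, List.count_cons, List.count_cons, rest_cons]
    by_cases h1 : a = u
    · subst h1
      have h2 : ¬ (a = v) := huv
      simp [h2]
      ring
    · by_cases h2 : a = v
      · subst h2
        simp [h1]
        ring
      · simp [h1, h2]
        ring

theorem length (u v : ℤ) (huv : u ≠ v) (L : List ℤ) :
    L.length = L.count u + L.count v + (rest u v L).length := by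
  induction L with
  | nil => simp [rest]
  | cons a L ih =>
    rw [List.length_cons, ih, List.count_cons, List.count_cons, rest_cons]
    by_cases h1 : a = u
    · subst h1
      have h2 : ¬ (a = v) := huv
      simp [h2]
      ring
    · by_cases h2 : a = v
      · subst h2
        simp [h1]
        ring
      · simp [h1, h2]
        ring

theorem perm (u v : ℤ) (huv : u ≠ v) (L : List ℤ) :
    L.Perm (List.replicate (L.count u) u ++ (List.replicate (L.count v) v ++ rest u v L)) := by
  rw [List.perm_iff_count]
  intro a
  rw [List.count_append, List.count_append, List.count_replicate, List.count_replicate]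
  by_cases h1 : a = u
  · subst h1
    have h2 : (rest a v L).count a = 0 := by
      rw [List.count_eq_zero]
      intro h
      exact (mem_rest.1 h).2.1 rfl
    simp [h2, huv.symm]
  · by_cases h2 : a = v
    · subst h2
      have h3 : (rest u a L).count a = 0 := by
        rw [List.count_eq_zero]
        intro h
        exact (mem_rest.1 h).2.2 rfl
      simp [h3, Ne.symm h1]
    · have h3 : (rest u v L).count a = L.count a := by
        unfold rest
        exact List.count_filter (by simp [h1, h2])
      simp [h3, Ne.symm h1, Ne.symm h2]

end Cfsg.Agent.SmallSimple.S1000.ListSplit
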