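import Mathlib

/-!
# A small verified search: multisets of integers with given size and sum

`go n (mk C) k T` lists (at least) all multisets of `k` elements of `C` with sum `T`; branches are
pruned with the greatest common divisors of the suffixes of `C`, so `C` should be sorted by
`2`-adic valuation. `cand p a b` = the integers `± 2 ^ i * 3 ^ j`, `1 ≤ i < b`, `1 ≤ j < a`,
congruent to `1` mod `p`.
-/

set_option autoImplicit false

namespace Cfsg.Agent.SmallSimple.S1000.NumSearch

/-- Pairs (entry, gcd of the suffix starting at the entry). -/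
def mk : List ℤ → List (ℤ × ℕ)
  | [] => []
  | c :: C => (c, Nat.gcd c.natAbs (match mk C with
    | [] => 0
    | x :: _ => x.2)) :: mk C

/-- The search with fuel `n`. -/
def go : ℕ → List (ℤ × ℕ) → ℕ → ℤ → List (List ℤ)
  | 0, _, _, _ => []
  | _ + 1, _, 0, T => if T = 0 then [[]] else []
  | _ + 1, [], _ + 1, _ => []
  | n + 1, (c, g) :: C, k + 1, T =>
    if T % (g : ℤ) = 0 then
      (go n ((c, g) :: C) k (T - c)).map (c :: ·) ++ go n C (k + 1) T
    else []

theorem mk_cons (c : ℤ) (C : List ℤ) : mk (c :: C) = (c, Nat.gcd c.natAbs (match mk C with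
    | [] => 0
    | x :: _ => x.2)) :: mk C := rfl

theorem map_fst_mk (C : List ℤ) : (mk C).map Prod.fst = C := by
  induction C with
  | nil => rfl
  | cons c C ih => rw [mk_cons, List.map_cons, ih]

theorem length_mk (C : List ℤ) : (mk C).length = C.length := by
  rw [← List.length_map (f := Prod.fst), map_fst_mk]

/-- The head gcd divides every entry. -/
theorem dvd_mk {c : ℤ} {g : ℕ} {C : List ℤ} {D : List (ℤ × ℕ)} (h : mk C = (c, g) :: D) :
    ∀ z ∈ C, (g : ℤ) ∣ z := by
  induction C generalizing c g D with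
  | nil => simp [mk] at h
  | cons c' C ih =>
    rw [mk_cons, List.cons.injEq, Prod.mk.injEq] at h
    obtain ⟨⟨rfl, rfl⟩, rfl⟩ := h
    intro z hz
    rcases List.mem_cons.1 hz with rfl | hz
    · exact Int.natCast_dvd.2 (Nat.gcd_dvd_left _ _)
    · cases hC : mk C with
      | nil =>
        have := length_mk C
        rw [hC] at this
        have : C = [] := List.length_eq_zero_iff.1 this.symm
        rw [this] at hz
        simp at hz
      | cons x D =>
        have h1 := ih (c := x.1) (g := x.2) (D := D) hC z hz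
        exact (Int.natCast_dvd_natCast.2 (Nat.gcd_dvd_right _ _)).trans h1

/-- Completeness. -/
theorem go_spec : ∀ (n k : ℕ) (C : List ℤ) (T : ℤ) (K : Multiset ℤ), C.length + k < n →
    (∀ z ∈ K, z ∈ C) → Multiset.card K = k → K.sum = T →
    ∃ l ∈ go n (mk C) k T, (l : Multiset ℤ) = K := by
  intro n
  induction n with
  | zero => intro k C T K h; omega
  | succ n ih =>
    intro k C T K hn hmem hcard hsum
    cases k with
    | zero =>
      have hK : K = 0 := Multiset.card_eq_zero.1 hcard
      subst hK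
      rw [Multiset.sum_zero] at hsum
      subst hsum
      refine ⟨[], ?_, rfl⟩
      simp [go]
    | succ k =>
      cases C with
      | nil =>
        exfalso
        obtain ⟨z, hz⟩ := Multiset.card_pos_iff_exists_mem.1 (by rw [hcard]; omega : 0 < Multiset.card K)
        exact absurd (hmem z hz) (by simp)
      | cons c C =>
        set g : ℕ := Nat.gcd c.natAbs (match mk C with
          | [] => 0
          | x :: _ => x.2) with hg
        have hmk : mk (c :: C) = (c, g) :: mk C := rfl
        have hdvd : (g : ℤ) ∣ T := by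
          rw [← hsum]
          exact Multiset.dvd_sum fun z hz => dvd_mk hmk z (hmem z hz)
        rw [hmk]
        have hgo : go (n + 1) ((c, g) :: mk C) (k + 1) T =
            (go n ((c, g) :: mk C) k (T - c)).map (c :: ·) ++ go n (mk C) (k + 1) T := by
          rw [go, if_pos (Int.emod_eq_zero_of_dvd hdvd)]
        rw [hgo]
        rw [List.length_cons] at hn
        by_cases hc : c ∈ K
        · obtain ⟨K', rfl⟩ := Multiset.exists_cons_of_mem hc
          rw [Multiset.card_cons] at hcard
          rw [Multiset.sum_cons] at hsum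
          obtain ⟨l, hl, hlK⟩ := ih k (c :: C) (T - c) K' (by rw [List.length_cons]; omega)
            (fun z hz => hmem z (Multiset.mem_cons_of_mem hz)) (by omega) (by omega)
          refine ⟨c :: l, List.mem_append_left _ (List.mem_map_of_mem hl), ?_⟩
          rw [← Multiset.cons_coe, hlK]
        · obtain ⟨l, hl, hlK⟩ := ih (k + 1) C T K (by omega) (fun z hz => by
            rcases List.mem_cons.1 (hmem z hz) with rfl | h
            · exact absurd hz hc
            · exact h) hcard hsum
          exact ⟨l, List.mem_append_right _ hl, hlK⟩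

/-- The candidates. -/
def cand (p a b : ℕ) : List ℤ :=
  (List.range (b - 1)).flatMap fun i => (List.range (a - 1)).flatMap fun j =>
    let m := 2 ^ (i + 1) * 3 ^ (j + 1)
    (if m % p = 1 then [(m : ℤ)] else []) ++ (if (m + 1) % p = 0 then [-(m : ℤ)] else [])

/-- `k` is `± 2 ^ i * 3 ^ j`, `1 ≤ i < b`, `1 ≤ j < a`, and `1` mod `p`. -/
def IsK (p a b : ℕ) (k : ℤ) : Prop :=
  ∃ i j : ℕ, 1 ≤ i ∧ i < b ∧ 1 ≤ j ∧ j < a ∧ (k = 2 ^ i * 3 ^ j ∨ k = -(2 ^ i * 3 ^ j)) ∧
    k ≡ 1 [ZMOD p]

theorem mem_cand {p a b : ℕ} (hp : 1 < p) {k : ℤ} (h : IsK p a b k) : k ∈ cand p a b := by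
  obtain ⟨i, j, h1, h2, h3, h4, h5, h6⟩ := h
  rw [cand, List.mem_flatMap]
  refine ⟨i - 1, List.mem_range.2 (by omega), ?_⟩
  rw [List.mem_flatMap]
  refine ⟨j - 1, List.mem_range.2 (by omega), ?_⟩
  rw [show i - 1 + 1 = i by omega, show j - 1 + 1 = j by omega]
  simp only
  rw [List.mem_append]
  set m : ℕ := 2 ^ i * 3 ^ j with hm
  rcases h5 with h5 | h5
  · left
    have h7 : k = (m : ℤ) := by rw [h5, hm]; push_cast; rfl
    rw [h7] at h6
    have h8 : m ≡ 1 [MOD p] := by exact_mod_cast h6
    have h9 : m % p = 1 := by rw [h8, Nat.mod_eq_of_lt hp]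
    rw [if_pos h9, h7]
    simp
  · right
    have h7 : k = -(m : ℤ) := by rw [h5, hm]; push_cast; rfl
    rw [h7] at h6
    have h8 : ((m + 1 : ℕ) : ℤ) ≡ 0 [ZMOD p] := by
      have := (h6.add_left (m : ℤ)).symm
      rw [add_neg_cancel] at this
      push_cast
      exact this
    have h9 : (m + 1) % p = 0 := by
      have : (m + 1 : ℕ) ≡ 0 [MOD p] := by exact_mod_cast h8
      rw [this, Nat.zero_mod]
    rw [if_pos h9, h7]
    simp

/-- The complete list of solutions for `K`. -/
def sols (p a b : ℕ) (k : ℕ) (T : ℤ) : List (List ℤ) :=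
  go ((mk (cand p a b)).length + k + 1) (mk (cand p a b)) k T

theorem sols_spec {p a b : ℕ} (hp : 1 < p) {K : List ℤ} (hK : ∀ k ∈ K, IsK p a b k) {n : ℕ}
    (hlen : K.length = n) {T : ℤ} (hsum : K.sum = T) :
    ∃ l ∈ sols p a b n T, l.Perm K := by
  obtain ⟨l, hl, hlK⟩ := go_spec ((mk (cand p a b)).length + n + 1) n (cand p a b) T (K : Multiset ℤ)
    (by rw [length_mk]; omega) (fun z hz => mem_cand hp (hK z (by simpa using hz)))
    (by simpa using hlen) (by simpa using hsum)
  exact ⟨l, hl, Multiset.coe_eq_coe.1 hlK⟩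

end Cfsg.Agent.SmallSimple.S1000.NumSearch
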