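import Cfsg.Agent.Ree.LBlock
import Cfsg.Agent.S0145
import Cfsg.Agent.S0910
import Cfsg.Agent.S0914
import Cfsg.Agent.S0915
import Cfsg.Agent.S0928
import Cfsg.Agent.Blocks.CentralizerSum
import Cfsg.Agent.Lib.PSolvable

/-!
# S1000: `p`-elements whose centralizer has only one `p`-block

* `eq_zero_of_oneBlock` : a character outside the principal block vanishes on the `p`-section of `u` if `C_G(u)` has
  only one `p`-block;
* `eq_zero_of_solvable` : the same for solvable `C_G(u)` without normal `p'`-subgroups;
* `isConj_of_forall_eq` : irreducible characters separate classes;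
* `core_eq_bot` : conversely, if all characters outside the principal block vanish on `p`-singular elements then
  `O_{p'}(C_G(u)) = 1` for every `p`-element `u ≠ 1`.
-/

set_option autoImplicit false

open Cfsg Cfsg.Agent.Blocks Cfsg.Agent.Blocks.Basic Cfsg.Agent.Blocks.Local
open scoped ComplexConjugate

namespace Cfsg.Agent.SmallSimple.S1000.OneBlock

universe u

variable {G : Type u} [Group G] [Finite G] {p : ℕ} [Fact p.Prime] {M : Ideal AlgInt}

/-- The part of a class function for the set of all irreducible characters. -/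
theorem blockPart_univ {H : Type u} [Group H] [Finite H] {b : Set (IrrCharacter H)}
    (hb : ∀ ψ, ψ ∈ b) {θ : H → ℂ} (hθ : IsClassFunction H θ) (y : H) : blockPart b θ y = θ y := by
  classical
  let _ := Fintype.ofFinite H
  have hb' : b = Set.univ := Set.eq_univ_of_forall hb
  subst hb'
  have h2 : blockPart (Set.univ : Set (IrrCharacter H)) θ y =
      ∑ᶠ χ : IrrCharacter H, classInner θ (χ : H → ℂ) * (χ : H → ℂ) y := by
    rw [Blocks.CentralizerSum.blockPart_eq, finsum_mem_univ]
  have : Finite (IrrCharacter H) := Characters.Core.finite_irr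
  let _ := Fintype.ofFinite (IrrCharacter H)
  rw [h2, finsum_eq_sum_of_fintype]
  conv_rhs => rw [Characters.Core.classFunction_eq_sum hθ]
  rw [Finset.sum_apply]
  rfl

/-- A character outside the principal block vanishes on the section of `u` if `C_G(u)` has one block. -/
theorem eq_zero_of_oneBlock (hM : IsPModular p M) {u : G} (hu : ∃ k : ℕ, orderOf u = p ^ k)
    (hC : ∀ ψ : IrrCharacter (Subgroup.centralizer ({u} : Set G)),
      ψ ∈ principalBlock M (Subgroup.centralizer ({u} : Set G)))
    {χ : IrrCharacter G} (hχ : χ ∉ principalBlock M G) {y : G}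
    (hy : y ∈ Subgroup.centralizer ({u} : Set G)) (hyr : ¬ p ∣ orderOf y) :
    (χ : G → ℂ) (u * y) = 0 := by
  have := isPrime_of_isPModular hM
  have h : blockPart (principalBlock M (Subgroup.centralizer ({u} : Set G)))
      (fun c : Subgroup.centralizer ({u} : Set G) => (χ : G → ℂ) (u * (c : G))) ⟨y, hy⟩ = 0 :=
    S0923.result p M hM u hu (blockOf M (χ : G → ℂ)) (isPBlock_blockOf χ) χ
      (mem_blockOf_self χ) _ PrincipalSection.isPBlock_principalBlock
      (Ree.LBlock.not_isInducedBlock hM hu hχ) ⟨y, hy⟩ (by rwa [Subgroup.orderOf_mk])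
  rw [blockPart_univ hC] at h
  · exact h
  · intro g k
    show (χ : G → ℂ) (u * ((k * g * k⁻¹ : Subgroup.centralizer ({u} : Set G)) : G)) =
      (χ : G → ℂ) (u * (g : G))
    have hk : u * (k : G) = k * u := (Subgroup.mem_centralizer_iff.1 k.2 u rfl)
    have e : u * ((k * g * k⁻¹ : Subgroup.centralizer ({u} : Set G)) : G) =
        (k : G) * (u * (g : G)) * (k : G)⁻¹ := by
      rw [Subgroup.coe_mul, Subgroup.coe_mul, Subgroup.coe_inv]
      calc u * ((k : G) * g * (k : G)⁻¹) = (u * (k : G)) * g * (k : G)⁻¹ := by group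
        _ = (k : G) * (u * (g : G)) * (k : G)⁻¹ := by rw [hk]; group
    rw [e]
    exact Characters.Core.isIrr_isClassFunction χ.2 _ _

/-- All irreducible characters of a solvable group without normal `p'`-subgroups lie in the principal block. -/
theorem mem_principal_of_solvable (hM : IsPModular p M) {H : Type u} [Group H] [Finite H]
    [Group.IsSolvable H] (hcore : pPrimeCore p H = ⊥) (ψ : IrrCharacter H) :
    ψ ∈ principalBlock M H :=
  S0915.result p M hM (Lib.PSolvable.IsPSolvable_of_solvable p) hcore
    ⟨(1 : H → ℂ), Characters.Core.isIrr_one⟩ ψ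

/-- A character outside the principal block vanishes on the section of `u` if `C_G(u)` is solvable with
`O_{p'}(C_G(u)) = 1`. -/
theorem eq_zero_of_solvable (hM : IsPModular p M) {u : G} (hu : ∃ k : ℕ, orderOf u = p ^ k)
    (hs : Group.IsSolvable (Subgroup.centralizer ({u} : Set G)))
    (hcore : pPrimeCore p (Subgroup.centralizer ({u} : Set G)) = ⊥)
    {χ : IrrCharacter G} (hχ : χ ∉ principalBlock M G) {y : G}
    (hy : y ∈ Subgroup.centralizer ({u} : Set G)) (hyr : ¬ p ∣ orderOf y) :
    (χ : G → ℂ) (u * y) = 0 :=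
  eq_zero_of_oneBlock hM hu (mem_principal_of_solvable hM hcore) hχ hy hyr

/-- If all centralizers of `p`-elements `u ≠ 1` are solvable with trivial `p'`-core then the characters outside the
principal block vanish on `p`-singular elements. -/
theorem eq_zero_of_singular (hM : IsPModular p M)
    (hs : ∀ u : G, u ≠ 1 → (∃ k : ℕ, orderOf u = p ^ k) →
      Group.IsSolvable (Subgroup.centralizer ({u} : Set G)) ∧
        pPrimeCore p (Subgroup.centralizer ({u} : Set G)) = ⊥)
    {χ : IrrCharacter G} (hχ : χ ∉ principalBlock M G) {g : G} (hg : p ∣ orderOf g) :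
    (χ : G → ℂ) g = 0 := by
  obtain ⟨u, y, rfl, hc, hk, hy⟩ := PPart.exists_isPPart p g
  have hu1 : u ≠ 1 := by
    rintro rfl
    rw [one_mul] at hg
    exact hy hg
  obtain ⟨h1, h2⟩ := hs u hu1 hk
  refine eq_zero_of_solvable hM hk h1 h2 hχ ?_ hy
  rw [Subgroup.mem_centralizer_iff]
  rintro _ rfl
  exact hc

/-- Irreducible characters separate conjugacy classes. -/
theorem isConj_of_forall_eq {x y : G} (h : ∀ χ : IrrCharacter G, (χ : G → ℂ) x = (χ : G → ℂ) y) :
    IsConj x y := by
  classical
  have := Fintype.ofFinite G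
  have : Finite (IrrCharacter G) := Characters.Core.finite_irr
  have := Fintype.ofFinite (IrrCharacter G)
  by_contra hcon
  have h1 := S0145.sum_irr_mul_conj (G := G) x y
  rw [if_neg hcon, Finset.sum_congr rfl fun χ _ => by rw [h χ]] at h1
  have h2 := S0145.sum_irr_mul_conj (G := G) y y
  rw [if_pos (IsConj.refl y), h1] at h2
  have h3 : (Nat.card (Subgroup.centralizer ({y} : Set G)) : ℂ) ≠ 0 := by
    exact_mod_cast Nat.card_pos.ne'
  exact h3 h2.symm

/-- If the characters outside the principal block vanish on `p`-singular elements then the centralizers of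
`p`-elements have trivial `p'`-cores. -/
theorem core_eq_bot (hM : IsPModular p M)
    (hv : ∀ χ : IrrCharacter G, χ ∉ principalBlock M G → ∀ g : G, p ∣ orderOf g → (χ : G → ℂ) g = 0)
    {u : G} (hu : ∃ k : ℕ, orderOf u = p ^ k) (hu1 : u ≠ 1) :
    pPrimeCore p (Subgroup.centralizer ({u} : Set G)) = ⊥ := by
  have hp : p.Prime := Fact.out
  rw [Subgroup.eq_bot_iff_forall]
  intro v hv'
  have hcop : ¬ p ∣ orderOf (v : G) := by
    intro hd
    have h1 : orderOf v ∣ Nat.card (pPrimeCore p (Subgroup.centralizer ({u} : Set G))) := by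
      have := orderOf_dvd_natCard
        (⟨v, hv'⟩ : pPrimeCore p (Subgroup.centralizer ({u} : Set G)))
      rwa [← Subgroup.orderOf_coe] at this
    rw [Subgroup.orderOf_coe] at hd
    have h2 := Lib.Cores.pPrimeCore_coprime (G := Subgroup.centralizer ({u} : Set G)) p
    exact ((Nat.Prime.coprime_iff_not_dvd hp).1 h2.symm) (hd.trans h1)
  have hc : Commute u (v : G) := Subgroup.mem_centralizer_iff.1 v.2 u rfl
  obtain ⟨k, hk⟩ := hu
  have hpu : p ∣ orderOf u := by
    rw [hk]
    refine dvd_pow_self p ?_
    rintro rfl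
    rw [pow_zero, orderOf_eq_one_iff] at hk
    exact hu1 hk
  have hcop2 : (orderOf u).Coprime (orderOf (v : G)) := by
    rw [hk]
    exact Nat.Coprime.pow_left k ((Nat.Prime.coprime_iff_not_dvd hp).2 hcop)
  have hord : orderOf (u * (v : G)) = orderOf u * orderOf (v : G) :=
    hc.orderOf_mul_eq_mul_orderOf_of_coprime hcop2
  have h1 : IsConj (u * (v : G)) u := by
    refine isConj_of_forall_eq fun χ => ?_
    by_cases hχ : χ ∈ principalBlock M G
    · exact S0942.result p M hM u ⟨k, hk⟩ v ⟨v, hv', rfl⟩ χ hχ
    · rw [hv χ hχ u hpu, hv χ hχ _ (by rw [hord]; exact hpu.mul_right _)]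
  have h2 : orderOf (u * (v : G)) = orderOf u := by
    obtain ⟨c, hc'⟩ := isConj_iff.1 h1
    have e := orderOf_injective (MulAut.conj c).toMonoidHom (MulAut.conj c).injective
      (u * (v : G))
    have e2 : (MulAut.conj c).toMonoidHom (u * (v : G)) = u := hc'
    rw [e2] at e
    exact e.symm
  rw [hord] at h2
  have h3 : orderOf (v : G) = 1 := by
    have h4 : 0 < orderOf u := orderOf_pos u
    exact Nat.eq_of_mul_eq_mul_left h4 (by rw [h2, mul_one])
  rw [orderOf_eq_one_iff] at h3
  exact Subtype.ext h3

end Cfsg.Agent.SmallSimple.S1000.OneBlock
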