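import Mathlib
import Cfsg.Prelude.Def_Classical
import Cfsg.Agent.S0243
import Cfsg.Agent.S0280
import Cfsg.Agent.SmallSimple.PSLTwoPart
import Cfsg.Agent.SmallSimple.S1000.ArithSeven

/-!
# S1000: the order arithmetic of the families of S0482 and S0222

`N = p * 3 ^ a * 2 ^ b` with a prime `p ≥ 5`.
-/

set_option autoImplicit false

namespace Cfsg.Agent.SmallSimple.S1000.OrderArith

open Matrix

/-- `n` divides a number of the form `p * 3 ^ a * 2 ^ b`. -/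
def Dv (p n : ℕ) : Prop := ∃ a b : ℕ, n ∣ p * 3 ^ a * 2 ^ b

variable {p : ℕ}

theorem Dv.of_dvd {m n : ℕ} (h : Dv p n) (hm : m ∣ n) : Dv p m := by
  obtain ⟨a, b, h⟩ := h
  exact ⟨a, b, hm.trans h⟩

theorem Dv.prime {q n : ℕ} (hp : p.Prime) (h : Dv p n) (hq : q.Prime) (hqn : q ∣ n) :
    q = p ∨ q = 3 ∨ q = 2 := by
  obtain ⟨a, b, h⟩ := h
  have h1 := hqn.trans h
  rcases (Nat.Prime.dvd_mul hq).1 h1 with h2 | h2
  · rcases (Nat.Prime.dvd_mul hq).1 h2 with h3 | h3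
    · exact Or.inl ((Nat.prime_dvd_prime_iff_eq hq hp).1 h3)
    · exact Or.inr (Or.inl ((Nat.prime_dvd_prime_iff_eq hq Nat.prime_three).1
        (hq.dvd_of_dvd_pow h3)))
  · exact Or.inr (Or.inr ((Nat.prime_dvd_prime_iff_eq hq Nat.prime_two).1
      (hq.dvd_of_dvd_pow h2)))

theorem not_dvd_pow_three (hp : p.Prime) (h5 : 5 ≤ p) (a : ℕ) : ¬ p ∣ 3 ^ a := by
  intro h
  have := (Nat.prime_dvd_prime_iff_eq hp Nat.prime_three).1 (hp.dvd_of_dvd_pow h)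
  omega

theorem not_dvd_pow_two (hp : p.Prime) (h5 : 5 ≤ p) (a : ℕ) : ¬ p ∣ 2 ^ a := by
  intro h
  have := (Nat.prime_dvd_prime_iff_eq hp Nat.prime_two).1 (hp.dvd_of_dvd_pow h)
  omega

theorem Dv.not_sq {n m : ℕ} (hp : p.Prime) (h5 : 5 ≤ p) (h : Dv p (n * m)) (hn : p ∣ n) (hm : p ∣ m) :
    False := by
  obtain ⟨a, b, h⟩ := h
  have h1 : p * p ∣ p * (3 ^ a * 2 ^ b) := by
    rw [← mul_assoc]
    exact (mul_dvd_mul hn hm).trans h
  have h2 := Nat.dvd_of_mul_dvd_mul_left hp.pos h1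
  rcases (Nat.Prime.dvd_mul hp).1 h2 with h3 | h3
  · exact not_dvd_pow_three hp h5 a h3
  · exact not_dvd_pow_two hp h5 b h3

/-- A divisor prime to `p` and 3 is a power of 2. -/
theorem Dv.two_pow {n : ℕ} (hp : p.Prime) (h : Dv p n) (hnp : ¬ p ∣ n) (hn3 : ¬ 3 ∣ n) :
    ∃ k, n = 2 ^ k := by
  obtain ⟨a, b, h⟩ := h
  have h1 : n ∣ 2 ^ b := by
    have c1 : Nat.Coprime n (p * 3 ^ a) :=
      Nat.Coprime.mul_right ((Nat.Prime.coprime_iff_not_dvd hp).2 hnp).symm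
        (Nat.Coprime.pow_right _ ((Nat.Prime.coprime_iff_not_dvd Nat.prime_three).2 hn3).symm)
    exact c1.dvd_of_dvd_mul_left h
  obtain ⟨k, -, hk⟩ := (Nat.dvd_prime_pow Nat.prime_two).mp h1
  exact ⟨k, hk⟩

/-- A divisor prime to `p` and 2 is a power of 3. -/
theorem Dv.three_pow {n : ℕ} (hp : p.Prime) (h : Dv p n) (hnp : ¬ p ∣ n) (hn2 : ¬ 2 ∣ n) :
    ∃ k, n = 3 ^ k := by
  obtain ⟨a, b, h⟩ := h
  have h1 : n ∣ 3 ^ a := by
    have c1 : Nat.Coprime n (2 ^ b) :=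
      Nat.Coprime.pow_right _ ((Nat.Prime.coprime_iff_not_dvd Nat.prime_two).2 hn2).symm
    have h2 : n ∣ p * 3 ^ a := c1.dvd_of_dvd_mul_right h
    have c2 : Nat.Coprime n p := ((Nat.Prime.coprime_iff_not_dvd hp).2 hnp).symm
    exact c2.dvd_of_dvd_mul_left h2
  obtain ⟨k, -, hk⟩ := (Nat.dvd_prime_pow Nat.prime_three).mp h1
  exact ⟨k, hk⟩

theorem pow_three_eq {f k : ℕ} (h : 3 ^ f = 2 ^ k + 1) : (f = 1 ∧ k = 1) ∨ (f = 2 ∧ k = 3) := by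
  refine ArithSeven.catalan_one ?_ (by exact_mod_cast h)
  rcases Nat.eq_zero_or_pos k with rfl | hk
  · exfalso
    norm_num at h
    rcases f with _ | f
    · norm_num at h
    · rw [pow_succ] at h
      omega
  · exact hk

theorem pow_two_eq {f k : ℕ} (h : 2 ^ k = 3 ^ f + 1) : (f = 0 ∧ k = 1) ∨ (f = 1 ∧ k = 2) :=
  ArithSeven.catalan_two (by exact_mod_cast h)

theorem not_three_dvd_pow_sub {f : ℕ} (hf : f ≠ 0) : ¬ 3 ∣ 3 ^ f - 1 := by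
  obtain ⟨g, rfl⟩ := Nat.exists_eq_succ_of_ne_zero hf
  have h0 : 0 < 3 ^ g := by positivity
  rw [pow_succ]
  omega

theorem not_three_dvd_pow_add {f : ℕ} (hf : f ≠ 0) : ¬ 3 ∣ 3 ^ f + 1 := by
  obtain ⟨g, rfl⟩ := Nat.exists_eq_succ_of_ne_zero hf
  rw [pow_succ]
  omega

theorem not_two_dvd_pow_sub {f : ℕ} (hf : f ≠ 0) : ¬ 2 ∣ 2 ^ f - 1 := by
  obtain ⟨g, rfl⟩ := Nat.exists_eq_succ_of_ne_zero hf
  have h0 : 0 < 2 ^ g := by positivity
  rw [pow_succ]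
  omega

theorem not_two_dvd_pow_add {f : ℕ} (hf : f ≠ 0) : ¬ 2 ∣ 2 ^ f + 1 := by
  obtain ⟨g, rfl⟩ := Nat.exists_eq_succ_of_ne_zero hf
  rw [pow_succ]
  omega

/-- `p ≥ 5` does not divide both `q - 1` and `q + 1`. -/
theorem not_both {q : ℕ} (hp : p.Prime) (h5 : 5 ≤ p) (hq : 1 ≤ q) (h1 : p ∣ q - 1) (h2 : p ∣ q + 1) :
    False := by
  have h3 : p ∣ (q + 1) - (q - 1) := Nat.dvd_sub h2 h1
  have h4 : (q + 1) - (q - 1) = 2 := by omega
  rw [h4] at h3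
  have := Nat.le_of_dvd (by norm_num) h3
  omega

theorem psl_two_odd {q : ℕ} (hp : p.Prime) (h5 : 5 ≤ p) (hq : IsPrimePow q) (hodd : Odd q)
    (hq5 : 5 ≤ q) (h : Dv p (q * ((q - 1) * (q + 1)))) : q = 5 ∨ q = 7 ∨ q = 9 ∨ q = 17 := by
  obtain ⟨r, f, hr, hf, rfl⟩ := (isPrimePow_nat_iff q).mp hq
  have hf0 : f ≠ 0 := hf.ne'
  have hrq : r ∣ r ^ f := dvd_pow_self r hf0
  have hr2 : r ≠ 2 := by
    rintro rfl
    rw [Nat.odd_pow_iff hf0] at hodd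
    exact absurd hodd (by decide)
  have hd := h.of_dvd (Dvd.intro_left (r ^ f) rfl)
  have hd1 := hd.of_dvd (Dvd.intro _ rfl : r ^ f - 1 ∣ _)
  have hd2 := hd.of_dvd (Dvd.intro_left _ rfl : r ^ f + 1 ∣ _)
  rcases h.prime hp hr (hrq.mul_right _) with rfl | rfl | rfl
  · -- `r = p`
    have hf1 : f = 1 := by
      by_contra hf1
      obtain ⟨g, rfl⟩ : ∃ g, f = g + 2 := ⟨f - 2, by omega⟩
      refine Dv.not_sq (n := r ^ g * r) (m := r * ((r ^ (g + 2) - 1) * (r ^ (g + 2) + 1))) hr h5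
        ?_ (Dvd.intro_left _ rfl) (Dvd.intro _ rfl)
      have e : r ^ g * r * (r * ((r ^ (g + 2) - 1) * (r ^ (g + 2) + 1))) =
        r ^ (g + 2) * ((r ^ (g + 2) - 1) * (r ^ (g + 2) + 1)) := by ring
      rw [e]
      exact h
    subst hf1
    rw [pow_one] at *
    obtain ⟨u, hu⟩ := hodd
    have hu2 : 2 ≤ u := by omega
    have h1 : ¬ r ∣ r - 1 := fun h => absurd (Nat.le_of_dvd (by omega) h) (by omega)
    have h2 : ¬ r ∣ r + 1 := by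
      intro h
      have h3 : r ∣ r + 1 - r := Nat.dvd_sub h dvd_rfl
      rw [Nat.add_sub_cancel_left] at h3
      exact absurd (Nat.le_of_dvd (by norm_num) h3) (by omega)
    have hdu : Dv r u := hd1.of_dvd ⟨2, by omega⟩
    have hdv : Dv r (u + 1) := hd2.of_dvd ⟨2, by omega⟩
    have hru : ¬ r ∣ u := fun h => h1 (h.trans ⟨2, by omega⟩)
    have hrv : ¬ r ∣ u + 1 := fun h => h2 (h.trans ⟨2, by omega⟩)
    by_cases h3 : 3 ∣ u
    · -- `u + 1` is prime to 3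
      obtain ⟨k, hk⟩ := hdv.two_pow hr hrv (by omega)
      have hk1 : k ≠ 0 := by rintro rfl; omega
      have h2u : ¬ 2 ∣ u := by
        intro h2u
        have h2v : 2 ∣ u + 1 := hk ▸ dvd_pow_self 2 hk1
        omega
      obtain ⟨j, hj⟩ := hdu.three_pow hr hru h2u
      rcases pow_two_eq (f := j) (k := k) (by omega) with ⟨rfl, rfl⟩ | ⟨rfl, rfl⟩
      · omega
      · right; left; omega
    · obtain ⟨k, hk⟩ := hdu.two_pow hr hru h3
      have hk1 : k ≠ 0 := by rintro rfl; omega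
      have h2v : ¬ 2 ∣ u + 1 := by
        intro h2v
        have h2u : 2 ∣ u := hk ▸ dvd_pow_self 2 hk1
        omega
      obtain ⟨j, hj⟩ := hdv.three_pow hr hrv h2v
      rcases pow_three_eq (f := j) (k := k) (by omega) with ⟨rfl, rfl⟩ | ⟨rfl, rfl⟩
      · left; omega
      · right; right; right; omega
  · -- `r = 3`
    have hq1 : 1 ≤ 3 ^ f := Nat.one_le_pow _ _ (by norm_num)
    by_cases hp1 : p ∣ 3 ^ f - 1
    · have hp2 : ¬ p ∣ 3 ^ f + 1 := fun h2 => not_both hp h5 hq1 hp1 h2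
      obtain ⟨k, hk⟩ := hd2.two_pow hp hp2 (not_three_dvd_pow_add hf0)
      rcases pow_two_eq (f := f) (k := k) hk.symm with ⟨rfl, rfl⟩ | ⟨rfl, rfl⟩
      · omega
      · norm_num at hq5
    · obtain ⟨k, hk⟩ := hd1.two_pow hp hp1 (not_three_dvd_pow_sub hf0)
      rcases pow_three_eq (f := f) (k := k) (by omega) with ⟨rfl, rfl⟩ | ⟨rfl, rfl⟩
      · norm_num at hq5
      · right; right; left; norm_num
  · exact absurd rfl hr2

theorem psl_two_even {q : ℕ} (hp : p.Prime) (h5 : 5 ≤ p) (hq : IsPrimePow q) (heven : Even q)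
    (hq4 : 4 ≤ q) (h : Dv p (q * ((q - 1) * (q + 1)))) : q = 4 ∨ q = 8 := by
  obtain ⟨r, f, hr, hf, rfl⟩ := (isPrimePow_nat_iff q).mp hq
  have hf0 : f ≠ 0 := hf.ne'
  have hr2 : r = 2 := ((Nat.Prime.even_iff hr).1 ((Nat.even_pow.1 heven).1))
  subst hr2
  have hd := h.of_dvd (Dvd.intro_left (2 ^ f) rfl)
  have hd1 := hd.of_dvd (Dvd.intro _ rfl : 2 ^ f - 1 ∣ _)
  have hd2 := hd.of_dvd (Dvd.intro_left _ rfl : 2 ^ f + 1 ∣ _)
  have hq1 : 1 ≤ 2 ^ f := Nat.one_le_pow _ _ (by norm_num)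
  by_cases hp1 : p ∣ 2 ^ f - 1
  · have hp2 : ¬ p ∣ 2 ^ f + 1 := fun h2 => not_both hp h5 hq1 hp1 h2
    obtain ⟨k, hk⟩ := hd2.three_pow hp hp2 (not_two_dvd_pow_add hf0)
    rcases pow_three_eq (f := k) (k := f) hk.symm with ⟨rfl, rfl⟩ | ⟨rfl, rfl⟩
    · norm_num at hq4
    · right; norm_num
  · obtain ⟨k, hk⟩ := hd1.three_pow hp hp1 (not_two_dvd_pow_sub hf0)
    rcases pow_two_eq (f := k) (k := f) (by omega) with ⟨rfl, rfl⟩ | ⟨rfl, rfl⟩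
    · norm_num at hq4
    · left; norm_num

/-- The characteristic of a field whose order occurs with exponent `≥ 2` is 2 or 3. -/
theorem eq_two_or_three {q m : ℕ} (hp : p.Prime) (h5 : 5 ≤ p) {r f : ℕ} (hr : r.Prime) (hf : f ≠ 0)
    (hq : q = r ^ f) (h : Dv p (q ^ 3 * m)) : r = 2 ∨ r = 3 := by
  subst hq
  have hrq : r ∣ r ^ f := dvd_pow_self r hf
  rcases h.prime hp hr ((hrq.trans (dvd_pow_self _ (by norm_num))).mul_right _) with rfl | rfl | rfl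
  · exfalso
    refine Dv.not_sq (n := r ^ f) (m := (r ^ f) ^ 2 * m) hr h5 ?_ hrq
      ((hrq.trans (dvd_pow_self _ (by norm_num))).mul_right _)
    have e : r ^ f * ((r ^ f) ^ 2 * m) = (r ^ f) ^ 3 * m := by ring
    rw [e]
    exact h
  · exact Or.inr rfl
  · exact Or.inl rfl

theorem not_dvd_two {n m l r s : ℕ} (hr : r.Prime) (hs : s.Prime) (hrs : r ≠ s) (hp : p.Prime)
    (hr3 : 3 < r) (hs3 : 3 < s) (h : Dv p n) (hl : n = r * m) (hl' : n = s * l) : False := by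
  rcases h.prime hp hr ⟨m, hl⟩ with h1 | h1 | h1
  · rcases h.prime hp hs ⟨l, hl'⟩ with h2 | h2 | h2
    · exact hrs (h1.trans h2.symm)
    · omega
    · omega
  · omega
  · omega

theorem psl_three_odd {q : ℕ} (hp : p.Prime) (h5 : 5 ≤ p) (hq : IsPrimePow q) (hodd : Odd q)
    (h : Dv p (q ^ 3 * ((q ^ 2 - 1) * (q ^ 3 - 1)))) : q = 3 := by
  obtain ⟨r, f, hr, hf, rfl⟩ := (isPrimePow_nat_iff q).mp hq
  have hf0 : f ≠ 0 := hf.ne'
  have hr3 : r = 3 := by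
    rcases eq_two_or_three hp h5 hr hf0 rfl h with rfl | rfl
    · rw [Nat.odd_pow_iff hf0] at hodd
      exact absurd hodd (by decide)
    · rfl
  subst hr3
  obtain ⟨u, hu⟩ : ∃ u, 3 ^ f = u + 1 := ⟨3 ^ f - 1, by
    have : 1 ≤ 3 ^ f := Nat.one_le_pow _ _ (by norm_num)
    omega⟩
  have hn3 := not_three_dvd_pow_sub hf0
  rw [hu] at h hn3 ⊢
  rw [Nat.add_sub_cancel] at hn3
  have e1 : (u + 1) ^ 2 - 1 = u * (u + 2) := by
    have : (u + 1) ^ 2 = u * (u + 2) + 1 := by ring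
    rw [this, Nat.add_sub_cancel]
  have e2 : (u + 1) ^ 3 - 1 = u * (u ^ 2 + 3 * u + 3) := by
    have : (u + 1) ^ 3 = u * (u ^ 2 + 3 * u + 3) + 1 := by ring
    rw [this, Nat.add_sub_cancel]
  rw [e1, e2] at h
  have h1 : Dv p (u * u) := h.of_dvd ⟨(u + 1) ^ 3 * ((u + 2) * (u ^ 2 + 3 * u + 3)), by ring⟩
  have hpu : ¬ p ∣ u := fun h2 => Dv.not_sq hp h5 h1 h2 h2
  obtain ⟨k, hk⟩ := (h1.of_dvd (Dvd.intro _ rfl)).two_pow hp hpu hn3
  rcases pow_three_eq (f := f) (k := k) (by rw [hu, hk]) with ⟨rfl, rfl⟩ | ⟨rfl, rfl⟩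
  · omega
  · exfalso
    obtain rfl : u = 8 := by omega
    exact not_dvd_two (n := (8 + 1) ^ 3 * (8 * (8 + 2) * (8 * (8 ^ 2 + 3 * 8 + 3)))) (r := 7) (s := 13)
      (by norm_num) (by norm_num) (by norm_num) hp (by norm_num) (by norm_num) h
      (m := (8 + 1) ^ 3 * (8 * (8 + 2) * (8 * 13))) (l := (8 + 1) ^ 3 * (8 * (8 + 2) * (8 * 7)))
      (by norm_num) (by norm_num)

theorem psu_three_odd {q : ℕ} (hp : p.Prime) (h5 : 5 ≤ p) (hq : IsPrimePow q) (hodd : Odd q)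
    (h : Dv p (q ^ 3 * ((q ^ 2 - 1) * (q ^ 3 + 1)))) : q = 3 := by
  obtain ⟨r, f, hr, hf, rfl⟩ := (isPrimePow_nat_iff q).mp hq
  have hf0 : f ≠ 0 := hf.ne'
  have hr3 : r = 3 := by
    rcases eq_two_or_three hp h5 hr hf0 rfl h with rfl | rfl
    · rw [Nat.odd_pow_iff hf0] at hodd
      exact absurd hodd (by decide)
    · rfl
  subst hr3
  obtain ⟨u, hu⟩ : ∃ u, 3 ^ f = u + 1 := ⟨3 ^ f - 1, by
    have : 1 ≤ 3 ^ f := Nat.one_le_pow _ _ (by norm_num)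
    omega⟩
  have hn3 := not_three_dvd_pow_add hf0
  rw [hu] at h hn3 ⊢
  have e1 : (u + 1) ^ 2 - 1 = u * (u + 2) := by
    have : (u + 1) ^ 2 = u * (u + 2) + 1 := by ring
    rw [this, Nat.add_sub_cancel]
  rw [e1] at h
  have h1 : Dv p ((u + 2) * (u + 2)) :=
    h.of_dvd ⟨(u + 1) ^ 3 * (u * (u ^ 2 + u + 1)), by ring⟩
  have hpu : ¬ p ∣ u + 2 := fun h2 => Dv.not_sq hp h5 h1 h2 h2
  obtain ⟨k, hk⟩ := (h1.of_dvd (Dvd.intro _ rfl)).two_pow hp hpu hn3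
  rcases pow_two_eq (f := f) (k := k) (by rw [hu, ← hk]) with ⟨rfl, rfl⟩ | ⟨rfl, rfl⟩
  · omega
  · omega

theorem psu_three_even {q : ℕ} (hp : p.Prime) (h5 : 5 ≤ p) (hq : IsPrimePow q) (heven : Even q)
    (hq4 : 4 ≤ q) (h : Dv p (q ^ 3 * ((q ^ 2 - 1) * (q ^ 3 + 1)))) : False := by
  obtain ⟨r, f, hr, hf, rfl⟩ := (isPrimePow_nat_iff q).mp hq
  have hf0 : f ≠ 0 := hf.ne'
  have hr2 : r = 2 := ((Nat.Prime.even_iff hr).1 ((Nat.even_pow.1 heven).1))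
  subst hr2
  obtain ⟨u, hu⟩ : ∃ u, 2 ^ f = u + 1 := ⟨2 ^ f - 1, by
    have : 1 ≤ 2 ^ f := Nat.one_le_pow _ _ (by norm_num)
    omega⟩
  have hn2 := not_two_dvd_pow_add hf0
  rw [hu] at h hn2 hq4
  have e1 : (u + 1) ^ 2 - 1 = u * (u + 2) := by
    have : (u + 1) ^ 2 = u * (u + 2) + 1 := by ring
    rw [this, Nat.add_sub_cancel]
  rw [e1] at h
  have h1 : Dv p ((u + 2) * (u + 2)) :=
    h.of_dvd ⟨(u + 1) ^ 3 * (u * (u ^ 2 + u + 1)), by ring⟩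
  have hpu : ¬ p ∣ u + 2 := fun h2 => Dv.not_sq hp h5 h1 h2 h2
  obtain ⟨k, hk⟩ := (h1.of_dvd (Dvd.intro _ rfl)).three_pow hp hpu hn2
  rcases pow_three_eq (f := k) (k := f) (by rw [hu, ← hk]) with ⟨rfl, rfl⟩ | ⟨rfl, rfl⟩
  · omega
  · obtain rfl : u = 7 := by omega
    exact not_dvd_two (n := (7 + 1) ^ 3 * (7 * (7 + 2) * ((7 + 1) ^ 3 + 1))) (r := 7) (s := 19)
      (by norm_num) (by norm_num) (by norm_num) hp (by norm_num) (by norm_num) h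
      (m := (7 + 1) ^ 3 * ((7 + 2) * ((7 + 1) ^ 3 + 1))) (l := (7 + 1) ^ 3 * (7 * (7 + 2) * 27))
      (by norm_num) (by norm_num)

end Cfsg.Agent.SmallSimple.S1000.OrderArith
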