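import Cfsg.Agent.SmallSimple.S1000.QStruct

/-!
# The structure of `X = O₂(C(z))`: main theorem
-/

set_option autoImplicit false

namespace Cfsg.Agent.SmallSimple.S1000.QStructMain

open Subgroup Cfsg Cfsg.Agent.Lib Cfsg.Agent.SmallSimple.S1000.QStruct
open scoped commutatorElement

variable {G : Type*} [Group G]

/-- `X` is the central product of the quaternion groups `⟨x i, y i⟩ = C_{[X,B]}(H i)` of order 8 and
the cyclic group `R = C_X(B)`. -/
structure QS (z : G) (X B : Subgroup G) {k : ℕ} (H : Fin k → Subgroup G) (x y : Fin k → G) :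
    Prop where
  HB : ∀ i, H i ≤ B
  H3 : ∀ i, (H i).relIndex B = 3
  Hinj : Function.Injective H
  faith : ∀ b ∈ B, (∀ i, b ∈ H i) → b = 1
  xX : ∀ i, x i ∈ X
  yX : ∀ i, y i ∈ X
  xH : ∀ i, x i ∈ centralizer (H i : Set G)
  yH : ∀ i, y i ∈ centralizer (H i : Set G)
  xx : ∀ i, x i * x i = z
  yy : ∀ i, y i * y i = z
  xy : ∀ i, x i * y i = z * (y i * x i)
  comm : ∀ i j, i ≠ j → x i * x j = x j * x i ∧ x i * y j = y j * x i ∧ y i * y j = y j * y i
  Rcyc : IsCyclic ↥(X ⊓ centralizer (B : Set G))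
  zR : z ∈ X ⊓ centralizer (B : Set G)
  RX : ∀ r ∈ X ⊓ centralizer (B : Set G), ∀ i, r * x i = x i * r ∧ r * y i = y i * r
  cent : ∀ w ∈ X, (∀ i, w * x i = x i * w ∧ w * y i = y i * w) → w ∈ centralizer (B : Set G)
  derived : ∀ w ∈ X, ∀ w' ∈ X, w * w' = w' * w ∨ w * w' = z * (w' * w)
  gen : ∀ w ∈ X, ∃ u ∈ closure (Set.range x ∪ Set.range y), ∃ r ∈ X ⊓ centralizer (B : Set G),
    w = u * r
  card : Nat.card X = 4 ^ k * Nat.card ↥(X ⊓ centralizer (B : Set G))
  omega : ∀ w ∈ X ⊓ centralizer (B : Set G), w * w = 1 → w = 1 ∨ w = z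

/-- the centraliser of a pair -/
def C2 (x y : G) : Subgroup G := centralizer {x} ⊓ centralizer {y}

theorem mem_C2 {x y w : G} : w ∈ C2 x y ↔ w * x = x * w ∧ w * y = y * w := by
  rw [C2, mem_inf, mem_centralizer_singleton_iff, mem_centralizer_singleton_iff]

theorem exists_mem_C2 {z x y w : G} (hz : z * z = 1) (hxx : x * x = z) (hyy : y * y = z)
    (hxy : x * y = z * (y * x)) (hzw : z * w = w * z)
    (h1 : Rz z (x * w) (w * x)) (h2 : Rz z (y * w) (w * y)) :
    ∃ v ∈ closure ({x, y} : Set G), w * v ∈ C2 x y := by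
  have hx : x ∈ closure ({x, y} : Set G) := subset_closure (by simp)
  have hy : y ∈ closure ({x, y} : Set G) := subset_closure (by simp)
  have hzx : z * x = x * z := by rw [← hxx, mul_assoc]
  have hzy : z * y = y * z := by rw [← hyy, mul_assoc]
  have hyx : y * x = z * (x * y) := by rw [hxy, ← mul_assoc, hz, one_mul]
  rcases h1 with h1 | h1 <;> rcases h2 with h2 | h2
  · exact ⟨1, one_mem _, mem_C2.mpr ⟨by rw [mul_one, h1], by rw [mul_one, h2]⟩⟩
  · refine ⟨x, hx, mem_C2.mpr ⟨by rw [← h1, mul_assoc, h1], ?_⟩⟩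
    calc w * x * y = w * (x * y) := by group
      _ = (w * z) * (y * x) := by rw [hxy]; group
      _ = z * (w * y) * x := by rw [← hzw]; group
      _ = y * w * x := by rw [← h2]
      _ = y * (w * x) := by group
  · refine ⟨y, hy, mem_C2.mpr ⟨?_, by rw [← h2, mul_assoc, h2]⟩⟩
    calc w * y * x = w * (y * x) := by group
      _ = (w * z) * (x * y) := by rw [hyx]; group
      _ = z * (w * x) * y := by rw [← hzw]; group
      _ = x * w * y := by rw [← h1]
      _ = x * (w * y) := by group
  · refine ⟨x * y, mul_mem hx hy, mem_C2.mpr ⟨?_, ?_⟩⟩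
    · calc w * (x * y) * x = w * x * (y * x) := by group
        _ = w * (x * z) * (x * y) := by rw [hyx]; group
        _ = (w * z) * x * (x * y) := by rw [← hzx]; group
        _ = z * (w * x) * (x * y) := by rw [← hzw]; group
        _ = x * w * (x * y) := by rw [← h1]
        _ = x * (w * (x * y)) := by group
    · calc w * (x * y) * y = (w * z) * (y * x) * y := by rw [hxy]; group
        _ = z * (w * y) * (x * y) := by rw [← hzw]; group
        _ = y * w * (x * y) := by rw [← h2]
        _ = y * (w * (x * y)) := by group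

theorem card_eq_two_mul {P : Subgroup G} {x a : G} (ha : a ∈ P)
    (h : ∀ b ∈ P, Xor (b * a * x = x * (b * a)) (b * x = x * b)) :
    Nat.card P = 2 * Nat.card (P ⊓ centralizer {x} : Subgroup G) := by
  have h1 : ((P ⊓ centralizer {x}).subgroupOf P).index = 2 := by
    rw [index_eq_two_iff]
    refine ⟨⟨a, ha⟩, fun b => ?_⟩
    have h2 := h b b.2
    have e1 : (b * ⟨a, ha⟩ ∈ (P ⊓ centralizer {x}).subgroupOf P) ↔
        ((b : G) * a * x = x * (b * a)) := by
      rw [mem_subgroupOf, mem_inf, mem_centralizer_singleton_iff]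
      constructor
      · rintro ⟨_, h⟩; exact h
      · intro h; exact ⟨P.mul_mem b.2 ha, h⟩
    have e2 : (b ∈ (P ⊓ centralizer {x}).subgroupOf P) ↔ ((b : G) * x = x * b) := by
      rw [mem_subgroupOf, mem_inf, mem_centralizer_singleton_iff]
      constructor
      · rintro ⟨_, h⟩; exact h
      · intro h; exact ⟨b.2, h⟩
    rw [e1, e2]
    exact h2
  have h3 := card_mul_index ((P ⊓ centralizer {x}).subgroupOf P)
  rw [h1, Nat.card_congr (subgroupOfEquivOfLe (inf_le_left : P ⊓ centralizer {x} ≤ P)).toEquiv] at h3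
  rw [← h3, mul_comm]

theorem xor_of_rz {z x a b : G} (hz1 : z ≠ 1) (hz : z * z = 1) (hzb : z * b = b * z)
    (hax : a * x = z * (x * a)) (h : Rz z (b * x) (x * b)) :
    Xor (b * a * x = x * (b * a)) (b * x = x * b) := by
  have e1 : b * a * x = z * (b * x * a) := by
    calc b * a * x = b * (a * x) := by group
      _ = (b * z) * (x * a) := by rw [hax]; group
      _ = z * (b * x * a) := by rw [← hzb]; group
  rcases h with h | h
  · right
    refine ⟨h, fun h2 => hz1 ?_⟩
    rw [e1, h] at h2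
    have h3 : z * (x * b * a) = 1 * (x * b * a) := by rw [h2]; group
    exact mul_right_cancel h3
  · left
    refine ⟨?_, fun h2 => hz1 ?_⟩
    · rw [e1, h]
      calc z * (z * (x * b) * a) = (z * z) * (x * (b * a)) := by group
        _ = x * (b * a) := by rw [hz, one_mul]
    · rw [h2] at h
      exact (right_eq_mul.mp h)

theorem card_C2 {P : Subgroup G} {z x y : G} (hz1 : z ≠ 1) (hz : z * z = 1) (hx : x ∈ P) (hy : y ∈ P)
    (hzP : ∀ w ∈ P, z * w = w * z) (hxy : x * y = z * (y * x))
    (hP : ∀ w ∈ P, Rz z (w * x) (x * w) ∧ Rz z (w * y) (y * w)) :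
    Nat.card P = 4 * Nat.card (P ⊓ C2 x y : Subgroup G) := by
  have hyx : y * x = z * (x * y) := by rw [hxy, ← mul_assoc, hz, one_mul]
  have h1 : Nat.card P = 2 * Nat.card (P ⊓ centralizer {x} : Subgroup G) :=
    card_eq_two_mul hy fun b hb => xor_of_rz hz1 hz (hzP b hb) hyx (hP b hb).1
  have h2 : Nat.card (P ⊓ centralizer {x} : Subgroup G) =
      2 * Nat.card ((P ⊓ centralizer {x}) ⊓ centralizer {y} : Subgroup G) :=
    card_eq_two_mul (a := x) (mem_inf.mpr ⟨hx, mem_centralizer_singleton_iff.mpr rfl⟩)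
      fun b hb => xor_of_rz hz1 hz (hzP b (mem_inf.mp hb).1) hxy (hP b (mem_inf.mp hb).1).2
  rw [h1, h2, C2, inf_assoc]
  ring

theorem main [Finite G] {z : G} {X B : Subgroup G} (h : Hyp z X B) :
    ∃ (k : ℕ) (H : Fin k → Subgroup G) (x y : Fin k → G), QS z X B H x y := by
  classical
  obtain ⟨Y, c⟩ := h.exists_crit
  let ι := {H : Subgroup G // H ≤ B ∧ H.relIndex B = 3 ∧
    ¬ Y ⊓ centralizer (H : Set G) ≤ centralizer (B : Set G)}
  obtain ⟨k, ⟨e⟩⟩ := Finite.exists_equiv_fin ι
  set H : Fin k → Subgroup G := fun i => (e.symm i).1 with hH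
  have HB : ∀ i, H i ≤ B := fun i => (e.symm i).2.1
  have H3 : ∀ i, (H i).relIndex B = 3 := fun i => (e.symm i).2.2.1
  have Hne : ∀ i, ¬ Y ⊓ centralizer (H i : Set G) ≤ centralizer (B : Set G) :=
    fun i => (e.symm i).2.2.2
  have Hinj : Function.Injective H := fun i j hij => e.symm.injective (Subtype.ext hij)
  choose x y hp using fun i => h.exists_pair c (HB i) (H3 i) (Hne i)
  have hK : ∀ i, Hyp.kh B Y (H i) ≤ Y ⊓ centralizer (H i : Set G) := fun i => h.kh_le_yh c (HB i)
  have xY : ∀ i, x i ∈ Y := fun i => (mem_inf.mp (hK i (hp i).xK)).1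
  have yY : ∀ i, y i ∈ Y := fun i => (mem_inf.mp (hK i (hp i).yK)).1
  have xX : ∀ i, x i ∈ X := fun i => c.YX (xY i)
  have yX : ∀ i, y i ∈ X := fun i => c.YX (yY i)
  have hKc : ∀ i j, i ≠ j → ∀ u ∈ Hyp.kh B Y (H i), ∀ v ∈ Hyp.kh B Y (H j), u * v = v * u :=
    fun i j hij u hu v hv => h.kh_comm c (HB i) (H3 i) (HB j) (H3 j) (fun h1 => hij (Hinj h1)) hu hv
  set L := closure (Set.range x ∪ Set.range y) with hL
  have hxL : ∀ i, x i ∈ L := fun i => subset_closure (Or.inl ⟨i, rfl⟩)
  have hyL : ∀ i, y i ∈ L := fun i => subset_closure (Or.inr ⟨i, rfl⟩)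
  have hLY : L ≤ Y := by
    rw [hL, closure_le]
    rintro w (⟨i, rfl⟩ | ⟨i, rfl⟩)
    · exact xY i
    · exact yY i
  -- commutation of `X` with the pairs modulo `z`
  have hxr : ∀ i, ∀ w ∈ X, Rz z (x i * w) (w * x i) := fun i w hw =>
    h.comm_X c (xY i) hw (Or.inr (hp i).xx)
  have hyr : ∀ i, ∀ w ∈ X, Rz z (y i * w) (w * y i) := fun i w hw =>
    h.comm_X c (yY i) hw (Or.inr (hp i).yy)
  -- (α)
  have alpha : ∀ w ∈ X, ∀ s : Finset (Fin k), ∃ u ∈ L, ∀ i ∈ s, w * u ∈ C2 (x i) (y i) := by
    intro w hw s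
    induction s using Finset.induction_on with
    | empty => exact ⟨1, one_mem _, fun i hi => absurd hi (Finset.notMem_empty i)⟩
    | insert j s hj ih =>
      obtain ⟨u, hu, hus⟩ := ih
      have hwu : w * u ∈ X := X.mul_mem hw (c.YX (hLY hu))
      obtain ⟨v, hv, hwv⟩ := exists_mem_C2 h.zz (hp j).xx (hp j).yy (hp j).xy (h.zc _ hwu)
        (hxr j _ hwu) (hyr j _ hwu)
      have hvL : v ∈ L := by
        have : closure ({x j, y j} : Set G) ≤ L := by
          rw [closure_le]
          rintro a (rfl | rfl)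
          · exact hxL j
          · exact hyL j
        exact this hv
      refine ⟨u * v, L.mul_mem hu hvL, fun i hi => ?_⟩
      rw [← mul_assoc]
      rcases Finset.mem_insert.mp hi with rfl | hi
      · exact hwv
      · have hij : i ≠ j := fun h1 => hj (h1 ▸ hi)
        refine mul_mem (hus i hi) ?_
        have : closure ({x j, y j} : Set G) ≤ C2 (x i) (y i) := by
          rw [closure_le]
          rintro a (rfl | rfl)
          · exact mem_C2.mpr ⟨(hKc i j hij _ (hp i).xK _ (hp j).xK).symm,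
              (hKc i j hij _ (hp i).yK _ (hp j).xK).symm⟩
          · exact mem_C2.mpr ⟨(hKc i j hij _ (hp i).xK _ (hp j).yK).symm,
              (hKc i j hij _ (hp i).yK _ (hp j).yK).symm⟩
        exact this hv
  -- (γ)
  have gamma : ∀ s : Finset (Fin k), Nat.card X =
      4 ^ s.card * Nat.card (X ⊓ ⨅ i ∈ s, C2 (x i) (y i) : Subgroup G) := by
    intro s
    induction s using Finset.induction_on with
    | empty => simp
    | insert j s hj ih =>
      rw [ih, Finset.card_insert_of_notMem hj, Finset.iInf_insert, pow_succ, mul_assoc]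
      congr 1
      have hmem : ∀ u ∈ Hyp.kh B Y (H j), u ∈ X ⊓ ⨅ i ∈ s, C2 (x i) (y i) := by
        intro u hu
        refine mem_inf.mpr ⟨c.YX (mem_inf.mp (hK j hu)).1, ?_⟩
        simp only [mem_iInf]
        intro i hi
        have hij : i ≠ j := fun h1 => hj (h1 ▸ hi)
        exact mem_C2.mpr ⟨(hKc i j hij _ (hp i).xK _ hu).symm, (hKc i j hij _ (hp i).yK _ hu).symm⟩
      rw [card_C2 h.z1 h.zz (hmem _ (hp j).xK) (hmem _ (hp j).yK)
        (fun w hw => h.zc w (mem_inf.mp hw).1) (hp j).xy
        (fun w hw => ⟨(hxr j w (mem_inf.mp hw).1).symm h.zz, (hyr j w (mem_inf.mp hw).1).symm h.zz⟩),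
        inf_assoc, inf_comm (⨅ i ∈ s, C2 (x i) (y i))]
  have hR : ∀ w, w ∈ X ⊓ ⨅ i ∈ (Finset.univ : Finset (Fin k)), C2 (x i) (y i) ↔
      w ∈ X ∧ ∀ i, w ∈ C2 (x i) (y i) := by
    intro w
    rw [mem_inf]
    simp only [mem_iInf, Finset.mem_univ, forall_true_left]
  -- elements commuting with a pair commute with `K_i`
  have hC2 : ∀ i w, w ∈ X → w ∈ C2 (x i) (y i) → ∀ u ∈ Hyp.kh B Y (H i), w * u = u * w := by
    intro i w hwX hw u hu
    obtain ⟨h1, h2⟩ := mem_C2.mp hw
    have h3 := h.zc w hwX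
    have hxy' : w * (x i * y i) = x i * y i * w := by
      rw [← mul_assoc, h1, mul_assoc, h2, mul_assoc]
    have aux : ∀ v : G, w * v = v * w → Rz z u v → w * u = u * w := by
      rintro v hv (rfl | rfl)
      · exact hv
      · rw [← mul_assoc, ← h3, mul_assoc, hv, mul_assoc]
    rcases (hp i).gen u hu with h4 | h4 | h4 | h4
    · exact aux _ (by rw [one_mul, mul_one]) h4
    · exact aux _ h1 h4
    · exact aux _ h2 h4
    · exact aux _ hxy' h4
  -- generation of `Y`
  have ygen : Y ≤ L ⊔ (Y ⊓ centralizer (B : Set G)) := by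
    conv_lhs => rw [← CoprimeHyperplane.iSup_centralizer_hyperplane h.elem h.Bne (h.not_dvd c.YX) c.BY]
    refine iSup_le ?_
    rintro ⟨H', hH'B, hH'3⟩ v hv
    by_cases hne : Y ⊓ centralizer (H' : Set G) ≤ centralizer (B : Set G)
    · exact mem_sup_right (mem_inf.mpr ⟨(mem_inf.mp hv).1, hne hv⟩)
    · have h3 : Fact (Nat.Prime 3) := ⟨Nat.prime_three⟩
      obtain ⟨m, hm, a, ha, hma⟩ := CoprimeCommutator.exists_commutator_mul_fixed_of_isPGroup 3 B
        (Y ⊓ centralizer (H' : Set G)) h.B_isPGroup (h.B_normalizes_yh c hH'B)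
        (h.not_dvd (inf_le_left.trans c.YX)) v hv
      have hi : H (e ⟨H', hH'B, hH'3, hne⟩) = H' := by
        rw [hH]; simp
      set i := e ⟨H', hH'B, hH'3, hne⟩ with hidef
      have hmK : m ∈ Hyp.kh B Y (H i) := by rw [hi]; exact hm
      rw [hma]
      refine mul_mem (mem_sup_left ?_) (mem_sup_right (mem_inf.mpr
        ⟨(mem_inf.mp (mem_inf.mp ha).1).1, (mem_inf.mp ha).2⟩))
      have hzL : z ∈ L := by rw [← (hp i).xx]; exact L.mul_mem (hxL i) (hxL i)
      have aux : ∀ v : G, v ∈ L → Rz z m v → m ∈ L := by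
        rintro v hv (rfl | rfl)
        · exact hv
        · exact L.mul_mem hzL hv
      rcases (hp i).gen m hmK with h4 | h4 | h4 | h4
      · exact aux _ L.one_mem h4
      · exact aux _ (hxL i) h4
      · exact aux _ (hyL i) h4
      · exact aux _ (L.mul_mem (hxL i) (hyL i)) h4
  -- (β)
  have beta : ∀ r ∈ X, (∀ i, r ∈ C2 (x i) (y i)) → r ∈ centralizer (B : Set G) := by
    intro r hr hrC
    rw [mem_centralizer_iff]
    intro b hb
    set r' := b * r * b⁻¹ with hr'
    have hr'X : r' ∈ X := (mem_normalizer_iff.mp (h.BX hb) r).mp hr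
    set d := r⁻¹ * r' with hd
    have hdX : d ∈ X := X.mul_mem (X.inv_mem hr) hr'X
    have hrK : ∀ i, ∀ u ∈ Hyp.kh B Y (H i), r * u = u * r := fun i => hC2 i r hr (hrC i)
    have hr'K : ∀ i, ∀ u ∈ Hyp.kh B Y (H i), r' * u = u * r' := by
      intro i u hu
      have hu' : b⁻¹ * u * b ∈ Hyp.kh B Y (H i) := by
        have hB : B ≤ normalizer ((Hyp.kh B Y (H i) : Subgroup G) : Set G) := Hyp.B_normalizes_kh
        have := (mem_normalizer_iff.mp (hB (B.inv_mem hb)) u).mp hu
        simpa using this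
      calc r' * u = b * (r * (b⁻¹ * u * b)) * b⁻¹ := by rw [hr']; group
        _ = b * ((b⁻¹ * u * b) * r) * b⁻¹ := by rw [hrK i _ hu']
        _ = u * r' := by rw [hr']; group
    have hdC : Y ≤ centralizer {d} := by
      refine ygen.trans (sup_le ?_ ?_)
      · rw [hL, closure_le]
        have aux : ∀ i, ∀ u ∈ Hyp.kh B Y (H i), u ∈ centralizer {d} := by
          intro i u hu
          rw [mem_centralizer_singleton_iff]
          have h1 := hrK i u hu
          have h2 := hr'K i u hu
          calc u * (r⁻¹ * r') = r⁻¹ * (r * u) * r⁻¹ * r' := by group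
            _ = r⁻¹ * (u * r') := by rw [h1]; group
            _ = d * u := by rw [← h2, hd]; group
        rintro w (⟨i, rfl⟩ | ⟨i, rfl⟩)
        · exact aux i _ (hp i).xK
        · exact aux i _ (hp i).yK
      · rintro a ha
        obtain ⟨haY, haB⟩ := mem_inf.mp ha
        rw [mem_centralizer_singleton_iff]
        have h1 := c.comm a haY r hr
        have h2 := mem_centralizer_iff.mp (c.ZB h1) b hb
        have h3 := mem_centralizer_iff.mp haB b hb
        set t := ⁅a, r⁆ with ht
        have h4 : a * r * a⁻¹ = t * r := by rw [ht, commutatorElement_def]; group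
        have h5 : a * r' * a⁻¹ = t * r' := by
          have hab : b⁻¹ * a = a * b⁻¹ := by
            calc b⁻¹ * a = b⁻¹ * (a * b) * b⁻¹ := by group
              _ = a * b⁻¹ := by rw [← h3]; group
          calc a * r' * a⁻¹ = (a * b) * r * (b⁻¹ * a⁻¹) := by rw [hr']; group
            _ = (b * a) * r * (a * b)⁻¹ := by rw [h3]; group
            _ = (b * a) * r * (b * a)⁻¹ := by rw [h3]
            _ = b * (a * r * a⁻¹) * b⁻¹ := by group
            _ = (b * t) * r * b⁻¹ := by rw [h4]; group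
            _ = t * (b * r * b⁻¹) := by rw [h2]; group
        have h6 : a * d * a⁻¹ = d := by
          calc a * d * a⁻¹ = (a * r * a⁻¹)⁻¹ * (a * r' * a⁻¹) := by rw [hd]; group
            _ = d := by rw [h4, h5, hd]; group
        exact mul_inv_eq_iff_eq_mul.mp h6
    have hdY : d ∈ X ⊓ centralizer (Y : Set G) := mem_inf.mpr ⟨hdX, mem_centralizer_iff.mpr
      fun a ha => mem_centralizer_singleton_iff.mp (hdC ha)⟩
    have hdB := mem_centralizer_iff.mp (c.ZB (mem_inf.mpr ⟨c.cent hdY, hdY.2⟩)) b hb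
    have hdb : b * d * b⁻¹ = d := by rw [hdB, mul_inv_cancel_right]
    have e1 : b * r * b⁻¹ = r * d := by rw [hd, ← hr']; group
    have e2 : b * (r * d) * b⁻¹ = r * d * d := by
      calc b * (r * d) * b⁻¹ = (b * r * b⁻¹) * (b * d * b⁻¹) := by group
        _ = r * d * d := by rw [e1, hdb]
    have e3 : b * (r * d * d) * b⁻¹ = r * d * d * d := by
      calc b * (r * d * d) * b⁻¹ = (b * (r * d) * b⁻¹) * (b * d * b⁻¹) := by group
        _ = r * d * d * d := by rw [e2, hdb]
    have e4 : r = r * (d * d * d) := by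
      calc r = (b * b * b) * r * (b * b * b)⁻¹ := by rw [h.cube hb]; group
        _ = b * (b * (b * r * b⁻¹) * b⁻¹) * b⁻¹ := by group
        _ = r * (d * d * d) := by rw [e1, e2, e3]; group
    have hd3 : d ^ 3 = 1 := by
      have := left_eq_mul.mp e4
      rw [pow_succ, pow_two]; exact this
    have hd1 : d = 1 := by
      obtain ⟨n, hn⟩ := h.two ⟨d, hdX⟩
      have hn' : d ^ 2 ^ n = 1 := congrArg Subtype.val hn
      have h7 : orderOf d = 1 := Nat.eq_one_of_dvd_coprimes
        (Nat.Coprime.pow_left n (by norm_num : Nat.Coprime 2 3)) (orderOf_dvd_of_pow_eq_one hn')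
        (orderOf_dvd_of_pow_eq_one hd3)
      exact orderOf_eq_one_iff.mp h7
    rw [hd1, mul_one] at e1
    exact mul_inv_eq_iff_eq_mul.mp e1
  have hBC2 : ∀ r ∈ X ⊓ centralizer (B : Set G), ∀ i, r ∈ C2 (x i) (y i) := by
    intro r hr i
    obtain ⟨h1, h2⟩ := mem_inf.mp hr
    exact mem_C2.mpr ⟨h.kh_comm_centralizer c (HB i) (H3 i) h1 h2 (hp i).xK,
      h.kh_comm_centralizer c (HB i) (H3 i) h1 h2 (hp i).yK⟩
  have hReq : X ⊓ ⨅ i ∈ (Finset.univ : Finset (Fin k)), C2 (x i) (y i) =
      X ⊓ centralizer (B : Set G) := by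
    ext w
    rw [hR]
    constructor
    · rintro ⟨h1, h2⟩
      exact mem_inf.mpr ⟨h1, beta w h1 h2⟩
    · intro h1
      exact ⟨(mem_inf.mp h1).1, hBC2 w h1⟩
  have zR : z ∈ X ⊓ centralizer (B : Set G) :=
    mem_inf.mpr ⟨h.zX, mem_centralizer_iff.mpr fun b hb => (h.zB b hb).symm⟩
  have omega : ∀ w ∈ X ⊓ centralizer (B : Set G), w * w = 1 → w = 1 ∨ w = z := by
    intro w hw hww
    by_contra hne
    push Not at hne
    have hzw := h.zc w (mem_inf.mp hw).1
    have hE := closure_sq (S := {z, w})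
      (by
        rintro a (rfl | rfl) b (rfl | rfl)
        · rfl
        · exact hzw
        · exact hzw.symm
        · rfl)
      (by
        rintro a (rfl | rfl)
        · exact h.zz
        · exact hww)
    have h1 := h.rank1 (closure {z, w}) (by
      rw [closure_le]
      rintro a (rfl | rfl)
      · exact zR
      · exact hw) (elementary_of_sq hE)
    have h2 : ({1, z, w} : Set G) ⊆ closure {z, w} := by
      rintro a (rfl | rfl | rfl)
      · exact one_mem _
      · exact subset_closure (by simp)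
      · exact subset_closure (by simp)
    have h3 : ({1, z, w} : Set G).ncard = 3 := by
      rw [Set.ncard_insert_of_notMem, Set.ncard_pair (Ne.symm hne.2)]
      rintro (h4 | h4)
      · exact h.z1 h4.symm
      · exact hne.1 h4.symm
    have h4 := Set.ncard_le_ncard h2 (Set.toFinite _)
    rw [h3] at h4
    have h5 : (closure {z, w} : Set G).ncard = Nat.card (closure {z, w} : Subgroup G) := rfl
    rw [h5] at h4
    omega
  -- decomposition
  have gen : ∀ w ∈ X, ∃ u ∈ L, ∃ r ∈ X ⊓ centralizer (B : Set G), w = u * r := by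
    intro w hw
    obtain ⟨u, hu, hwu⟩ := alpha w hw Finset.univ
    have h1 : w * u ∈ X ⊓ centralizer (B : Set G) := by
      rw [← hReq, hR]
      exact ⟨X.mul_mem hw (c.YX (hLY hu)), fun i => hwu i (Finset.mem_univ i)⟩
    have h2 : ∀ r ∈ X ⊓ centralizer (B : Set G), r * u = u * r := by
      intro r hr
      have h3 : L ≤ centralizer {r} := by
        rw [hL, closure_le]
        rintro v (⟨i, rfl⟩ | ⟨i, rfl⟩)
        · exact mem_centralizer_singleton_iff.mpr (mem_C2.mp (hBC2 r hr i)).1.symm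
        · exact mem_centralizer_singleton_iff.mpr (mem_C2.mp (hBC2 r hr i)).2.symm
      exact (mem_centralizer_singleton_iff.mp (h3 hu)).symm
    refine ⟨u⁻¹, L.inv_mem hu, w * u, h1, ?_⟩
    calc w = u⁻¹ * (u * (w * u)) * u⁻¹ := by group
      _ = u⁻¹ * (w * u * u) * u⁻¹ := by rw [h2 _ h1]
      _ = u⁻¹ * (w * u) := by group
  -- `k ≠ 0`
  have hk : k ≠ 0 := by
    rintro rfl
    have h1 : X ≤ centralizer (B : Set G) := by
      intro w hw
      obtain ⟨u, hu, r, hr, rfl⟩ := gen w hw
      have h2 : L = ⊥ := by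
        rw [hL, eq_bot_iff, closure_le]
        rintro v (⟨i, rfl⟩ | ⟨i, rfl⟩) <;> exact i.elim0
      rw [h2, mem_bot] at hu
      rw [hu, one_mul]
      exact (mem_inf.mp hr).2
    have h2 := h.faith
    rw [inf_eq_left.mpr (le_centralizer_iff.mp h1)] at h2
    exact h.Bne h2
  have xyne : ∀ i, x i ∉ centralizer (B : Set G) ∧ y i ∉ centralizer (B : Set G) ∧
      (x i)⁻¹ * y i ∉ centralizer (B : Set G) := by
    intro i
    have key : ∀ u ∈ Hyp.kh B Y (H i), u ∈ centralizer (B : Set G) → u = 1 ∨ u = z :=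
      fun u hu huB => h.kh_inf_centralizer c (HB i) (H3 i) hu huB
    have hp' := hp i
    refine ⟨fun h1 => ?_, fun h1 => ?_, fun h1 => ?_⟩
    · rcases key _ hp'.xK h1 with h2 | h2
      · have := hp'.xx
        rw [h2, one_mul] at this
        exact h.z1 this.symm
      · have := hp'.xx
        rw [h2, h.zz] at this
        exact h.z1 this.symm
    · rcases key _ hp'.yK h1 with h2 | h2
      · have := hp'.yy
        rw [h2, one_mul] at this
        exact h.z1 this.symm
      · have := hp'.yy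
        rw [h2, h.zz] at this
        exact h.z1 this.symm
    · have hxy : x i * y i = y i * x i := by
        rcases key _ (mul_mem (inv_mem hp'.xK) hp'.yK) h1 with h2 | h2
        · have h3 : y i = x i := (inv_mul_eq_one.mp h2).symm
          rw [h3]
        · have h3 : y i = x i * z := by rw [← h2]; group
          rw [h3, ← mul_assoc, mul_assoc (x i) z, h.zc _ (xX i), mul_assoc]
      have h2 := hp'.xy
      rw [hxy] at h2
      exact h.z1 (right_eq_mul.mp h2)
  -- `R` is cyclic
  have Rcyc : IsCyclic ↥(X ⊓ centralizer (B : Set G)) := by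
    have h2 : Fact (Nat.Prime 2) := ⟨Nat.prime_two⟩
    have hRp : IsPGroup 2 ↥(X ⊓ centralizer (B : Set G)) := h.two.to_le inf_le_left
    have hU : Solvable.UniqueOrderP.UniqueP 2 ↥(X ⊓ centralizer (B : Set G)) := by
      intro u v hu1 hu2 hv2
      have hu : (u : G) = z := (omega u u.2 (by
        rw [pow_two] at hu2; exact congrArg Subtype.val hu2)).resolve_left fun h1 =>
          hu1 (Subtype.ext h1)
      rcases omega v v.2 (by rw [pow_two] at hv2; exact congrArg Subtype.val hv2) with h1 | h1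
      · have : v = 1 := Subtype.ext h1
        rw [this]; exact one_mem _
      · have : v = u := Subtype.ext (h1.trans hu.symm)
        rw [this]; exact mem_zpowers u
    rcases Solvable.UniqueOrderP.cyclic_or_quaternion hRp hU with h1 | ⟨-, m, hm, ⟨φ⟩⟩
    · exact h1
    exfalso
    obtain ⟨m, rfl⟩ := Nat.exists_eq_succ_of_ne_zero hm
    -- two anticommuting elements `r`, `s` of order 4
    have ha2 : (QuaternionGroup.a ((2 ^ m : ℕ) : ZMod (2 * 2 ^ (m + 1))) :
        QuaternionGroup (2 ^ (m + 1))) * QuaternionGroup.a ((2 ^ m : ℕ) : ZMod (2 * 2 ^ (m + 1))) =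
        QuaternionGroup.a ((2 ^ (m + 1) : ℕ) : ZMod (2 * 2 ^ (m + 1))) := by
      rw [QuaternionGroup.a_mul_a]
      congr 1
      push_cast
      ring
    have hx2 : (QuaternionGroup.xa 0 : QuaternionGroup (2 ^ (m + 1))) * QuaternionGroup.xa 0 =
        QuaternionGroup.a ((2 ^ (m + 1) : ℕ) : ZMod (2 * 2 ^ (m + 1))) := by
      rw [QuaternionGroup.xa_mul_xa]
      congr 1
      simp
    have hN : ((2 ^ (m + 1) : ℕ) : ZMod (2 * 2 ^ (m + 1))) + ((2 ^ (m + 1) : ℕ) : ZMod (2 * 2 ^ (m + 1))) = 0 := by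
      rw [← Nat.cast_add, ← two_mul]
      exact ZMod.natCast_self _
    have hN0 : ((2 ^ (m + 1) : ℕ) : ZMod (2 * 2 ^ (m + 1))) ≠ 0 := by
      intro h3
      rw [ZMod.natCast_eq_zero_iff] at h3
      have := Nat.le_of_dvd (by positivity) h3
      have h4 : 0 < 2 ^ (m + 1) := by positivity
      omega
    have haa : (QuaternionGroup.a ((2 ^ (m + 1) : ℕ) : ZMod (2 * 2 ^ (m + 1))) :
        QuaternionGroup (2 ^ (m + 1))) * QuaternionGroup.a ((2 ^ (m + 1) : ℕ) : ZMod (2 * 2 ^ (m + 1)))
        = 1 := by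
      rw [QuaternionGroup.a_mul_a, hN, QuaternionGroup.a_zero]
    have ha1 : (QuaternionGroup.a ((2 ^ (m + 1) : ℕ) : ZMod (2 * 2 ^ (m + 1))) :
        QuaternionGroup (2 ^ (m + 1))) ≠ 1 := by
      rw [QuaternionGroup.one_def]
      intro h3
      exact hN0 (QuaternionGroup.a.inj h3)
    have hrs : (QuaternionGroup.a ((2 ^ m : ℕ) : ZMod (2 * 2 ^ (m + 1))) :
        QuaternionGroup (2 ^ (m + 1))) * QuaternionGroup.xa 0 =
        QuaternionGroup.a ((2 ^ (m + 1) : ℕ) : ZMod (2 * 2 ^ (m + 1))) *
          (QuaternionGroup.xa 0 * QuaternionGroup.a ((2 ^ m : ℕ) : ZMod (2 * 2 ^ (m + 1)))) := by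
      rw [QuaternionGroup.a_mul_xa, QuaternionGroup.xa_mul_a, QuaternionGroup.a_mul_xa]
      congr 1
      have h3 : ((2 ^ m : ℕ) : ZMod (2 * 2 ^ (m + 1))) + ((2 ^ m : ℕ) : ZMod (2 * 2 ^ (m + 1))) =
        ((2 ^ (m + 1) : ℕ) : ZMod (2 * 2 ^ (m + 1))) := by push_cast; ring
      rw [← h3]
      ring
    set r := φ.symm (QuaternionGroup.a ((2 ^ m : ℕ) : ZMod (2 * 2 ^ (m + 1)))) with hrd
    set s := φ.symm (QuaternionGroup.xa 0) with hsd
    set t := φ.symm (QuaternionGroup.a ((2 ^ (m + 1) : ℕ) : ZMod (2 * 2 ^ (m + 1)))) with htd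
    have ht : (t : G) = z := by
      refine (omega t t.2 ?_).resolve_left fun h3 => ?_
      · have : t * t = 1 := by rw [htd, ← map_mul, haa, map_one]
        exact congrArg Subtype.val this
      · have h4 : t = 1 := Subtype.ext h3
        rw [htd, map_eq_one_iff _ φ.symm.injective] at h4
        exact ha1 h4
    have hr2 : (r : G) * r = z := by
      rw [← ht]
      have : r * r = t := by rw [hrd, htd, ← map_mul, ha2]
      exact congrArg Subtype.val this
    have hs2 : (s : G) * s = z := by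
      rw [← ht]
      have : s * s = t := by rw [hsd, htd, ← map_mul, hx2]
      exact congrArg Subtype.val this
    have hrs' : (r : G) * s = z * (s * r) := by
      rw [← ht]
      have : r * s = t * (s * r) := by rw [hrd, hsd, htd, ← map_mul, ← map_mul, ← map_mul, hrs]
      exact congrArg Subtype.val this
    have hrR : (r : G) ∈ X ⊓ centralizer (B : Set G) := r.2
    have hsR : (s : G) ∈ X ⊓ centralizer (B : Set G) := s.2
    clear_value r s t
    clear ha2 hx2 hN hN0 haa ha1 hrs
    set i0 : Fin k := ⟨0, Nat.pos_of_ne_zero hk⟩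
    obtain ⟨r, hr0⟩ := r
    obtain ⟨s, hs0⟩ := s
    simp only at hr2 hs2 hrs' hrR hsR
    have hrx := mem_C2.mp (hBC2 r hrR i0)
    have hsx := mem_C2.mp (hBC2 s hsR i0)
    have hp' := hp i0
    set a := x i0
    set b := y i0
    have haX : a ∈ X := xX i0
    have hbX : b ∈ X := yX i0
    have hrX := (mem_inf.mp hrR).1
    have hsX := (mem_inf.mp hsR).1
    have har : (a * r) * (a * r) = 1 := by
      calc (a * r) * (a * r) = a * (r * a) * r := by group
        _ = (a * a) * (r * r) := by rw [hrx.1]; group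
        _ = 1 := by rw [hp'.xx, hr2, h.zz]
    have hbs : (b * s) * (b * s) = 1 := by
      calc (b * s) * (b * s) = b * (s * b) * s := by group
        _ = (b * b) * (s * s) := by rw [hsx.2]; group
        _ = 1 := by rw [hp'.yy, hs2, h.zz]
    have hcomm : (a * r) * (b * s) = (b * s) * (a * r) := by
      have hzb := h.zc b hbX
      have hza := h.zc a haX
      have hzs := h.zc s hsX
      calc (a * r) * (b * s) = a * (r * b) * s := by group
        _ = (a * b) * (r * s) := by rw [hrx.2]; group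
        _ = z * (b * a) * z * (s * r) := by rw [hp'.xy, hrs']; group
        _ = z * b * (a * z) * (s * r) := by group
        _ = z * (b * z) * a * (s * r) := by rw [← hza]; group
        _ = (z * z) * b * (a * s) * r := by rw [← hzb]; group
        _ = b * (s * a) * r := by rw [h.zz, one_mul, ← hsx.1]
        _ = (b * s) * (a * r) := by group
    have hzar := h.zc _ (X.mul_mem haX hrX)
    have hzbs := h.zc _ (X.mul_mem hbX hsX)
    have hE := closure_sq (S := {z, a * r, b * s})
      (by
        rintro u (rfl | rfl | rfl) v (rfl | rfl | rfl)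
        · rfl
        · exact hzar
        · exact hzbs
        · exact hzar.symm
        · rfl
        · exact hcomm
        · exact hzbs.symm
        · exact hcomm.symm
        · rfl)
      (by
        rintro u (rfl | rfl | rfl)
        · exact h.zz
        · exact har
        · exact hbs)
    have hBH : centralizer (B : Set G) ≤ centralizer (H i0 : Set G) := centralizer_le (HB i0)
    have hle : closure {z, a * r, b * s} ≤ X ⊓ centralizer (H i0 : Set G) := by
      rw [closure_le]
      rintro u (rfl | rfl | rfl)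
      · exact mem_inf.mpr ⟨h.zX, hBH (mem_inf.mp zR).2⟩
      · exact mem_inf.mpr ⟨X.mul_mem haX hrX, mul_mem (mem_inf.mp (hK i0 hp'.xK)).2
          (hBH (mem_inf.mp hrR).2)⟩
      · exact mem_inf.mpr ⟨X.mul_mem hbX hsX, mul_mem (mem_inf.mp (hK i0 hp'.yK)).2
          (hBH (mem_inf.mp hsR).2)⟩
    have h4 := h.rank2 (H i0) (HB i0) (H3 i0) _ hle (elementary_of_sq hE)
    have hza : z ∈ closure {z, a * r, b * s} := subset_closure (by simp)
    have hara : a * r ∈ closure {z, a * r, b * s} := subset_closure (by simp)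
    have hbsa : b * s ∈ closure {z, a * r, b * s} := subset_closure (by simp)
    have hrB := (mem_inf.mp hrR).2
    have hsB := (mem_inf.mp hsR).2
    have hzB := (mem_inf.mp zR).2
    have har1 : a * r ∉ centralizer (B : Set G) := fun h5 => (xyne i0).1 (by
      have := mul_mem h5 (inv_mem hrB)
      rwa [mul_inv_cancel_right] at this)
    have hbs1 : b * s ∉ centralizer (B : Set G) := fun h5 => (xyne i0).2.1 (by
      have := mul_mem h5 (inv_mem hsB)
      rwa [mul_inv_cancel_right] at this)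
    rcases mem_of_card_le_four h4 hza hara h.z1 (fun h5 => har1 (h5 ▸ one_mem _))
      (fun h5 => har1 (h5 ▸ hzB)) (fun h5 => har1 (by
        have h6 : a * r = z⁻¹ := eq_inv_of_mul_eq_one_left h5
        rw [h6]; exact inv_mem hzB)) hbsa with h5 | h5 | h5 | h5
    · exact hbs1 (h5 ▸ one_mem _)
    · exact hbs1 (h5 ▸ hzB)
    · apply (xyne i0).2.2
      have h6 : a⁻¹ * b = r * s⁻¹ := by
        calc a⁻¹ * b = a⁻¹ * (b * s) * s⁻¹ := by group
          _ = r * s⁻¹ := by rw [h5]; group
      show a⁻¹ * b ∈ _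
      rw [h6]
      exact mul_mem hrB (inv_mem hsB)
    · apply (xyne i0).2.2
      have h6 : a⁻¹ * b = r * z * s⁻¹ := by
        calc a⁻¹ * b = a⁻¹ * (b * s) * s⁻¹ := by group
          _ = r * z * s⁻¹ := by rw [h5]; group
      show a⁻¹ * b ∈ _
      rw [h6]
      exact mul_mem (mul_mem hrB hzB) (inv_mem hsB)
  refine ⟨k, H, x, y, HB, H3, Hinj, ?_, xX, yX, fun i => (mem_inf.mp (hK i (hp i).xK)).2,
    fun i => (mem_inf.mp (hK i (hp i).yK)).2, fun i => (hp i).xx, fun i => (hp i).yy,
    fun i => (hp i).xy, fun i j hij => ⟨hKc i j hij _ (hp i).xK _ (hp j).xK,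
      hKc i j hij _ (hp i).xK _ (hp j).yK, hKc i j hij _ (hp i).yK _ (hp j).yK⟩, Rcyc, zR,
    fun r hr i => mem_C2.mp (hBC2 r hr i), fun w hw hwC => beta w hw fun i => mem_C2.mpr (hwC i),
    ?_, gen, ?_, omega⟩
  · -- faithfulness
    intro b hb hbH
    have h1 : b ∈ B ⊓ centralizer (X : Set G) := by
      refine mem_inf.mpr ⟨hb, mem_centralizer_iff.mpr fun w hw => ?_⟩
      obtain ⟨u, hu, r, hr, rfl⟩ := gen w hw
      have h2 : u * b = b * u := by
        have h3 : L ≤ centralizer {b} := by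
          rw [hL, closure_le]
          rintro v (⟨i, rfl⟩ | ⟨i, rfl⟩)
          · exact mem_centralizer_singleton_iff.mpr
              (mem_centralizer_iff.mp (mem_inf.mp (hK i (hp i).xK)).2 b (hbH i)).symm
          · exact mem_centralizer_singleton_iff.mpr
              (mem_centralizer_iff.mp (mem_inf.mp (hK i (hp i).yK)).2 b (hbH i)).symm
        exact mem_centralizer_singleton_iff.mp (h3 hu)
      have h3 := mem_centralizer_iff.mp (mem_inf.mp hr).2 b hb
      rw [mul_assoc, ← h3, ← mul_assoc, h2, mul_assoc]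
    rw [h.faith, mem_bot] at h1
    exact h1
  · -- commutators
    intro w hw w' hw'
    obtain ⟨u, hu, r, hr, rfl⟩ := gen w hw
    obtain ⟨u', hu', r', hr', rfl⟩ := gen w' hw'
    have hLR : ∀ u ∈ L, ∀ r ∈ X ⊓ centralizer (B : Set G), r * u = u * r := by
      intro u hu r hr
      have h3 : L ≤ centralizer {r} := by
        rw [hL, closure_le]
        rintro v (⟨i, rfl⟩ | ⟨i, rfl⟩)
        · exact mem_centralizer_singleton_iff.mpr (mem_C2.mp (hBC2 r hr i)).1.symm
        · exact mem_centralizer_singleton_iff.mpr (mem_C2.mp (hBC2 r hr i)).2.symm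
      exact (mem_centralizer_singleton_iff.mp (h3 hu)).symm
    have hrr : r * r' = r' * r := by
      have h1 := Rcyc.isMulCommutative.is_comm.comm ⟨r, hr⟩ ⟨r', hr'⟩
      exact congrArg Subtype.val h1
    have e1 : u * r * (u' * r') = (u * u') * (r * r') := by
      calc u * r * (u' * r') = u * (r * u') * r' := by group
        _ = (u * u') * (r * r') := by rw [hLR u' hu' r hr]; group
    have e2 : u' * r' * (u * r) = (u' * u) * (r * r') := by
      calc u' * r' * (u * r) = u' * (r' * u) * r := by group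
        _ = (u' * u) * (r' * r) := by rw [hLR u hu r' hr']; group
        _ = (u' * u) * (r * r') := by rw [hrr]
    rw [e1, e2]
    exact Rz.mul_right _ (h.comm_Y c (hLY hu) (hLY hu'))
  · have h1 := gamma Finset.univ
    rw [hReq, Finset.card_univ, Fintype.card_fin] at h1
    exact h1

end Cfsg.Agent.SmallSimple.S1000.QStructMain
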