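import Mathlib
import Cfsg.Agent.SmallSimple.S1000.Local
import Cfsg.Agent.SmallSimple.S1000.ThinEightFpf

/-!
# 2-local subgroups in the case of 2-rank at most 2

If `|G| = p 3^a 2^b`, the elements of order `p ≥ 5` are self-centralising and the 2-rank of `G` is at most
2, then every 2-local subgroup of `G` is a `{2, 3}`-group, in particular solvable.
-/

set_option autoImplicit false

namespace Cfsg.Agent.SmallSimple.S1000.RankTwoLocal

open Subgroup Cfsg Cfsg.Agent.ZN Cfsg.Agent.MinSimple.Basic Cfsg.Agent.MinSimple.VModule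
open Cfsg.Agent.SmallSimple.S1000.Setup

variable {G : Type*} [Group G] [Finite G] {p a b : ℕ}

/-- An element of order `p ≥ 5` with a self-centralising `⟨x⟩` does not normalise a 2-group of 2-rank at
most 2. -/
theorem false_of_mem_normalizer (hp : p.Prime) (h5 : 5 ≤ p)
    (hcent : ∀ x : G, orderOf x = p → centralizer ({x} : Set G) = zpowers x) (h2 : PRankLE 2 2 G)
    {T : Subgroup G} (hT : IsPGroup 2 T) (hT1 : T ≠ ⊥) {x : G} (hx : orderOf x = p)
    (hxT : x ∈ normalizer (T : Set G)) : False := by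
  have hf : Fact (Nat.Prime 2) := ⟨Nat.prime_two⟩
  have hfp : Fact p.Prime := ⟨hp⟩
  have hsq : ∀ v ∈ zc T, v ^ 2 = 1 := zc_sq T
  have hle : Nat.card (zc T) ≤ 2 ^ 2 := h2 (zc T) ⟨⟨fun a b => Subtype.ext (zc_comm T a a.2 b b.2)⟩⟩ hsq
  have hxV : x ∈ normalizer (zc T : Set G) := normalizer_le_normalizer_zc _ hxT
  have h1 := ThinEightFpf.card_modEq hx (zc T) hxV
  have h3 : zc T ⊓ centralizer ({x} : Set G) = ⊥ := by
    rw [eq_bot_iff]
    rintro v ⟨hv, hvx⟩
    have hvx' : v ∈ zpowers x := by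
      rw [← hcent x hx]
      exact hvx
    have h4 : orderOf v ∣ p := by
      have := orderOf_dvd_natCard (⟨v, hvx'⟩ : zpowers x)
      rwa [Subgroup.orderOf_mk, Nat.card_zpowers, hx] at this
    have h6 : orderOf v ∣ 2 := orderOf_dvd_of_pow_eq_one (hsq v hv)
    rw [mem_bot]
    rcases (Nat.dvd_prime hp).mp h4 with h7 | h7
    · exact orderOf_eq_one_iff.mp h7
    · rw [h7] at h6
      have := Nat.le_of_dvd (by norm_num) h6
      omega
  rw [h3, card_bot] at h1
  have h8 : zc T ≠ ⊥ := by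
    obtain ⟨t, htT, ht, htc⟩ := exists_orderOf_eq hT hT1
    intro h
    have h1 : t ∈ zc T := by
      rw [mem_zc]
      refine ⟨htT, mem_centralizer_iff.mpr fun y hy => ?_, ?_⟩
      · exact (mem_centralizer_iff.mp (htc hy) t rfl).symm
      · rw [← ht, pow_orderOf_eq_one]
    rw [h, mem_bot] at h1
    rw [h1, orderOf_one] at ht
    omega
  have h9 : 1 < Nat.card (zc T) := (one_lt_card_iff_ne_bot _).mpr h8
  have h10 : p ∣ Nat.card (zc T) - 1 := (Nat.modEq_iff_dvd' h9.le).mp h1.symm
  have h11 := Nat.le_of_dvd (by omega) h10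
  omega

/-- The 2-local subgroups are solvable. -/
theorem solvable (hp : p.Prime) (h5 : 5 ≤ p) (hcard : Nat.card G = p * 3 ^ a * 2 ^ b)
    (hcent : ∀ x : G, orderOf x = p → centralizer ({x} : Set G) = zpowers x) (h2 : PRankLE 2 2 G)
    (N : Subgroup G) (hN : IsTwoLocal N) : Group.IsSolvable N := by
  obtain ⟨T, hT, hT1, rfl⟩ := hN
  have h : TT (normalizer (T : Set G)) := by
    refine TT.of_prime fun q hq hqX => ?_
    have hqG : q ∣ p * 3 ^ a * 2 ^ b := hcard ▸ hqX.trans (card_subgroup_dvd_card _)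
    rcases (Nat.Prime.dvd_mul hq).1 hqG with h1 | h1
    · rcases (Nat.Prime.dvd_mul hq).1 h1 with h3 | h3
      · exfalso
        have hqp := (Nat.prime_dvd_prime_iff_eq hq hp).1 h3
        subst hqp
        have hfq : Fact q.Prime := ⟨hq⟩
        obtain ⟨x, hx⟩ := exists_prime_orderOf_dvd_card' (G := normalizer (T : Set G)) q hqX
        exact false_of_mem_normalizer hq h5 hcent h2 hT hT1
          (by rw [Subgroup.orderOf_coe, hx] : orderOf (x : G) = q) x.2
      · exact Or.inr ((Nat.prime_dvd_prime_iff_eq hq Nat.prime_three).1 (hq.dvd_of_dvd_pow h3))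
    · exact Or.inl ((Nat.prime_dvd_prime_iff_eq hq Nat.prime_two).1 (hq.dvd_of_dvd_pow h1))
  exact h.solvable

end Cfsg.Agent.SmallSimple.S1000.RankTwoLocal
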