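import Mathlib

/-!
# S1000: order arithmetic for the reduction

Which of the groups `PSL₂(q)`, `PSL₃(q)`, `PSU₃(q)` have an order of the form `p * 3 ^ a * 2 ^ b` with
`p ∈ {5, 7, 13, 17}`.
-/

set_option autoImplicit false

namespace Cfsg.Agent.SmallSimple.S1000.RedArith

/-- The four primes. -/
def Four (p : ℕ) : Prop := p = 5 ∨ p = 7 ∨ p = 13 ∨ p = 17

theorem Four.prime {p : ℕ} (h : Four p) : p.Prime := by
  rcases h with rfl | rfl | rfl | rfl <;> norm_num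

theorem Four.le {p : ℕ} (h : Four p) : p ≤ 17 := by
  rcases h with rfl | rfl | rfl | rfl <;> norm_num

theorem Four.ge {p : ℕ} (h : Four p) : 5 ≤ p := by
  rcases h with rfl | rfl | rfl | rfl <;> norm_num

/-- A prime divisor of `p * 3 ^ a * 2 ^ b`. -/
theorem prime_dvd {p a b r : ℕ} (hp : Four p) (hr : r.Prime) (h : r ∣ p * 3 ^ a * 2 ^ b) :
    r = p ∨ r = 3 ∨ r = 2 := by
  rcases (Nat.Prime.dvd_mul hr).1 h with h1 | h1
  · rcases (Nat.Prime.dvd_mul hr).1 h1 with h2 | h2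
    · exact Or.inl ((Nat.prime_dvd_prime_iff_eq hr hp.prime).1 h2)
    · exact Or.inr (Or.inl ((Nat.prime_dvd_prime_iff_eq hr Nat.prime_three).1
        (hr.dvd_of_dvd_pow h2)))
  · exact Or.inr (Or.inr ((Nat.prime_dvd_prime_iff_eq hr Nat.prime_two).1
      (hr.dvd_of_dvd_pow h1)))

/-- `p² ∤ p * 3 ^ a * 2 ^ b`. -/
theorem not_sq_dvd {p a b : ℕ} (hp : Four p) : ¬ p ^ 2 ∣ p * 3 ^ a * 2 ^ b := by
  intro h
  rw [pow_two, mul_assoc] at h
  have h1 := Nat.dvd_of_mul_dvd_mul_left hp.prime.pos h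
  rcases (Nat.Prime.dvd_mul hp.prime).1 h1 with h2 | h2
  · have := (Nat.prime_dvd_prime_iff_eq hp.prime Nat.prime_three).1 (hp.prime.dvd_of_dvd_pow h2)
    have := hp.ge
    omega
  · have := (Nat.prime_dvd_prime_iff_eq hp.prime Nat.prime_two).1 (hp.prime.dvd_of_dvd_pow h2)
    have := hp.ge
    omega

/-- A divisor of `p * 3 ^ a * 2 ^ b` prime to 6 is at most 17. -/
theorem le_of_coprime {p a b s : ℕ} (hp : Four p) (h : s ∣ p * 3 ^ a * 2 ^ b) (h2 : ¬ 2 ∣ s)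
    (h3 : ¬ 3 ∣ s) : s ∣ p := by
  have c2 : s.Coprime (2 ^ b) :=
    Nat.Coprime.pow_right b ((Nat.Prime.coprime_iff_not_dvd Nat.prime_two).2 h2).symm
  have c3 : s.Coprime (3 ^ a) :=
    Nat.Coprime.pow_right a ((Nat.Prime.coprime_iff_not_dvd Nat.prime_three).2 h3).symm
  exact c3.dvd_of_dvd_mul_right (c2.dvd_of_dvd_mul_right h)

/-- `PSL₂(q)`, `q` odd. -/
theorem psl_two_odd {p a b q N : ℕ} (hp : Four p) (hq : IsPrimePow q) (hodd : Odd q) (h5 : 5 ≤ q)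
    (hN : 2 * N = q * (q ^ 2 - 1)) (hN' : N = p * 3 ^ a * 2 ^ b) :
    q = 5 ∨ q = 7 ∨ q = 9 ∨ q = 17 := by
  obtain ⟨r, m, hr, hm, rfl⟩ := hq
  have hr := hr.nat_prime
  have hr2 : r ≠ 2 := by
    rintro rfl
    exact (Nat.not_even_iff_odd.2 hodd) ((Nat.even_pow' hm.ne').2 even_two)
  have h2N : 2 * N = p * 3 ^ a * 2 ^ (b + 1) := by rw [hN', pow_succ]; ring
  have hrN : r ∣ p * 3 ^ a * 2 ^ (b + 1) := by
    rw [← h2N, hN]
    exact Dvd.dvd.mul_right (dvd_pow_self r hm.ne') _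
  rcases prime_dvd hp hr hrN with rfl | rfl | h
  · -- `q = p`
    have hm1 : m = 1 := by
      by_contra hm1
      apply not_sq_dvd (a := a) (b := b + 1) hp
      rw [← h2N, hN]
      exact Dvd.dvd.mul_right (pow_dvd_pow r (by omega)) _
    subst hm1
    rw [pow_one] at *
    rcases hp with rfl | rfl | rfl | rfl
    · simp
    · simp
    · exfalso
      have h7 : 7 ∣ 13 * 3 ^ a * 2 ^ (b + 1) := by
        rw [← h2N, hN]; norm_num
      rcases prime_dvd (Or.inr (Or.inr (Or.inl rfl))) (by norm_num) h7 with h | h | h <;> omega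
    · simp
  · -- `q = 3 ^ m`
    obtain ⟨s, hs, hsd⟩ : ∃ s, ¬ 2 ∣ s ∧ (3 ^ m = 2 * s + 1 ∨ 3 ^ m + 1 = 2 * s) ∧
        s ∣ p * 3 ^ a * 2 ^ (b + 1) := by
      obtain ⟨k, hk⟩ := hodd
      have hd : ∀ s : ℕ, (3 ^ m = 2 * s + 1 ∨ 3 ^ m + 1 = 2 * s) → s ∣ p * 3 ^ a * 2 ^ (b + 1) := by
        intro s hs
        rw [← h2N, hN]
        refine Dvd.dvd.mul_left ?_ _
        have e : (3 ^ m) ^ 2 - 1 = (3 ^ m + 1) * (3 ^ m - 1) := by
          rw [Nat.sub_eq_iff_eq_add (Nat.one_le_pow _ _ (by positivity))]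
          have h1 : 1 ≤ 3 ^ m := Nat.one_le_pow _ _ (by norm_num)
          obtain ⟨c, hc⟩ := Nat.exists_eq_add_of_le h1
          rw [hc, Nat.add_sub_cancel_left]
          ring
        rw [e]
        rcases hs with hs | hs
        · refine Dvd.dvd.mul_left ⟨2, by omega⟩ _
        · exact Dvd.dvd.mul_right ⟨2, by omega⟩ _
      by_cases hk2 : 2 ∣ k
      · refine ⟨k + 1, by omega, Or.inr (by omega), hd _ (Or.inr (by omega))⟩
      · exact ⟨k, hk2, Or.inl hk, hd _ (Or.inl hk)⟩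
    have h3s : ¬ 3 ∣ s := by
      intro h3
      have h3m : 3 ∣ 3 ^ m := dvd_pow_self 3 hm.ne'
      omega
    have h1 := Nat.le_of_dvd hp.prime.pos (le_of_coprime hp hsd.2 hs h3s)
    have h17 := hp.le
    have hm3 : m ≤ 3 := by
      by_contra hm3
      have : 3 ^ 4 ≤ 3 ^ m := Nat.pow_le_pow_right (by norm_num) (by omega)
      omega
    have hm' : m = 1 ∨ m = 2 ∨ m = 3 := by omega
    rcases hm' with rfl | rfl | rfl
    · norm_num at h5
    · simp
    · exfalso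
      norm_num at hN
      have h7 : 7 ∣ p * 3 ^ a * 2 ^ (b + 1) := by rw [← h2N, hN]; norm_num
      have h13 : 13 ∣ p * 3 ^ a * 2 ^ (b + 1) := by rw [← h2N, hN]; norm_num
      rcases prime_dvd hp (by norm_num) h7 with h | h | h <;>
      rcases prime_dvd hp (by norm_num) h13 with h' | h' | h' <;> omega
  · exact absurd h hr2

theorem dvd_of_isPrimePow {q n : ℕ} (hq : IsPrimePow q) (hodd : Odd q) {p a b : ℕ} (hp : Four p)
    (hn : q ^ 3 * n = 3 * (p * 3 ^ a * 2 ^ b) ∨ q ^ 3 * n = p * 3 ^ a * 2 ^ b) :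
    ∃ m, 0 < m ∧ q = 3 ^ m := by
  obtain ⟨r, m, hr, hm, rfl⟩ := hq
  have hr := hr.nat_prime
  have h' : ∃ a', (r ^ m) ^ 3 * n = p * 3 ^ a' * 2 ^ b := by
    rcases hn with h | h
    · exact ⟨a + 1, by rw [h, pow_succ]; ring⟩
    · exact ⟨a, h⟩
  obtain ⟨a', h'⟩ := h'
  have hr2 : r ≠ 2 := by
    rintro rfl
    exact (Nat.not_even_iff_odd.2 hodd) ((Nat.even_pow' hm.ne').2 even_two)
  have hrN : r ∣ p * 3 ^ a' * 2 ^ b := by
    rw [← h']
    exact Dvd.dvd.mul_right (dvd_pow (dvd_pow_self r hm.ne') (by norm_num)) _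
  rcases prime_dvd hp hr hrN with rfl | rfl | h
  · exfalso
    apply not_sq_dvd (a := a') (b := b) hp
    rw [← h', ← pow_mul]
    exact Dvd.dvd.mul_right (pow_dvd_pow r (by nlinarith)) _
  · exact ⟨m, hm, rfl⟩
  · exact absurd h hr2

/-- `PSL₃(q)`, `q` odd. -/
theorem psl_three {p a b q N : ℕ} (hp : Four p) (hq : IsPrimePow q) (hodd : Odd q)
    (hN : Nat.gcd 3 (q - 1) * ((q - 1) * N) = (q ^ 3 - 1) * (q ^ 3 - q) * (q ^ 3 - q ^ 2))
    (hN' : N = p * 3 ^ a * 2 ^ b) : q = 3 := by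
  have hq1 : 1 < q := hq.one_lt
  obtain ⟨k, rfl⟩ : ∃ k, q = k + 1 := ⟨q - 1, by omega⟩
  have hk : 0 < k := by omega
  rw [Nat.add_sub_cancel] at hN
  have e1 : (k + 1) ^ 3 - 1 = k * ((k + 1) ^ 2 + (k + 1) + 1) := by
    rw [Nat.sub_eq_iff_eq_add (Nat.one_le_pow _ _ (by omega))]; ring
  have e2 : (k + 1) ^ 3 - (k + 1) = k * ((k + 1) * (k + 2)) := by
    rw [Nat.sub_eq_iff_eq_add (by nlinarith [Nat.zero_le k, sq_nonneg (k + 1)])]; ring
  have e3 : (k + 1) ^ 3 - (k + 1) ^ 2 = k * (k + 1) ^ 2 := by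
    rw [Nat.sub_eq_iff_eq_add (Nat.pow_le_pow_right (by omega) (by norm_num))]; ring
  rw [e1, e2, e3] at hN
  have key : Nat.gcd 3 k * N = (k + 1) ^ 3 * (k ^ 2 * (k + 2) * ((k + 1) ^ 2 + (k + 1) + 1)) := by
    have : k * (Nat.gcd 3 k * N) =
        k * ((k + 1) ^ 3 * (k ^ 2 * (k + 2) * ((k + 1) ^ 2 + (k + 1) + 1))) := by
      calc k * (Nat.gcd 3 k * N) = Nat.gcd 3 k * (k * N) := by ring
        _ = _ := hN
        _ = _ := by ring
    exact Nat.eq_of_mul_eq_mul_left hk this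
  have hg : Nat.gcd 3 k = 3 ∨ Nat.gcd 3 k = 1 := by
    rcases (Nat.dvd_prime Nat.prime_three).1 (Nat.gcd_dvd_left 3 k) with h | h
    · exact Or.inr h
    · exact Or.inl h
  obtain ⟨m, hm, hm'⟩ := dvd_of_isPrimePow (n := k ^ 2 * (k + 2) * ((k + 1) ^ 2 + (k + 1) + 1)) hq hodd hp (a := a) (b := b) (by
    rcases hg with h | h
    · left; rw [← key, h, hN']
    · right; rw [← key, h, hN', one_mul])
  have h3 : 3 ∣ k + 1 := hm' ▸ dvd_pow_self 3 hm.ne'
  have hg1 : Nat.gcd 3 k = 1 := by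
    rcases hg with h | h
    · exfalso
      have := Nat.gcd_dvd_right 3 k
      rw [h] at this
      omega
    · exact h
  rw [hg1, one_mul] at key
  have hs : (k + 1) ^ 2 + (k + 1) + 1 ∣ p := by
    refine le_of_coprime (a := a) (b := b) hp (by rw [← hN', key]; exact Dvd.dvd.mul_left (Dvd.dvd.mul_left (dvd_refl _) _) _) ?_ ?_
    · intro h2
      obtain ⟨j, hj⟩ := hodd
      rw [hj] at h2
      have : (2 * j + 1) ^ 2 + (2 * j + 1) + 1 = 2 * (2 * j ^ 2 + 3 * j + 1) + 1 := by ring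
      omega
    · intro h3'
      obtain ⟨j, hj⟩ := h3
      rw [hj] at h3'
      have : (3 * j) ^ 2 + 3 * j + 1 = 3 * (3 * j ^ 2 + j) + 1 := by ring
      omega
  have h1 := Nat.le_of_dvd hp.prime.pos hs
  have h2 := hp.le
  have hk2 : k + 1 ≤ 3 := by
    by_contra hc
    have h4 : 4 ≤ k + 1 := by omega
    have : 4 ^ 2 ≤ (k + 1) ^ 2 := Nat.pow_le_pow_left h4 2
    omega
  omega

/-- `PSU₃(q)`, `q` odd. -/
theorem psu_three_odd {p a b q N : ℕ} (hp : Four p) (hq : IsPrimePow q) (hodd : Odd q)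
    (hN : Nat.gcd 3 (q + 1) * ((q + 1) * N) = q ^ 3 * ((q + 1) * (q ^ 2 - 1) * (q ^ 3 + 1)))
    (hN' : N = p * 3 ^ a * 2 ^ b) : q = 3 := by
  have hq1 : 1 < q := hq.one_lt
  have key : Nat.gcd 3 (q + 1) * N = q ^ 3 * ((q ^ 2 - 1) * (q ^ 3 + 1)) := by
    have : (q + 1) * (Nat.gcd 3 (q + 1) * N) = (q + 1) * (q ^ 3 * ((q ^ 2 - 1) * (q ^ 3 + 1))) := by
      calc (q + 1) * (Nat.gcd 3 (q + 1) * N) = Nat.gcd 3 (q + 1) * ((q + 1) * N) := by ring
        _ = _ := hN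
        _ = _ := by ring
    exact Nat.eq_of_mul_eq_mul_left (by omega) this
  have hg : Nat.gcd 3 (q + 1) = 3 ∨ Nat.gcd 3 (q + 1) = 1 := by
    rcases (Nat.dvd_prime Nat.prime_three).1 (Nat.gcd_dvd_left 3 (q + 1)) with h | h
    · exact Or.inr h
    · exact Or.inl h
  obtain ⟨m, hm, hm'⟩ := dvd_of_isPrimePow (n := (q ^ 2 - 1) * (q ^ 3 + 1)) hq hodd hp (a := a) (b := b) (by
    rcases hg with h | h
    · left; rw [← key, h, hN']
    · right; rw [← key, h, hN', one_mul])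
  have h3 : 3 ∣ q := hm' ▸ dvd_pow_self 3 hm.ne'
  have hg1 : Nat.gcd 3 (q + 1) = 1 := by
    rcases hg with h | h
    · exfalso
      have := Nat.gcd_dvd_right 3 (q + 1)
      rw [h] at this
      omega
    · exact h
  rw [hg1, one_mul] at key
  obtain ⟨k, rfl⟩ : ∃ k, q = k + 1 := ⟨q - 1, by omega⟩
  have hs : (k + 1) ^ 2 - (k + 1) + 1 ∣ p := by
    have e1 : (k + 1) ^ 2 - (k + 1) = k * (k + 1) := by
      rw [Nat.sub_eq_iff_eq_add (by nlinarith)]; ring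
    have e2 : (k + 1) ^ 3 + 1 = (k * (k + 1) + 1) * (k + 2) := by ring
    rw [e1]
    refine le_of_coprime (a := a) (b := b) hp (by
      rw [← hN', key, e2]
      exact Dvd.dvd.mul_left (Dvd.dvd.mul_left (Dvd.dvd.mul_right (dvd_refl _) _) _) _) ?_ ?_
    · intro h2
      obtain ⟨j, hj⟩ := hodd
      have hk : k = 2 * j := by omega
      have : k * (k + 1) + 1 = 2 * (j * (k + 1)) + 1 := by rw [hk]; ring
      omega
    · intro h3'
      obtain ⟨j, hj⟩ := h3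
      have : k * (k + 1) + 1 = 3 * (k * j) + 1 := by rw [hj]; ring
      omega
  have h1 := Nat.le_of_dvd hp.prime.pos hs
  have h2 := hp.le
  have e1 : (k + 1) ^ 2 - (k + 1) = k * (k + 1) := by
    rw [Nat.sub_eq_iff_eq_add (by nlinarith)]; ring
  rw [e1] at h1
  have hk2 : k + 1 ≤ 4 := by
    by_contra hc
    have h4 : 4 ≤ k := by omega
    have : 4 * 5 ≤ k * (k + 1) := Nat.mul_le_mul h4 (by omega)
    omega
  omega

/-- `PSU₃(q)`, `q ≥ 4` even. -/
theorem psu_three_even {p a b q N : ℕ} (hp : Four p) (heven : Even q) (h4 : 4 ≤ q)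
    (hN : Nat.gcd 3 (q + 1) * ((q + 1) * N) = q ^ 3 * ((q + 1) * (q ^ 2 - 1) * (q ^ 3 + 1)))
    (hN' : N = p * 3 ^ a * 2 ^ b) : False := by
  have key : Nat.gcd 3 (q + 1) * N = q ^ 3 * ((q ^ 2 - 1) * (q ^ 3 + 1)) := by
    have : (q + 1) * (Nat.gcd 3 (q + 1) * N) = (q + 1) * (q ^ 3 * ((q ^ 2 - 1) * (q ^ 3 + 1))) := by
      calc (q + 1) * (Nat.gcd 3 (q + 1) * N) = Nat.gcd 3 (q + 1) * ((q + 1) * N) := by ring
        _ = _ := hN
        _ = _ := by ring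
    exact Nat.eq_of_mul_eq_mul_left (by omega) this
  obtain ⟨k, rfl⟩ : ∃ k, q = k + 1 := ⟨q - 1, by omega⟩
  have e2 : (k + 1) ^ 3 + 1 = (k * (k + 1) + 1) * (k + 2) := by ring
  have hd3 : k * (k + 1) + 1 ∣ 3 * N := by
    have h1 : k * (k + 1) + 1 ∣ Nat.gcd 3 (k + 1 + 1) * N := by
      rw [key, e2]
      exact Dvd.dvd.mul_left (Dvd.dvd.mul_left (Dvd.dvd.mul_right (dvd_refl _) _) _) _
    exact h1.trans (Nat.mul_dvd_mul_right (Nat.gcd_dvd_left _ _) _)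
  have hd : k * (k + 1) + 1 ∣ p * 3 ^ (a + 1) * 2 ^ b := by
    have : 3 * N = p * 3 ^ (a + 1) * 2 ^ b := by rw [hN', pow_succ]; ring
    rwa [this] at hd3
  have hodd : ¬ 2 ∣ k * (k + 1) + 1 := by
    obtain ⟨j, hj⟩ := heven
    have : k * (k + 1) + 1 = 2 * (k * j) + 1 := by rw [hj]; ring
    omega
  -- `k(k+1)+1` divides `3 p`
  have h9 : ¬ 9 ∣ k * (k + 1) + 1 := by
    have hm : (k * (k + 1) + 1) % 9 ≠ 0 := by
      have : (k * (k + 1) + 1) % 9 = ((k % 9) * (k % 9 + 1) + 1) % 9 := by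
        simp [Nat.add_mod, Nat.mul_mod]
      rw [this]
      have hk : k % 9 < 9 := Nat.mod_lt _ (by norm_num)
      interval_cases (k % 9) <;> norm_num
    omega
  have h51 : k * (k + 1) + 1 ∣ 3 * p := by
    by_cases h3 : 3 ∣ k * (k + 1) + 1
    · obtain ⟨s, hs⟩ := h3
      rw [hs]
      apply Nat.mul_dvd_mul_left
      have hs2 : ¬ 2 ∣ s := fun h => hodd (by rw [hs]; exact Dvd.dvd.mul_left h 3)
      have hs3 : ¬ 3 ∣ s := by
        intro h
        apply h9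
        rw [hs]
        obtain ⟨u, rfl⟩ := h
        exact ⟨u, by ring⟩
      exact le_of_coprime hp ((Dvd.intro_left 3 hs.symm).trans hd) hs2 hs3
    · exact Dvd.dvd.mul_left (le_of_coprime hp hd hodd h3) 3
  have h1 := Nat.le_of_dvd (by have := hp.prime.pos; omega) h51
  have h17 := hp.le
  have hk : k ≤ 6 := by
    by_contra hc
    have h4 : 7 ≤ k := by omega
    have : 7 * 8 ≤ k * (k + 1) := Nat.mul_le_mul h4 (by omega)
    omega
  obtain ⟨j, hj⟩ := heven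
  have hk' : k = 3 ∨ k = 5 := by omega
  rcases hk' with rfl | rfl
  · norm_num at key
    have h25 : 5 ^ 2 ∣ p * 3 ^ a * 2 ^ b := by rw [← hN', key]; norm_num
    have h5 : 5 ∣ p * 3 ^ a * 2 ^ b := (dvd_pow_self 5 (by norm_num)).trans h25
    rcases prime_dvd hp (by norm_num) h5 with h | h | h
    · rw [h] at h25
      exact not_sq_dvd hp h25
    · omega
    · omega
  · -- `q = 6`: `31`
    norm_num at h51
    rcases hp with rfl | rfl | rfl | rfl <;> norm_num at h51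

/-- `PSL₂(q)`, `q ≥ 4` even. -/
theorem psl_two_even {p a b q N : ℕ} (hp : Four p) (hq : ∃ m, q = 2 ^ m) (h4 : 4 ≤ q)
    (hN : N = q * (q ^ 2 - 1)) (hN' : N = p * 3 ^ a * 2 ^ b) : q = 4 ∨ q = 8 := by
  obtain ⟨k, rfl⟩ : ∃ k, q = k + 1 := ⟨q - 1, by omega⟩
  have heven : 2 ∣ k + 1 := by
    obtain ⟨m, hm⟩ := hq
    have hm0 : m ≠ 0 := by rintro rfl; simp at hm; omega
    rw [hm]
    exact dvd_pow_self 2 hm0
  have e : (k + 1) ^ 2 - 1 = k * (k + 2) := by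
    rw [Nat.sub_eq_iff_eq_add (Nat.one_le_pow _ _ (by omega))]; ring
  have hd1 : k ∣ p * 3 ^ a * 2 ^ b := by
    rw [← hN', hN, e]
    exact Dvd.dvd.mul_left (Dvd.dvd.mul_right (dvd_refl _) _) _
  have hd2 : k + 2 ∣ p * 3 ^ a * 2 ^ b := by
    rw [← hN', hN, e]
    exact Dvd.dvd.mul_left (Dvd.dvd.mul_left (dvd_refl _) _) _
  have h17 := hp.le
  have hk : k ≤ 17 := by
    by_cases h3 : 3 ∣ k
    · have := Nat.le_of_dvd hp.prime.pos (le_of_coprime hp hd2 (by omega) (by omega))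
      omega
    · have := Nat.le_of_dvd hp.prime.pos (le_of_coprime hp hd1 (by omega) (by omega))
      omega
  obtain ⟨m, hm⟩ := hq
  have hm4 : m ≤ 4 := by
    by_contra hc
    have : 2 ^ 5 ≤ 2 ^ m := Nat.pow_le_pow_right (by norm_num) (by omega)
    omega
  have : m = 2 ∨ m = 3 ∨ m = 4 := by
    have : m ≠ 0 := by rintro rfl; norm_num at hm; omega
    have : m ≠ 1 := by rintro rfl; norm_num at hm; omega
    omega
  rcases this with rfl | rfl | rfl
  · left; rw [hm]; norm_num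
  · right; rw [hm]; norm_num
  · exfalso
    have hk15 : k = 15 := by norm_num at hm; omega
    subst hk15
    have h5 : 5 ∣ p * 3 ^ a * 2 ^ b := by rw [← hN', hN]; norm_num
    have h17 : 17 ∣ p * 3 ^ a * 2 ^ b := by rw [← hN', hN]; norm_num
    rcases prime_dvd hp (by norm_num) h5 with h | h | h <;>
    rcases prime_dvd hp (by norm_num) h17 with h' | h' | h' <;> omega

end Cfsg.Agent.SmallSimple.S1000.RedArith
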