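import Mathlib
import Cfsg.Agent.S0144
import Cfsg.Agent.S0252
import Cfsg.Agent.S0253
import Cfsg.Agent.S0254
import Cfsg.Agent.SmallSimple.S1000.Setup
import Cfsg.Agent.SmallSimple.S1000.OrderArith
import Cfsg.Prelude.Def_Sporadic

/-!
# S1000: the groups in the conclusions of S0482 (2-rank at most 2) and S0222 (strongly embedded)

whose order is `p * 3 ^ a * 2 ^ b` with a prime `p ≥ 5`.
-/

set_option autoImplicit false

namespace Cfsg.Agent.SmallSimple.S1000.SmallCases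

open Matrix Cfsg Cfsg.Agent.SmallSimple.S1000.Setup Cfsg.Agent.SmallSimple.S1000.OrderArith

universe u

set_option linter.unusedSectionVars false

variable {G : Type u} [Group G] [Finite G] {p a b : ℕ}

theorem sub_mul_add {q : ℕ} (hq : 1 ≤ q) : q ^ 2 - 1 = (q - 1) * (q + 1) := by
  obtain ⟨u, rfl⟩ : ∃ u, q = u + 1 := ⟨q - 1, by omega⟩
  have : (u + 1) ^ 2 = u * (u + 1 + 1) + 1 := by ring
  rw [this, Nat.add_sub_cancel, Nat.add_sub_cancel]

theorem known_psl_two_odd (hp : p.Prime) (h5 : 5 ≤ p) (hc : Nat.card G = p * 3 ^ a * 2 ^ b)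
    {F : Type} [Field F] [Fintype F] (hodd : Odd (Fintype.card F)) (hF5 : 5 ≤ Fintype.card F)
    (e : G ≃* Matrix.ProjectiveSpecialLinearGroup (Fin 2) F) : Known G := by
  have h1 := PSLTwoPart.card_psl_two_odd hodd
  rw [← Nat.card_congr e.toEquiv, hc, sub_mul_add (by omega)] at h1
  have hd : Dv p (Fintype.card F * ((Fintype.card F - 1) * (Fintype.card F + 1))) :=
    ⟨a, b + 1, by rw [← h1, pow_succ]; exact Dvd.intro 1 (by ring)⟩
  rcases psl_two_odd hp h5 (FiniteField.isPrimePow_card F) hodd hF5 hd with h | h | h | h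
  · obtain ⟨f⟩ := Cfsg.Agent.S0253.result h
    exact Or.inl ⟨e.trans f⟩
  · exact Or.inr (Or.inr (Or.inr (Or.inl ⟨F, inferInstance, inferInstance, Or.inl h, ⟨e⟩⟩)))
  · obtain ⟨f⟩ := Cfsg.Agent.S0254.result h
    exact Or.inr (Or.inl ⟨e.trans f⟩)
  · exact Or.inr (Or.inr (Or.inr (Or.inl
      ⟨F, inferInstance, inferInstance, Or.inr (Or.inr h), ⟨e⟩⟩)))

theorem known_psl_two_even (hp : p.Prime) (h5 : 5 ≤ p) (hc : Nat.card G = p * 3 ^ a * 2 ^ b)
    {F : Type} [Field F] [Fintype F] (heven : Even (Fintype.card F)) (hF4 : 4 ≤ Fintype.card F)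
    (e : G ≃* Matrix.ProjectiveSpecialLinearGroup (Fin 2) F) : Known G := by
  have h1 := PSLTwoPart.card_psl_two_even heven
  rw [← Nat.card_congr e.toEquiv, hc, sub_mul_add (by omega)] at h1
  have hd : Dv p (Fintype.card F * ((Fintype.card F - 1) * (Fintype.card F + 1))) :=
    ⟨a, b, by rw [← h1]⟩
  rcases psl_two_even hp h5 (FiniteField.isPrimePow_card F) heven hF4 hd with h | h
  · obtain ⟨f⟩ := Cfsg.Agent.S0252.result h
    exact Or.inl ⟨e.trans f⟩
  · exact Or.inr (Or.inr (Or.inr (Or.inl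
      ⟨F, inferInstance, inferInstance, Or.inr (Or.inl h), ⟨e⟩⟩)))

theorem dv_of_mul_eq {n g : ℕ} (hc : Nat.card G = p * 3 ^ a * 2 ^ b) (hg : g = 1 ∨ g = 3)
    (h : g * Nat.card G = n) : Dv p n := by
  rcases hg with rfl | rfl
  · exact ⟨a, b, by rw [← h, hc, one_mul]⟩
  · refine ⟨a + 1, b, ?_⟩
    rw [← h, hc, pow_succ]
    exact Dvd.intro 1 (by ring)

theorem gcd_three (n : ℕ) : Nat.gcd 3 n = 1 ∨ Nat.gcd 3 n = 3 :=
  (Nat.dvd_prime Nat.prime_three).mp (Nat.gcd_dvd_left 3 n)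

theorem known_psl_three_odd (hp : p.Prime) (h5 : 5 ≤ p) (hc : Nat.card G = p * 3 ^ a * 2 ^ b)
    {F : Type} [Field F] [Fintype F] (hodd : Odd (Fintype.card F))
    (e : G ≃* Matrix.ProjectiveSpecialLinearGroup (Fin 3) F) : Known G := by
  have h1 := Cfsg.Agent.S0243.result (F := F) rfl 3 (by norm_num)
  rw [Fin.prod_univ_three, ← Nat.card_congr e.toEquiv] at h1
  have hq : 1 < Fintype.card F := Fintype.one_lt_card
  have hpp := FiniteField.isPrimePow_card F
  have key : Nat.gcd 3 (Fintype.card F - 1) * Nat.card G =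
      Fintype.card F ^ 3 * ((Fintype.card F ^ 2 - 1) * (Fintype.card F ^ 3 - 1)) := by
    generalize Fintype.card F = q at h1 hq ⊢
    generalize Nat.card G = N at h1 ⊢
    obtain ⟨u, rfl⟩ : ∃ u, q = u + 1 := ⟨q - 1, by omega⟩
    rw [Nat.add_sub_cancel] at h1 ⊢
    generalize Nat.gcd 3 u = g at h1 ⊢
    simp only [Fin.val_zero, Fin.val_one, Fin.val_two, pow_zero, pow_one] at h1
    have e1 : (u + 1) ^ 3 - 1 = u * (u ^ 2 + 3 * u + 3) := by
      have : (u + 1) ^ 3 = u * (u ^ 2 + 3 * u + 3) + 1 := by ring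
      rw [this, Nat.add_sub_cancel]
    have e2 : (u + 1) ^ 3 - (u + 1) = u * ((u + 1) * (u + 2)) := by
      have : (u + 1) ^ 3 = u * ((u + 1) * (u + 2)) + (u + 1) := by ring
      rw [this, Nat.add_sub_cancel]
    have e3 : (u + 1) ^ 3 - (u + 1) ^ 2 = u * (u + 1) ^ 2 := by
      have : (u + 1) ^ 3 = u * (u + 1) ^ 2 + (u + 1) ^ 2 := by ring
      rw [this, Nat.add_sub_cancel]
    have e4 : (u + 1) ^ 2 - 1 = u * (u + 2) := by
      have : (u + 1) ^ 2 = u * (u + 2) + 1 := by ring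
      rw [this, Nat.add_sub_cancel]
    rw [e1, e2, e3] at h1
    rw [e1, e4]
    have hu : 0 < u := by omega
    refine Nat.eq_of_mul_eq_mul_left hu ?_
    calc u * (g * N) = g * (u * N) := by ring
      _ = _ := h1
      _ = _ := by ring
  have h3 := psl_three_odd hp h5 hpp hodd (dv_of_mul_eq hc (gcd_three _) key)
  exact Or.inr (Or.inr (Or.inr (Or.inr (Or.inr ⟨F, inferInstance, inferInstance, h3, ⟨e⟩⟩))))

theorem isPrimePow_of_sq {q : ℕ} (h : IsPrimePow (q ^ 2)) : IsPrimePow q :=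
  (isPrimePow_pow_iff (by norm_num)).mp h

theorem card_psu {F : Type} [Field F] [Fintype F] {q : ℕ} (hF : Fintype.card F = q ^ 2)
    (e : G ≃* Cfsg.PSU 3 F q) :
    Nat.gcd 3 (q + 1) * Nat.card G = q ^ 3 * ((q ^ 2 - 1) * (q ^ 3 + 1)) := by
  have h1 := Cfsg.Agent.S0280.result hF 3 (by norm_num)
  rw [← Nat.card_congr e.toEquiv] at h1
  norm_num [Finset.prod_range_succ, Nat.even_iff] at h1
  generalize Nat.card G = N at h1 ⊢
  generalize Nat.gcd 3 (q + 1) = g at h1 ⊢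
  refine Nat.eq_of_mul_eq_mul_left (show 0 < q + 1 by omega) ?_
  calc (q + 1) * (g * N) = g * ((q + 1) * N) := by ring
    _ = _ := h1
    _ = _ := by ring

theorem known_psu_three_odd (hp : p.Prime) (h5 : 5 ≤ p) (hc : Nat.card G = p * 3 ^ a * 2 ^ b)
    {F : Type} [Field F] [Fintype F] {q : ℕ} (hF : Fintype.card F = q ^ 2) (hodd : Odd q)
    (e : G ≃* Cfsg.PSU 3 F q) : Known G := by
  have hpp := FiniteField.isPrimePow_card F
  rw [hF] at hpp
  have h3 := psu_three_odd hp h5 (isPrimePow_of_sq hpp) hodd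
    (dv_of_mul_eq hc (gcd_three _) (card_psu hF e))
  subst h3
  exact Or.inr (Or.inr (Or.inr (Or.inr (Or.inl
    ⟨F, inferInstance, inferInstance, by rw [hF]; norm_num, ⟨e⟩⟩))))

theorem false_psu_three_even (hp : p.Prime) (h5 : 5 ≤ p) (hc : Nat.card G = p * 3 ^ a * 2 ^ b)
    {F : Type} [Field F] [Fintype F] {q : ℕ} (hF : Fintype.card F = q ^ 2) (heven : Even q)
    (hq4 : 4 ≤ q) (e : G ≃* Cfsg.PSU 3 F q) : False := by
  have hpp := FiniteField.isPrimePow_card F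
  rw [hF] at hpp
  exact psu_three_even hp h5 (isPrimePow_of_sq hpp) heven hq4
    (dv_of_mul_eq hc (gcd_three _) (card_psu hF e))

theorem false_of_two_primes (hp : p.Prime) (hc : Nat.card G = p * 3 ^ a * 2 ^ b) {r s : ℕ}
    (hr : r.Prime) (hs : s.Prime) (hrs : r ≠ s) (hr3 : 3 < r) (hs3 : 3 < s)
    (h1 : r ∣ Nat.card G) (h2 : s ∣ Nat.card G) : False := by
  have hd : Dv p (Nat.card G) := ⟨a, b, by rw [hc]⟩
  rcases hd.prime hp hr h1 with h3 | h3 | h3
  · rcases hd.prime hp hs h2 with h4 | h4 | h4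
    · exact hrs (h3.trans h4.symm)
    · omega
    · omega
  · omega
  · omega

/-- The groups of 2-rank at most 2. -/
theorem known_of_rankTwo (hp : p.Prime) (h5 : 5 ≤ p) (hc : Nat.card G = p * 3 ^ a * 2 ^ b)
    (h : (∃ (F : Type) (_ : Field F) (_ : Fintype F), Odd (Fintype.card F) ∧ 5 ≤ Fintype.card F ∧
        Nonempty (G ≃* Matrix.ProjectiveSpecialLinearGroup (Fin 2) F)) ∨
      (∃ (F : Type) (_ : Field F) (_ : Fintype F), Odd (Fintype.card F) ∧
        Nonempty (G ≃* Matrix.ProjectiveSpecialLinearGroup (Fin 3) F)) ∨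
      (∃ (F : Type) (_ : Field F) (_ : Fintype F) (q : ℕ), Fintype.card F = q ^ 2 ∧ Odd q ∧
        Nonempty (G ≃* Cfsg.PSU 3 F q)) ∨
      (∃ (F : Type) (_ : Field F) (_ : Fintype F), Fintype.card F = 16 ∧
        Nonempty (G ≃* Cfsg.PSU 3 F 4)) ∨
      Nonempty (G ≃* alternatingGroup (Fin 7)) ∨
      Cfsg.IsM11 G) : Known G := by
  rcases h with ⟨F, _, _, h1, h2, ⟨e⟩⟩ | ⟨F, _, _, h1, ⟨e⟩⟩ | ⟨F, _, _, q, h1, h2, ⟨e⟩⟩ |
    ⟨F, _, _, h1, ⟨e⟩⟩ | ⟨⟨e⟩⟩ | ⟨_, h1⟩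
  · exact known_psl_two_odd hp h5 hc h1 h2 e
  · exact known_psl_three_odd hp h5 hc h1 e
  · exact known_psu_three_odd hp h5 hc h1 h2 e
  · exact (false_psu_three_even hp h5 hc (q := 4) (by rw [h1]; norm_num) (by decide) le_rfl e).elim
  · have h1 : Nat.card G = 2520 := by
      rw [Nat.card_congr e.toEquiv, nat_card_alternatingGroup, Nat.card_eq_fintype_card,
        Fintype.card_fin]
      rfl
    exact (false_of_two_primes hp hc (r := 5) (s := 7) (by norm_num) (by norm_num) (by norm_num)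
      (by norm_num) (by norm_num) (by rw [h1]; norm_num) (by rw [h1]; norm_num)).elim
  · exact (false_of_two_primes hp hc (r := 5) (s := 11) (by norm_num) (by norm_num) (by norm_num)
      (by norm_num) (by norm_num) (by rw [h1]; norm_num) (by rw [h1]; norm_num)).elim

theorem pow_odd_mod_three (m : ℕ) : 2 ^ (2 * m + 1) % 3 = 2 := by
  induction m with
  | zero => rfl
  | succ m ih =>
    rw [show 2 * (m + 1) + 1 = (2 * m + 1) + 2 from by ring, pow_add]
    omega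

theorem not_three_dvd_suzuki (m : ℕ) :
    ¬ 3 ∣ (2 ^ (2 * m + 1)) ^ 2 * ((2 ^ (2 * m + 1)) ^ 2 + 1) * (2 ^ (2 * m + 1) - 1) := by
  have h := pow_odd_mod_three m
  have h1 : 1 ≤ 2 ^ (2 * m + 1) := Nat.one_le_two_pow
  generalize 2 ^ (2 * m + 1) = q at h h1
  have hq : ¬ 3 ∣ q := by omega
  have hq1 : ¬ 3 ∣ q - 1 := by omega
  have hq2 : ¬ 3 ∣ q ^ 2 + 1 := by
    obtain ⟨k, rfl⟩ : ∃ k, q = 3 * k + 2 := ⟨q / 3, by omega⟩
    have : (3 * k + 2) ^ 2 + 1 = 3 * (3 * k ^ 2 + 4 * k + 1) + 2 := by ring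
    rw [this]
    omega
  intro h3
  rcases (Nat.Prime.dvd_mul Nat.prime_three).1 h3 with h4 | h4
  · rcases (Nat.Prime.dvd_mul Nat.prime_three).1 h4 with h6 | h6
    · exact hq (Nat.prime_three.dvd_of_dvd_pow h6)
    · exact hq2 h6
  · exact hq1 h4

/-- The groups with a strongly embedded subgroup. -/
theorem known_of_bender [IsSimpleGroup G] (hna : ∃ x y : G, x * y ≠ y * x) (hp : p.Prime)
    (h5 : 5 ≤ p) (hc : Nat.card G = p * 3 ^ a * 2 ^ b)
    (h : (∃ (F : Type) (_ : Field F) (_ : Fintype F), CharP F 2 ∧ 4 ≤ Fintype.card F ∧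
        Nonempty (G ≃* Matrix.ProjectiveSpecialLinearGroup (Fin 2) F)) ∨ Cfsg.IsSuzuki G ∨
      (∃ (F : Type) (_ : Field F) (_ : Fintype F) (q : ℕ), Fintype.card F = q ^ 2 ∧ Even q ∧
        4 ≤ q ∧ Nonempty (G ≃* Cfsg.PSU 3 F q))) : Known G := by
  rcases h with ⟨F, _, _, h1, h2, ⟨e⟩⟩ | ⟨_, m, -, h1⟩ | ⟨F, _, _, q, h1, h2, h3, ⟨e⟩⟩
  · refine known_psl_two_even hp h5 hc ?_ h2 e
    obtain ⟨n, hn, hcard⟩ := FiniteField.card F 2
    rw [hcard]
    exact Nat.even_pow.2 ⟨even_two, n.pos.ne'⟩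
  · exfalso
    have ha : a = 0 := by
      by_contra ha
      refine not_three_dvd_suzuki m ?_
      rw [← h1, hc]
      exact ((dvd_pow_self 3 ha).mul_left p).mul_right _
    subst ha
    have hsol : Group.IsSolvable G :=
      Cfsg.Agent.S0144.result p 2 1 b hp Nat.prime_two (by rw [hc]; ring)
    obtain ⟨x, y, hxy⟩ := hna
    exact hxy (IsSimpleGroup.comm_iff_isSolvable.mpr hsol x y)
  · exact (false_psu_three_even hp h5 hc h1 h2 h3 e).elim

end Cfsg.Agent.SmallSimple.S1000.SmallCases
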