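import Cfsg.Agent.SmallSimple.S1000.ThmDMain
import Cfsg.Agent.MTwelve.BlockData

/-!
# S1000: the two Steinberg characters

`G` simple nonabelian of order `p r^m s^n` with self-centralizing Sylow `p`-subgroup, `D` the data of the principal
`p`-block.

* `exists_pow` : some nontrivial character of the principal `p`-block has degree `r^i`;
* `exists_steinberg` : if the characters outside the principal `r`-block vanish on `r`-singular elements then one of
  them lies in the principal `p`-block and has degree `r^m`;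
* `exists_both` : if `O_{r'}(C_G(u)) = 1` for all `r`-elements `u ≠ 1`, the same holds for `s`, and there are such
  characters for both primes.
-/

set_option autoImplicit false
set_option linter.unusedSectionVars false

open Cfsg
open scoped ComplexConjugate

namespace Cfsg.Agent.SmallSimple.S1000.Steinberg

open CharSetup ThmD ThmDMain Subgroup DegreeData Cfsg.Agent.Blocks.Basic Cfsg.Agent.Blocks.Local

universe u

variable {G : Type u} [Group G] [Finite G] {p r m s n : ℕ} {M : Ideal AlgInt} {P : Sylow p G}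
  {e t : ℕ}

theorem commutator_eq_top' [IsSimpleGroup G] (hna : ∃ a b : G, a * b ≠ b * a) :
    commutator G = ⊤ := by
  rcases (inferInstance : (commutator G).Normal).eq_bot_or_eq_top with h | h
  · exfalso
    obtain ⟨a, b, hab⟩ := hna
    apply hab
    have h1 := (commutator_eq_bot_iff_center_eq_top G).1 h
    have h2 : a ∈ center G := by rw [h1]; exact mem_top a
    exact (mem_center_iff.1 h2 b).symm
  · exact h

/-- A character of degree one is trivial. -/
theorem eq_one_of_charDegree [IsSimpleGroup G] (hna : ∃ a b : G, a * b ≠ b * a)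
    (D : BlockData p M P e t) {χ : IrrCharacter G} (h : charDegree (χ : G → ℂ) = 1) : χ = D.one := by
  have h1 : MTwelve.BlockData.deg χ = 1 :=
    MTwelve.BlockData.deg_eq_of (by rw [Blocks.Knorr.charDegree_eq χ.2, h])
  have h2 := MTwelve.BlockData.eq_triv_of_deg (commutator_eq_top' hna) h1
  have h3 : charDegree (D.one : G → ℂ) = 1 := charDegree_one' D
  have h4 : MTwelve.BlockData.deg D.one = 1 :=
    MTwelve.BlockData.deg_eq_of (by rw [Blocks.Knorr.charDegree_eq D.one.2, h3])
  have h5 := MTwelve.BlockData.eq_triv_of_deg (commutator_eq_top' hna) h4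
  rw [h2, h5]

theorem e_pos (h : Hyp G p r m s n) (ht : e * t = p - 1) : 0 < e := by
  rcases Nat.eq_zero_or_pos e with h0 | h0
  · rw [h0, zero_mul] at ht
    have := h.hp.two_le
    omega
  · exact h0

theorem t_pos (h : Hyp G p r m s n) (ht : e * t = p - 1) : 0 < t := by
  rcases Nat.eq_zero_or_pos t with h0 | h0
  · rw [h0, mul_zero] at ht
    have := h.hp.two_le
    omega
  · exact h0

/-- The degrees of the principal `p`-block are prime to `p`. -/
theorem not_dvd_charDegree (h : Hyp G p r m s n) [Fact p.Prime] (D : BlockData p M P e t)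
    (ht : e * t = p - 1) {χ : IrrCharacter G} (hχ : χ ∈ principalBlock M G) :
    ¬ p ∣ charDegree (χ : G → ℂ) := by
  intro hd
  have hd' : (p : ℤ) ∣ (charDegree (χ : G → ℂ) : ℤ) := by exact_mod_cast hd
  rw [D.mem_block] at hχ
  rcases hχ with h1 | h1
  · have h2 := D.sd_modEq (h.card_sylow P) h1
    have h3 : (p : ℤ) ∣ D.sd χ := by
      rw [BlockData.sd]
      exact dvd_mul_of_dvd_right hd' _
    have h4 : (p : ℤ) ∣ 1 := by
      have := h2.symm.dvd
      have h5 := dvd_sub h3 this
      simpa using h5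
    have h6 : p ∣ 1 := by exact_mod_cast h4
    exact h.hp.not_dvd_one h6
  · have h2 := D.dexc_modEq (h.card_sylow P) ht
    have h3 : (p : ℤ) ∣ D.dexc := by
      rw [BlockData.dexc, ← D.deg_X χ h1]
      exact dvd_mul_of_dvd_right hd' _
    have h4 : (p : ℤ) ∣ e := by
      have := h2.symm.dvd
      have h5 := dvd_sub h3 this
      simpa using h5
    have h6 : p ∣ e := by exact_mod_cast h4
    have h7 := Nat.le_of_dvd (e_pos h ht) h6
    have h8 : e ≤ p - 1 := by
      rw [← ht]; exact Nat.le_mul_of_pos_right _ (t_pos h ht)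
    have := h.hp.two_le
    omega

/-- Some nontrivial character of the principal `p`-block has degree a power of `r`. -/
theorem exists_pow (h : Hyp G p r m s n) [Fact p.Prime] (D : BlockData p M P e t)
    (ht : e * t = p - 1) :
    ∃ χ ∈ principalBlock M G, χ ≠ D.one ∧ ∃ i : ℕ, charDegree (χ : G → ℂ) = r ^ i := by
  have key : ∃ χ ∈ principalBlock M G, χ ≠ D.one ∧ ¬ s ∣ charDegree (χ : G → ℂ) := by
    by_contra hcon
    push Not at hcon
    have h1 : ∀ z ∈ D.degs, (s : ℤ) ∣ z := by
      intro z hz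
      obtain ⟨χ, hχ, rfl⟩ := List.mem_map.1 hz
      have hne : χ ≠ D.one := by
        rintro rfl
        exact (List.nodup_cons.1 D.nodup).1 hχ
      have h2 := hcon χ ((D.mem_block χ).2 (Or.inl (List.mem_cons_of_mem _ hχ))) hne
      rw [BlockData.sd]
      exact dvd_mul_of_dvd_right (by exact_mod_cast h2) _
    obtain ⟨Θ, hΘ⟩ := D.exists_X ht
    have hneΘ : Θ ≠ D.one := by
      rintro rfl
      exact D.notMem_X D.one List.mem_cons_self hΘ
    have h2 : (s : ℤ) ∣ D.dexc := by
      have := hcon Θ ((D.mem_block Θ).2 (Or.inr hΘ)) hneΘ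
      rw [D.deg_X Θ hΘ] at this
      rw [BlockData.dexc]
      exact dvd_mul_of_dvd_right (by exact_mod_cast this) _
    have h3 : (s : ℤ) ∣ D.degs.sum := List.dvd_sum h1
    have h4 := D.dexc_eq ht
    have h5 : (s : ℤ) ∣ 1 := by
      have : (1 : ℤ) = D.dexc - D.degs.sum := by rw [← h4]; ring
      rw [this]
      exact dvd_sub h2 h3
    have h6 : s ∣ 1 := by exact_mod_cast h5
    exact h.hs.not_dvd_one h6
  obtain ⟨χ, h1, h2, h3⟩ := key
  refine ⟨χ, h1, h2, ?_⟩
  have h4 := not_dvd_charDegree h D ht h1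
  have h5 : charDegree (χ : G → ℂ) ∣ p * r ^ m * s ^ n := by
    rw [← h.card]; exact Blocks.Knorr.charDegree_dvd χ.2
  have h6 : (charDegree (χ : G → ℂ)).Coprime (s ^ n) :=
    Nat.Coprime.pow_right n ((Nat.Prime.coprime_iff_not_dvd h.hs).2 h3).symm
  have h7 : (charDegree (χ : G → ℂ)).Coprime p :=
    ((Nat.Prime.coprime_iff_not_dvd h.hp).2 h4).symm
  have h8 : charDegree (χ : G → ℂ) ∣ r ^ m :=
    h7.dvd_of_dvd_mul_left (h6.dvd_of_dvd_mul_right h5)
  obtain ⟨i, -, hi⟩ := (Nat.dvd_prime_pow h.hr).1 h8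
  exact ⟨i, hi⟩

/-- If the characters outside the principal `r`-block vanish on `r`-singular elements then one of them lies in the
principal `p`-block and has degree `r^m`. -/
theorem exists_steinberg (h : Hyp G p r m s n) [IsSimpleGroup G] (hna : ∃ a b : G, a * b ≠ b * a)
    [Fact p.Prime] [Fact r.Prime] (D : BlockData p M P e t)
    (ht : e * t = p - 1) {R : Ideal AlgInt} (hR : IsPModular r R)
    (hv : ∀ χ : IrrCharacter G, χ ∉ principalBlock R G → ∀ g : G, r ∣ orderOf g →
      (χ : G → ℂ) g = 0) :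
    ∃ χ ∈ principalBlock M G, χ ∉ principalBlock R G ∧ charDegree (χ : G → ℂ) = r ^ m ∧
      ∀ g : G, r ∣ orderOf g → (χ : G → ℂ) g = 0 := by
  obtain ⟨χ, h1, h2, i, hi⟩ := exists_pow h D ht
  have h3 : χ ∉ principalBlock R G := by
    intro hmem
    have h4 := S0910.result r R hR hna χ hmem i (by
      rw [Blocks.Knorr.charDegree_eq χ.2, hi]; push_cast; rfl)
    apply h2
    apply Subtype.ext
    rw [h4, D.coe_one]
    rfl
  have h4 := hv χ h3
  have h5 := S0928.result r χ (fun g hg => h4 g (by rw [hg]))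
  rw [hi, h.hr.factorization_pow, Finsupp.single_eq_same, h.factorization_r] at h5
  exact ⟨χ, h1, h3, by rw [hi, h5], h4⟩

/-- **Both Steinberg characters.** -/
theorem exists_both (h : Hyp G p r m s n) [IsSimpleGroup G] (hna : ∃ a b : G, a * b ≠ b * a)
    [Fact p.Prime] [Fact r.Prime] [Fact s.Prime] (hn : n ≠ 0) (D : BlockData p M P e t)
    (hM : IsPModular p M) (he : (centralizer (P : Set G)).relIndex (normalizer (P : Set G)) = e)
    (ht : e * t = p - 1) {R N : Ideal AlgInt} (hR : IsPModular r R) (hN : IsPModular s N)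
    (hcore : ∀ u : G, u ≠ 1 → (∃ k : ℕ, orderOf u = r ^ k) →
      pPrimeCore r (centralizer ({u} : Set G)) = ⊥) :
    (∃ A ∈ principalBlock M G, A ∉ principalBlock R G ∧ charDegree (A : G → ℂ) = r ^ m ∧
      ∀ g : G, r ∣ orderOf g → (A : G → ℂ) g = 0) ∧
    (∃ B ∈ principalBlock M G, B ∉ principalBlock N G ∧ charDegree (B : G → ℂ) = s ^ n ∧
      ∀ g : G, s ∣ orderOf g → (B : G → ℂ) g = 0) ∧
    (∀ ξ : IrrCharacter G, ξ ∉ principalBlock R G → ∀ g : G, r ∣ orderOf g →
      (ξ : G → ℂ) g = 0) ∧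
    (∀ ξ : IrrCharacter G, ξ ∉ principalBlock N G → ∀ g : G, s ∣ orderOf g →
      (ξ : G → ℂ) g = 0) ∧
    (∀ y : G, y ≠ 1 → (∃ k : ℕ, orderOf y = s ^ k) →
      pPrimeCore s (centralizer ({y} : Set G)) = ⊥) := by
  have hv : ∀ ξ : IrrCharacter G, ξ ∉ principalBlock R G → ∀ g : G, r ∣ orderOf g →
      (ξ : G → ℂ) g = 0 := by
    intro ξ hξ g hg
    refine OneBlock.eq_zero_of_singular hR (fun u hu hk => ⟨?_, hcore u hu hk⟩) hξ hg
    refine h.solvable_centralizer hu ?_
    obtain ⟨k, hk⟩ := hk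
    rw [hk]
    intro hd
    exact h.hpr ((Nat.prime_dvd_prime_iff_eq h.hp h.hr).1 (h.hp.dvd_of_dvd_pow hd))
  obtain ⟨A, hA1, hA2, hA3, hA4⟩ := exists_steinberg h hna D ht hR hv
  have hv' : ∀ ξ : IrrCharacter G, ξ ∉ principalBlock N G → ∀ g : G, s ∣ orderOf g →
      (ξ : G → ℂ) g = 0 := fun ξ hξ g hg => vanish_other h D hM he ht hN hn hA1 hA3 hA4 hξ hg
  refine ⟨⟨A, hA1, hA2, hA3, hA4⟩, ?_, hv, hv', ?_⟩
  · exact exists_steinberg h.symm hna D ht hN hv'
  · intro y hy1 hy
    exact OneBlock.core_eq_bot hN hv' hy hy1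

end Cfsg.Agent.SmallSimple.S1000.Steinberg
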