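import Cfsg.Agent.SmallSimple.S1000.BlockTypes
import Cfsg.Agent.SmallSimple.S1000.ListSplit

/-!
# S1000: the degree equation

`|G| = p r^m s^n`, `D` the principal `p`-block, `e t = p - 1`.

* `caseOne` : `t = 1`;
* `caseTwo` : `A` nonexceptional, `B` exceptional;
* `cases` : for `t ≠ 1` one of the two Steinberg characters is exceptional and the other one is not.
-/

set_option autoImplicit false
set_option linter.unusedSectionVars false

open Cfsg
open scoped ComplexConjugate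

namespace Cfsg.Agent.SmallSimple.S1000.Structure

open Subgroup DegreeData CharSetup ThmD ThmDMain Steinberg BlockTypes ListSplit
open Cfsg.Agent.Characters.Core Cfsg.Agent.Blocks.Basic Cfsg.Agent.Blocks.Local

universe u

/-- The signed degrees of the characters in the principal `p`-, `r`- and `s`-block. -/
def KProp (p r m s n : ℕ) (z : ℤ) : Prop :=
  z ≡ 1 [ZMOD p] ∧ ∃ i j : ℕ, 1 ≤ i ∧ i < m ∧ 1 ≤ j ∧ j < n ∧ z.natAbs = r ^ i * s ^ j

/-- The degree equation for `t = 1`. -/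
def CaseOne (p r m s n : ℕ) : Prop :=
  ∃ (δ : ℤ) (nN nM : ℕ) (K : List ℤ), (δ = 1 ∨ δ = -1) ∧ 1 ≤ nN ∧ 1 ≤ nM ∧
    nN + nM + K.length = p - 1 ∧ 1 + K.sum = δ * (nM * (s : ℤ) ^ n - nN * (r : ℤ) ^ m) ∧
    (∀ z ∈ K, KProp p r m s n z) ∧ δ * (r : ℤ) ^ m ≡ 1 [ZMOD p] ∧
    -(δ * (s : ℤ) ^ n) ≡ 1 [ZMOD p] ∧ nN * (r ^ m + s ^ n) ≤ p * s ^ n ∧
    nM * (r ^ m + s ^ n) ≤ p * r ^ m ∧
    1 + (K.map (· ^ 2)).sum + nN * ((r : ℤ) ^ m) ^ 2 + nM * ((s : ℤ) ^ n) ^ 2 ≤
      p * ((r : ℤ) ^ m * (s : ℤ) ^ n)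

/-- The degree equation if the character of degree `r^m` is nonexceptional and the characters of degree `s^n` are
exceptional. -/
def CaseTwo (p r m s n e t : ℕ) : Prop :=
  ∃ (d : ℤ) (nN n' : ℕ) (K : List ℤ), (d = 1 ∨ d = -1) ∧ 1 ≤ nN ∧
    nN + n' + K.length + 1 = e ∧
    1 + K.sum = d * ((1 + t * n') * (s : ℤ) ^ n - nN * (r : ℤ) ^ m) ∧
    (∀ z ∈ K, KProp p r m s n z) ∧ d * (r : ℤ) ^ m ≡ 1 [ZMOD p] ∧
    d * (s : ℤ) ^ n ≡ e [ZMOD p] ∧ nN * (r ^ m + t * s ^ n) ≤ p * s ^ n ∧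
    (1 + t * n') * (r ^ m + t * s ^ n) ≤ p * r ^ m ∧
    1 + (K.map (· ^ 2)).sum + nN * ((r : ℤ) ^ m) ^ 2 + n' * (t * (s : ℤ) ^ n) ^ 2 +
      t * ((s : ℤ) ^ n) ^ 2 ≤ p * ((r : ℤ) ^ m * (s : ℤ) ^ n)

variable {G : Type u} [Group G] [Finite G] {p r m s n : ℕ} {M : Ideal AlgInt} {P : Sylow p G}
  {e t : ℕ} {D : BlockData p M P e t} {R N : Ideal AlgInt} {A B : IrrCharacter G}

/-- Two different Steinberg characters cannot both be exceptional. -/
theorem B_mem (H : Both p r m s n D R N A B) (hA : A ∈ D.X) : B ∈ D.one :: D.l := by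
  rcases H.mType H.hB' with ⟨h1, -⟩ | ⟨h1, -⟩ | ⟨-, h2, -⟩
  · exact absurd hA (D.notMem_X A h1)
  · exact absurd hA (D.notMem_X A h1)
  · exact h2

theorem mem_l (_ : Both p r m s n D R N A B) {ξ : IrrCharacter G} (h1 : ξ ∈ D.one :: D.l)
    (h2 : ξ ≠ D.one) : ξ ∈ D.l := by
  rcases List.mem_cons.1 h1 with h3 | h3
  · exact absurd h3 h2
  · exact h3

theorem ne_one_of_mem_l {ξ : IrrCharacter G} (h1 : ξ ∈ D.l) : ξ ≠ D.one := by
  rintro rfl
  exact (List.nodup_cons.1 D.nodup).1 h1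

/-- Counting the members of `D.l` with given signed degree. -/
theorem count_degs (z : ℤ) :
    D.degs.count z = (D.l.filter (fun ξ => decide (D.sd ξ = z))).length := by
  rw [BlockData.degs, List.count, List.countP_map, List.countP_eq_length_filter]
  congr 1

/-- **Case two.** -/
theorem caseTwo (H : Both p r m s n D R N A B) [IsSimpleGroup G] (hA : A ∈ D.one :: D.l)
    (hB : B ∈ D.X) : CaseTwo p r m s n e t := by
  classical
  have := Fact.mk H.h.hp
  have := Fact.mk H.h.hr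
  have := Fact.mk H.h.hs
  have ht0 : 0 < t := t_pos H.h H.ht
  have hr0 : 0 < r ^ m := pow_pos H.h.hr.pos m
  have hs0 : 0 < s ^ n := pow_pos H.h.hs.pos n
  have hr0' : (0 : ℤ) < (r : ℤ) ^ m := by exact_mod_cast hr0
  have hs0' : (0 : ℤ) < (s : ℤ) ^ n := by exact_mod_cast hs0
  have ht0' : (0 : ℤ) < (t : ℤ) := by exact_mod_cast ht0
  have hAl : A ∈ D.l := mem_l H hA H.A_ne_one
  have hf : D.f = s ^ n := by rw [← D.deg_X B hB, H.hBd]
  -- the sign
  have hd : D.d = D.ε A := by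
    rcases H.mType H.hB' with ⟨-, h2, -⟩ | ⟨-, -, h3, -⟩ | ⟨h1, -⟩
    · exact absurd hB (D.notMem_X B h2)
    · exact h3
    · exact absurd h1 (D.notMem_X A hA)
  set u : ℤ := D.d * (r : ℤ) ^ m with hu
  set v : ℤ := -(D.d * (t * (s : ℤ) ^ n)) with hv
  have huv : u ≠ v := by
    rw [hu, hv]
    rcases D.d_mem with h1 | h1 <;> rw [h1] <;> intro h2 <;> nlinarith
  have hM : ∀ ξ ∈ D.l, ξ ∉ principalBlock N G → D.sd ξ = v := by
    intro ξ hξ h1
    rcases H.mType h1 with ⟨-, -, h3, h4⟩ | ⟨-, h2, -⟩ | ⟨h2, -⟩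
    · rw [BlockData.sd, h3, h4, ← hd, hv]; push_cast; ring
    · exact absurd h2 (D.notMem_X ξ (List.mem_cons_of_mem _ hξ))
    · exact absurd h2 (D.notMem_X A hA)
  have hN' : ∀ ξ ∈ D.l, ξ ∉ principalBlock R G → D.sd ξ = u := by
    intro ξ hξ h1
    rcases H.symm.mType h1 with ⟨h2, -⟩ | ⟨h2, -⟩ | ⟨-, -, h3, h4⟩
    · exact absurd hB (D.notMem_X B h2)
    · exact absurd hB (D.notMem_X B h2)
    · rw [BlockData.sd, h3, h4, hu]; push_cast; ring
  have hK : ∀ z ∈ rest u v D.degs, KProp p r m s n z := by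
    intro z hz
    obtain ⟨h1, h2, h3⟩ := mem_rest.1 hz
    refine ⟨(D.degs_spec (H.h.card_sylow P) z h1).1, ?_⟩
    obtain ⟨ξ, hξ, rfl⟩ := List.mem_map.1 h1
    have h4 : ξ ∈ principalBlock R G := by
      by_contra hcon; exact h2 (hN' ξ hξ hcon)
    have h5 : ξ ∈ principalBlock N G := by
      by_contra hcon; exact h3 (hM ξ hξ hcon)
    obtain ⟨i, j, hi, hi', hj, hj', hij⟩ := H.kType
      ((D.mem_block ξ).2 (Or.inl (List.mem_cons_of_mem _ hξ))) (ne_one_of_mem_l hξ) h4 h5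
    exact ⟨i, j, hi, hi', hj, hj', by rw [D.natAbs_sd (List.mem_cons_of_mem _ hξ), hij]⟩
  have hsdA : D.sd A = u := by rw [BlockData.sd, ← hd, H.hAd, hu]; push_cast; ring
  have hsum := D.dexc_eq H.ht
  have h1 := split u v huv (fun z => z) D.degs
  have h2 := split u v huv (fun z => z ^ 2) D.degs
  have h3 := length u v huv D.degs
  have h4 := D.length_degs
  rw [List.map_id'] at h1
  rw [List.map_id'] at h1
  have hsq := D.sum_sq_le
  rw [H.h.card', hf, h2] at hsq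
  have hdd : D.d * D.d = 1 := by rcases D.d_mem with h1 | h1 <;> rw [h1] <;> norm_num
  refine ⟨D.d, D.degs.count u, D.degs.count v, rest u v D.degs, D.d_mem, ?_, ?_, ?_, hK, ?_, ?_,
    ?_, ?_, ?_⟩
  · rw [Nat.one_le_iff_ne_zero, Ne, List.count_eq_zero, not_not]
    exact List.mem_map.2 ⟨A, hAl, hsdA⟩
  · omega
  · rw [BlockData.dexc, hf, h1] at hsum
    push_cast at hsum
    rw [hu, hv] at hsum ⊢
    linear_combination hsum
  · have := D.sd_modEq (H.h.card_sylow P) hA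
    rwa [hsdA, hu] at this
  · have := D.dexc_modEq (H.h.card_sylow P) H.ht
    rw [BlockData.dexc, hf] at this
    push_cast at this
    exact this
  · -- Bessel inequality for the characters of degree `r ^ m`
    set S : Finset (IrrCharacter G) := (D.l.filter (fun ξ => decide (D.sd ξ = u))).toFinset with hS
    have hSmem : ∀ ξ ∈ S, ξ ∈ D.l ∧ D.sd ξ = u := by
      intro ξ hξ
      rw [hS, List.mem_toFinset, List.mem_filter] at hξ
      simpa using hξ
    have hScard : S.card = D.degs.count u := by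
      rw [hS, List.toFinset_card_of_nodup ((List.nodup_cons.1 D.nodup).2.filter _), count_degs]
    have hε : ∀ ξ ∈ S, D.ε ξ = D.d ∧ charDegree (ξ : G → ℂ) = r ^ m := by
      intro ξ hξ
      obtain ⟨h5, h6⟩ := hSmem ξ hξ
      have h7 : 0 < (charDegree (ξ : G → ℂ) : ℤ) := by exact_mod_cast charDegree_pos ξ.2
      rw [BlockData.sd, hu] at h6
      have hc : (charDegree (ξ : G → ℂ) : ℤ) = (r : ℤ) ^ m ∧ D.ε ξ = D.d := by
        rcases D.ε_mem ξ (List.mem_cons_of_mem _ h5) with h8 | h8 <;>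
          rcases D.d_mem with h9 | h9 <;> rw [h8, h9] at h6 <;> rw [h8, h9] <;>
          first | (exfalso; linarith) | (exact ⟨by linarith, rfl⟩)
      exact ⟨hc.2, by exact_mod_cast hc.1⟩
    have hb := Bessel.bessel H.h D H.he H.ht S (fun _ => 1)
      (fun _ => D.d * (t * (r ^ m * s ^ n : ℕ))) (by
        intro ξ hξ
        rw [H.h.osum_NE D H.he H.ht (List.mem_cons_of_mem _ (hSmem ξ hξ).1), (hε ξ hξ).1]
        push_cast; ring)
    rw [Finset.sum_congr rfl (fun ξ hξ => by rw [(hε ξ hξ).2, one_mul])] at hb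
    simp only [one_mul, one_pow, Finset.sum_const, nsmul_eq_mul, mul_one] at hb
    rw [hScard] at hb
    set c : ℕ := D.degs.count u with hc
    have hc1 : 0 < c := by
      rw [Nat.pos_iff_ne_zero, hc, Ne, List.count_eq_zero, not_not]
      exact List.mem_map.2 ⟨A, hAl, hsdA⟩
    push_cast at hb
    have hb2 : ((c : ℤ) * (D.d * (t * ((r : ℤ) ^ m * (s : ℤ) ^ n)))) ^ 2 =
        (c : ℤ) ^ 2 * (t * ((r : ℤ) ^ m * (s : ℤ) ^ n)) ^ 2 := by
      linear_combination ((c : ℤ) ^ 2 * (t * ((r : ℤ) ^ m * (s : ℤ) ^ n)) ^ 2) * hdd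
    rw [hb2] at hb
    have hc1' : (0 : ℤ) < c := by exact_mod_cast hc1
    have hfac : (t * ((r : ℤ) ^ m * (s : ℤ) ^ n) * c * (r : ℤ) ^ m) *
        (c * ((r : ℤ) ^ m + t * (s : ℤ) ^ n)) ≤
        (t * ((r : ℤ) ^ m * (s : ℤ) ^ n) * c * (r : ℤ) ^ m) * (p * (s : ℤ) ^ n) := by
      linear_combination hb
    have hpos : 0 < (t * ((r : ℤ) ^ m * (s : ℤ) ^ n) * c * (r : ℤ) ^ m) := by positivity
    have := le_of_mul_le_mul_left hfac hpos
    exact_mod_cast this
  · -- Bessel inequality for the characters of degree divisible by `s ^ n`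
    set S : Finset (IrrCharacter G) := (D.l.filter (fun ξ => decide (D.sd ξ = v))).toFinset with hS
    have hSmem : ∀ ξ ∈ S, ξ ∈ D.l ∧ D.sd ξ = v := by
      intro ξ hξ
      rw [hS, List.mem_toFinset, List.mem_filter] at hξ
      simpa using hξ
    have hScard : S.card = D.degs.count v := by
      rw [hS, List.toFinset_card_of_nodup ((List.nodup_cons.1 D.nodup).2.filter _), count_degs]
    have hε : ∀ ξ ∈ S, D.ε ξ = -D.d ∧ charDegree (ξ : G → ℂ) = t * s ^ n := by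
      intro ξ hξ
      obtain ⟨h5, h6⟩ := hSmem ξ hξ
      have h7 : 0 < (charDegree (ξ : G → ℂ) : ℤ) := by exact_mod_cast charDegree_pos ξ.2
      have hts : 0 < (t * (s : ℤ) ^ n) := by positivity
      rw [BlockData.sd, hv] at h6
      have hc : (charDegree (ξ : G → ℂ) : ℤ) = t * (s : ℤ) ^ n ∧ D.ε ξ = -D.d := by
        rcases D.ε_mem ξ (List.mem_cons_of_mem _ h5) with h8 | h8 <;>
          rcases D.d_mem with h9 | h9 <;> rw [h8, h9] at h6 <;> rw [h8, h9] <;>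
          first | (exfalso; linarith) | (exact ⟨by linarith, by norm_num⟩)
      exact ⟨hc.2, by exact_mod_cast hc.1⟩
    have hdisj : Disjoint S D.X := by
      rw [Finset.disjoint_left]
      intro ξ hξ
      exact D.notMem_X ξ (List.mem_cons_of_mem _ (hSmem ξ hξ).1)
    have hb := Bessel.bessel H.h D H.he H.ht (S ∪ D.X) (fun ξ => if ξ ∈ D.X then 1 else t)
      (fun ξ => if ξ ∈ D.X then -(D.d * (r ^ m * s ^ n : ℕ)) else
        -(D.d * (t * (r ^ m * s ^ n : ℕ)))) (by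
        intro ξ hξ
        rw [Finset.mem_union] at hξ
        by_cases hX : ξ ∈ D.X
        · rw [if_pos hX, H.h.osum_X D H.he hX]
          push_cast; ring
        · rw [if_neg hX]
          have hξS := hξ.resolve_right hX
          rw [H.h.osum_NE D H.he H.ht (List.mem_cons_of_mem _ (hSmem ξ hξS).1), (hε ξ hξS).1]
          push_cast; ring)
    rw [Finset.sum_union hdisj, Finset.sum_union hdisj, Finset.sum_union hdisj] at hb
    have hnX : ∀ ξ ∈ S, ξ ∉ D.X := fun ξ hξ => Finset.disjoint_left.1 hdisj hξ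
    have s1 : ∑ ξ ∈ S, (if ξ ∈ D.X then (1 : ℤ) else t) * (charDegree (ξ : G → ℂ) : ℤ) =
        S.card * (t * ((t * s ^ n : ℕ) : ℤ)) := by
      rw [Finset.sum_congr rfl (g := fun _ => (t * ((t * s ^ n : ℕ) : ℤ))) (fun ξ hξ => by
        rw [if_neg (hnX ξ hξ), (hε ξ hξ).2]), Finset.sum_const, nsmul_eq_mul]
    have s2 : ∑ ξ ∈ D.X, (if ξ ∈ D.X then (1 : ℤ) else t) * (charDegree (ξ : G → ℂ) : ℤ) =
        t * ((s ^ n : ℕ) : ℤ) := by
      rw [Finset.sum_congr rfl (g := fun _ => ((s ^ n : ℕ) : ℤ)) (fun ξ hξ => by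
        rw [if_pos hξ, D.deg_X ξ hξ, hf, one_mul]), Finset.sum_const, nsmul_eq_mul, D.card_X]
    have s3 : ∑ ξ ∈ S, (if ξ ∈ D.X then (1 : ℤ) else t) *
        (if ξ ∈ D.X then -(D.d * (r ^ m * s ^ n : ℕ)) else
        -(D.d * (t * (r ^ m * s ^ n : ℕ)))) =
        S.card * (t * -(D.d * (t * (r ^ m * s ^ n : ℕ)))) := by
      rw [Finset.sum_congr rfl (g := fun _ => (t * -(D.d * (t * (r ^ m * s ^ n : ℕ)))))
        (fun ξ hξ => by rw [if_neg (hnX ξ hξ), if_neg (hnX ξ hξ)]), Finset.sum_const, nsmul_eq_mul]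
    have s4 : ∑ ξ ∈ D.X, (if ξ ∈ D.X then (1 : ℤ) else t) *
        (if ξ ∈ D.X then -(D.d * (r ^ m * s ^ n : ℕ)) else
        -(D.d * (t * (r ^ m * s ^ n : ℕ)))) =
        t * (-(D.d * (r ^ m * s ^ n : ℕ))) := by
      rw [Finset.sum_congr rfl (g := fun _ => (-(D.d * (r ^ m * s ^ n : ℕ))))
        (fun ξ hξ => by rw [if_pos hξ, if_pos hξ, one_mul]), Finset.sum_const, nsmul_eq_mul,
        D.card_X]
    have s5 : ∑ ξ ∈ S, (if ξ ∈ D.X then (1 : ℤ) else t) ^ 2 = S.card * (t : ℤ) ^ 2 := by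
      rw [Finset.sum_congr rfl (g := fun _ => (t : ℤ) ^ 2)
        (fun ξ hξ => by rw [if_neg (hnX ξ hξ)]), Finset.sum_const, nsmul_eq_mul]
    have s6 : ∑ ξ ∈ D.X, (if ξ ∈ D.X then (1 : ℤ) else t) ^ 2 = t := by
      rw [Finset.sum_congr rfl (g := fun _ => (1 : ℤ))
        (fun ξ hξ => by rw [if_pos hξ, one_pow]), Finset.sum_const, nsmul_eq_mul, D.card_X,
        mul_one]
    rw [s1, s2, s3, s4, s5, s6, hScard] at hb
    set c : ℕ := D.degs.count v with hc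
    push_cast at hb
    have hfac : (t ^ 2 * ((r : ℤ) ^ m * (s : ℤ) ^ n) * (1 + t * c) * (s : ℤ) ^ n) *
        ((1 + t * c) * ((r : ℤ) ^ m + t * (s : ℤ) ^ n)) ≤
        (t ^ 2 * ((r : ℤ) ^ m * (s : ℤ) ^ n) * (1 + t * c) * (s : ℤ) ^ n) * (p * (r : ℤ) ^ m) := by
      linear_combination hb - (t ^ 2 * ((r : ℤ) ^ m * (s : ℤ) ^ n) ^ 2 * (1 + t * c) ^ 2) * hdd
    have hpos : 0 < (t ^ 2 * ((r : ℤ) ^ m * (s : ℤ) ^ n) * (1 + t * c) * (s : ℤ) ^ n) := by
      positivity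
    have := le_of_mul_le_mul_left hfac hpos
    exact_mod_cast this
  · have e1 : u ^ 2 = ((r : ℤ) ^ m) ^ 2 := by rw [hu, mul_pow]; linear_combination ((r : ℤ) ^ m) ^ 2 * hdd
    have e2 : v ^ 2 = (t * (s : ℤ) ^ n) ^ 2 := by
      rw [hv]; linear_combination (t * (s : ℤ) ^ n) ^ 2 * hdd
    rw [e1, e2] at hsq
    push_cast at hsq
    linarith

end Cfsg.Agent.SmallSimple.S1000.Structure
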