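import Cfsg.Agent.SmallSimple.S1000.Structure

/-!
# S1000: the degree equation for `t = 1`
-/

set_option autoImplicit false
set_option linter.unusedSectionVars false

open Cfsg
open scoped ComplexConjugate

namespace Cfsg.Agent.SmallSimple.S1000.StructureOne

open Subgroup DegreeData CharSetup ThmD ThmDMain Steinberg BlockTypes ListSplit Structure
open Cfsg.Agent.Characters.Core Cfsg.Agent.Blocks.Basic Cfsg.Agent.Blocks.Local

universe u

variable {G : Type u} [Group G] [Finite G] {p r m s n : ℕ} {M : Ideal AlgInt} {P : Sylow p G}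
  {e t : ℕ} {D : BlockData p M P e t} {R N : Ideal AlgInt} {A B : IrrCharacter G}

open Classical in
/-- The signs, with the opposite sign for the exceptional characters. -/
noncomputable def sg (D : BlockData p M P e t) (ξ : IrrCharacter G) : ℤ :=
  if ξ ∈ D.X then -D.d else D.ε ξ

theorem sg_l (D : BlockData p M P e t) {ξ : IrrCharacter G} (h : ξ ∈ D.one :: D.l) :
    sg D ξ = D.ε ξ := if_neg (D.notMem_X ξ h)

theorem sg_X (D : BlockData p M P e t) {ξ : IrrCharacter G} (h : ξ ∈ D.X) : sg D ξ = -D.d :=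
  if_pos h

theorem sg_mem (D : BlockData p M P e t) {ξ : IrrCharacter G} (h : ξ ∈ D.one :: D.l ∨ ξ ∈ D.X) :
    sg D ξ = 1 ∨ sg D ξ = -1 := by
  rcases h with h | h
  · rw [sg_l D h]; exact D.ε_mem ξ h
  · rw [sg_X D h]
    rcases D.d_mem with h1 | h1 <;> rw [h1]
    · exact Or.inr rfl
    · exact Or.inl rfl

/-- Signed degree. -/
noncomputable def sz (D : BlockData p M P e t) (ξ : IrrCharacter G) : ℤ :=
  sg D ξ * (charDegree (ξ : G → ℂ) : ℤ)

theorem natAbs_sz (D : BlockData p M P e t) {ξ : IrrCharacter G}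
    (h : ξ ∈ D.one :: D.l ∨ ξ ∈ D.X) : (sz D ξ).natAbs = charDegree (ξ : G → ℂ) := by
  rcases sg_mem D h with h1 | h1 <;> simp [sz, h1]

theorem typeM (H : Both p r m s n D R N A B) (ht1 : t = 1) {ξ : IrrCharacter G}
    (hξ : ξ ∉ principalBlock N G) : sg D ξ = -sg D A ∧ charDegree (ξ : G → ℂ) = s ^ n := by
  rcases H.mType hξ with ⟨h1, h2, h3, h4⟩ | ⟨h1, h2, h3, h4⟩ | ⟨h1, h2, h3, h4⟩
  · rw [sg_l D h1, sg_l D h2, h3, h4]
    exact ⟨rfl, by rw [ht1, one_mul]⟩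
  · rw [sg_l D h1, sg_X D h2, h3, h4]
    exact ⟨rfl, rfl⟩
  · rw [sg_X D h1, sg_l D h2, h3, h4, neg_neg]
    exact ⟨rfl, rfl⟩

theorem count_map (L : List (IrrCharacter G)) (f : IrrCharacter G → ℤ) (z : ℤ) :
    (L.map f).count z = (L.filter (fun ξ => decide (f ξ = z))).length := by
  rw [List.count, List.countP_map, List.countP_eq_length_filter]
  congr 1

/-- Bessel's inequality for the characters of signed degree `z`. -/
theorem bessel_one (H : Both p r m s n D R N A B) (ht1 : t = 1) {L : List (IrrCharacter G)}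
    (hL : L.Nodup) (hmem : ∀ ξ ∈ L, ξ ∈ D.one :: D.l ∨ ξ ∈ D.X) (δ : ℤ) (hδ : δ = 1 ∨ δ = -1)
    (x : ℕ) (hx : 0 < x) (c : ℕ) (hc : (L.map (sz D)).count (δ * x) = c) (hc0 : 0 < c) :
    c * (x ^ 2 + (r ^ m * s ^ n)) ≤ p * (r ^ m * s ^ n) := by
  classical
  have := Fact.mk H.h.hp
  have hr0 : 0 < r ^ m := pow_pos H.h.hr.pos m
  have hs0 : 0 < s ^ n := pow_pos H.h.hs.pos n
  set S : Finset (IrrCharacter G) := (L.filter (fun ξ => decide (sz D ξ = δ * x))).toFinset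
    with hS
  have hSmem : ∀ ξ ∈ S, ξ ∈ L ∧ sz D ξ = δ * x := by
    intro ξ hξ
    rw [hS, List.mem_toFinset, List.mem_filter] at hξ
    simpa using hξ
  have hScard : S.card = c := by
    rw [hS, List.toFinset_card_of_nodup (hL.filter _), ← hc, count_map]
  have hx' : (0 : ℤ) < x := by exact_mod_cast hx
  have hε : ∀ ξ ∈ S, sg D ξ = δ ∧ charDegree (ξ : G → ℂ) = x := by
    intro ξ hξ
    obtain ⟨h5, h6⟩ := hSmem ξ hξ
    have h7 : 0 < (charDegree (ξ : G → ℂ) : ℤ) := by exact_mod_cast charDegree_pos ξ.2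
    rw [sz] at h6
    have hc : (charDegree (ξ : G → ℂ) : ℤ) = x ∧ sg D ξ = δ := by
      rcases sg_mem D (hmem ξ h5) with h8 | h8 <;>
        rcases hδ with h9 | h9 <;> rw [h8, h9] at h6 <;> rw [h8, h9] <;>
        first | (exfalso; linarith) | (exact ⟨by linarith, rfl⟩)
    exact ⟨hc.2, by exact_mod_cast hc.1⟩
  have hb := Bessel.bessel H.h D H.he H.ht S (fun _ => 1)
    (fun _ => δ * (r ^ m * s ^ n : ℕ)) (by
      intro ξ hξ
      have h1 := (hε ξ hξ).1
      rcases hmem ξ (hSmem ξ hξ).1 with h2 | h2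
      · rw [H.h.osum_NE D H.he H.ht h2, ← sg_l D h2, h1, ht1]
        push_cast; ring
      · rw [H.h.osum_X D H.he h2]
        rw [sg_X D h2] at h1
        rw [← h1]
        push_cast; ring)
  have s1 : ∑ ξ ∈ S, (1 : ℤ) * (charDegree (ξ : G → ℂ) : ℤ) = S.card * (x : ℤ) := by
    rw [Finset.sum_congr rfl (g := fun _ => (x : ℤ)) (fun ξ hξ => by
      rw [(hε ξ hξ).2, one_mul]), Finset.sum_const, nsmul_eq_mul]
  have s2 : ∑ ξ ∈ S, (1 : ℤ) * (δ * (r ^ m * s ^ n : ℕ)) = S.card * (δ * (r ^ m * s ^ n : ℕ)) := by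
    rw [Finset.sum_const, nsmul_eq_mul, one_mul]
  have s3 : ∑ ξ ∈ S, (1 : ℤ) ^ 2 = S.card := by
    rw [Finset.sum_const, nsmul_eq_mul, one_pow, mul_one]
  rw [s1, s2, s3, hScard, ht1] at hb
  have hdd : δ * δ = 1 := by rcases hδ with h1 | h1 <;> rw [h1] <;> norm_num
  push_cast at hb
  have hfac : ((c : ℤ) * ((r : ℤ) ^ m * (s : ℤ) ^ n)) *
      (c * ((x : ℤ) ^ 2 + ((r : ℤ) ^ m * (s : ℤ) ^ n))) ≤
      ((c : ℤ) * ((r : ℤ) ^ m * (s : ℤ) ^ n)) * (p * ((r : ℤ) ^ m * (s : ℤ) ^ n)) := by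
    linear_combination hb - ((c : ℤ) ^ 2 * ((r : ℤ) ^ m * (s : ℤ) ^ n) ^ 2) * hdd
  have hr0' : (0 : ℤ) < (r : ℤ) ^ m := by exact_mod_cast hr0
  have hs0' : (0 : ℤ) < (s : ℤ) ^ n := by exact_mod_cast hs0
  have hc0' : (0 : ℤ) < c := by exact_mod_cast hc0
  have hpos : 0 < ((c : ℤ) * ((r : ℤ) ^ m * (s : ℤ) ^ n)) := by positivity
  have := le_of_mul_le_mul_left hfac hpos
  exact_mod_cast this

/-- **Case one**, with the list of signed degrees. -/
theorem caseOne' (H : Both p r m s n D R N A B) [IsSimpleGroup G] (ht1 : t = 1) :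
    ∃ (δ : ℤ) (nN nM : ℕ) (K : List ℤ), (δ = 1 ∨ δ = -1) ∧ 1 ≤ nN ∧ 1 ≤ nM ∧
    nN + nM + K.length = p - 1 ∧ 1 + K.sum = δ * (nM * (s : ℤ) ^ n - nN * (r : ℤ) ^ m) ∧
    (∀ z ∈ K, KProp p r m s n z) ∧ δ * (r : ℤ) ^ m ≡ 1 [ZMOD p] ∧
    -(δ * (s : ℤ) ^ n) ≡ 1 [ZMOD p] ∧ nN * (r ^ m + s ^ n) ≤ p * s ^ n ∧
    nM * (r ^ m + s ^ n) ≤ p * r ^ m ∧
    1 + (K.map (· ^ 2)).sum + nN * ((r : ℤ) ^ m) ^ 2 + nM * ((s : ℤ) ^ n) ^ 2 ≤
      p * ((r : ℤ) ^ m * (s : ℤ) ^ n) ∧
    (D.degs ++ [-D.dexc]).Perm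
      (List.replicate nN (δ * (r : ℤ) ^ m) ++ (List.replicate nM (-(δ * (s : ℤ) ^ n)) ++ K)) := by
  classical
  have := Fact.mk H.h.hp
  have := Fact.mk H.h.hr
  have := Fact.mk H.h.hs
  have hr0 : 0 < r ^ m := pow_pos H.h.hr.pos m
  have hs0 : 0 < s ^ n := pow_pos H.h.hs.pos n
  have hr0' : (0 : ℤ) < (r : ℤ) ^ m := by exact_mod_cast hr0
  have hs0' : (0 : ℤ) < (s : ℤ) ^ n := by exact_mod_cast hs0
  have he1 : e = p - 1 := by have := H.ht; rw [ht1] at this; omega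
  obtain ⟨Θ, hΘ⟩ := Finset.card_eq_one.1 (D.card_X.trans ht1)
  have hΘX : Θ ∈ D.X := by rw [hΘ]; exact Finset.mem_singleton_self Θ
  set L : List (IrrCharacter G) := D.l ++ [Θ] with hL
  have hmemL : ∀ ξ, ξ ∈ L ↔ ξ ∈ D.l ∨ ξ ∈ D.X := by
    intro ξ; rw [hL, List.mem_append, hΘ, Finset.mem_singleton, List.mem_singleton]
  have hmem : ∀ ξ ∈ L, ξ ∈ D.one :: D.l ∨ ξ ∈ D.X := by
    intro ξ hξ
    rcases (hmemL ξ).1 hξ with h1 | h1
    · exact Or.inl (List.mem_cons_of_mem _ h1)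
    · exact Or.inr h1
  have hnd : L.Nodup := by
    rw [hL, List.nodup_append]
    refine ⟨(List.nodup_cons.1 D.nodup).2, List.nodup_singleton _, ?_⟩
    intro a ha b hb hab
    rw [List.mem_singleton] at hb
    subst hb
    subst hab
    exact D.notMem_X _ (List.mem_cons_of_mem _ ha) hΘX
  have hmap : L.map (sz D) = D.degs ++ [-D.dexc] := by
    rw [hL, List.map_append, List.map_cons, List.map_nil, BlockData.degs]
    congr 1
    · refine List.map_congr_left fun ξ hξ => ?_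
      rw [sz, sg_l D (List.mem_cons_of_mem _ hξ), BlockData.sd]
    · rw [sz, sg_X D hΘX, D.deg_X Θ hΘX, BlockData.dexc]
      congr 1
      ring
  have hcong : ∀ z ∈ L.map (sz D), z ≡ 1 [ZMOD p] := by
    intro z hz
    rw [hmap, List.mem_append, List.mem_singleton] at hz
    rcases hz with h1 | h1
    · exact (D.degs_spec (H.h.card_sylow P) z h1).1
    · rw [h1]
      refine (D.dexc_modEq (H.h.card_sylow P) H.ht).neg.trans ?_
      rw [he1]
      have h2 := H.h.hp.one_lt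
      rw [Int.modEq_iff_dvd]
      refine ⟨1, ?_⟩
      push_cast [Nat.cast_sub h2.le]
      ring
  set δ : ℤ := sg D A with hδ
  have hδ1 : δ = 1 ∨ δ = -1 := sg_mem D ((D.mem_block A).1 H.hA)
  have hδB : sg D B = -δ := (typeM H ht1 H.hB').1
  set u : ℤ := δ * (r : ℤ) ^ m with hu
  set v : ℤ := -(δ * (s : ℤ) ^ n) with hv
  have huv : u ≠ v := by
    rw [hu, hv]
    rcases hδ1 with h1 | h1 <;> rw [h1] <;> intro h2 <;> nlinarith
  have hM : ∀ ξ, ξ ∉ principalBlock N G → sz D ξ = v := by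
    intro ξ h1
    obtain ⟨h2, h3⟩ := typeM H ht1 h1
    rw [sz, h2, h3, hv, ← hδ]; push_cast; ring
  have hN' : ∀ ξ, ξ ∉ principalBlock R G → sz D ξ = u := by
    intro ξ h1
    obtain ⟨h2, h3⟩ := typeM H.symm ht1 h1
    rw [sz, h2, h3, hu, hδB]; push_cast; ring
  have hA1 : A ∈ L := by
    rw [hmemL]
    rcases (D.mem_block A).1 H.hA with h1 | h1
    · exact Or.inl (mem_l H h1 H.A_ne_one)
    · exact Or.inr h1
  have hB1 : B ∈ L := by
    rw [hmemL]
    rcases (D.mem_block B).1 H.hB with h1 | h1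
    · exact Or.inl (mem_l H h1 H.symm.A_ne_one)
    · exact Or.inr h1
  have hcu : 0 < (L.map (sz D)).count u := by
    rw [List.count_pos_iff]
    exact List.mem_map.2 ⟨A, hA1, hN' A H.hA'⟩
  have hcv : 0 < (L.map (sz D)).count v := by
    rw [List.count_pos_iff]
    exact List.mem_map.2 ⟨B, hB1, hM B H.hB'⟩
  have hne1 : ∀ ξ ∈ L, ξ ≠ D.one := by
    intro ξ hξ
    rcases (hmemL ξ).1 hξ with h1 | h1
    · exact ne_one_of_mem_l h1
    · rintro rfl
      exact D.notMem_X _ List.mem_cons_self h1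
  have hK : ∀ z ∈ rest u v (L.map (sz D)), KProp p r m s n z := by
    intro z hz
    obtain ⟨h1, h2, h3⟩ := mem_rest.1 hz
    refine ⟨hcong z h1, ?_⟩
    obtain ⟨ξ, hξ, rfl⟩ := List.mem_map.1 h1
    have h4 : ξ ∈ principalBlock R G := by
      by_contra hcon; exact h2 (hN' ξ hcon)
    have h5 : ξ ∈ principalBlock N G := by
      by_contra hcon; exact h3 (hM ξ hcon)
    obtain ⟨i, j, hi, hi', hj, hj', hij⟩ := H.kType ((D.mem_block ξ).2 (hmem ξ hξ))
      (hne1 ξ hξ) h4 h5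
    exact ⟨i, j, hi, hi', hj, hj', by rw [natAbs_sz D (hmem ξ hξ), hij]⟩
  have hsum := D.dexc_eq H.ht
  have hsum' : 1 + (L.map (sz D)).sum = 0 := by
    rw [hmap, List.sum_append, List.sum_cons, List.sum_nil, ← hsum]; ring
  have h1 := split u v huv (fun z => z) (L.map (sz D))
  have h2 := split u v huv (fun z => z ^ 2) (L.map (sz D))
  have h3 := length u v huv (L.map (sz D))
  have h4 := D.length_degs
  rw [List.map_id'] at h1
  rw [List.map_id'] at h1
  have hlen : (L.map (sz D)).length = p - 1 := by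
    rw [hmap, List.length_append, List.length_singleton, h4, he1]
  have hsq := D.sum_sq_le
  have hsq' : 1 + ((L.map (sz D)).map (fun z => z ^ 2)).sum ≤ (Nat.card G : ℤ) := by
    rw [hmap, List.map_append, List.sum_append, List.map_cons, List.map_nil, List.sum_cons,
      List.sum_nil]
    refine le_trans (le_of_eq ?_) hsq
    have hdd : D.d * D.d = 1 := by rcases D.d_mem with h1 | h1 <;> rw [h1] <;> norm_num
    have ht1' : (t : ℤ) = 1 := by exact_mod_cast ht1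
    rw [BlockData.dexc]
    linear_combination ((D.f : ℤ) ^ 2) * hdd - ((D.f : ℤ) ^ 2) * ht1'
  rw [H.h.card', h2] at hsq'
  have hdd : δ * δ = 1 := by rcases hδ1 with h1 | h1 <;> rw [h1] <;> norm_num
  refine ⟨δ, (L.map (sz D)).count u, (L.map (sz D)).count v, rest u v (L.map (sz D)), hδ1,
    hcu, hcv, ?_, ?_, hK, ?_, ?_, ?_, ?_, ?_, ?_⟩
  · omega
  · rw [h1] at hsum'
    rw [hu, hv] at hsum' ⊢
    linear_combination hsum'
  · exact hcong u (List.count_pos_iff.1 hcu)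
  · exact hcong v (List.count_pos_iff.1 hcv)
  · have hb := bessel_one H ht1 hnd hmem δ hδ1 (r ^ m) hr0 _
      (show (L.map (sz D)).count (δ * (r ^ m : ℕ)) = (L.map (sz D)).count u by
        rw [hu]; push_cast; rfl) hcu
    have hfac : r ^ m * ((L.map (sz D)).count u * (r ^ m + s ^ n)) ≤
        r ^ m * (p * s ^ n) := by
      calc _ = (L.map (sz D)).count u * ((r ^ m) ^ 2 + r ^ m * s ^ n) := by ring
        _ ≤ p * (r ^ m * s ^ n) := hb
        _ = _ := by ring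
    exact le_of_mul_le_mul_left hfac hr0
  · have hb := bessel_one H ht1 hnd hmem (-δ) (by
        rcases hδ1 with h1 | h1 <;> rw [h1]
        · exact Or.inr rfl
        · exact Or.inl rfl) (s ^ n) hs0 _
      (show (L.map (sz D)).count (-δ * (s ^ n : ℕ)) = (L.map (sz D)).count v by
        rw [hv]; push_cast; congr 1; ring) hcv
    have hfac : s ^ n * ((L.map (sz D)).count v * (r ^ m + s ^ n)) ≤
        s ^ n * (p * r ^ m) := by
      calc _ = (L.map (sz D)).count v * ((s ^ n) ^ 2 + r ^ m * s ^ n) := by ring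
        _ ≤ p * (r ^ m * s ^ n) := hb
        _ = _ := by ring
    exact le_of_mul_le_mul_left hfac hs0
  · have e1 : u ^ 2 = ((r : ℤ) ^ m) ^ 2 := by
      rw [hu, mul_pow]; linear_combination ((r : ℤ) ^ m) ^ 2 * hdd
    have e2 : v ^ 2 = ((s : ℤ) ^ n) ^ 2 := by
      rw [hv]; linear_combination ((s : ℤ) ^ n) ^ 2 * hdd
    rw [e1, e2] at hsq'
    push_cast at hsq'
    linarith
  · rw [← hmap]
    exact perm u v huv _

/-- **Case one.** -/
theorem caseOne (H : Both p r m s n D R N A B) [IsSimpleGroup G] (ht1 : t = 1) :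
    CaseOne p r m s n := by
  obtain ⟨δ, nN, nM, K, h1, h2, h3, h4, h5, h6, h7, h8, h9, h10, h11, -⟩ := caseOne' H ht1
  exact ⟨δ, nN, nM, K, h1, h2, h3, h4, h5, h6, h7, h8, h9, h10, h11⟩

/-- The three cases. -/
theorem cases (H : Both p r m s n D R N A B) [IsSimpleGroup G] :
    (t = 1 ∧ CaseOne p r m s n) ∨ CaseTwo p r m s n e t ∨ CaseTwo p s n r m e t := by
  by_cases ht1 : t = 1
  · exact Or.inl ⟨ht1, caseOne H ht1⟩
  refine Or.inr ?_
  rcases (D.mem_block A).1 H.hA with h1 | h1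
  · rcases (D.mem_block B).1 H.hB with h2 | h2
    · exfalso
      rcases H.mType H.hB' with ⟨-, -, -, h4⟩ | ⟨-, h3, -⟩ | ⟨h3, -⟩
      · rw [H.hBd] at h4
        have hs0 : 0 < s ^ n := pow_pos H.h.hs.pos n
        exact ht1 (Nat.eq_of_mul_eq_mul_right hs0 (by rw [one_mul]; exact h4.symm))
      · exact D.notMem_X _ h2 h3
      · exact D.notMem_X _ h1 h3
    · exact Or.inl (caseTwo H h1 h2)
  · exact Or.inr (caseTwo H.symm (B_mem H h1) h1)

end Cfsg.Agent.SmallSimple.S1000.StructureOne
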