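import Cfsg.Agent.SmallSimple.S1000.CharSetup
import Cfsg.Agent.SmallSimple.S1000.OneBlock

/-!
# S1000: Theorem D

`|G| = p r^m s^n`, elements of order `p` self-centralizing. Let `χ` be a character of the principal `p`-block of
degree `r^m` that vanishes on `r`-singular elements. Then every character outside the principal `s`-block lies in the
principal `p`-block and has degree `s^n` or `t s^n`.
-/

set_option autoImplicit false

open Cfsg
open scoped ComplexConjugate

namespace Cfsg.Agent.SmallSimple.S1000.ThmD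

open CharSetup Subgroup DegreeData Cfsg.Agent.Blocks.Basic Cfsg.Agent.Blocks.Local

universe u

variable {G : Type u} [Group G] [Finite G] {p r m s n : ℕ} {M : Ideal AlgInt} {P : Sylow p G}
  {e t : ℕ}

/-- Values of the nonexceptional characters on elements of order `p`. -/
theorem apply_NE (h : Hyp G p r m s n) [Fact p.Prime] (D : BlockData p M P e t)
    {χ : IrrCharacter G} (hχ : χ ∈ D.one :: D.l) {x : G} (hx : orderOf x = p) :
    (χ : G → ℂ) x = D.ε χ := by
  have hcard : Nat.card (zpowers x) = p ^ (Nat.card G).factorization p := by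
    rw [Nat.card_zpowers, hx, h.factorization_p, pow_one]
  let Q : Sylow p G := Sylow.ofCard (zpowers x) hcard
  have hxQ : x ∈ (Q : Subgroup G) := by
    rw [Sylow.coe_ofCard]
    exact mem_zpowers x
  obtain ⟨g, hg⟩ := MulAction.exists_smul_eq G P Q
  have hmem : g⁻¹ * x * g ∈ (P : Subgroup G) := by
    rw [← hg, Sylow.coe_subgroup_smul, Subgroup.mem_pointwise_smul_iff_inv_smul_mem] at hxQ
    simpa [MulAut.smul_def, mul_assoc] using hxQ
  have hne : g⁻¹ * x * g ≠ 1 := by
    intro h'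
    have h6 : x = 1 := by
      have : x = g * (g⁻¹ * x * g) * g⁻¹ := by group
      rw [this, h']; group
    rw [h6, orderOf_one] at hx
    exact h.hp.one_lt.ne hx
  have h1 := D.val' hχ (x := g⁻¹ * x * g) hmem hne
  have h2 : (χ : G → ℂ) x = (χ : G → ℂ) (g⁻¹ * x * g) := by
    refine irr_isConj χ.2 ?_
    rw [isConj_iff]
    exact ⟨g⁻¹, by group⟩
  rw [h2, h1]

/-- A character outside the principal block vanishes on elements of order `p`. -/
theorem apply_other (h : Hyp G p r m s n) [Fact p.Prime] (D : BlockData p M P e t)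
    (hM : IsPModular p M) {χ : IrrCharacter G} (hχ : χ ∉ principalBlock M G) {x : G}
    (hx : orderOf x = p) : (χ : G → ℂ) x = 0 := by
  have hcard : Nat.card (zpowers x) = p ^ (Nat.card G).factorization p := by
    rw [Nat.card_zpowers, hx, h.factorization_p, pow_one]
  let Q : Sylow p G := Sylow.ofCard (zpowers x) hcard
  have hxQ : x ∈ (Q : Subgroup G) := by
    rw [Sylow.coe_ofCard]
    exact mem_zpowers x
  obtain ⟨g, hg⟩ := MulAction.exists_smul_eq G P Q
  have hmem : g⁻¹ * x * g ∈ (P : Subgroup G) := by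
    rw [← hg, Sylow.coe_subgroup_smul, Subgroup.mem_pointwise_smul_iff_inv_smul_mem] at hxQ
    simpa [MulAut.smul_def, mul_assoc] using hxQ
  have hne : g⁻¹ * x * g ≠ 1 := by
    intro h'
    have h6 : x = 1 := by
      have : x = g * (g⁻¹ * x * g) * g⁻¹ := by group
      rw [this, h']; group
    rw [h6, orderOf_one] at hx
    exact h.hp.one_lt.ne hx
  have h1 := D.vanish hM (h.card_sylow P) (h.centralizer_sylow P) hχ (x := g⁻¹ * x * g) hmem hne
  have h2 : (χ : G → ℂ) x = (χ : G → ℂ) (g⁻¹ * x * g) := by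
    refine irr_isConj χ.2 ?_
    rw [isConj_iff]
    exact ⟨g⁻¹, by group⟩
  rw [h2, h1]

theorem f_ne_zero (_h : Hyp G p r m s n) [Fact p.Prime] (D : BlockData p M P e t)
    (ht : e * t = p - 1) : D.f ≠ 0 := by
  obtain ⟨Θ, hΘ⟩ := D.exists_X ht
  rw [← D.deg_X Θ hΘ]
  exact Blocks.Knorr.charDegree_ne_zero Θ.2

/-- The sum of the exceptional characters on elements of order `p`. -/
theorem sum_X_apply (h : Hyp G p r m s n) [Fact p.Prime] (D : BlockData p M P e t)
    (hM : IsPModular p M) (ht : e * t = p - 1) {x : G} (hx : orderOf x = p) :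
    ∑ Θ ∈ D.X, (Θ : G → ℂ) x = -D.d := by
  classical
  have : Finite (IrrCharacter G) := Characters.Core.finite_irr
  have := Fintype.ofFinite (IrrCharacter G)
  have h1 := S0907.result p M hM (principalBlock M G) Blocks.PrincipalSection.isPBlock_principalBlock
    1 x (by rw [orderOf_one]; exact h.hp.not_dvd_one) (by rw [hx])
  have hB : ∀ χ : IrrCharacter G, χ ∈ principalBlock M G ↔ χ ∈ (D.one :: D.l).toFinset ∪ D.X := by
    intro χ; rw [D.mem_block, Finset.mem_union, List.mem_toFinset]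
  have h2 : ∑ χ ∈ (D.one :: D.l).toFinset ∪ D.X, (χ : G → ℂ) 1 * conj ((χ : G → ℂ) x) = 0 := by
    rw [← h1, ← finsum_mem_coe_finset]
    refine finsum_mem_congr ?_ fun _ _ => rfl
    ext χ
    exact (hB χ).symm
  rw [Finset.sum_union (by
    rw [Finset.disjoint_left]
    intro χ hχ
    exact D.notMem_X χ (List.mem_toFinset.1 hχ)), List.sum_toFinset _ D.nodup, List.map_cons,
    List.sum_cons] at h2
  have h3 : (D.l.map fun χ : IrrCharacter G => (χ : G → ℂ) 1 * conj ((χ : G → ℂ) x)) =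
      D.degs.map (fun z : ℤ => (z : ℂ)) := by
    rw [BlockData.degs, List.map_map]
    refine List.map_congr_left fun χ hχ => ?_
    rw [Function.comp_apply, BlockData.sd, Blocks.Knorr.charDegree_eq χ.2,
      apply_NE h D (List.mem_cons_of_mem _ hχ) hx]
    push_cast
    rw [← Complex.ofReal_intCast, Complex.conj_ofReal, Complex.ofReal_intCast]
    ring
  have h4 : ((D.degs.map (fun z : ℤ => (z : ℂ))).sum) = ((D.degs.sum : ℤ) : ℂ) := by
    have := map_list_sum (Int.castRingHom ℂ) D.degs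
    simpa using this.symm
  have h5 : ∑ Θ ∈ D.X, (Θ : G → ℂ) 1 * conj ((Θ : G → ℂ) x) =
      D.f * conj (∑ Θ ∈ D.X, (Θ : G → ℂ) x) := by
    rw [map_sum, Finset.mul_sum]
    refine Finset.sum_congr rfl fun Θ hΘ => ?_
    rw [Blocks.Knorr.charDegree_eq Θ.2, D.deg_X Θ hΘ]
  have h6 : (D.one : G → ℂ) 1 * conj ((D.one : G → ℂ) x) = 1 := by
    rw [D.coe_one]; simp
  have h7 : (1 : ℂ) + (D.degs.sum : ℤ) = D.d * D.f := by
    have := D.dexc_eq ht
    rw [BlockData.dexc] at this
    exact_mod_cast this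
  rw [h3, h4, h5, h6, h7] at h2
  have hf : (D.f : ℂ) ≠ 0 := by exact_mod_cast f_ne_zero h D ht
  have h8 : conj (∑ Θ ∈ D.X, (Θ : G → ℂ) x) = -D.d := by
    have : (D.f : ℂ) * (conj (∑ Θ ∈ D.X, (Θ : G → ℂ) x) + D.d) = 0 := by
      rw [← h2]; ring
    rcases mul_eq_zero.1 this with h9 | h9
    · exact absurd h9 hf
    · exact eq_neg_of_add_eq_zero_left h9
  have h9 := congrArg conj h8
  rw [Complex.conj_conj, map_neg, ← Complex.ofReal_intCast, Complex.conj_ofReal,
    Complex.ofReal_intCast] at h9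
  exact h9

theorem finsum_mul_conj_eq_zero {ξ χ : IrrCharacter G} (hne : ξ ≠ χ) :
    ∑ᶠ g : G, (ξ : G → ℂ) g * conj ((χ : G → ℂ) g) = 0 := by
  have := Fintype.ofFinite G
  have h1 := Characters.Core.classInner_irr_ne ξ.2 χ.2 (fun h => hne (Subtype.ext h))
  rw [Characters.Core.classInner_def] at h1
  rw [finsum_eq_sum_of_fintype]
  rcases mul_eq_zero.1 h1 with h2 | h2
  · exact absurd (inv_eq_zero.1 h2) Characters.Core.card_ne_zero_complex
  · exact h2

theorem charDegree_eq_of {χ : IrrCharacter G} {k : ℕ} (h : (χ : G → ℂ) 1 = k) :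
    charDegree (χ : G → ℂ) = k := Blocks.Knorr.charDegree_of_natCast h

/-- Theorem D for a nonexceptional character. -/
theorem thmD_NE (h : Hyp G p r m s n) [Fact p.Prime] [Fact s.Prime] (D : BlockData p M P e t)
    (hM : IsPModular p M) (he : (centralizer (P : Set G)).relIndex (normalizer (P : Set G)) = e)
    (ht : e * t = p - 1) {N : Ideal AlgInt} (hN : IsPModular s N)
    {χ : IrrCharacter G} (hχ : χ ∈ D.one :: D.l) (hdeg : charDegree (χ : G → ℂ) = r ^ m)
    (hvan : ∀ g : G, r ∣ orderOf g → (χ : G → ℂ) g = 0)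
    {B : Set (IrrCharacter G)} (hB : IsPBlock N B) (hχB : χ ∉ B) {ξ : IrrCharacter G}
    (hξ : ξ ∈ B) :
    (ξ ∈ D.one :: D.l ∧ D.ε ξ = -D.ε χ ∧ charDegree (ξ : G → ℂ) = t * s ^ n) ∨
      (ξ ∈ D.X ∧ D.d = D.ε χ ∧ charDegree (ξ : G → ℂ) = s ^ n) := by
  have hps : ¬ s ∣ p := fun hd => h.hps ((Nat.prime_dvd_prime_iff_eq h.hs h.hp).1 hd).symm
  have key := TheoremD.eq_zero hN hB hps h.hp.one_lt.ne' (A := (χ : G → ℂ)) (α := (r : ℝ) ^ m)
    (β := (D.ε χ : ℝ)) (by rw [Blocks.Knorr.charDegree_eq χ.2, hdeg]; push_cast; rfl)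
    (fun x hx => by rw [apply_NE h D hχ hx]; push_cast; rfl)
    (fun g hg hg1 hgp => by
      by_contra h0
      have h1 : ¬ r ∣ orderOf g := fun hd => h0 (hvan g hd)
      rcases h.eq_one_or h1 hg with h2 | h2
      · exact hg1 h2
      · exact hgp h2)
    (fun ξ' hξ' => finsum_mul_conj_eq_zero (fun he' => hχB (he' ▸ hξ'))) hξ
  have hr0 : (r : ℂ) ^ m ≠ 0 := pow_ne_zero _ (by exact_mod_cast h.hr.ne_zero)
  have hr0' : ((r : ℝ) : ℂ) ^ m ≠ 0 := by rw [Complex.ofReal_natCast]; exact hr0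
  have hξ1 : (ξ : G → ℂ) 1 ≠ 0 := irr_one_ne_zero ξ.2
  have ht0 : t ≠ 0 := by
    rintro rfl
    rw [mul_zero] at ht
    have := h.hp.two_le
    omega
  push_cast at key
  by_cases hξp : ξ ∈ principalBlock M G
  · rw [D.mem_block] at hξp
    rcases hξp with h1 | h1
    · left
      rw [h.osum_NE D he ht h1] at key
      have h2 : (ξ : G → ℂ) 1 = -(D.ε χ * D.ε ξ) * (t * (s : ℂ) ^ n) := by
        have : (r : ℂ) ^ m * ((ξ : G → ℂ) 1 + (D.ε χ * D.ε ξ) * (t * (s : ℂ) ^ n)) = 0 := by
          rw [← key]; ring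
        rcases mul_eq_zero.1 this with h3 | h3
        · exact absurd h3 hr0
        · linear_combination h3
      rw [Blocks.Knorr.charDegree_eq ξ.2] at h2
      have h3 : (charDegree (ξ : G → ℂ) : ℤ) = -(D.ε χ * D.ε ξ) * (t * (s : ℤ) ^ n) := by
        exact_mod_cast h2
      have h4 : 0 < (charDegree (ξ : G → ℂ) : ℤ) := by
        exact_mod_cast charDegree_pos ξ.2
      have h5 : 0 < (t * (s : ℤ) ^ n) := by
        have := h.hs.pos
        have := Nat.pos_of_ne_zero ht0
        positivity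
      refine ⟨h1, ?_, ?_⟩
      · rcases D.ε_mem χ hχ with h6 | h6 <;> rcases D.ε_mem ξ h1 with h7 | h7 <;>
          rw [h6, h7] at h3 <;> rw [h6, h7] <;> first | rfl | (exfalso; nlinarith)
      · rcases D.ε_mem χ hχ with h6 | h6 <;> rcases D.ε_mem ξ h1 with h7 | h7 <;>
          rw [h6, h7] at h3 <;> first | (exfalso; nlinarith) | skip
        · have : (charDegree (ξ : G → ℂ) : ℤ) = ((t * s ^ n : ℕ) : ℤ) := by
            rw [h3]; push_cast; ring
          exact_mod_cast this
        · have : (charDegree (ξ : G → ℂ) : ℤ) = ((t * s ^ n : ℕ) : ℤ) := by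
            rw [h3]; push_cast; ring
          exact_mod_cast this
    · right
      rw [h.osum_X D he h1] at key
      have h2 : (ξ : G → ℂ) 1 = (D.ε χ * D.d) * ((s : ℂ) ^ n) := by
        have : (r : ℂ) ^ m * ((ξ : G → ℂ) 1 - (D.ε χ * D.d) * ((s : ℂ) ^ n)) = 0 := by
          rw [← key]; ring
        rcases mul_eq_zero.1 this with h3 | h3
        · exact absurd h3 hr0
        · linear_combination h3
      rw [Blocks.Knorr.charDegree_eq ξ.2] at h2
      have h3 : (charDegree (ξ : G → ℂ) : ℤ) = (D.ε χ * D.d) * ((s : ℤ) ^ n) := by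
        exact_mod_cast h2
      have h4 : 0 < (charDegree (ξ : G → ℂ) : ℤ) := by
        exact_mod_cast charDegree_pos ξ.2
      have h5 : 0 < ((s : ℤ) ^ n) := by
        have := h.hs.pos
        positivity
      refine ⟨h1, ?_, ?_⟩
      · rcases D.ε_mem χ hχ with h6 | h6 <;> rcases D.d_mem with h7 | h7 <;>
          rw [h6, h7] at h3 <;> rw [h6, h7] <;> (exfalso; nlinarith)
      · rcases D.ε_mem χ hχ with h6 | h6 <;> rcases D.d_mem with h7 | h7 <;>
          rw [h6, h7] at h3 <;> first | (exfalso; nlinarith) | skip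
        · have : (charDegree (ξ : G → ℂ) : ℤ) = ((s ^ n : ℕ) : ℤ) := by
            rw [h3]; push_cast; ring
          exact_mod_cast this
        · have : (charDegree (ξ : G → ℂ) : ℤ) = ((s ^ n : ℕ) : ℤ) := by
            rw [h3]; push_cast; ring
          exact_mod_cast this
  · exfalso
    rw [h.osum_other D hM hξp, mul_zero, add_zero] at key
    rcases mul_eq_zero.1 key with h3 | h3
    · exact hr0 h3
    · exact hξ1 h3

/-- All exceptional characters vanish where one of them does. -/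
theorem X_vanish (h : Hyp G p r m s n) [Fact p.Prime] (D : BlockData p M P e t)
    {χ : IrrCharacter G} (hχ : χ ∈ D.X) (hvan : ∀ g : G, r ∣ orderOf g → (χ : G → ℂ) g = 0)
    {Θ : IrrCharacter G} (hΘ : Θ ∈ D.X) {g : G} (hg : r ∣ orderOf g) : (Θ : G → ℂ) g = 0 := by
  have hpg : ¬ p ∣ orderOf g := by
    intro hd
    rw [h.orderOf_eq hd] at hg
    exact h.hpr ((Nat.prime_dvd_prime_iff_eq h.hr h.hp).1 hg).symm
  have h1 := D.rel χ hχ g hpg
  have h2 := D.rel Θ hΘ g hpg
  rw [h1, hvan g hg, mul_zero] at h2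
  rcases mul_eq_zero.1 h2.symm with h3 | h3
  · exfalso
    rcases D.d_mem with h4 | h4 <;> rw [h4] at h3 <;> norm_num at h3
  · exact h3

/-- Theorem D for an exceptional character. -/
theorem thmD_X (h : Hyp G p r m s n) [Fact p.Prime] [Fact s.Prime] (D : BlockData p M P e t)
    (hM : IsPModular p M) (he : (centralizer (P : Set G)).relIndex (normalizer (P : Set G)) = e)
    (ht : e * t = p - 1) {N : Ideal AlgInt} (hN : IsPModular s N)
    {χ : IrrCharacter G} (hχ : χ ∈ D.X) (hdeg : charDegree (χ : G → ℂ) = r ^ m)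
    (hvan : ∀ g : G, r ∣ orderOf g → (χ : G → ℂ) g = 0)
    {B : Set (IrrCharacter G)} (hB : IsPBlock N B) (hχB : ∀ Θ ∈ D.X, Θ ∉ B) {ξ : IrrCharacter G}
    (hξ : ξ ∈ B) :
    ξ ∈ D.one :: D.l ∧ D.ε ξ = D.d ∧ charDegree (ξ : G → ℂ) = s ^ n := by
  have hps : ¬ s ∣ p := fun hd => h.hps ((Nat.prime_dvd_prime_iff_eq h.hs h.hp).1 hd).symm
  have hf : D.f = r ^ m := by rw [← D.deg_X χ hχ, hdeg]
  have key := TheoremD.eq_zero hN hB hps h.hp.one_lt.ne'
    (A := fun g => ∑ Θ ∈ D.X, (Θ : G → ℂ) g) (α := (t : ℝ) * (r : ℝ) ^ m)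
    (β := (-D.d : ℝ)) (by
      push_cast
      rw [Finset.sum_congr rfl fun Θ hΘ => by rw [Blocks.Knorr.charDegree_eq Θ.2, D.deg_X Θ hΘ, hf],
        Finset.sum_const, D.card_X, nsmul_eq_mul]
      push_cast; rfl)
    (fun x hx => by
      show ∑ Θ ∈ D.X, (Θ : G → ℂ) x = _
      rw [sum_X_apply h D hM ht hx]; push_cast; rfl)
    (fun g hg hg1 hgp => by
      by_contra h0
      have h1 : ¬ r ∣ orderOf g := by
        intro hd
        apply h0
        exact Finset.sum_eq_zero fun Θ hΘ => X_vanish h D hχ hvan hΘ hd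
      rcases h.eq_one_or h1 hg with h2 | h2
      · exact hg1 h2
      · exact hgp h2)
    (fun ξ' hξ' => by
      have := Fintype.ofFinite G
      have e1 : ∀ g : G, (ξ' : G → ℂ) g * conj (∑ Θ ∈ D.X, (Θ : G → ℂ) g) =
          ∑ Θ ∈ D.X, (ξ' : G → ℂ) g * conj ((Θ : G → ℂ) g) := by
        intro g
        rw [map_sum, Finset.mul_sum]
      rw [finsum_eq_sum_of_fintype, Finset.sum_congr rfl fun g _ => e1 g, Finset.sum_comm]
      refine Finset.sum_eq_zero fun Θ hΘ => ?_
      rw [← finsum_eq_sum_of_fintype]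
      exact finsum_mul_conj_eq_zero (fun he' => hχB Θ hΘ (he' ▸ hξ'))) hξ
  have hr0 : (r : ℂ) ^ m ≠ 0 := pow_ne_zero _ (by exact_mod_cast h.hr.ne_zero)
  have hξ1 : (ξ : G → ℂ) 1 ≠ 0 := irr_one_ne_zero ξ.2
  have ht0 : t ≠ 0 := by
    rintro rfl
    rw [mul_zero] at ht
    have := h.hp.two_le
    omega
  have ht0' : (t : ℂ) ≠ 0 := by exact_mod_cast ht0
  push_cast at key
  by_cases hξp : ξ ∈ principalBlock M G
  · rw [D.mem_block] at hξp
    rcases hξp with h1 | h1
    · rw [h.osum_NE D he ht h1] at key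
      have h2 : (ξ : G → ℂ) 1 = (D.d * D.ε ξ) * ((s : ℂ) ^ n) := by
        have : (t * (r : ℂ) ^ m) * ((ξ : G → ℂ) 1 - (D.d * D.ε ξ) * ((s : ℂ) ^ n)) = 0 := by
          rw [← key]; ring
        rcases mul_eq_zero.1 this with h3 | h3
        · exact absurd h3 (mul_ne_zero ht0' hr0)
        · linear_combination h3
      rw [Blocks.Knorr.charDegree_eq ξ.2] at h2
      have h3 : (charDegree (ξ : G → ℂ) : ℤ) = (D.d * D.ε ξ) * ((s : ℤ) ^ n) := by
        exact_mod_cast h2
      have h4 : 0 < (charDegree (ξ : G → ℂ) : ℤ) := by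
        exact_mod_cast charDegree_pos ξ.2
      have h5 : 0 < ((s : ℤ) ^ n) := by
        have := h.hs.pos
        positivity
      refine ⟨h1, ?_, ?_⟩
      · rcases D.d_mem with h6 | h6 <;> rcases D.ε_mem ξ h1 with h7 | h7 <;>
          rw [h6, h7] at h3 <;> rw [h6, h7] <;> (exfalso; nlinarith)
      · rcases D.d_mem with h6 | h6 <;> rcases D.ε_mem ξ h1 with h7 | h7 <;>
          rw [h6, h7] at h3 <;> first | (exfalso; nlinarith) | skip
        · have : (charDegree (ξ : G → ℂ) : ℤ) = ((s ^ n : ℕ) : ℤ) := by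
            rw [h3]; push_cast; ring
          exact_mod_cast this
        · have : (charDegree (ξ : G → ℂ) : ℤ) = ((s ^ n : ℕ) : ℤ) := by
            rw [h3]; push_cast; ring
          exact_mod_cast this
    · exact absurd hξ (hχB ξ h1)
  · exfalso
    rw [h.osum_other D hM hξp, mul_zero, add_zero] at key
    rcases mul_eq_zero.1 key with h3 | h3
    · exact mul_ne_zero ht0' hr0 h3
    · exact hξ1 h3

end Cfsg.Agent.SmallSimple.S1000.ThmD
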