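import Cfsg.Agent.SmallSimple.S1000.ThmD
import Cfsg.Agent.S0165
import Cfsg.Agent.Characters.GaloisBasic

/-!
# S1000: Theorem D, consequences

* `mem_principal`, `mem_principal_X` : the character of degree `r^m` lies in the principal `s`-block;
* `theoremD` : the characters outside the principal `s`-block;
* `factorization_eq`, `blockOf_eq`, `vanish` : they have `s`-defect zero;
* `core_eq_bot` : `O_{s'}(C_G(y)) = 1` for every `s`-element `y ≠ 1`.
-/

set_option autoImplicit false

open Cfsg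
open scoped ComplexConjugate

namespace Cfsg.Agent.SmallSimple.S1000.ThmDMain

open CharSetup ThmD Subgroup DegreeData Cfsg.Agent.Blocks.Basic Cfsg.Agent.Blocks.Local

universe u

variable {G : Type u} [Group G] [Finite G] {p r m s n : ℕ} {M N : Ideal AlgInt} {P : Sylow p G}
  {e t : ℕ}

theorem one_mem_principal [N.IsPrime] (D : BlockData p M P e t) : D.one ∈ principalBlock N G := by
  intro g
  have h1 : ((D.one : G → ℂ)) = fun _ => (1 : ℂ) := D.coe_one
  rw [h1, sub_self]
  exact memLocalIdeal_zero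

theorem charDegree_one' (D : BlockData p M P e t) : charDegree (D.one : G → ℂ) = 1 := by
  apply Blocks.Knorr.charDegree_of_natCast
  rw [D.coe_one]; simp

/-- A nonexceptional character of degree `r^m` vanishing on `r`-singular elements lies in the principal `s`-block. -/
theorem mem_principal_NE (h : Hyp G p r m s n) [Fact p.Prime] [Fact s.Prime]
    (D : BlockData p M P e t) (hM : IsPModular p M)
    (he : (centralizer (P : Set G)).relIndex (normalizer (P : Set G)) = e)
    (ht : e * t = p - 1) (hN : IsPModular s N) (hn : n ≠ 0)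
    {χ : IrrCharacter G} (hχ : χ ∈ D.one :: D.l) (hdeg : charDegree (χ : G → ℂ) = r ^ m)
    (hvan : ∀ g : G, r ∣ orderOf g → (χ : G → ℂ) g = 0) : χ ∈ principalBlock N G := by
  have := isPrime_of_isPModular hN
  by_contra hcon
  have h1 := thmD_NE h D hM he ht hN hχ hdeg hvan Blocks.PrincipalSection.isPBlock_principalBlock
    hcon (one_mem_principal (N := N) D)
  rw [charDegree_one'] at h1
  have h2 : s ^ n ≠ 1 := by
    intro h'
    rcases Nat.pow_eq_one.1 h' with h3 | h3
    · exact h.hs.one_lt.ne' h3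
    · exact hn h3
  rcases h1 with ⟨-, -, h3⟩ | ⟨-, -, h3⟩
  · exact h2 (Nat.eq_one_of_mul_eq_one_left h3.symm)
  · exact h2 h3.symm

/-- If one exceptional character lies in an `s`-block then so do all. -/
theorem mem_of_mem_X (h : Hyp G p r m s n) [Fact p.Prime] [Fact s.Prime]
    (D : BlockData p M P e t) (hN : IsPModular s N) (hn : n ≠ 0)
    {χ : IrrCharacter G} (hχ : χ ∈ D.X) (hdeg : charDegree (χ : G → ℂ) = r ^ m)
    {Θ : IrrCharacter G} (hΘ : Θ ∈ D.X) : SameBlock N (χ : G → ℂ) (Θ : G → ℂ) := by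
  have hNp := isPrime_of_isPModular hN
  intro g
  have hf : charDegree (Θ : G → ℂ) = r ^ m := by rw [D.deg_X Θ hΘ, ← D.deg_X χ hχ, hdeg]
  by_cases hg : p ∣ orderOf g
  · have hgo := h.orderOf_eq hg
    have key : ∀ ξ : IrrCharacter G, charDegree (ξ : G → ℂ) = r ^ m →
        MemLocalIdeal N (centralChar (ξ : G → ℂ) g) := by
      intro ξ hξ
      have hidx : (centralizer ({g} : Set G)).index = r ^ m * s ^ n := by
        have e1 := (centralizer ({g} : Set G)).index_mul_card
        rw [h.cent g hgo, Nat.card_zpowers, hgo, h.card'] at e1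
        rw [h.cent g hgo]
        exact Nat.eq_of_mul_eq_mul_left h.hp.pos (by rw [mul_comm, e1])
      have hr0 : (r : ℂ) ^ m ≠ 0 := pow_ne_zero _ (by exact_mod_cast h.hr.ne_zero)
      have e2 : centralChar (ξ : G → ℂ) g = (s : ℂ) ^ n * (ξ : G → ℂ) g := by
        rw [centralChar_def, hidx, Blocks.Knorr.charDegree_eq ξ.2, hξ]
        push_cast
        field_simp
      rw [e2]
      refine memLocalIdeal_mul_right ?_ (memLocalRing_of_isIntegral ?_)
      · obtain ⟨k, rfl⟩ := Nat.exists_eq_succ_of_ne_zero hn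
        rw [pow_succ']
        refine memLocalIdeal_mul_right ?_ (by
          have := memLocalRing_natCast (M := N) (s ^ k)
          push_cast at this
          exact this)
        exact (memLocalIdeal_natCast_iff hN s).2 dvd_rfl
      · exact Characters.GaloisBasic.isIntegral_apply (Characters.Core.isIrr_isCharacter ξ.2) g
    exact memLocalIdeal_sub (key χ hdeg) (key Θ hf)
  · have e1 : (χ : G → ℂ) g = (Θ : G → ℂ) g := by
      have h1 := D.rel χ hχ g hg
      have h2 := D.rel Θ hΘ g hg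
      rw [h1] at h2
      have h3 : (D.d : ℂ) ≠ 0 := by
        rcases D.d_mem with h4 | h4 <;> rw [h4] <;> norm_num
      exact mul_left_cancel₀ h3 h2
    have e2 : centralChar (χ : G → ℂ) g = centralChar (Θ : G → ℂ) g := by
      rw [centralChar_def, centralChar_def, Blocks.Knorr.charDegree_eq χ.2,
        Blocks.Knorr.charDegree_eq Θ.2, hdeg, hf, e1]
    rw [e2, sub_self]
    exact memLocalIdeal_zero

/-- Exceptional characters of degree `r^m` vanishing on `r`-singular elements lie in the principal `s`-block. -/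
theorem mem_principal_X (h : Hyp G p r m s n) [Fact p.Prime] [Fact s.Prime]
    (D : BlockData p M P e t) (hM : IsPModular p M)
    (he : (centralizer (P : Set G)).relIndex (normalizer (P : Set G)) = e)
    (ht : e * t = p - 1) (hN : IsPModular s N) (hn : n ≠ 0)
    {χ : IrrCharacter G} (hχ : χ ∈ D.X) (hdeg : charDegree (χ : G → ℂ) = r ^ m)
    (hvan : ∀ g : G, r ∣ orderOf g → (χ : G → ℂ) g = 0) {Θ : IrrCharacter G} (hΘ : Θ ∈ D.X) :
    Θ ∈ principalBlock N G := by
  have := isPrime_of_isPModular hN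
  have h2 : s ^ n ≠ 1 := by
    intro h'
    rcases Nat.pow_eq_one.1 h' with h3 | h3
    · exact h.hs.one_lt.ne' h3
    · exact hn h3
  obtain ⟨Θ', hΘ', hmem⟩ : ∃ Θ' ∈ D.X, Θ' ∈ principalBlock N G := by
    by_contra hcon
    push Not at hcon
    have h1 := thmD_X h D hM he ht hN hχ hdeg hvan Blocks.PrincipalSection.isPBlock_principalBlock
      hcon (one_mem_principal (N := N) D)
    rw [charDegree_one'] at h1
    exact h2 h1.2.2.symm
  refine isPBlock_mem_of_sameBlock Blocks.PrincipalSection.isPBlock_principalBlock hmem ?_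
  have hdeg' : charDegree (Θ' : G → ℂ) = r ^ m := by rw [D.deg_X Θ' hΘ', ← D.deg_X χ hχ, hdeg]
  exact mem_of_mem_X h D hN hn hΘ' hdeg' hΘ

/-- **Theorem D.** -/
theorem theoremD (h : Hyp G p r m s n) [Fact p.Prime] [Fact s.Prime]
    (D : BlockData p M P e t) (hM : IsPModular p M)
    (he : (centralizer (P : Set G)).relIndex (normalizer (P : Set G)) = e)
    (ht : e * t = p - 1) (hN : IsPModular s N) (hn : n ≠ 0)
    {χ : IrrCharacter G} (hχ : χ ∈ principalBlock M G) (hdeg : charDegree (χ : G → ℂ) = r ^ m)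
    (hvan : ∀ g : G, r ∣ orderOf g → (χ : G → ℂ) g = 0)
    {ξ : IrrCharacter G} (hξ : ξ ∉ principalBlock N G) :
    (χ ∈ D.one :: D.l ∧ ξ ∈ D.one :: D.l ∧ D.ε ξ = -D.ε χ ∧ charDegree (ξ : G → ℂ) = t * s ^ n) ∨
      (χ ∈ D.one :: D.l ∧ ξ ∈ D.X ∧ D.d = D.ε χ ∧ charDegree (ξ : G → ℂ) = s ^ n) ∨
      (χ ∈ D.X ∧ ξ ∈ D.one :: D.l ∧ D.ε ξ = D.d ∧ charDegree (ξ : G → ℂ) = s ^ n) := by
  have := isPrime_of_isPModular hN
  have hdis : ∀ Θ : IrrCharacter G, Θ ∈ principalBlock N G → Θ ∉ blockOf N (ξ : G → ℂ) := by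
    intro Θ h1 h2
    have h3 := isPBlock_eq_of_mem Blocks.PrincipalSection.isPBlock_principalBlock
      (isPBlock_blockOf ξ) h1 h2
    exact hξ (h3 ▸ mem_blockOf_self ξ)
  rw [D.mem_block] at hχ
  rcases hχ with h1 | h1
  · have h2 := mem_principal_NE h D hM he ht hN hn h1 hdeg hvan
    rcases thmD_NE h D hM he ht hN h1 hdeg hvan (isPBlock_blockOf ξ) (hdis χ h2)
      (mem_blockOf_self ξ) with ⟨h3, h4, h5⟩ | ⟨h3, h4, h5⟩
    · exact Or.inl ⟨h1, h3, h4, h5⟩
    · exact Or.inr (Or.inl ⟨h1, h3, h4, h5⟩)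
  · obtain ⟨h3, h4, h5⟩ := thmD_X h D hM he ht hN h1 hdeg hvan (isPBlock_blockOf ξ)
      (fun Θ hΘ => hdis Θ (mem_principal_X h D hM he ht hN hn h1 hdeg hvan hΘ))
      (mem_blockOf_self ξ)
    exact Or.inr (Or.inr ⟨h1, h3, h4, h5⟩)

/-- The characters outside the principal `s`-block have degree divisible by `s^n`. -/
theorem dvd_degree (h : Hyp G p r m s n) [Fact p.Prime] [Fact s.Prime]
    (D : BlockData p M P e t) (hM : IsPModular p M)
    (he : (centralizer (P : Set G)).relIndex (normalizer (P : Set G)) = e)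
    (ht : e * t = p - 1) (hN : IsPModular s N) (hn : n ≠ 0)
    {χ : IrrCharacter G} (hχ : χ ∈ principalBlock M G) (hdeg : charDegree (χ : G → ℂ) = r ^ m)
    (hvan : ∀ g : G, r ∣ orderOf g → (χ : G → ℂ) g = 0)
    {ξ : IrrCharacter G} (hξ : ξ ∉ principalBlock N G) : s ^ n ∣ charDegree (ξ : G → ℂ) := by
  rcases theoremD h D hM he ht hN hn hχ hdeg hvan hξ with ⟨-, -, -, h1⟩ | ⟨-, -, -, h1⟩ |
    ⟨-, -, -, h1⟩
  · rw [h1]; exact dvd_mul_left _ _
  · rw [h1]
  · rw [h1]

/-- A character of degree divisible by `s^n` vanishes on `s`-singular elements. -/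
theorem vanish_of_dvd (h : Hyp G p r m s n) {ξ : IrrCharacter G}
    (hd : s ^ n ∣ charDegree (ξ : G → ℂ)) {g : G} (hg : s ∣ orderOf g) : (ξ : G → ℂ) g = 0 := by
  obtain ⟨ξ, k, ρ, hρ, rfl⟩ := ξ
  have h1 : ρ.character 1 = (Module.finrank ℂ (Fin k → ℂ) : ℂ) := Representation.char_one ρ
  have h2 : charDegree ρ.character = Module.finrank ℂ (Fin k → ℂ) :=
    Blocks.Knorr.charDegree_of_natCast h1
  have hd' : s ^ n ∣ Module.finrank ℂ (Fin k → ℂ) := by rw [← h2]; exact hd
  have hs := h.symm.factorization_r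
  have hdvd : s ^ n ∣ Nat.card G := by rw [h.card]; exact dvd_mul_left _ _
  have hndvd : ¬ s ^ (n + 1) ∣ Nat.card G := by
    intro hd2
    have := (h.hs.pow_dvd_iff_le_factorization Nat.card_pos.ne').1 hd2
    omega
  have := hρ
  exact S0165.result ρ s n h.hs hdvd hndvd hd' g hg

/-- A character of degree divisible by `s^n` is alone in its `s`-block. -/
theorem blockOf_eq_of_dvd (h : Hyp G p r m s n) [Fact s.Prime] (hN : IsPModular s N)
    {ξ : IrrCharacter G} (hd : s ^ n ∣ charDegree (ξ : G → ℂ)) : blockOf N (ξ : G → ℂ) = {ξ} := by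
  rw [← S0914.result s N hN]
  intro h1
  have h2 : s ^ (n + 1) ∣ Nat.card G := by
    have h3 := Nat.mul_div_cancel' (Blocks.Knorr.charDegree_dvd ξ.2)
    rw [← h3, pow_succ]
    exact Nat.mul_dvd_mul hd h1
  have h4 := (h.hs.pow_dvd_iff_le_factorization Nat.card_pos.ne').1 h2
  have h5 := h.symm.factorization_r
  omega

/-- The characters outside the principal `s`-block vanish on `s`-singular elements. -/
theorem vanish_other (h : Hyp G p r m s n) [Fact p.Prime] [Fact s.Prime]
    (D : BlockData p M P e t) (hM : IsPModular p M)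
    (he : (centralizer (P : Set G)).relIndex (normalizer (P : Set G)) = e)
    (ht : e * t = p - 1) (hN : IsPModular s N) (hn : n ≠ 0)
    {χ : IrrCharacter G} (hχ : χ ∈ principalBlock M G) (hdeg : charDegree (χ : G → ℂ) = r ^ m)
    (hvan : ∀ g : G, r ∣ orderOf g → (χ : G → ℂ) g = 0)
    {ξ : IrrCharacter G} (hξ : ξ ∉ principalBlock N G) {g : G} (hg : s ∣ orderOf g) :
    (ξ : G → ℂ) g = 0 :=
  vanish_of_dvd h (dvd_degree h D hM he ht hN hn hχ hdeg hvan hξ) hg

/-- `O_{s'}(C_G(y)) = 1` for every `s`-element `y ≠ 1`. -/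
theorem core_eq_bot (h : Hyp G p r m s n) [Fact p.Prime] [Fact s.Prime]
    (D : BlockData p M P e t) (hM : IsPModular p M)
    (he : (centralizer (P : Set G)).relIndex (normalizer (P : Set G)) = e)
    (ht : e * t = p - 1) (hN : IsPModular s N) (hn : n ≠ 0)
    {χ : IrrCharacter G} (hχ : χ ∈ principalBlock M G) (hdeg : charDegree (χ : G → ℂ) = r ^ m)
    (hvan : ∀ g : G, r ∣ orderOf g → (χ : G → ℂ) g = 0) {y : G}
    (hy : ∃ k : ℕ, orderOf y = s ^ k) (hy1 : y ≠ 1) :
    pPrimeCore s (centralizer ({y} : Set G)) = ⊥ :=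
  OneBlock.core_eq_bot hN (fun _ hξ _ hg => vanish_other h D hM he ht hN hn hχ hdeg hvan hξ hg)
    hy hy1

end Cfsg.Agent.SmallSimple.S1000.ThmDMain
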