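import Cfsg.Agent.SmallSimple.S1000.Setup
import Cfsg.Agent.Lib.KleinGen
import Cfsg.Agent.Lib.Cores
import Cfsg.Agent.Lib.HallHigman
import Cfsg.Agent.Lib.ElemAbGL

/-!
# The wide case of S1000: involutions of `O₂(C(z))` (helper852)

* `not_mem_o2` (W1): an involution `v ≠ z` of `O₂(C(z))` that commutes with an element of order 3 of
  `C(z)` satisfies `z ∉ O₂(C(v))`.
* `centralizer_pCore_three_le`: for a `{2,3}`-group `C`, `Γ = C / O₂(C)` is of characteristic 3.
* `exists_lift`: elementary abelian 3-subgroups of `C / N`, `N` a 2-group, are images of elementary abelian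
  3-subgroups of `C`.
-/

set_option autoImplicit false

namespace Cfsg.Agent.SmallSimple.S1000.WideW1

open Subgroup Cfsg Cfsg.Agent.ZN Cfsg.Agent.MinSimple.Basic Cfsg.Agent.MinSimple.VModule
  Cfsg.Agent.SmallSimple.S1000.Setup

variable {G : Type*} [Group G]

theorem mul_self_of_orderOf {z : G} (hz : orderOf z = 2) : z * z = 1 := by
  rw [← pow_two, ← hz, pow_orderOf_eq_one]

/-- `v ∈ O₂(C(z))` centralises `C_W(z)`, `W` a 3-group normalised by ... -/
theorem inf_le_centralizer [Finite G] {z v : G} {W : Subgroup G} (hW : IsPGroup 3 W)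
    (hvX : v ∈ o2 (centralizer ({z} : Set G))) (hvW : v ∈ normalizer (W : Set G)) :
    W ⊓ centralizer ({z} : Set G) ≤ centralizer ({v} : Set G) := by
  rintro w ⟨hwW, hwz⟩
  have h1 : w * v * w⁻¹ * v⁻¹ ∈ o2 (centralizer ({z} : Set G)) := by
    refine mul_mem ?_ (inv_mem hvX)
    exact (mem_normalizer_iff.1 (le_normalizer_o2 _ hwz) v).1 hvX
  have h2 : w * v * w⁻¹ * v⁻¹ ∈ W := by
    have : v * w⁻¹ * v⁻¹ ∈ W := (mem_normalizer_iff.1 hvW _).1 (inv_mem hwW)
    have := mul_mem hwW this
    rwa [← mul_assoc, ← mul_assoc] at this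
  have h3 : w * v * w⁻¹ * v⁻¹ = 1 := by
    have hdis : Disjoint (o2 (centralizer ({z} : Set G))) W := by
      apply disjoint_of_coprime_natCard
      obtain ⟨n, hn⟩ := IsPGroup.iff_card.mp (o2_isPGroup (centralizer ({z} : Set G)))
      obtain ⟨m, hm⟩ := IsPGroup.iff_card.mp hW
      rw [hn, hm]
      exact Nat.Coprime.pow n m (by norm_num)
    exact (disjoint_def.1 hdis) h1 h2
  rw [mem_centralizer_singleton_iff]
  have h4 : w * v * w⁻¹ = v := by rwa [mul_inv_eq_one] at h3
  exact mul_inv_eq_iff_eq_mul.1 h4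

/-- (W1) -/
theorem not_mem_o2 [Finite G] (h : Loc G) {z v d : G} (hz : orderOf z = 2) (hv : orderOf v = 2) (hvz : v ≠ z)
    (hvX : v ∈ o2 (centralizer ({z} : Set G))) (hd : orderOf d = 3) (hdz : d ∈ centralizer ({z} : Set G))
    (hdv : d ∈ centralizer ({v} : Set G)) : z ∉ o2 (centralizer ({v} : Set G)) := by
  intro hzX
  have hvz' : v * z = z * v := mem_centralizer_singleton_iff.1 (o2_le _ hvX)
  have hzd : z ∈ centralizer ({d} : Set G) :=
    mem_centralizer_singleton_iff.2 (mem_centralizer_singleton_iff.1 hdz).symm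
  have hvd : v ∈ centralizer ({d} : Set G) :=
    mem_centralizer_singleton_iff.2 (mem_centralizer_singleton_iff.1 hdv).symm
  set W := o3 (centralizer ({d} : Set G)) with hWdef
  have hW : IsPGroup 3 W := o3_isPGroup _
  have hn : centralizer ({d} : Set G) ≤ normalizer (W : Set G) := le_normalizer_o3 _
  have h1 := inf_le_centralizer hW hvX (hn hvd)
  have h2 := inf_le_centralizer hW hzX (hn hzd)
  have hodd : Odd (Nat.card W) := by
    obtain ⟨m, hm⟩ := IsPGroup.iff_card.mp hW
    rw [hm]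
    exact Odd.pow (by decide)
  have h3 : W ≤ centralizer ({v * z} : Set G) := by
    refine Lib.KleinGen.le_of_klein W _ hodd v z (mul_self_of_orderOf hv) (mul_self_of_orderOf hz) hvz' ?_ ?_ ?_ ?_ ?_
    · exact fun w hw => (mem_normalizer_iff.1 (hn hvd) w).1 hw
    · exact fun w hw => (mem_normalizer_iff.1 (hn hzd) w).1 hw
    · intro w hw
      have a := mem_centralizer_singleton_iff.1 hw.2
      have b := mem_centralizer_singleton_iff.1 (h2 hw)
      rw [mem_centralizer_singleton_iff, ← mul_assoc, a, mul_assoc, b, mul_assoc]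
    · intro w hw
      have a := mem_centralizer_singleton_iff.1 (h1 hw)
      have b := mem_centralizer_singleton_iff.1 hw.2
      rw [mem_centralizer_singleton_iff, ← mul_assoc, a, mul_assoc, b, mul_assoc]
    · exact inf_le_right
  have h4 : v * z ∈ W := by
    refine h.char_three' hd ⟨mul_mem hvd hzd, ?_⟩
    show v * z ∈ centralizer (W : Set G)
    rw [mem_centralizer_iff]
    intro w hw
    exact mem_centralizer_singleton_iff.1 (h3 hw)
  have h5 : (v * z) * (v * z) = 1 := by
    calc (v * z) * (v * z) = (v * v) * (z * z) := by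
          rw [mul_assoc, ← mul_assoc z v, ← hvz']; simp only [mul_assoc]
      _ = 1 := by rw [mul_self_of_orderOf hv, mul_self_of_orderOf hz, one_mul]
  have h6 : v * z = 1 := by
    obtain ⟨m, hm⟩ := hodd
    have h7 : (v * z) ^ Nat.card W = 1 := by
      have := pow_card_eq_one' (x := (⟨v * z, h4⟩ : W))
      exact congrArg Subtype.val this
    rw [hm, pow_succ, pow_mul, pow_two, h5, one_pow, one_mul] at h7
    exact h7
  apply hvz
  have h8 : z⁻¹ = z := inv_eq_of_mul_eq_one_right (mul_self_of_orderOf hz)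
  rw [← h8]
  exact eq_inv_of_mul_eq_one_left h6

/-! ### The quotient by `O₂` -/

section Quot

variable {C : Type*} [Group C] [Finite C]

theorem pPrimeCore_three_eq_bot (hC : ∃ i j : ℕ, Nat.card C = 2 ^ i * 3 ^ j) (h2 : pCore 2 C = ⊥) :
    pPrimeCore 3 C = ⊥ := by
  have hf : Fact (Nat.Prime 2) := ⟨Nat.prime_two⟩
  rw [← le_bot_iff, ← h2]
  refine Lib.Cores.le_pCore (Lib.Cores.pPrimeCore_normal 3) ?_
  obtain ⟨i, j, hC⟩ := hC
  obtain ⟨k, l, hkl⟩ := exists_of_dvd (hC ▸ card_subgroup_dvd_card (pPrimeCore 3 C))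
  have hc := Lib.Cores.pPrimeCore_coprime (G := C) 3
  have hl : l = 0 := by
    by_contra hl
    have h3 : 3 ∣ Nat.card (pPrimeCore 3 C) := hkl ▸ Dvd.dvd.mul_left (dvd_pow_self 3 hl) _
    have := Nat.dvd_gcd h3 (dvd_refl 3)
    rw [hc] at this
    omega
  exact IsPGroup.of_card (n := k) (by rw [hkl, hl, pow_zero, mul_one])

theorem solvable_of_card {Γ : Type*} [Group Γ] [Finite Γ] (hC : ∃ i j : ℕ, Nat.card Γ = 2 ^ i * 3 ^ j) :
    Group.IsSolvable Γ := by
  obtain ⟨i, j, h⟩ := hC
  exact Cfsg.Agent.S0144.result 2 3 i j Nat.prime_two Nat.prime_three h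

instance : (pCore 2 C).Normal := Lib.Cores.pCore_normal 2

omit [Finite C] in
theorem card_quot (hC : ∃ i j : ℕ, Nat.card C = 2 ^ i * 3 ^ j) (N : Subgroup C) [N.Normal] :
    ∃ i j : ℕ, Nat.card (C ⧸ N) = 2 ^ i * 3 ^ j := by
  obtain ⟨i, j, hC⟩ := hC
  exact exists_of_dvd (hC ▸ card_quotient_dvd_card N)

/-- `C / O₂(C)` is of characteristic 3 if `C` is a `{2,3}`-group. -/
theorem centralizer_pCore_three_le (hC : ∃ i j : ℕ, Nat.card C = 2 ^ i * 3 ^ j) :
    centralizer (pCore 3 (C ⧸ pCore 2 C) : Set (C ⧸ pCore 2 C)) ≤ pCore 3 (C ⧸ pCore 2 C) := by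
  have hf3 : Fact (Nat.Prime 3) := ⟨Nat.prime_three⟩
  have h1 := card_quot hC (pCore 2 C)
  have hs := solvable_of_card h1
  exact Lib.HallHigman.centralizer_pCore_le_of_solvable 3
    (pPrimeCore_three_eq_bot h1 (Lib.Cores.pCore_quotient_pCore 2))

omit [Finite C] in
theorem card_comap (N : Subgroup C) [N.Normal] (K : Subgroup (C ⧸ N)) :
    Nat.card (K.comap (QuotientGroup.mk' N)) = Nat.card N * Nat.card K := by
  have hsurj : Function.Surjective (QuotientGroup.mk' N) := QuotientGroup.mk'_surjective _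
  have hle : N ≤ K.comap (QuotientGroup.mk' N) := by
    intro y hy
    rw [mem_comap, QuotientGroup.mk'_apply, (QuotientGroup.eq_one_iff y).mpr hy]
    exact K.one_mem
  rw [← Lib.HallHigman.card_mul_relIndex' hle]
  congr 1
  have h2 := relIndex_ker (K := K.comap (QuotientGroup.mk' N)) (QuotientGroup.mk' N)
  rwa [QuotientGroup.ker_mk', map_comap_eq_self_of_surjective hsurj] at h2

/-- 3-subgroups of `C / N` lift to 3-subgroups of `C`, if `N` is a normal 2-subgroup. -/
theorem exists_lift_three {N : Subgroup C} [N.Normal] (hN : IsPGroup 2 N) {E : Subgroup (C ⧸ N)}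
    (hE : IsPGroup 3 E) : ∃ T : Subgroup C, IsPGroup 3 T ∧ T.map (QuotientGroup.mk' N) = E ∧
      Nat.card T = Nat.card E ∧ T ⊓ N = ⊥ := by
  set P : Subgroup C := E.comap (QuotientGroup.mk' N) with hP
  have hle : N ≤ P := by
    intro y hy
    rw [hP, mem_comap, QuotientGroup.mk'_apply, (QuotientGroup.eq_one_iff y).mpr hy]
    exact E.one_mem
  have hcP : Nat.card P = Nat.card N * Nat.card E := card_comap N E
  have hcN : Nat.card (N.subgroupOf P) = Nat.card N := Nat.card_congr (subgroupOfEquivOfLe hle).toEquiv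
  have hNpos : 0 < Nat.card N := Nat.card_pos
  have hidx : (N.subgroupOf P).index = Nat.card E := by
    have := card_mul_index (N.subgroupOf P)
    rw [hcN, hcP] at this
    exact Nat.eq_of_mul_eq_mul_left hNpos this
  obtain ⟨a, ha⟩ := IsPGroup.iff_card.mp hN
  obtain ⟨b, hb⟩ := IsPGroup.iff_card.mp hE
  have hcop : (Nat.card (N.subgroupOf P)).Coprime (N.subgroupOf P).index := by
    rw [hcN, hidx, ha, hb]
    exact Nat.Coprime.pow a b (by norm_num)
  obtain ⟨K, hK⟩ := exists_right_complement'_of_coprime hcop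
  have hcK : Nat.card K = Nat.card E := by
    have := hK.card_mul_card
    rw [hcN, hcP] at this
    exact Nat.eq_of_mul_eq_mul_left hNpos this
  have hcT : Nat.card (K.map P.subtype) = Nat.card E := by
    rw [Nat.card_congr (K.equivMapOfInjective _ P.subtype_injective).symm.toEquiv, hcK]
  have hT3 : IsPGroup 3 (K.map P.subtype) := IsPGroup.of_card (n := b) (by rw [hcT, hb])
  have hdis : Disjoint (K.map P.subtype) N := by
    apply disjoint_of_coprime_natCard
    rw [hcT, ha, hb]
    exact Nat.Coprime.pow b a (by norm_num)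
  have hinf : K.map P.subtype ⊓ N = ⊥ := hdis.eq_bot
  refine ⟨K.map P.subtype, hT3, ?_, hcT, hinf⟩
  have hle2 : (K.map P.subtype).map (QuotientGroup.mk' N) ≤ E := by
    rw [map_le_iff_le_comap]
    exact map_subtype_le K
  apply eq_of_le_of_card_ge hle2
  have h2 := relIndex_ker (K := K.map P.subtype) (QuotientGroup.mk' N)
  rw [QuotientGroup.ker_mk', ← inf_relIndex_right, inf_comm, hinf, relIndex_bot_left] at h2
  rw [← h2, hcT]

/-- Elementary abelian 3-subgroups of `C / N` lift, if `N` is a normal 2-subgroup. -/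
theorem exists_lift_elementary {N : Subgroup C} [N.Normal] (hN : IsPGroup 2 N) {E : Subgroup (C ⧸ N)}
    (hE : IsElementaryAbelian 3 E) : ∃ T : Subgroup C, IsElementaryAbelian 3 T ∧ Nat.card T = Nat.card E := by
  have hf3 : Fact (Nat.Prime 3) := ⟨Nat.prime_three⟩
  have hE3 : IsPGroup 3 E := fun x => ⟨1, by
    rw [pow_one]; exact Subtype.ext (hE.2 x x.2)⟩
  obtain ⟨T, hT, hTE, hc, hinf⟩ := exists_lift_three hN hE3
  have hmem : ∀ t ∈ T, QuotientGroup.mk' N t ∈ E := fun t ht => hTE ▸ mem_map_of_mem _ ht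
  have key : ∀ t ∈ T, QuotientGroup.mk' N t = 1 → t = 1 := by
    intro t ht h1
    have h2 : t ∈ T ⊓ N := ⟨ht, (QuotientGroup.eq_one_iff t).1 h1⟩
    rwa [hinf, mem_bot] at h2
  refine ⟨T, ⟨⟨⟨fun a b => ?_⟩⟩, fun a ha => ?_⟩, hc⟩
  · have h1 : (⟨_, hmem a a.2⟩ : E) * ⟨_, hmem b b.2⟩ = ⟨_, hmem b b.2⟩ * ⟨_, hmem a a.2⟩ := hE.1.1.comm _ _
    have h2 : QuotientGroup.mk' N (a : C) * QuotientGroup.mk' N (b : C) =
      QuotientGroup.mk' N (b : C) * QuotientGroup.mk' N (a : C) := congrArg Subtype.val h1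
    apply Subtype.ext
    show (a : C) * b = b * a
    rw [← mul_inv_eq_one]
    apply key
    · exact mul_mem (mul_mem a.2 b.2) (inv_mem (mul_mem b.2 a.2))
    · rw [map_mul, map_mul, map_inv, map_mul, h2, mul_inv_cancel]
  · apply key _ (pow_mem ha 3)
    rw [map_pow]
    exact hE.2 _ (hmem a ha)

/-- A 3-group acting on a group `Q` of order `2 ^ 7` with `C(Q) ≤ Q` and `Q / ⟨z⟩` elementary abelian has order
at most `3 ^ 4`. -/
theorem card_three_le {Q : Subgroup C} [hQn : Q.Normal] {z : C} (hzc : ∀ g, g * z = z * g) (hzz : z * z = 1)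
    (hz1 : z ≠ 1) (hzQ : z ∈ Q) (hab : ∀ a ∈ Q, ∀ b ∈ Q, a * b = b * a ∨ a * b = z * (b * a))
    (hsq : ∀ a ∈ Q, a * a = 1 ∨ a * a = z) (hcard : Nat.card Q = 2 ^ 7)
    (hcent : centralizer (Q : Set C) ≤ Q) {T : Subgroup C} (hT : IsPGroup 3 T) : Nat.card T ≤ 3 ^ 4 := by
  have hf2 : Fact (Nat.Prime 2) := ⟨Nat.prime_two⟩
  have hZn : (zpowers z).Normal := ⟨by
    intro x hx g
    obtain ⟨k, rfl⟩ := mem_zpowers_iff.1 hx
    have h1 : Commute g (z ^ k) := (show Commute g z from hzc g).zpow_right k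
    rw [h1.eq, mul_inv_cancel_right]
    exact hx⟩
  have hzmem : ∀ g : C, g ∈ zpowers z ↔ g = 1 ∨ g = z := by
    intro g
    constructor
    · intro hg
      obtain ⟨k, rfl⟩ := mem_zpowers_iff.1 hg
      rcases Int.even_or_odd' k with ⟨m, rfl | rfl⟩
      · left
        rw [zpow_mul, zpow_two, hzz, one_zpow]
      · right
        rw [zpow_add, zpow_mul, zpow_two, hzz, one_zpow, one_mul, zpow_one]
    · rintro (rfl | rfl)
      · exact one_mem _
      · exact mem_zpowers g
  have hzi : z⁻¹ = z := inv_eq_of_mul_eq_one_right hzz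
  set π := QuotientGroup.mk' (zpowers z) with hπ
  have hsurj : Function.Surjective π := QuotientGroup.mk'_surjective _
  have hVn : (Q.map π).Normal := hQn.map π hsurj
  have hmk : ∀ a b : C, π a = π b ↔ a⁻¹ * b ∈ zpowers z := fun a b => QuotientGroup.eq
  have hcomm : ∀ a b : ↥(Q.map π), a * b = b * a := by
    rintro ⟨_, a, ha, rfl⟩ ⟨_, b, hb, rfl⟩
    apply Subtype.ext
    show π a * π b = π b * π a
    rw [← map_mul, ← map_mul, hmk]
    rcases hab a ha b hb with h | h
    · rw [h, inv_mul_cancel]; exact one_mem _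
    · rw [h, mul_inv_rev, hzi, mul_assoc, ← hzc, ← mul_assoc, inv_mul_cancel, one_mul]
      exact mem_zpowers z
  let _ : CommGroup ↥(Q.map π) := { (inferInstance : Group ↥(Q.map π)) with mul_comm := hcomm }
  have hpow : ∀ a : ↥(Q.map π), a ^ 2 = 1 := by
    rintro ⟨_, a, ha, rfl⟩
    apply Subtype.ext
    show π a ^ 2 = 1
    rw [← map_pow, pow_two]
    apply (QuotientGroup.eq_one_iff _).2
    rcases hsq a ha with h | h
    · rw [h]; exact one_mem _
    · rw [h]; exact mem_zpowers z
  have hcZ : Nat.card (zpowers z) = 2 := by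
    rw [Nat.card_zpowers]
    exact orderOf_eq_prime (by rw [pow_two, hzz]) hz1
  have hcV : Nat.card ↥(Q.map π) = 2 ^ 6 := by
    have h1 := Lib.HallHigman.card_mul_relIndex' (zpowers_le.2 hzQ)
    have h2 := relIndex_ker (K := Q) π
    rw [hπ, QuotientGroup.ker_mk', ← hπ] at h2
    rw [hcZ, h2, hcard] at h1
    omega
  obtain ⟨e⟩ := Lib.ElemAbGL.mulAut_equiv_GL 2 6 hpow hcV
  have hGL : Nat.card (MulAut ↥(Q.map π)) = 20158709760 := by
    rw [Nat.card_congr e.toEquiv, Matrix.card_GL_field, ZMod.card]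
    simp [Fin.prod_univ_succ]
  let f : ↥T →* MulAut ↥(Q.map π) := (MulAut.conjNormal.comp π).comp T.subtype
  have hf : Function.Injective f := by
    rw [injective_iff_map_eq_one]
    rintro ⟨t, ht⟩ h1
    have h2 : ∀ q ∈ Q, t * q * t⁻¹ = q ∨ t * q * t⁻¹ = q * z := by
      intro q hq
      have h3 := congrArg Subtype.val (DFunLike.congr_fun h1 (⟨π q, mem_map_of_mem _ hq⟩ : ↥(Q.map π)))
      have h4 : π t * π q * (π t)⁻¹ = π q := h3
      rw [← map_mul, ← map_inv, ← map_mul, eq_comm, hmk, hzmem] at h4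
      rcases h4 with h4 | h4
      · left
        exact (inv_mul_eq_one.1 h4).symm
      · right
        rw [← h4, mul_inv_cancel_left]
    obtain ⟨m, hm⟩ := IsPGroup.iff_card.1 hT
    have h5 : t ^ (3 ^ m) = 1 := by
      have := pow_card_eq_one' (x := (⟨t, ht⟩ : T))
      rw [hm] at this
      exact congrArg Subtype.val this
    have h6 : t ∈ centralizer (Q : Set C) := by
      rw [mem_centralizer_iff]
      intro q hq
      rcases h2 q hq with h | h
      · exact (mul_inv_eq_iff_eq_mul.1 h).symm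
      · exfalso
        have h7 : t ^ 2 * q = q * t ^ 2 := by
          have h8 : t * q = q * z * t := mul_inv_eq_iff_eq_mul.1 h
          calc t ^ 2 * q = t * (t * q) := by rw [pow_two, mul_assoc]
            _ = t * (q * z * t) := by rw [h8]
            _ = t * q * z * t := by simp only [mul_assoc]
            _ = q * z * t * z * t := by rw [h8]
            _ = q * z * (t * z) * t := by simp only [mul_assoc]
            _ = q * z * (z * t) * t := by rw [hzc t]
            _ = q * (z * z) * t * t := by simp only [mul_assoc]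
            _ = q * t ^ 2 := by rw [hzz, mul_one, pow_two, mul_assoc]
        have h9 : Commute (t ^ (3 ^ m)) q := by rw [h5]; exact Commute.one_left q
        obtain ⟨l, hl⟩ : Odd (3 ^ m) := Odd.pow (by decide)
        rw [hl, pow_succ, pow_mul] at h9
        have h10 : Commute ((t ^ 2) ^ l) q := (show Commute (t ^ 2) q from h7).pow_left l
        have h11 : Commute t q := by
          have := (h10.inv_left).mul_left h9
          rwa [inv_mul_cancel_left] at this
        apply hz1
        have h12 := h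
        rw [h11.eq, mul_inv_cancel_right] at h12
        exact left_eq_mul.1 h12
    have h13 : t ∈ Q := hcent h6
    have h14 : t ^ Nat.card Q = 1 := congrArg Subtype.val (pow_card_eq_one' (x := (⟨t, h13⟩ : Q)))
    have h15 : orderOf t ∣ Nat.gcd (3 ^ m) (2 ^ 7) :=
      Nat.dvd_gcd (orderOf_dvd_of_pow_eq_one h5) (orderOf_dvd_of_pow_eq_one (hcard ▸ h14))
    have h16 : Nat.gcd (3 ^ m) (2 ^ 7) = 1 := Nat.Coprime.pow m 7 (by norm_num)
    rw [h16, Nat.dvd_one, orderOf_eq_one_iff] at h15
    exact Subtype.ext h15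
  have hdvd : Nat.card T ∣ 20158709760 := hGL ▸ card_dvd_of_injective f hf
  obtain ⟨m, hm⟩ := IsPGroup.iff_card.1 hT
  rw [hm] at hdvd ⊢
  apply Nat.pow_le_pow_right (by norm_num)
  by_contra hlt
  push Not at hlt
  have : 3 ^ 5 ∣ 20158709760 := (pow_dvd_pow 3 hlt).trans hdvd
  norm_num at this

end Quot

end Cfsg.Agent.SmallSimple.S1000.WideW1
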